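import Groth.Agent.Lib.Henselian.Permanence
import Mathlib.RingTheory.Smooth.IntegralClosure
import Mathlib.RingTheory.IntegralClosure.IntegrallyClosed
import Mathlib.RingTheory.Artinian.Ring

/-!
# Normality of (strict) henselizations

* `isDomain_and_isIntegrallyClosed_stage`: a local ring ess. étale over a normal domain is normal
* `isDomain_lim`, `isIntegrallyClosed_lim`
* descent: `isDomain_and_isIntegrallyClosed_of_faithfullyFlat`
-/

universe u

open TensorProduct Polynomial
open Groth.Agent.Lib.Henselian.Pointed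

namespace Groth.Agent.Lib.Henselian.Normal

variable {A : Type u} [CommRing A] {Ω : Type u} [CommRing Ω] [Algebra A Ω]
variable [IsDomain A] [IsIntegrallyClosed A]

omit [IsDomain A] in
/-- Elements of `T ⊗ K` integral over a stage `T` lie in `T`. -/
theorem exists_tmul_one_eq (i : Pt A Ω) {x : i.Loc ⊗[A] FractionRing A} (hx : IsIntegral i.Loc x) :
    ∃ t : i.Loc, t ⊗ₜ[A] (1 : FractionRing A) = x := by
  have H := TensorProduct.toIntegralClosure_bijective_of_smooth (R := A) (S := i.Alg)
    (B := FractionRing A)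
  have H' := TensorProduct.toIntegralClosure_bijective_of_isLocalization (R := i.Alg) (S := i.Loc)
    (B := i.Alg ⊗[A] FractionRing A) i.units
  obtain ⟨y, hy⟩ := (TensorProduct.toIntegralClosure_bijective_of_tower H H').2 ⟨x, hx⟩
  replace hy := congrArg Subtype.val hy
  change Algebra.TensorProduct.map (AlgHom.id i.Loc i.Loc) (integralClosure A (FractionRing A)).val y
    = x at hy
  subst hy
  induction y using TensorProduct.induction_on with
  | zero => exact ⟨0, by simp⟩
  | tmul t c =>
    obtain ⟨a, ha⟩ := IsIntegrallyClosed.isIntegral_iff.mp c.2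
    refine ⟨a • t, ?_⟩
    rw [Algebra.TensorProduct.map_tmul, TensorProduct.smul_tmul, ← Algebra.algebraMap_eq_smul_one, ha]
    rfl
  | add y₁ y₂ h₁ h₂ =>
    obtain ⟨t₁, ht₁⟩ := h₁ (isIntegral_mapVal y₁)
    obtain ⟨t₂, ht₂⟩ := h₂ (isIntegral_mapVal y₂)
    exact ⟨t₁ + t₂, by rw [add_tmul, ht₁, ht₂, map_add]⟩
where
  isIntegral_mapVal {i : Pt A Ω} (y : i.Loc ⊗[A] integralClosure A (FractionRing A)) :
      IsIntegral i.Loc (Algebra.TensorProduct.map (AlgHom.id i.Loc i.Loc)
        (integralClosure A (FractionRing A)).val y) :=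
    (TensorProduct.toIntegralClosure A i.Loc (FractionRing A) y).2

instance instEssFiniteTypeLoc (i : Pt A Ω) : Algebra.EssFiniteType A i.Loc :=
  have : Algebra.EssFiniteType i.Alg i.Loc := Algebra.EssFiniteType.of_isLocalization i.Loc i.units
  Algebra.EssFiniteType.comp A i.Alg i.Loc

omit [IsDomain A] [IsIntegrallyClosed A] in
lemma includeLeft_injective (i : Pt A Ω) :
    Function.Injective (fun t : i.Loc => t ⊗ₜ[A] (1 : FractionRing A)) := by
  have : Module.Flat i.Alg i.Loc := IsLocalization.flat i.Loc i.units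
  have : Module.Flat A i.Loc := Module.Flat.trans A i.Alg i.Loc
  have h := Module.Flat.lTensor_preserves_injective_linearMap (M := i.Loc)
    (Algebra.linearMap A (FractionRing A)) (IsFractionRing.injective A (FractionRing A))
  intro t t' htt
  refine (TensorProduct.rid A i.Loc).symm.injective (h ?_)
  simpa using htt

/-- The generic fibre of a local stage over a normal domain is a field. -/
theorem isField_tensor (i : Pt A Ω) [IsLocalRing i.Loc] :
    IsField (i.Loc ⊗[A] FractionRing A) := by
  let K := FractionRing A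
  let L := i.Loc ⊗[A] K
  let : Algebra K L := Algebra.TensorProduct.rightAlgebra
  let L' := K ⊗[A] i.Loc
  let e : L ≃ₐ[A] L' := Algebra.TensorProduct.comm A i.Loc K
  have : Module.Finite K L' := Algebra.FormallyUnramified.finite_of_free K L'
  have : IsReduced L' := Algebra.FormallyUnramified.isReduced_of_field K L'
  have : IsArtinianRing L' := isArtinian_of_tower K inferInstance
  have : IsReduced L := isReduced_of_injective e e.injective
  have : IsArtinianRing L := e.symm.surjective.isArtinianRing (f := (e.symm : L' →+* L))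
  have hone : (1 : L) ≠ 0 := fun h => one_ne_zero (α := i.Loc)
    (includeLeft_injective i (h.trans (TensorProduct.zero_tmul _ _).symm))
  refine ⟨⟨1, 0, hone⟩, mul_comm, fun {x} hx => ?_⟩
  obtain ⟨n, y, hy⟩ := IsArtinian.exists_pow_succ_smul_dvd x (1 : L)
  rw [smul_eq_mul, smul_eq_mul, mul_one, pow_succ] at hy
  have hk : ∀ k, x ^ n * (x * y) ^ k = x ^ n := fun k => by
    induction k with
    | zero => rw [pow_zero, mul_one]
    | succ k ih => rw [pow_succ, ← mul_assoc, ih, ← mul_assoc, hy]
  have he : IsIdempotentElem ((x * y) ^ n) := by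
    show _ * _ = _
    nth_rw 1 [mul_pow]
    rw [mul_comm (x ^ n), mul_assoc, hk, mul_comm, ← mul_pow]
  obtain ⟨t, ht⟩ := exists_tmul_one_eq i (x := (x * y) ^ n)
    ⟨X ^ 2 - X, (monic_X_pow 2).sub_of_left (by rw [degree_X_pow, degree_X]; decide), by
      simp [sq, he.eq]⟩
  have hti : IsIdempotentElem t := includeLeft_injective i (by
    show (t * t) ⊗ₜ[A] (1 : K) = t ⊗ₜ[A] (1 : K)
    rw [show (t * t) ⊗ₜ[A] (1 : K) = (t ⊗ₜ[A] (1 : K)) * (t ⊗ₜ[A] (1 : K)) by simp, ht, he.eq])
  rcases (IsLocalRing.isUnit_or_isUnit_one_sub_self t).symm.imp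
    (fun h => by
      have h' := (IsIdempotentElem.iff_eq_one_of_isUnit h).mp hti.one_sub
      rw [sub_eq_self] at h'; exact h')
    (fun h => (IsIdempotentElem.iff_eq_one_of_isUnit h).mp hti) with h0 | h1
  · refine absurd ?_ hx
    have : x ^ n = 0 := by
      rw [← hk n, ← ht, h0, TensorProduct.zero_tmul, mul_zero]
    exact IsReduced.eq_zero x ⟨n, this⟩
  · rcases Nat.eq_zero_or_pos n with rfl | hn
    · refine ⟨y, ?_⟩
      rw [pow_zero, one_mul] at hy
      exact hy
    · refine ⟨y * (x * y) ^ (n - 1), ?_⟩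
      rw [← mul_assoc, ← pow_succ', Nat.sub_add_cancel hn, ← ht, h1]
      rfl

/-- A local stage over a normal domain is a domain. -/
theorem isDomain_stage (i : Pt A Ω) [IsLocalRing i.Loc] : IsDomain i.Loc := by
  let := (isField_tensor i).toField
  exact Function.Injective.isDomain
    (Algebra.TensorProduct.includeLeft : i.Loc →ₐ[A] i.Loc ⊗[A] FractionRing A)
    (includeLeft_injective i)

/-- The colimit over a normal domain is a domain. -/
theorem isDomain_lim [∀ i : Pt A Ω, IsLocalRing i.Loc] [Nontrivial (Lim A Ω)] :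
    IsDomain (Lim A Ω) := by
  have : NoZeroDivisors (Lim A Ω) := ⟨fun {a b} hab => by
    obtain ⟨i, a, rfl⟩ := Lim.exists_of a
    obtain ⟨j, b, rfl⟩ := Lim.exists_of b
    obtain ⟨k, hik, hjk⟩ := exists_ge_ge i j
    rw [← Lim.of_trans hik a, ← Lim.of_trans hjk b, ← map_mul, ← map_zero (Lim.of k)] at hab
    obtain ⟨m, hkm, _hkm', hm⟩ := Lim.exists_trans_eq hab
    have := isDomain_stage m
    rw [map_zero, map_mul, mul_eq_zero] at hm
    refine hm.imp (fun h => ?_) (fun h => ?_)
    · rw [← Lim.of_trans (hik.trans hkm), ← DirectedSystem.map_map (f := fun _ _ h => Pt.trans h) hik hkm a, h,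
        map_zero]
    · rw [← Lim.of_trans (hjk.trans hkm), ← DirectedSystem.map_map (f := fun _ _ h => Pt.trans h) hjk hkm b, h,
        map_zero]⟩
  exact NoZeroDivisors.to_isDomain _

/-- The colimit over a normal domain is integrally closed. -/
theorem isIntegrallyClosed_lim [∀ i : Pt A Ω, IsLocalRing i.Loc] [IsDomain (Lim A Ω)]
    [FaithfulSMul A (Lim A Ω)] : IsIntegrallyClosed (Lim A Ω) := by
  classical
  refine (isIntegrallyClosed_iff (FractionRing (Lim A Ω))).mpr fun {x} ⟨p, hp, hpx⟩ => ?_
  obtain ⟨a, b, hb, rfl⟩ := IsFractionRing.div_surjective (Lim A Ω) x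
  obtain ⟨A', _, _, _, φ, hφ⟩ := Lim.exists_etale_range (insert a (insert b p.coeffs))
  obtain ⟨i, ψ, hψ⟩ := Lim.exists_factor φ
  have hlift : ∀ y ∈ insert a (insert b p.coeffs), ∃ t, Lim.of i t = y := fun y hy => by
    obtain ⟨z, hz⟩ := hφ hy
    exact ⟨ψ z, by rw [← hz, ← hψ]; rfl⟩
  obtain ⟨a', ha'⟩ := hlift a (Finset.mem_insert_self _ _)
  obtain ⟨b', hb'⟩ := hlift b (Finset.mem_insert_of_mem (Finset.mem_insert_self _ _))
  obtain ⟨q, hq, -, hqm⟩ := Polynomial.lifts_and_natDegree_eq_and_monic (f := (Lim.of i : i.Loc →+* Lim A Ω))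
    (p := p) (by
      rw [Polynomial.lifts_iff_coeff_lifts]
      intro k
      by_cases hk : p.coeff k = 0
      · exact ⟨0, by rw [hk, map_zero]⟩
      · obtain ⟨t, ht⟩ := hlift _
          (Finset.mem_insert_of_mem (Finset.mem_insert_of_mem (Polynomial.coeff_mem_coeffs hk)))
        exact ⟨t, ht⟩) hp
  let K := FractionRing A
  let Q := FractionRing (Lim A Ω)
  let L := i.Loc ⊗[A] K
  let := (isField_tensor i).toField
  have hinj : Function.Injective (Algebra.ofId A Q) := by
    show Function.Injective (algebraMap A Q)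
    rw [IsScalarTower.algebraMap_eq A (Lim A Ω) Q]
    exact (IsFractionRing.injective (Lim A Ω) Q).comp (FaithfulSMul.algebraMap_injective A _)
  let fK : K →ₐ[A] Q := IsFractionRing.liftAlgHom (g := Algebra.ofId A Q) hinj
  let g : i.Loc →ₐ[A] Q := (IsScalarTower.toAlgHom A (Lim A Ω) Q).comp (Lim.of i)
  let f : L →ₐ[A] Q := Algebra.TensorProduct.productMap g fK
  have hfinj : Function.Injective f := f.toRingHom.injective
  have hfl : ∀ t : i.Loc, f (t ⊗ₜ 1) = algebraMap (Lim A Ω) Q (Lim.of i t) := fun t => by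
    show Algebra.TensorProduct.productMap g fK (t ⊗ₜ 1) = _
    rw [Algebra.TensorProduct.productMap_apply_tmul, map_one, mul_one]; rfl
  let z : L := (a' ⊗ₜ 1) / (b' ⊗ₜ 1)
  have hfz : f z = algebraMap (Lim A Ω) Q a / algebraMap (Lim A Ω) Q b := by
    show f.toRingHom _ = _
    rw [map_div₀]
    show f _ / f _ = _
    rw [hfl, hfl, ha', hb']
  have hz : IsIntegral i.Loc z := by
    refine ⟨q, hqm, hfinj ?_⟩
    rw [map_zero]
    have hcomp : f.toRingHom.comp (algebraMap i.Loc L) =
        (algebraMap (Lim A Ω) Q).comp (Lim.of i : i.Loc →+* Lim A Ω) := RingHom.ext hfl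
    show f.toRingHom (eval₂ (algebraMap i.Loc L) z q) = 0
    rw [Polynomial.hom_eval₂, hcomp, show f.toRingHom z = _ from hfz, ← Polynomial.eval₂_map, hq]
    exact hpx
  obtain ⟨t, ht⟩ := exists_tmul_one_eq i hz
  exact ⟨Lim.of i t, by rw [← hfz, ← ht, hfl]⟩

omit [IsIntegrallyClosed A] [IsDomain A] in
/-- Normal domains descend along faithfully flat maps. -/
theorem isDomain_and_isIntegrallyClosed_of_faithfullyFlat (R S : Type u) [CommRing R] [CommRing S]
    [Algebra R S] [Module.FaithfullyFlat R S] [IsDomain S] [IsIntegrallyClosed S] :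
    IsDomain R ∧ IsIntegrallyClosed R := by
  have hinj := FaithfulSMul.algebraMap_injective R S
  have : IsDomain R := hinj.isDomain
  refine ⟨this, (isIntegrallyClosed_iff (FractionRing R)).mpr fun {x} hx => ?_⟩
  obtain ⟨a, b, hb, rfl⟩ := IsFractionRing.div_surjective R x
  let QS := FractionRing S
  let g : R →+* QS := (algebraMap S QS).comp (algebraMap R S)
  have hg : Function.Injective g := (IsFractionRing.injective S QS).comp hinj
  let f : FractionRing R →+* QS := IsFractionRing.lift hg
  have hf : ∀ r, f (algebraMap R _ r) = g r := fun r => IsFractionRing.lift_algebraMap hg r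
  have hx' : IsIntegral S (f (algebraMap R _ a / algebraMap R _ b)) := by
    obtain ⟨p, hp, hpx⟩ := hx
    refine ⟨p.map (algebraMap R S), hp.map _, ?_⟩
    rw [Polynomial.eval₂_map, show (algebraMap S QS).comp (algebraMap R S) = g from rfl,
      show g = f.comp (algebraMap R (FractionRing R)) from RingHom.ext fun r => (hf r).symm,
      ← Polynomial.hom_eval₂, hpx, map_zero]
  obtain ⟨s, hs⟩ := IsIntegrallyClosed.isIntegral_iff.mp hx'
  rw [map_div₀, hf, hf] at hs
  have hgb : g b ≠ 0 := fun h => nonZeroDivisors.ne_zero hb (hg (h.trans (map_zero g).symm))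
  rw [eq_div_iff hgb] at hs
  have hmem : algebraMap R S a ∈ (Ideal.span {b}).map (algebraMap R S) := by
    rw [Ideal.map_span, Set.image_singleton, Ideal.mem_span_singleton]
    refine ⟨s, IsFractionRing.injective S QS ?_⟩
    rw [map_mul, mul_comm]
    exact hs.symm
  rw [← Ideal.mem_comap, Ideal.comap_map_eq_self_of_faithfullyFlat, Ideal.mem_span_singleton] at hmem
  obtain ⟨c, rfl⟩ := hmem
  refine ⟨c, ?_⟩
  rw [map_mul, eq_div_iff (fun h => nonZeroDivisors.ne_zero hb
    (IsFractionRing.injective R (FractionRing R) (h.trans (map_zero _).symm))), mul_comm]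

end Groth.Agent.Lib.Henselian.Normal
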