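import Groth.Agent.Lib.Henselian.Couple
import Groth.Agent.Lib.Stein36.Data
import Groth.Agent.S0388
import Mathlib.Topology.NoetherianSpace

/-!
# Clopen subsets of proper schemes over henselian pairs

* `lifts_iff_of_connected_fibres`
* `lifts_of_proper`
* `isCouple_of_proper`
-/

set_option linter.style.haveILetI false

universe u v w t

open CategoryTheory Limits AlgebraicGeometry Topology
open Groth.Agent.Lib.Henselian.Couple

namespace Groth.Agent.Lib.Henselian.ProperClopen

section Topology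

variable {Y : Type u} {N : Type v} [TopologicalSpace Y] [TopologicalSpace N] {h : Y → N}

theorem preimage_image_of_isClopen (hconn : ∀ n, IsConnected (h ⁻¹' {n})) {U : Set Y} (hU : IsClopen U) :
    h ⁻¹' (h '' U) = U := by
  refine Set.Subset.antisymm (fun y hy => ?_) (Set.subset_preimage_image h U)
  obtain ⟨x, hx, hxy⟩ := hy
  exact (hconn (h y)).isPreconnected.subset_isClopen hU ⟨x, hxy, hx⟩ rfl

theorem isClopen_image (hcl : IsClosedMap h) (hconn : ∀ n, IsConnected (h ⁻¹' {n})) {U : Set Y}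
    (hU : IsClopen U) : IsClopen (h '' U) := by
  have hs : Function.Surjective h := fun n => (hconn n).nonempty
  refine ⟨hcl U hU.isClosed, ?_⟩
  rw [← isClosed_compl_iff]
  have e : (h '' U)ᶜ = h '' Uᶜ := by
    conv_rhs => rw [← preimage_image_of_isClopen hconn hU, ← Set.preimage_compl]
    rw [Set.image_preimage_eq _ hs]
  rw [e]
  exact hcl _ hU.compl.isClosed

variable {P : Type w} {Q : Type t} [TopologicalSpace P] [TopologicalSpace Q] {j : P → Y} {q : Q → N}

/-- The map between the closed pieces. -/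
theorem exists_restrict (hc : Continuous h) (hcl : IsClosedMap h) (hconn : ∀ n, IsConnected (h ⁻¹' {n}))
    (hj : IsEmbedding j) (hq : IsEmbedding q) (hr : Set.range j = h ⁻¹' Set.range q) :
    ∃ h₀ : P → Q, Continuous h₀ ∧ IsClosedMap h₀ ∧ (∀ x, IsConnected (h₀ ⁻¹' {x})) ∧ q ∘ h₀ = h ∘ j := by
  choose h₀ hh₀ using fun p => (hr ▸ Set.mem_range_self p : j p ∈ h ⁻¹' Set.range q)
  have hcomp : q ∘ h₀ = h ∘ j := funext hh₀
  refine ⟨h₀, ?_, ?_, fun x => ?_, hcomp⟩
  · rw [hq.continuous_iff, hcomp]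
    exact hc.comp hj.continuous
  · intro C hC
    obtain ⟨K, hK, rfl⟩ := hj.isInducing.isClosed_iff.mp hC
    have e : h₀ '' (j ⁻¹' K) = q ⁻¹' (h '' K) := by
      ext x
      constructor
      · rintro ⟨p, hp, rfl⟩
        exact ⟨j p, hp, (hh₀ p).symm⟩
      · rintro ⟨y, hy, hyx⟩
        obtain ⟨p, rfl⟩ : y ∈ Set.range j := hr ▸ ⟨x, hyx.symm⟩
        exact ⟨p, hy, hq.injective ((hh₀ p).trans hyx)⟩
    rw [e]
    exact (hcl K hK).preimage hq.continuous
  · have e : j '' (h₀ ⁻¹' {x}) = h ⁻¹' {q x} := by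
      ext y
      constructor
      · rintro ⟨p, hp, rfl⟩
        show h (j p) = q x
        rw [← hh₀ p, show h₀ p = x from hp]
      · intro hy
        obtain ⟨p, rfl⟩ : y ∈ Set.range j := hr ▸ ⟨x, (show h y = q x from hy).symm⟩
        exact ⟨p, hq.injective ((hh₀ p).trans hy), rfl⟩
    obtain ⟨y, hy⟩ := (hconn (q x)).nonempty
    rw [← e] at hy
    obtain ⟨p, hp, -⟩ := hy
    exact ⟨⟨p, hp⟩, hj.isInducing.isPreconnected_image.mp (e ▸ (hconn (q x)).isPreconnected)⟩

/-- Clopens lift upstairs iff they lift downstairs. -/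
theorem lifts_iff_of_connected_fibres (hc : Continuous h) (hcl : IsClosedMap h)
    (hconn : ∀ n, IsConnected (h ⁻¹' {n}))
    (hj : IsEmbedding j) (hq : IsEmbedding q) (hr : Set.range j = h ⁻¹' Set.range q) :
    Lifts j ↔ Lifts q := by
  obtain ⟨h₀, hc₀, hcl₀, hconn₀, hcomp⟩ := exists_restrict hc hcl hconn hj hq hr
  have hs₀ : Function.Surjective h₀ := fun n => (hconn₀ n).nonempty
  have hs : Function.Surjective h := fun n => (hconn n).nonempty
  have hpre : ∀ W : Set N, h₀ ⁻¹' (q ⁻¹' W) = j ⁻¹' (h ⁻¹' W) := fun W => by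
    rw [← Set.preimage_comp, hcomp, Set.preimage_comp]
  constructor
  · intro hl W hW
    obtain ⟨U, ⟨hU, hUV⟩, huniq⟩ := hl (h₀ ⁻¹' W) (hW.preimage hc₀)
    refine ⟨h '' U, ⟨isClopen_image hcl hconn hU, Set.preimage_injective.mpr hs₀ ?_⟩, ?_⟩
    · change h₀ ⁻¹' (q ⁻¹' (h '' U)) = h₀ ⁻¹' W
      rw [hpre, preimage_image_of_isClopen hconn hU, hUV]
    · rintro U' ⟨hU', hU'W⟩
      rw [← huniq (h ⁻¹' U') ⟨hU'.preimage hc, by rw [← hpre, hU'W]⟩, Set.image_preimage_eq _ hs]
  · intro hl V hV
    obtain ⟨U', ⟨hU', hU'W⟩, huniq⟩ := hl (h₀ '' V) (isClopen_image hcl₀ hconn₀ hV)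
    refine ⟨h ⁻¹' U', ⟨hU'.preimage hc, ?_⟩, ?_⟩
    · rw [← hpre, hU'W, preimage_image_of_isClopen hconn₀ hV]
    · rintro U ⟨hU, hUV⟩
      have h1 : q ⁻¹' (h '' U) = h₀ '' V := by
        refine Set.preimage_injective.mpr hs₀ ?_
        change h₀ ⁻¹' (q ⁻¹' (h '' U)) = h₀ ⁻¹' (h₀ '' V)
        rw [hpre, preimage_image_of_isClopen hconn hU, hUV, preimage_image_of_isClopen hconn₀ hV]
      rw [← huniq (h '' U) ⟨isClopen_image hcl hconn hU, h1⟩, preimage_image_of_isClopen hconn hU]

/-- Connected components of a noetherian space are open. -/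
theorem isOpen_connectedComponent (T : Type u) [TopologicalSpace T] [TopologicalSpace.NoetherianSpace T]
    (x : T) : IsOpen (connectedComponent x) := by
  rw [← isClosed_compl_iff]
  have e : (connectedComponent x)ᶜ = ⋃ Z ∈ {Z | Z ∈ irreducibleComponents T ∧ Disjoint Z (connectedComponent x)}, Z := by
    ext y
    constructor
    · intro hy
      refine Set.mem_biUnion (x := irreducibleComponent y)
        ⟨irreducibleComponent_mem_irreducibleComponents y, Set.disjoint_left.2 fun z hz hzc => hy ?_⟩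
        mem_irreducibleComponent
      rw [connectedComponent_eq hzc]
      exact (isIrreducible_irreducibleComponent (x := y)).isConnected.isPreconnected.subset_connectedComponent hz
        mem_irreducibleComponent
    · simp only [Set.mem_iUnion₂]
      rintro ⟨Z, hZ, hy⟩
      exact Set.disjoint_left.1 hZ.2 hy
  rw [e]
  exact (TopologicalSpace.NoetherianSpace.finite_irreducibleComponents.subset fun Z hZ => hZ.1).isClosed_biUnion
    fun Z hZ => isClosed_of_mem_irreducibleComponents Z hZ.1

theorem nonempty_iff_of_lifts {P Y : Type*} [TopologicalSpace P] [TopologicalSpace Y] {j : P → Y}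
    (h : Lifts j) : Nonempty Y ↔ Nonempty P := by
  refine ⟨fun hY => ?_, fun ⟨p⟩ => ⟨j p⟩⟩
  by_contra hP
  rw [not_nonempty_iff] at hP
  exact (isEmpty_of_lifts h).false hY.some

theorem connectedSpace_iff_of_lifts {P Y : Type*} [TopologicalSpace P] [TopologicalSpace Y] {j : P → Y}
    (hjc : Continuous j) (h : Lifts j) : ConnectedSpace Y ↔ ConnectedSpace P := by
  constructor
  · intro hY
    have : Nonempty P := (nonempty_iff_of_lifts h).mp inferInstance
    refine { toPreconnectedSpace := preconnectedSpace_iff_clopen.mpr fun V hV => ?_, toNonempty := this }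
    obtain ⟨U, ⟨hU, rfl⟩, -⟩ := h V hV
    rcases isClopen_iff.mp hU with rfl | rfl
    · exact Or.inl Set.preimage_empty
    · exact Or.inr Set.preimage_univ
  · intro hP
    have : Nonempty Y := (nonempty_iff_of_lifts h).mpr inferInstance
    refine { toPreconnectedSpace := preconnectedSpace_iff_clopen.mpr fun U hU => ?_, toNonempty := this }
    rcases isClopen_iff.mp (hU.preimage hjc) with h0 | h0
    · exact Or.inl ((h _ isClopen_empty).unique ⟨hU, h0⟩ ⟨isClopen_empty, Set.preimage_empty⟩)
    · exact Or.inr ((h _ isClopen_univ).unique ⟨hU, h0⟩ ⟨isClopen_univ, Set.preimage_univ⟩)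

theorem connectedComponentsMap_bijective {P Y : Type*} [TopologicalSpace P] [TopologicalSpace Y] {j : P → Y}
    (hjc : Continuous j) (h : Lifts j) (hP : ∀ x : P, IsOpen (connectedComponent x))
    (hY : ∀ y : Y, IsOpen (connectedComponent y)) :
    Function.Bijective hjc.connectedComponentsMap := by
  constructor
  · rintro ⟨x⟩ ⟨x'⟩ hxx'
    refine (ConnectedComponents.coe_eq_coe'.mpr ?_).symm
    obtain ⟨U, ⟨hU, hUV⟩, -⟩ := h _ ⟨isClosed_connectedComponent, hP x⟩
    rw [← hUV]
    show j x' ∈ U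
    exact hU.connectedComponent_subset ((Set.ext_iff.mp hUV x).mpr mem_connectedComponent)
      (ConnectedComponents.coe_eq_coe'.mp (Eq.symm hxx'))
  · rintro ⟨y⟩
    by_contra hne
    have h0 : j ⁻¹' connectedComponent y = ∅ := Set.eq_empty_iff_forall_notMem.mpr fun p hp =>
      hne ⟨ConnectedComponents.mk p, ConnectedComponents.coe_eq_coe'.mpr hp⟩
    have := (h _ isClopen_empty).unique ⟨⟨isClosed_connectedComponent, hY y⟩, h0⟩
      ⟨isClopen_empty, Set.preimage_empty⟩
    exact connectedComponent_nonempty.ne_empty this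

end Topology

variable {A : Type u} [CommRing A] (I : Ideal A)

/-- Clopens of a proper scheme over a henselian pair lift uniquely from the closed fibre. -/
theorem lifts_of_proper [HenselianRing A I] {Y : Scheme.{u}} (f : Y ⟶ Spec (CommRingCat.of A)) [IsProper f]
    {P : Type u} [TopologicalSpace P] {j : P → Y} (hj : IsEmbedding j)
    (hr : Set.range j = f.base ⁻¹' PrimeSpectrum.zeroLocus (I : Set A)) : Lifts j := by
  obtain ⟨B, ψ, h, hψ, hfac, hcl, hconn⟩ :=
    Lib.Stein36.Data.exists_data (fun {X S} g _ => (Groth.Agent.S0388.result g).1) f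
  let _ : Algebra A B := ψ.hom.toAlgebra
  haveI : Algebra.IsIntegral A B := ⟨hψ⟩
  refine (lifts_iff_of_connected_fibres h.continuous hcl hconn hj
    (PrimeSpectrum.isClosedEmbedding_comap_of_surjective _ _ Ideal.Quotient.mk_surjective).isEmbedding ?_).mpr
    ((lifts_comap_iff I B).mpr (Pair.idempotents_bijOn I B))
  refine hr.trans (Eq.trans ?_ (congrArg (h.base ⁻¹' ·) (range_comap_quotient_map I B).symm))
  rw [← hfac]
  rfl

theorem range_fst_quotient {X : Scheme.{u}} (f : X ⟶ Spec (CommRingCat.of A)) :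
    Set.range (pullback.fst f (Spec.map (CommRingCat.ofHom (Ideal.Quotient.mk I)))).base =
      f.base ⁻¹' PrimeSpectrum.zeroLocus (I : Set A) := by
  rw [← range_spec_quotient I]
  exact Scheme.Pullback.range_fst f _

/-- A proper scheme over a henselian pair is a henselian couple. -/
theorem isCouple_of_proper [HenselianRing A I] {X : Scheme.{u}} (f : X ⟶ Spec (CommRingCat.of A)) [IsProper f] :
    IsCouple (pullback.fst f (Spec.map (CommRingCat.ofHom (Ideal.Quotient.mk I)))) := by
  intro Y g hg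
  haveI : IsClosedImmersion (Spec.map (CommRingCat.ofHom (Ideal.Quotient.mk I))) :=
    IsClosedImmersion.spec_of_surjective _ Ideal.Quotient.mk_surjective
  refine lifts_of_proper I (g ≫ f) (pullback.fst g _).isClosedEmbedding.isEmbedding ?_
  refine (Scheme.Pullback.range_fst g _).trans ?_
  rw [range_fst_quotient]
  rfl

/-- The closed subscheme is cut out by the functions vanishing on it. -/
theorem toSpecΓ_preimage_ker {X : Scheme.{u}} (f : X ⟶ Spec (CommRingCat.of A)) :
    X.toSpecΓ.base ⁻¹' PrimeSpectrum.zeroLocus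
        ((RingHom.ker (pullback.fst f (Spec.map (CommRingCat.ofHom (Ideal.Quotient.mk I)))).appTop.hom : Ideal _) : Set _) =
      f.base ⁻¹' PrimeSpectrum.zeroLocus (I : Set A) := by
  set i := pullback.fst f (Spec.map (CommRingCat.ofHom (Ideal.Quotient.mk I))) with hi
  refine Set.Subset.antisymm ?_ ?_
  · intro x hx
    have hfac : f = X.toSpecΓ ≫ Spec.map ((Scheme.ΓSpecIso (CommRingCat.of A)).inv ≫ f.appTop) := by
      rw [Spec.map_comp, ← Scheme.toSpecΓ_naturality_assoc]
      simp [← SpecMap_ΓSpecIso_hom, ← Spec.map_comp]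
    intro a ha
    rw [hfac]
    refine hx (RingHom.mem_ker.mpr ?_)
    have h1 := congrArg (fun m => ((Scheme.ΓSpecIso (CommRingCat.of A)).inv ≫ m.appTop).hom a)
      (pullback.condition (f := f) (g := Spec.map (CommRingCat.ofHom (Ideal.Quotient.mk I))))
    simp only [Scheme.Hom.comp_appTop, ← Scheme.ΓSpecIso_inv_naturality_assoc, CommRingCat.hom_comp,
      RingHom.comp_apply, CommRingCat.hom_ofHom] at h1
    rw [Ideal.Quotient.eq_zero_iff_mem.mpr ha, map_zero, map_zero] at h1
    exact h1
  · rw [← range_fst_quotient, ← hi]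
    rintro _ ⟨z, rfl⟩ g hg
    have h2 : X.toSpecΓ.base (i.base z) =
        (Spec.map i.appTop).base ((pullback f (Spec.map (CommRingCat.ofHom (Ideal.Quotient.mk I)))).toSpecΓ.base z) := by
      rw [← Scheme.Hom.comp_apply, Scheme.toSpecΓ_naturality]
      rfl
    show g ∈ (X.toSpecΓ.base (i.base z)).asIdeal
    rw [h2]
    show i.appTop.hom g ∈ ((pullback f (Spec.map (CommRingCat.ofHom (Ideal.Quotient.mk I)))).toSpecΓ.base z).asIdeal
    rw [RingHom.mem_ker.mp hg]
    exact Ideal.zero_mem _

/-- Proper over a henselian ring of global functions. -/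
theorem isCouple_of_henselianRing_globalSections {X : Scheme.{u}} (f : X ⟶ Spec (CommRingCat.of A)) [IsProper f]
    (h : HenselianRing (Γ(X, ⊤) : Type u)
      (RingHom.ker (pullback.fst f (Spec.map (CommRingCat.ofHom (Ideal.Quotient.mk I)))).appTop.hom)) :
    IsCouple (pullback.fst f (Spec.map (CommRingCat.ofHom (Ideal.Quotient.mk I)))) := by
  intro Y g hg
  haveI : IsClosedImmersion (Spec.map (CommRingCat.ofHom (Ideal.Quotient.mk I))) :=
    IsClosedImmersion.spec_of_surjective _ Ideal.Quotient.mk_surjective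
  haveI : IsProper X.toSpecΓ := by
    have hfac : X.toSpecΓ ≫ Spec.map ((Scheme.ΓSpecIso (CommRingCat.of A)).inv ≫ f.appTop) = f := by
      rw [Spec.map_comp, ← Scheme.toSpecΓ_naturality_assoc]
      simp [← SpecMap_ΓSpecIso_hom, ← Spec.map_comp]
    haveI : IsProper (X.toSpecΓ ≫ Spec.map ((Scheme.ΓSpecIso (CommRingCat.of A)).inv ≫ f.appTop)) := by
      rw [hfac]; infer_instance
    exact IsProper.of_comp X.toSpecΓ (Spec.map ((Scheme.ΓSpecIso (CommRingCat.of A)).inv ≫ f.appTop))
  refine @lifts_of_proper _ _ _ h _ (g ≫ X.toSpecΓ) inferInstance _ _ _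
    (pullback.fst g _).isClosedEmbedding.isEmbedding ?_
  refine (Scheme.Pullback.range_fst g _).trans ?_
  rw [range_fst_quotient, ← toSpecΓ_preimage_ker I f]
  rfl

end Groth.Agent.Lib.Henselian.ProperClopen
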