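import Groth.Agent.Lib.Henselian.Pair
import Mathlib.RingTheory.LocalRing.RingHom.Basic
import Mathlib.RingTheory.Jacobson.Radical

/-!
# Henselian local rings

* `henselianLocalRing_iff_henselianRing`
* `henselianLocalRing_of_isIntegral`: a local ring integral over a henselian local ring is henselian
-/

universe u v

open IsLocalRing
open Groth.Agent.Lib.Henselian.Basic Groth.Agent.Lib.Henselian.Pair

namespace Groth.Agent.Lib.Henselian.LocalRing

variable {R : Type u} [CommRing R]

theorem henselianLocalRing_of_henselianRing [IsLocalRing R]
    [HenselianRing R (maximalIdeal R)] : HenselianLocalRing R where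
  is_henselian f hf a₀ h₁ h₂ :=
    HenselianRing.is_henselian (I := maximalIdeal R) f hf a₀ h₁ (h₂.map _)

theorem henselianLocalRing_iff_henselianRing [IsLocalRing R] :
    HenselianLocalRing R ↔ HenselianRing R (maximalIdeal R) :=
  ⟨fun _ => inferInstance, fun _ => henselianLocalRing_of_henselianRing⟩

/-- A local ring integral over a henselian local ring is henselian. -/
theorem henselianLocalRing_of_isIntegral (R : Type u) [CommRing R] [HenselianLocalRing R]
    (S : Type v) [CommRing S] [IsLocalRing S] [Algebra R S] [Algebra.IsIntegral R S] :
    HenselianLocalRing S := by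
  have := henselianRing_of_isIntegral (maximalIdeal R) S
  have := henselianRing_radical ((maximalIdeal R).map (algebraMap R S))
  suffices h : maximalIdeal S = ((maximalIdeal R).map (algebraMap R S)).radical by
    have : HenselianRing S (maximalIdeal S) := h ▸ this
    exact henselianLocalRing_of_henselianRing
  rw [Ideal.radical_eq_sInf]
  refine le_antisymm (le_sInf ?_) (sInf_le ⟨?_, inferInstance⟩)
  · rintro P ⟨hP, hPp⟩
    have h1 : P.comap (algebraMap R S) = maximalIdeal R :=
      ((maximalIdeal.isMaximal R).eq_of_le (Ideal.comap_ne_top _ hPp.ne_top)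
        (Ideal.map_le_iff_le_comap.mp hP)).symm
    have h2 : P.IsMaximal := Ideal.isMaximal_of_isIntegral_of_isMaximal_comap P
      (h1 ▸ maximalIdeal.isMaximal R)
    exact (eq_maximalIdeal h2).ge
  · exact (map_le_jacobson_of_isIntegral HenselianRing.jac).trans (jacobson_eq_maximalIdeal ⊥ bot_ne_top).le

end Groth.Agent.Lib.Henselian.LocalRing
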