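import Groth.Agent.Lib.Henselian.Pointed
import Groth.Agent.Lib.Henselian.LocalRing
import Groth.Prelude.Def_Hensel
import Mathlib.FieldTheory.IsSepClosed
import Mathlib.FieldTheory.SeparableClosure
import Mathlib.RingTheory.LocalRing.RingHom.Basic
import Mathlib.RingTheory.Unramified.LocalRing
import Mathlib.RingTheory.Flat.FaithfullyFlat.Algebra

/-!
# Strict henselization of local rings

* `StrictHenselization R`, `isStrictHenselization`: existence
* `equivOfIsStrictHenselization`: every strict henselization is isomorphic to it
* properties of any `Hensel.IsStrictHenselization R S`: `map_maximalIdeal`, `flat`, `faithfullyFlat`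
-/

universe u

open IsLocalRing
open Groth.Agent.Lib.Henselian.Basic Groth.Agent.Lib.Henselian.Pointed

namespace Groth.Agent.Lib.Henselian.StrictHenselization

theorem isSepClosed_of_ringEquiv {k k' : Type*} [Field k] [Field k'] [IsSepClosed k]
    (e : k ≃+* k') : IsSepClosed k' := by
  refine IsSepClosed.of_exists_root _ fun p _ hirr hsep => ?_
  obtain ⟨x, hx⟩ := IsSepClosed.exists_root (p.map (e.symm : k' →+* k))
    (by rw [Polynomial.degree_map]; exact hirr.degree_pos.ne') hsep.map
  refine ⟨e x, ?_⟩
  have h := congrArg e hx
  rw [map_zero, Polynomial.eval_map] at h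
  have hcomp : (e : k →+* k').comp (e.symm : k' →+* k) = RingHom.id k' := by
    ext y
    simp
  rw [← h, show e (Polynomial.eval₂ (e.symm : k' →+* k) x p) = _ from
    Polynomial.hom_eval₂ p (e.symm : k' →+* k) (e : k →+* k') x, hcomp, Polynomial.eval₂_id]
  rfl

variable (R : Type u) [CommRing R] [IsLocalRing R]

/-- A separable closure of the residue field. -/
abbrev SK : Type u := SeparableClosure (ResidueField R)

set_option linter.dupNamespace false in
/-- The strict henselization of a local ring. -/
abbrev StrictHenselization : Type u := Lim R (SK R)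

lemma algebraMap_SK : algebraMap R (SK R) =
    (algebraMap (ResidueField R) (SK R)).comp (residue R) :=
  IsScalarTower.algebraMap_eq R (ResidueField R) (SK R)

lemma algebraMap_SK_eq_zero {r : R} (hr : r ∈ maximalIdeal R) : algebraMap R (SK R) r = 0 := by
  rw [algebraMap_SK, RingHom.comp_apply, (residue_eq_zero_iff r).mpr hr, map_zero]

lemma isUnit_of_algebraMap_SK {r : R} (hr : algebraMap R (SK R) r ≠ 0) : IsUnit r := by
  by_contra h
  exact hr (algebraMap_SK_eq_zero R ((mem_maximalIdeal r).mpr h))

instance instIsLocalRing : IsLocalRing (StrictHenselization R) :=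
  RingHom.domain_isLocalRing (Lim.α R (SK R) : StrictHenselization R →+* SK R)

instance instIsLocalHom : IsLocalHom (algebraMap R (StrictHenselization R)) where
  map_nonunit a ha := by
    have h := ha.map (Lim.α R (SK R))
    rw [AlgHom.commutes] at h
    exact isUnit_of_algebraMap_SK R h.ne_zero

lemma maximalIdeal_eq_ker :
    maximalIdeal (StrictHenselization R) = RingHom.ker (Lim.α R (SK R) : StrictHenselization R →+* SK R) := by
  ext x
  rw [mem_maximalIdeal, mem_nonunits_iff, RingHom.mem_ker]
  refine ⟨fun h => ?_, fun h hu => (hu.map (Lim.α R (SK R))).ne_zero h⟩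
  by_contra h'
  exact h (IsUnit.of_map (Lim.α R (SK R) : StrictHenselization R →+* SK R) x (isUnit_iff_ne_zero.mpr h'))

instance instHenselianLocalRing : HenselianLocalRing (StrictHenselization R) := by
  have := Lim.henselianRing_ker (A := R) (Ω := SK R)
  rw [← maximalIdeal_eq_ker] at this
  exact LocalRing.henselianLocalRing_of_henselianRing

lemma α_surjective : Function.Surjective (Lim.α R (SK R)) := by
  intro θ
  have hint : IsIntegral (ResidueField R) θ :=
    (Algebra.IsSeparable.isSeparable (ResidueField R) θ).isIntegral
  set p := minpoly (ResidueField R) θ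
  obtain ⟨f, hf, -, hfm⟩ := Polynomial.lifts_and_natDegree_eq_and_monic (f := residue R) (p := p)
    ((Polynomial.mem_lifts _).mpr (Polynomial.map_surjective _ residue_surjective p))
    (minpoly.monic hint)
  let P : StandardEtalePair R := ⟨f, hfm, Polynomial.derivative f, ⟨1, 0, 1, by simp⟩⟩
  have hev : ∀ q : Polynomial R,
      Polynomial.aeval θ q = Polynomial.aeval θ (q.map (residue R)) := fun q => by
    rw [← ResidueField.algebraMap_eq, Polynomial.aeval_map_algebraMap]
  have hP : P.HasMap θ := by
    refine ⟨?_, isUnit_iff_ne_zero.mpr ?_⟩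
    · rw [hev, show P.f.map (residue R) = p from hf, minpoly.aeval]
    · rw [hev, ← Polynomial.derivative_map, hf]
      exact (Algebra.IsSeparable.isSeparable (ResidueField R) θ).aeval_derivative_ne_zero
        (minpoly.aeval _ _)
  obtain ⟨φ, hφ, -⟩ := Lim.existsUnique_map P.Ring (P.lift θ hP)
  exact ⟨φ P.X, (AlgHom.congr_fun hφ P.X).trans (StandardEtalePair.lift_X _ _ hP)⟩

lemma map_maximalIdeal_self :
    (maximalIdeal R).map (algebraMap R (StrictHenselization R)) =
      maximalIdeal (StrictHenselization R) := by
  refine le_antisymm (((local_hom_TFAE (algebraMap R (StrictHenselization R))).out 0 2).mp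
    (instIsLocalHom R)) fun x hx => ?_
  obtain ⟨i, y, rfl⟩ := Lim.exists_of x
  rw [maximalIdeal_eq_ker, RingHom.mem_ker] at hx
  have : IsLocalRing i.Loc := RingHom.domain_isLocalRing (i.α : i.Loc →+* SK R)
  have : IsLocalHom (algebraMap R i.Loc) := ⟨fun a ha => by
    have h := ha.map i.α
    rw [AlgHom.commutes] at h
    exact isUnit_of_algebraMap_SK R h.ne_zero⟩
  have : Algebra.EssFiniteType i.Alg i.Loc := Algebra.EssFiniteType.of_isLocalization i.Loc i.units
  have : Algebra.EssFiniteType R i.Loc := Algebra.EssFiniteType.comp R i.Alg i.Loc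
  have hy : y ∈ maximalIdeal i.Loc := fun hu => (hu.map i.α).ne_zero hx
  rw [← Algebra.FormallyUnramified.map_maximalIdeal (R := R)] at hy
  have h := Ideal.mem_map_of_mem (Lim.of i : i.Loc →ₐ[R] StrictHenselization R).toRingHom hy
  rw [Ideal.map_map] at h
  rw [show algebraMap R (StrictHenselization R) =
    (Lim.of i : i.Loc →ₐ[R] StrictHenselization R).toRingHom.comp (algebraMap R i.Loc) from
    (Lim.of i : i.Loc →ₐ[R] StrictHenselization R).comp_algebraMap.symm]
  exact h

instance instIsLocalHomRingα :
    IsLocalHom (Lim.α R (SK R) : StrictHenselization R →+* SK R) := Lim.instIsLocalHomα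

/-- The residue field of the strict henselization is the separable closure. -/
noncomputable def residueEquiv : ResidueField (StrictHenselization R) ≃+* SK R :=
  RingEquiv.ofBijective (ResidueField.lift (Lim.α R (SK R) : StrictHenselization R →+* SK R))
    ⟨RingHom.injective _, fun θ => by
      obtain ⟨x, hx⟩ := α_surjective R θ
      exact ⟨residue _ x, hx⟩⟩

lemma residueEquiv_residue (x : StrictHenselization R) :
    residueEquiv R (residue _ x) = Lim.α R (SK R) x := rfl

/-- The residue field of the strict henselization as an algebra. -/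
noncomputable def residueAlgEquiv : ResidueField (StrictHenselization R) ≃ₐ[ResidueField R] SK R :=
  AlgEquiv.ofRingEquiv (f := residueEquiv R) fun r => by
    obtain ⟨r, rfl⟩ := residue_surjective r
    exact (Lim.α R (SK R)).commutes r

instance isStrictHenselization :
    Hensel.IsStrictHenselization R (StrictHenselization R) where
  henselian := inferInstance
  isSepClosure :=
    { sep_closed :=
        have : IsSepClosed (SK R) := IsSepClosure.sep_closed (ResidueField R)
        isSepClosed_of_ringEquiv (residueEquiv R).symm
      separable := AlgEquiv.Algebra.isSeparable (residueAlgEquiv R).symm }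
  universal T _ _ f _ τ hτ := by
    let : Algebra R T := f.toAlgebra
    let θ : SK R →ₐ[R] T ⧸ maximalIdeal T :=
      ⟨τ.comp (residueEquiv R).symm.toRingHom, fun r => by
        have h1 : (residueEquiv R).symm (algebraMap R (SK R) r) =
            residue _ (algebraMap R (StrictHenselization R) r) := by
          rw [RingEquiv.symm_apply_eq, residueEquiv_residue, AlgHom.commutes]
        change τ ((residueEquiv R).symm (algebraMap R (SK R) r)) = residue T (f r)
        rw [h1]
        exact RingHom.congr_fun hτ (residue R r)⟩
    have hθ : ∀ x, θ (Lim.α R (SK R) x) = τ (residue _ x) := fun x => by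
      change τ ((residueEquiv R).symm _) = _
      rw [← residueEquiv_residue, RingEquiv.symm_apply_apply]
    obtain ⟨g, hg, huniq⟩ := Lim.existsUnique_lift (maximalIdeal T) θ
    refine ⟨g.toRingHom, ⟨g.comp_algebraMap, fun x => ?_⟩, fun g' hg' => ?_⟩
    · exact (AlgHom.congr_fun hg x).trans (hθ x)
    · let g'' : StrictHenselization R →ₐ[R] T := ⟨g', fun a => RingHom.congr_fun hg'.1 a⟩
      have : g'' = g := huniq g'' (AlgHom.ext fun x => (hg'.2 x).trans (hθ x).symm)
      rw [← this]

/-- The first component of a comparison map. -/
lemma comp_eq_id {S : Type u} [CommRing S] [IsLocalRing S] [Algebra R S]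
    [IsLocalHom (algebraMap R S)] [hS : Hensel.IsStrictHenselization R S] (φ : S →+* S)
    (h₁ : φ.comp (algebraMap R S) = algebraMap R S) (h₂ : ∀ x, residue S (φ x) = residue S x) :
    φ = RingHom.id S := by
  have := hS.henselian
  exact (hS.universal S (algebraMap R S) (RingHom.id _) (RingHom.id_comp _)).unique ⟨h₁, h₂⟩
    ⟨RingHom.id_comp _, fun _ => rfl⟩

variable (S : Type u) [CommRing S] [IsLocalRing S] [Algebra R S] [IsLocalHom (algebraMap R S)]
  [hS : Hensel.IsStrictHenselization R S]

/-- Any strict henselization is isomorphic to `StrictHenselization R`. -/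
noncomputable def equivOfIsStrictHenselization : StrictHenselization R ≃ₐ[R] S := by
  have := hS.henselian
  have := hS.isSepClosure
  have := (isStrictHenselization R).isSepClosure
  let τ : ResidueField (StrictHenselization R) ≃ₐ[ResidueField R] ResidueField S :=
    IsSepClosure.equiv (ResidueField R) _ _
  have H₁ := (isStrictHenselization R).universal S (algebraMap R S) τ.toRingEquiv.toRingHom
    (RingHom.ext fun r => τ.commutes r)
  have H₂ := hS.universal (StrictHenselization R) (algebraMap R _) τ.symm.toRingEquiv.toRingHom
    (RingHom.ext fun r => τ.symm.commutes r)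
  let f := H₁.exists.choose
  have hf := H₁.exists.choose_spec
  let g := H₂.exists.choose
  have hg := H₂.exists.choose_spec
  have h1 : g.comp f = RingHom.id _ := by
    refine comp_eq_id R _ (by rw [RingHom.comp_assoc, hf.1, hg.1]) fun x => ?_
    rw [RingHom.comp_apply, hg.2, hf.2]
    exact τ.symm_apply_apply _
  have h2 : f.comp g = RingHom.id _ := by
    refine comp_eq_id R _ (by rw [RingHom.comp_assoc, hg.1, hf.1]) fun x => ?_
    rw [RingHom.comp_apply, hf.2, hg.2]
    exact τ.apply_symm_apply _
  exact AlgEquiv.ofRingEquiv (f := RingEquiv.ofRingHom f g h2 h1) fun x => RingHom.congr_fun hf.1 x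

/-- The maximal ideal of a strict henselization is extended. -/
theorem map_maximalIdeal : (maximalIdeal R).map (algebraMap R S) = maximalIdeal S := by
  let e := equivOfIsStrictHenselization R S
  have h : algebraMap R S =
      (e : StrictHenselization R →+* S).comp (algebraMap R (StrictHenselization R)) :=
    (e.toAlgHom.comp_algebraMap).symm
  rw [h, ← Ideal.map_map, map_maximalIdeal_self]
  exact IsLocalRing.map_maximalIdeal_of_surjective _ e.surjective

/-- A strict henselization is flat. -/
theorem flat : Module.Flat R S :=
  Module.Flat.of_linearEquiv (equivOfIsStrictHenselization R S).symm.toLinearEquiv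

/-- A strict henselization is faithfully flat. -/
theorem faithfullyFlat : Module.FaithfullyFlat R S :=
  have := flat R S
  Module.FaithfullyFlat.of_flat_of_isLocalHom

end Groth.Agent.Lib.Henselian.StrictHenselization
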