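import Groth.Agent.Lib.Henselian.LimProps
import Groth.Agent.Lib.IndEtale.Basic

/-!
# `Lim A Ω` is ind-étale
-/

universe u

open TensorProduct
open Groth.Agent.Lib.Henselian.Pointed

namespace Groth.Agent.Lib.Henselian.IndEtale

variable {A : Type u} [CommRing A] {Ω : Type u} [CommRing Ω] [Algebra A Ω]

/-- An element dying in the colimit dies in an étale algebra mapping to it. -/
theorem exists_etale_kill {A' : Type u} [CommRing A'] [Algebra A A'] [Algebra.Etale A A']
    (φ : A' →ₐ[A] Lim A Ω) {z : A'} (hz : φ z = 0) :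
    ∃ (A'' : Type u) (_ : CommRing A'') (_ : Algebra A A'') (_ : Algebra.Etale A A'')
      (ρ : A' →ₐ[A] A'') (φ'' : A'' →ₐ[A] Lim A Ω), φ''.comp ρ = φ ∧ ρ z = 0 := by
  classical
  let : Algebra A' (Lim A Ω) := φ.toRingHom.toAlgebra
  have : Module.Flat A' (Lim A Ω) := LimProps.flat_of_etale φ
  obtain ⟨k, a, y, hy, ha⟩ := Module.Flat.isTrivialRelation_of_sum_smul_eq_zero
    (f := fun _ : Fin 1 => z) (x := fun _ => (1 : Lim A Ω)) (by
      simp only [Fin.sum_univ_one, Algebra.smul_def, mul_one]; exact hz)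
  obtain ⟨A₂, _, _, _, φ₂, hφ₂⟩ := Lim.exists_etale_range (Finset.univ.image y)
  choose w hw using fun j => hφ₂ (Finset.mem_image_of_mem y (Finset.mem_univ j))
  let B := A' ⊗[A] A₂
  have : Algebra.Etale A B := Algebra.Etale.comp A A' _
  let Φ : B →ₐ[A] Lim A Ω := Algebra.TensorProduct.productMap φ φ₂
  let t : B := ∑ j, a 0 j ⊗ₜ[A] w j
  have ht : Φ t = 1 := by
    rw [show (1 : Lim A Ω) = ∑ j, a 0 j • y j from hy 0, map_sum]
    refine Finset.sum_congr rfl fun j _ => ?_
    show Algebra.TensorProduct.productMap φ φ₂ _ = _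
    rw [Algebra.TensorProduct.productMap_apply_tmul, hw]
    rfl
  let C := Localization.Away t
  have : Algebra.Etale B C := .of_isLocalizationAway t
  have : Algebra.Etale A C := Algebra.Etale.comp A B C
  let Φ' : C →ₐ[A] Lim A Ω := IsLocalization.Away.liftAlgHom (S := C) t (f := Φ) (ht ▸ isUnit_one)
  have hΦ' : ∀ b, Φ' (algebraMap B C b) = Φ b := fun b =>
    IsLocalization.lift_eq _ b
  refine ⟨C, inferInstance, inferInstance, inferInstance,
    (IsScalarTower.toAlgHom A B C).comp Algebra.TensorProduct.includeLeft, Φ',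
    AlgHom.ext fun x => ?_, ?_⟩
  · show Φ' (algebraMap B C (x ⊗ₜ 1)) = φ x
    rw [hΦ']
    show Algebra.TensorProduct.productMap φ φ₂ _ = _
    simp
  · show algebraMap B C (z ⊗ₜ 1) = 0
    refine (IsLocalization.Away.algebraMap_isUnit (S := C) t).mul_left_eq_zero.mp ?_
    rw [← map_mul, Finset.mul_sum]
    have : ∀ j, (z ⊗ₜ[A] (1 : A₂)) * (a 0 j ⊗ₜ[A] w j) = 0 := fun j => by
      have h0 := ha j
      rw [Fin.sum_univ_one] at h0
      rw [Algebra.TensorProduct.tmul_mul_tmul, h0, TensorProduct.zero_tmul]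
    rw [Finset.sum_congr rfl fun j _ => this j]
    simp

/-- `Lim A Ω` is ind-étale. -/
theorem isIndEtale_lim : EtPBC.IsIndEtale A (Lim A Ω) := by
  classical
  refine Groth.Agent.Lib.IndEtale.Basic.of_factors fun C _ _ hC g => ?_
  obtain ⟨n, π, hπ, s, hs⟩ := Algebra.FinitePresentation.out (R := A) (A := C)
  obtain ⟨A', _, _, _, φ, hφ⟩ := Lim.exists_etale_range (Finset.univ.image fun i => g (π (MvPolynomial.X i)))
  choose x hx using fun i => hφ (Finset.mem_image_of_mem (fun i => g (π (MvPolynomial.X i))) (Finset.mem_univ i))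
  have key : ∀ T : Finset (MvPolynomial (Fin n) A), (∀ f ∈ T, π f = 0) →
      ∃ (E : Type u) (_ : CommRing E) (_ : Algebra A E) (_ : Algebra.Etale A E)
        (v : MvPolynomial (Fin n) A →ₐ[A] E) (φ : E →ₐ[A] Lim A Ω),
        φ.comp v = g.comp π ∧ ∀ f ∈ T, v f = 0 := by
    intro T
    induction T using Finset.induction with
    | empty =>
      refine fun _ => ⟨A', inferInstance, inferInstance, inferInstance, MvPolynomial.aeval x, φ, ?_, by simp⟩
      exact MvPolynomial.algHom_ext fun i => by simp [hx]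
    | insert f T hf ih =>
      intro hT
      obtain ⟨E, _, _, _, v, φE, hv, hv0⟩ := ih fun f' hf' => hT f' (Finset.mem_insert_of_mem hf')
      obtain ⟨E', _, _, _, ρ, φ', hρ, hρ0⟩ := exists_etale_kill φE (z := v f) (by
        rw [← AlgHom.comp_apply, hv, AlgHom.comp_apply, hT f (Finset.mem_insert_self _ _), map_zero])
      refine ⟨E', inferInstance, inferInstance, inferInstance, ρ.comp v, φ',
        by rw [← AlgHom.comp_assoc, hρ, hv], fun f' hf' => ?_⟩
      rcases Finset.mem_insert.mp hf' with rfl | hf'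
      · exact hρ0
      · rw [AlgHom.comp_apply, hv0 f' hf', map_zero]
  obtain ⟨E, _, _, hE, v, φE, hv, hv0⟩ := key s fun f hf => by
    have : f ∈ RingHom.ker π.toRingHom := hs ▸ Ideal.subset_span hf
    exact this
  have hker : RingHom.ker π.toRingHom ≤ RingHom.ker v.toRingHom := by
    rw [← hs, Ideal.span_le]
    exact hv0
  let u : C →ₐ[A] E := AlgHom.liftOfSurjective π hπ v hker
  refine ⟨E, inferInstance, inferInstance, hE, u, φE, AlgHom.ext fun c => ?_⟩
  obtain ⟨c, rfl⟩ := hπ c
  show φE (u (π c)) = g (π c)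
  rw [AlgHom.liftOfSurjective_apply]
  exact AlgHom.congr_fun hv c

end Groth.Agent.Lib.Henselian.IndEtale
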