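import Groth.Agent.Lib.Henselian.Pair
import Groth.Agent.Lib.Henselian.LocalRing
import Mathlib.RingTheory.Spectrum.Maximal.Localization
import Mathlib.RingTheory.Artinian.Ring
import Mathlib.RingTheory.Spectrum.Prime.Topology

/-!
# Finite algebras over (henselian) local rings

* `toPiLocalization_bijective_of_surjOn`: if idempotents lift along `B → B/mB` then `B` is the
  product of its localisations at maximal ideals; `surjOn_of_ringEquiv_pi`: the converse
* `toPiLocalization_bijective`, `exists_ringEquiv_pi_isLocalRing`: the henselian case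
* `henselianRing_of_adjoinRoot_surjOn`: monogenic algebras suffice to test henselianity
-/

universe u v w

open IsLocalRing
open Groth.Agent.Lib.Henselian.Basic Groth.Agent.Lib.Henselian.Pair

namespace Groth.Agent.Lib.Henselian.Finite

variable {A : Type u} [CommRing A] [IsLocalRing A] {B : Type v} [CommRing B] [Algebra A B]
  [Module.Finite A B]

lemma map_maximalIdeal_le (n : Ideal B) [n.IsMaximal] :
    (maximalIdeal A).map (algebraMap A B) ≤ n :=
  Ideal.map_le_iff_le_comap.mpr
    (eq_maximalIdeal (Ideal.isMaximal_comap_of_isIntegral_of_isMaximal n)).ge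

instance isArtinianRing_quotient :
    IsArtinianRing (B ⧸ (maximalIdeal A).map (algebraMap A B)) := by
  let : Field (A ⧸ maximalIdeal A) := Ideal.Quotient.field _
  have : IsArtinianRing (A ⧸ maximalIdeal A) := inferInstance
  have : Module.Finite (A ⧸ maximalIdeal A) (B ⧸ (maximalIdeal A).map (algebraMap A B)) :=
    Module.Finite.of_restrictScalars_finite A _ _
  exact IsArtinianRing.of_finite (A ⧸ maximalIdeal A) _

omit [Algebra A B] [Module.Finite A B] [IsLocalRing A] in
lemma isMaximal_comap_mk {J : Ideal B} (m : Ideal (B ⧸ J)) [m.IsMaximal] :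
    (m.comap (Ideal.Quotient.mk J)).IsMaximal :=
  Ideal.comap_isMaximal_of_surjective _ Ideal.Quotient.mk_surjective

variable (A) in
include A in
theorem finite_maximalSpectrum : Finite (MaximalSpectrum B) := by
  let J := (maximalIdeal A).map (algebraMap A B)
  refine Finite.of_surjective
    (fun m : MaximalSpectrum (B ⧸ J) =>
      (⟨m.asIdeal.comap (Ideal.Quotient.mk J), isMaximal_comap_mk m.asIdeal⟩ : MaximalSpectrum B))
    fun n => ?_
  have hker : RingHom.ker (Ideal.Quotient.mk J) ≤ n.asIdeal := by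
    rw [Ideal.mk_ker]; exact map_maximalIdeal_le n.asIdeal
  refine ⟨⟨n.asIdeal.map (Ideal.Quotient.mk J),
    Ideal.IsMaximal.map_of_surjective_of_ker_le Ideal.Quotient.mk_surjective hker⟩, ?_⟩
  exact MaximalSpectrum.ext (by
    simp only [Ideal.comap_map_of_surjective _ Ideal.Quotient.mk_surjective,
      ← RingHom.ker_eq_comap_bot, sup_eq_left.mpr hker])

/-- If idempotents lift along `B → B/mB`, each maximal ideal is cut out by an idempotent. -/
lemma exists_idempotent_maximal
    (h : Set.SurjOn (Ideal.Quotient.mk ((maximalIdeal A).map (algebraMap A B)))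
      {e : B | IsIdempotentElem e} {e | IsIdempotentElem e})
    (n : MaximalSpectrum B) :
    ∃ e : B, IsIdempotentElem e ∧ e ∉ n.asIdeal ∧ ∀ n', n' ≠ n → e ∈ n'.asIdeal := by
  set J := (maximalIdeal A).map (algebraMap A B)
  have hker : ∀ n : MaximalSpectrum B, RingHom.ker (Ideal.Quotient.mk J) ≤ n.asIdeal := fun n => by
    rw [Ideal.mk_ker]; exact map_maximalIdeal_le n.asIdeal
  have hprime : ∀ n : MaximalSpectrum B, (n.asIdeal.map (Ideal.Quotient.mk J)).IsPrime := fun n =>
    Ideal.map_isPrime_of_surjective Ideal.Quotient.mk_surjective (hker n)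
  have hmem : ∀ (n : MaximalSpectrum B) (b : B),
      Ideal.Quotient.mk J b ∈ n.asIdeal.map (Ideal.Quotient.mk J) ↔ b ∈ n.asIdeal := fun n b => by
    rw [← Ideal.mem_comap, Ideal.comap_map_of_surjective _ Ideal.Quotient.mk_surjective,
      ← RingHom.ker_eq_comap_bot, sup_eq_left.mpr (hker n)]
  obtain ⟨ε, hε, hεs⟩ := PrimeSpectrum.isClopen_iff.mp
    (isClopen_discrete ({⟨_, hprime n⟩} : Set (PrimeSpectrum (B ⧸ J))))
  obtain ⟨e, he, rfl⟩ := h hε
  refine ⟨e, he, ?_, fun n' hn' => ?_⟩
  · have h1 : (⟨_, hprime n⟩ : PrimeSpectrum (B ⧸ J)) ∈ ({⟨_, hprime n⟩} : Set _) := rfl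
    rw [hεs, SetLike.mem_coe, PrimeSpectrum.mem_basicOpen] at h1
    exact fun h2 => h1 ((hmem n e).mpr h2)
  · have h1 : (⟨_, hprime n'⟩ : PrimeSpectrum (B ⧸ J)) ∉ ({⟨_, hprime n⟩} : Set _) := by
      intro h2
      rw [Set.mem_singleton_iff, PrimeSpectrum.ext_iff] at h2
      refine hn' (MaximalSpectrum.ext ?_)
      ext b
      rw [← hmem, ← hmem n]
      exact SetLike.ext_iff.mp h2 _
    rw [hεs, SetLike.mem_coe, PrimeSpectrum.mem_basicOpen, not_not] at h1
    exact (hmem n' e).mp h1

theorem toPiLocalization_bijective_of_surjOn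
    (h : Set.SurjOn (Ideal.Quotient.mk ((maximalIdeal A).map (algebraMap A B)))
      {e : B | IsIdempotentElem e} {e | IsIdempotentElem e}) :
    Function.Bijective (MaximalSpectrum.toPiLocalization B) := by
  classical
  refine ⟨MaximalSpectrum.toPiLocalization_injective B, fun x => ?_⟩
  have := finite_maximalSpectrum A (B := B)
  cases nonempty_fintype (MaximalSpectrum B)
  choose e he hen hen' using exists_idempotent_maximal h
  choose r s hrs using fun n : MaximalSpectrum B =>
    IsLocalization.exists_mk'_eq n.asIdeal.primeCompl (x n)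
  have hu : ∀ n, IsUnit (e n * s n + (1 - e n)) := by
    intro n
    by_contra hc
    obtain ⟨m, hm, hmem⟩ := exists_max_ideal_of_mem_nonunits (mem_nonunits_iff.mpr hc)
    by_cases hmn : (⟨m, hm⟩ : MaximalSpectrum B) = n
    · subst hmn
      have h1 : 1 - e ⟨m, hm⟩ ∈ m :=
        (hm.isPrime.mul_mem_iff_mem_or_mem.mp (by
          rw [mul_sub, mul_one, (he ⟨m, hm⟩).eq, sub_self]; exact zero_mem _)).resolve_left
          (hen ⟨m, hm⟩)
      rcases hm.isPrime.mem_or_mem ((Submodule.add_mem_iff_left m h1).mp hmem) with h2 | h2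
      · exact hen ⟨m, hm⟩ h2
      · exact (s ⟨m, hm⟩).2 h2
    · have h1 : e n ∈ m := hen' n ⟨m, hm⟩ hmn
      have h2 := m.sub_mem hmem (m.mul_mem_right ((s n : B) - 1) h1)
      rw [show e n * s n + (1 - e n) - e n * ((s n : B) - 1) = 1 by ring] at h2
      exact hm.isPrime.ne_top ((Ideal.eq_top_iff_one _).mpr h2)
  refine ⟨∑ n, e n * r n * ↑(hu n).unit⁻¹, funext fun m => ?_⟩
  rw [MaximalSpectrum.toPiLocalization_apply_apply, map_sum, Finset.sum_eq_single m]
  · have h1 : algebraMap B (Localization.AtPrime m.asIdeal) (e m) = 1 :=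
      IsIdempotentElem.iff_eq_one_of_isUnit (IsLocalization.map_units _
        (⟨e m, hen m⟩ : m.asIdeal.primeCompl)) |>.mp ((he m).map _)
    rw [← hrs m, IsLocalization.eq_mk'_iff_mul_eq, map_mul, map_mul, h1, one_mul]
    have h2 : algebraMap B (Localization.AtPrime m.asIdeal) ↑(hu m).unit = algebraMap B _ (s m) := by
      rw [IsUnit.unit_spec, map_add, map_mul, map_sub, h1, map_one, sub_self, add_zero, one_mul]
    rw [← h2, mul_assoc, ← map_mul, Units.inv_mul, map_one, mul_one]
  · intro n _ hn
    have h1 : algebraMap B (Localization.AtPrime m.asIdeal) (e n) = 0 := by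
      refine eq_zero_of_isIdempotentElem (IsLocalRing.maximalIdeal_le_jacobson ⊥) ((he n).map _) ?_
      rw [← Ideal.mem_comap, ← Ideal.under_def, IsLocalization.AtPrime.under_maximalIdeal _ m.asIdeal]
      exact hen' n m (Ne.symm hn)
    rw [map_mul, map_mul, h1, zero_mul, zero_mul]
  · exact fun h => absurd (Finset.mem_univ m) h

omit [IsLocalRing A] [Algebra A B] [Module.Finite A B] in
/-- Idempotents lift modulo any ideal in the radical of a product of local rings. -/
theorem surjOn_of_ringEquiv_pi {ι : Type w} {C : ι → Type w} [∀ j, CommRing (C j)]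
    [∀ j, IsLocalRing (C j)] (φ : B ≃+* ∀ j, C j) (J : Ideal B) :
    Set.SurjOn (Ideal.Quotient.mk J) {e : B | IsIdempotentElem e} {e | IsIdempotentElem e} := by
  classical
  intro ε hε
  obtain ⟨b, rfl⟩ := Ideal.Quotient.mk_surjective ε
  have hb : b * b - b ∈ J := Ideal.Quotient.eq.mp (by rw [map_mul]; exact hε)
  let e : ∀ j, C j := fun j => if IsUnit (φ b j) then 1 else 0
  let w : ∀ j, C j := fun j => if h : IsUnit (φ b j) then -↑h.unit⁻¹
    else -Ring.inverse (φ b j - 1)
  refine ⟨φ.symm e, ?_, Ideal.Quotient.eq.mpr ?_⟩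
  · refine IsIdempotentElem.map (funext fun j => ?_) φ.symm
    by_cases h : IsUnit (φ b j) <;> simp [e, h]
  · suffices φ.symm e - b = φ.symm w * (b * b - b) by
      rw [this]; exact J.mul_mem_left _ hb
    refine φ.injective (funext fun j => ?_)
    simp only [map_sub, map_mul, φ.apply_symm_apply, Pi.sub_apply, Pi.mul_apply, e, w]
    by_cases h : IsUnit (φ b j)
    · simp only [h, if_true, dif_pos]
      linear_combination (φ b j - 1) * h.val_inv_mul
    · simp only [h, if_false, dif_neg, not_false_iff]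
      have hu : IsUnit (φ b j - 1) := by
        by_contra h'
        refine (maximalIdeal.isMaximal (C j)).ne_top ((Ideal.eq_top_iff_one _).mpr ?_)
        rw [show (1 : C j) = φ b j - (φ b j - 1) by ring]
        exact (maximalIdeal (C j)).sub_mem h h'
      linear_combination (φ b j) * Ring.inverse_mul_cancel _ hu

omit [IsLocalRing A] [Module.Finite A B] in
theorem toPiLocalization_bijective {A : Type u} [CommRing A] [HenselianLocalRing A] [Algebra A B]
    [Module.Finite A B] : Function.Bijective (MaximalSpectrum.toPiLocalization B) :=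
  toPiLocalization_bijective_of_surjOn (idempotents_bijOn (maximalIdeal A) B).surjOn

omit [IsLocalRing A] in
/-- A finite algebra over a henselian local ring is a finite product of local rings. -/
theorem exists_ringEquiv_pi_isLocalRing (A : Type u) [CommRing A] [HenselianLocalRing A]
    (B : Type u) [CommRing B] [Algebra A B] [Module.Finite A B] :
    ∃ (ι : Type u) (_ : Fintype ι) (C : ι → Type u) (_ : ∀ i, CommRing (C i)),
      (∀ i, IsLocalRing (C i)) ∧ Nonempty (B ≃+* (∀ i, C i)) :=
  ⟨MaximalSpectrum B, @Fintype.ofFinite _ (finite_maximalSpectrum A),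
    fun n => Localization.AtPrime n.asIdeal, fun _ => inferInstance, fun _ => inferInstance,
    ⟨RingEquiv.ofBijective _ (toPiLocalization_bijective (A := A) (B := B))⟩⟩

omit [IsLocalRing A] in
open Polynomial in
/-- Idempotent lifting for the algebras `A[T]/(p)`, `p ≡ (T²-T)^m`, implies henselianity. -/
theorem henselianRing_of_adjoinRoot_surjOn {A : Type u} [CommRing A] (I : Ideal A)
    (hI : I ≤ Ideal.jacobson ⊥)
    (h : ∀ (m : ℕ) (p : A[X]), p.Monic →
      p.map (Ideal.Quotient.mk I) = ((X ^ 2 - X) ^ m : A[X]).map (Ideal.Quotient.mk I) →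
      Set.SurjOn (Ideal.Quotient.mk (I.map (algebraMap A (AdjoinRoot p))))
        {e : AdjoinRoot p | IsIdempotentElem e} {e | IsIdempotentElem e}) :
    HenselianRing A I := by
  refine Etale.henselianRing_of_cyclicLift hI fun B _ _ hfin b hb _ => ?_
  rcases subsingleton_or_nontrivial A with hA | hA
  · have : Subsingleton B := Module.subsingleton A B
    exact ⟨b, Subsingleton.elim _ _, by simp⟩
  set IB := I.map (algebraMap A B) with hIB
  have hrange : LinearMap.range (Algebra.lmul A B (b * b - b)) ≤ I • (⊤ : Submodule A B) := by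
    rintro _ ⟨x, rfl⟩
    rw [Ideal.smul_top_eq_map]
    exact IB.mul_mem_right x hb
  obtain ⟨p₀, hp₀, -, hcoeff, hp₀b⟩ :=
    LinearMap.exists_monic_and_natDegree_eq_and_coeff_mem_pow_and_aeval_eq_zero A
      (Algebra.lmul A B (b * b - b)) I hrange
  rw [aeval_algHom_apply] at hp₀b
  have hp₀c : aeval (b * b - b) p₀ = 0 := by
    simpa using LinearMap.congr_fun hp₀b 1
  have hp₀I : p₀.map (Ideal.Quotient.mk I) = X ^ p₀.natDegree := by
    ext i
    rw [coeff_map, coeff_X_pow]
    split_ifs with h
    · rw [h, hp₀.coeff_natDegree, map_one]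
    · rcases lt_or_gt_of_ne h with hlt | hgt
      · exact Ideal.Quotient.eq_zero_iff_mem.mpr (Ideal.pow_le_self (by omega) (hcoeff i))
      · rw [coeff_eq_zero_of_natDegree_lt hgt, map_zero]
  set N := p₀.natDegree + 1 with hN
  let f : A[X] := (p₀ * X).comp (X ^ 2 - X)
  have hq : (X ^ 2 - X : A[X]).natDegree = 2 := by
    compute_degree!
  have hf : f.Monic := (hp₀.mul monic_X).comp
    ((monic_X_pow 2).sub_of_left (by rw [degree_X_pow, degree_X]; decide)) (by omega)
  have hfmap : f.map (Ideal.Quotient.mk I) = ((X ^ 2 - X) ^ N : A[X]).map (Ideal.Quotient.mk I) := by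
    rw [Polynomial.map_comp, Polynomial.map_mul, hp₀I, map_X, ← pow_succ, pow_comp, X_comp,
      ← Polynomial.map_pow]
  have hfb : aeval b f = 0 := by
    simp only [f, aeval_comp, map_mul, map_sub, aeval_X, sq, hp₀c, zero_mul]
  obtain ⟨u, v, huv⟩ : IsCoprime ((X : A[X]) ^ N) ((X - C 1) ^ N) := by
    refine IsCoprime.pow ?_
    simpa using isCoprime_X_sub_C_of_isUnit_sub (R := A) (a := 0) (b := 1) (by simp)
  let x := AdjoinRoot.root f
  let Bf := I.map (algebraMap A (AdjoinRoot f))
  have hdiff : f - (X ^ 2 - X) ^ N ∈ I.map (C : A →+* A[X]) := by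
    rw [Ideal.mem_map_C_iff]
    intro i
    rw [← Ideal.Quotient.eq_zero_iff_mem, ← coeff_map]
    simp [hfmap]
  have hxN : (x ^ 2 - x) ^ N ∈ Bf := by
    have h1 := Ideal.mem_map_of_mem (aeval x (R := A)).toRingHom hdiff
    rw [Ideal.map_map, show (aeval x (R := A)).toRingHom.comp C = algebraMap A (AdjoinRoot f) from
      (aeval x (R := A)).comp_algebraMap] at h1
    change aeval x (f - (X ^ 2 - X) ^ N) ∈ Bf at h1
    rw [map_sub, show aeval x f = 0 by rw [AdjoinRoot.aeval_eq, AdjoinRoot.mk_self], zero_sub,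
      map_pow, map_sub, map_pow, aeval_X] at h1
    simpa using Bf.neg_mem h1
  have huv' := congrArg (aeval x) huv
  simp only [map_add, map_mul, map_pow, aeval_X, map_sub, map_one] at huv'
  have hε : IsIdempotentElem (Ideal.Quotient.mk Bf (aeval x u * x ^ N)) := by
    show _ * _ = _
    rw [← map_mul, Ideal.Quotient.eq]
    convert Bf.mul_mem_left (-(aeval x u * aeval x v)) hxN using 1
    have hxx : (x ^ 2 - x) ^ N = x ^ N * (x - 1) ^ N := by rw [← mul_pow]; congr 1; ring
    rw [hxx]
    linear_combination (aeval x u * x ^ N) * huv'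
  obtain ⟨e, he, hee⟩ := h N f hf hfmap hε
  let π : AdjoinRoot f →ₐ[A] B := AdjoinRoot.liftAlgHom f (Algebra.ofId A B) b hfb
  have hπx : π x = b := AdjoinRoot.liftAlgHom_root f (Algebra.ofId A B) b hfb
  refine ⟨π e, he.map π, ?_⟩
  have h1 : π (e - aeval x u * x ^ N) ∈ IB := by
    have h2 := Ideal.mem_map_of_mem π.toRingHom (Ideal.Quotient.eq.mp hee)
    rwa [Ideal.map_map, show π.toRingHom.comp (algebraMap A _) = algebraMap A B from
      π.comp_algebraMap] at h2
  rw [map_sub, map_mul, map_pow, ← aeval_algHom_apply, hπx] at h1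
  have hb' : IsIdempotentElem (Ideal.Quotient.mk IB b) := by
    show _ * _ = _
    rw [← map_mul]; exact Ideal.Quotient.eq.mpr hb
  have h3 : aeval b u * b ^ N - b ∈ IB := by
    rw [← Ideal.Quotient.eq]
    have h4 := congrArg (fun q => Ideal.Quotient.mk IB (aeval b q)) huv
    simp only [map_add, map_mul, map_pow, aeval_X, map_sub, map_one] at h4
    simp only [map_mul, map_pow]
    rw [hN, hb'.pow_succ_eq] at h4 ⊢
    have hz : (Ideal.Quotient.mk IB b - 1) ^ (p₀.natDegree + 1) * Ideal.Quotient.mk IB b = 0 := by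
      rw [pow_succ, mul_assoc, sub_mul, one_mul, hb'.eq, sub_self, mul_zero]
    linear_combination (Ideal.Quotient.mk IB b) * h4 -
      (Ideal.Quotient.mk IB (aeval b u)) * hb'.eq - (Ideal.Quotient.mk IB (aeval b v)) * hz
  have := IB.add_mem h1 h3
  rwa [sub_add_sub_cancel] at this

end Groth.Agent.Lib.Henselian.Finite
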