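import Groth.Agent.Lib.Henselian.QuasiFinite
import Groth.Agent.Lib.Henselian.Finite
import Groth.Agent.Lib.Henselian.LocalRing
import Mathlib.FieldTheory.PurelyInseparable.Basic

/-!
# Localisations at quasi-finite primes over henselian local rings

* `isIntegral_apply_and_exists_inverse`
* `isIntegral_localization`, `finite_localization`
-/

universe u

open IsLocalRing
open Groth.Agent.Lib.Henselian.Pair

namespace Groth.Agent.Lib.Henselian.QFLocalization

variable {A : Type u} [CommRing A] [HenselianLocalRing A]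

theorem isIntegral_apply_and_exists_inverse {C₀ L : Type u} [CommRing C₀] [Algebra A C₀] [CommRing L]
    [IsLocalRing L] [Algebra A L] (φ : C₀ →ₐ[A] L) [IsLocalHom (algebraMap A L)]
    [Algebra.FiniteType A C₀] (Q₀ : Ideal C₀) [Q₀.IsPrime] (hQ : (maximalIdeal L).comap φ.toRingHom = Q₀)
    [Algebra.QuasiFiniteAt A Q₀] :
    (∀ x, IsIntegral A (φ x)) ∧ ∀ t ∉ Q₀, ∃ z, φ t * φ z = 1 := by
  have : Q₀.LiesOver (maximalIdeal A) := ⟨by
    rw [Ideal.under, ← hQ, Ideal.comap_comap,
      show φ.toRingHom.comp (algebraMap A C₀) = algebraMap A L from φ.comp_algebraMap]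
    exact (((local_hom_TFAE (algebraMap A L)).out 0 4 rfl rfl).mp inferInstance).symm⟩
  obtain ⟨e₀, he₀, he₀Q, hfin⟩ := QuasiFinite.exists_idempotent_of_quasiFiniteAt (R := A) Q₀
  let J := Ideal.span ({1 - e₀} : Set C₀)
  have hone : φ e₀ = 1 := by
    refine (IsIdempotentElem.iff_eq_one_of_isUnit ?_).mp (he₀.map φ)
    by_contra hu
    exact he₀Q (hQ.le hu)
  have hJ : ∀ a ∈ J, φ a = 0 := by
    intro a ha
    obtain ⟨b, rfl⟩ := Ideal.mem_span_singleton'.mp ha
    rw [map_mul, map_sub, map_one, hone, sub_self, mul_zero]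
  let φ' : (C₀ ⧸ J) →ₐ[A] L := Ideal.Quotient.liftₐ J φ hJ
  let n : Ideal (C₀ ⧸ J) := (maximalIdeal L).comap φ'.toRingHom
  have : n.IsPrime := Ideal.comap_isPrime _ _
  have hn : n.IsMaximal := Ideal.isMaximal_of_isIntegral_of_isMaximal_comap (R := A) _ (by
    rw [Ideal.comap_comap, show φ'.toRingHom.comp (algebraMap A (C₀ ⧸ J)) = algebraMap A L from φ'.comp_algebraMap,
      ((local_hom_TFAE (algebraMap A L)).out 0 4 rfl rfl).mp inferInstance]
    exact maximalIdeal.isMaximal A)
  refine ⟨fun x => ?_, fun t ht => ?_⟩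
  · exact (Algebra.IsIntegral.isIntegral (R := A) (Ideal.Quotient.mk J x)).map φ'
  obtain ⟨e, he, hen, hother⟩ := Finite.exists_idempotent_maximal (A := A)
    (idempotents_bijOn (maximalIdeal A) (C₀ ⧸ J)).surjOn ⟨n, hn⟩
  have hφe : φ' e = 1 := by
    refine (IsIdempotentElem.iff_eq_one_of_isUnit ?_).mp (he.map φ')
    by_contra hu
    exact hen hu
  have htn : Ideal.Quotient.mk J t ∉ n := fun h => ht (hQ.le h)
  have hu : IsUnit (e * Ideal.Quotient.mk J t + (1 - e)) := by
    by_contra hc
    obtain ⟨m, hm, hmem⟩ := exists_max_ideal_of_mem_nonunits (mem_nonunits_iff.mpr hc)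
    by_cases hmn : m = n
    · subst hmn
      have h1 : 1 - e ∈ n :=
        (hm.isPrime.mul_mem_iff_mem_or_mem.mp (by
          rw [mul_sub, mul_one, he.eq, sub_self]; exact zero_mem _)).resolve_left hen
      rcases hm.isPrime.mem_or_mem ((Submodule.add_mem_iff_left n h1).mp hmem) with h2 | h2
      · exact hen h2
      · exact htn h2
    · have h1 : e ∈ m := hother ⟨m, hm⟩ fun h => hmn (congrArg MaximalSpectrum.asIdeal h)
      have h2 := m.sub_mem hmem (m.mul_mem_right (Ideal.Quotient.mk J t - 1) h1)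
      rw [show e * Ideal.Quotient.mk J t + (1 - e) - e * (Ideal.Quotient.mk J t - 1) = 1 by ring] at h2
      exact hm.isPrime.ne_top ((Ideal.eq_top_iff_one _).mpr h2)
  obtain ⟨v, hv⟩ := isUnit_iff_exists_inv.mp hu
  obtain ⟨z, rfl⟩ := Ideal.Quotient.mk_surjective v
  refine ⟨z, ?_⟩
  have := congrArg φ' hv
  rw [map_mul, map_add, map_mul, map_sub, hφe, map_one, sub_self, add_zero, one_mul] at this
  exact this

variable {C : Type u} [CommRing C] [Algebra A C] (Q : Ideal C) [Q.IsPrime] [Q.LiesOver (maximalIdeal A)]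

instance instIsLocalHom : IsLocalHom (algebraMap A (Localization.AtPrime Q)) := by
  refine ((local_hom_TFAE _).out 0 4 rfl rfl).mpr ?_
  rw [IsScalarTower.algebraMap_eq A C (Localization.AtPrime Q), ← Ideal.comap_comap,
    ← Ideal.under_def C, IsLocalization.AtPrime.under_maximalIdeal _ Q]
  exact (‹Q.LiesOver (maximalIdeal A)›.over).symm

/-- The localisation at a prime over the maximal ideal near which the algebra is a union of
quasi-finite algebras is integral. -/
theorem isIntegral_localization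
    (h : ∀ s : Finset C, ∃ C₀ : Subalgebra A C, (↑s : Set C) ⊆ ↑C₀ ∧ Algebra.FiniteType A C₀ ∧
      Algebra.QuasiFiniteAt A (Q.comap C₀.val.toRingHom)) :
    Algebra.IsIntegral A (Localization.AtPrime Q) ∧
      Function.Surjective (algebraMap C (Localization.AtPrime Q)) := by
  classical
  suffices key : ∀ y, IsIntegral A y ∧ ∃ c, algebraMap C (Localization.AtPrime Q) c = y from
    ⟨⟨fun y => (key y).1⟩, fun y => (key y).2⟩
  intro y
  obtain ⟨x, ⟨t, ht⟩, rfl⟩ := IsLocalization.exists_mk'_eq Q.primeCompl y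
  obtain ⟨C₀, hs, _, _⟩ := h {x, t}
  have hx : x ∈ C₀ := hs (by simp)
  have ht' : t ∈ C₀ := hs (by simp)
  let φ : C₀ →ₐ[A] Localization.AtPrime Q := (IsScalarTower.toAlgHom A C (Localization.AtPrime Q)).comp C₀.val
  have hQ : (maximalIdeal (Localization.AtPrime Q)).comap φ.toRingHom = Q.comap C₀.val.toRingHom := by
    ext z
    exact IsLocalization.AtPrime.to_map_mem_maximal_iff (Localization.AtPrime Q) Q (z : C)
  obtain ⟨hint, hinv⟩ := isIntegral_apply_and_exists_inverse φ (Q.comap C₀.val.toRingHom) hQ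
  obtain ⟨z, hz⟩ := hinv ⟨t, ht'⟩ ht
  have e : IsLocalization.mk' (Localization.AtPrime Q) x (⟨t, ht⟩ : Q.primeCompl) =
      φ (⟨x, hx⟩ * z) := by
    rw [IsLocalization.mk'_eq_iff_eq_mul, map_mul, mul_assoc, mul_comm (φ z),
      show φ ⟨x, hx⟩ = algebraMap C (Localization.AtPrime Q) x from rfl,
      show algebraMap C (Localization.AtPrime Q) t = φ ⟨t, ht'⟩ from rfl, hz, mul_one]
  exact ⟨e ▸ hint _, _, e.symm⟩

/-- The localisation at an isolated point of the closed fibre of a finite type algebra is finite. -/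
theorem finite_localization [Algebra.FiniteType A C] [Algebra.QuasiFiniteAt A Q] :
    Module.Finite A (Localization.AtPrime Q) := by
  let φ : C →ₐ[A] Localization.AtPrime Q := IsScalarTower.toAlgHom A C _
  have hQ : (maximalIdeal (Localization.AtPrime Q)).comap φ.toRingHom = Q :=
    Ideal.ext fun z => IsLocalization.AtPrime.to_map_mem_maximal_iff (Localization.AtPrime Q) Q z
  obtain ⟨hint, hinv⟩ := isIntegral_apply_and_exists_inverse φ Q hQ
  have hsurj : Function.Surjective φ := fun y => by
    obtain ⟨x, ⟨t, ht⟩, rfl⟩ := IsLocalization.exists_mk'_eq Q.primeCompl y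
    obtain ⟨z, hz⟩ := hinv t ht
    refine ⟨x * z, ?_⟩
    rw [eq_comm, IsLocalization.mk'_eq_iff_eq_mul, map_mul, mul_assoc, mul_comm (φ z),
      show algebraMap C (Localization.AtPrime Q) t = φ t from rfl, hz, mul_one]
    rfl
  have : Algebra.FiniteType A (Localization.AtPrime Q) := Algebra.FiniteType.of_surjective φ hsurj
  have : Algebra.IsIntegral A (Localization.AtPrime Q) := ⟨fun y => by
    obtain ⟨x, rfl⟩ := hsurj y
    exact hint x⟩
  exact Algebra.IsIntegral.finite

/-- Henselian with separably closed residue field. -/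
theorem henselian_and_sepClosed (L : Type u) [CommRing L] [IsLocalRing L] [Algebra A L]
    [IsLocalHom (algebraMap A L)] [Algebra.IsIntegral A L] [IsSepClosed (ResidueField A)] :
    HenselianLocalRing L ∧ IsSepClosed (ResidueField L) := by
  refine ⟨LocalRing.henselianLocalRing_of_isIntegral A L, ?_⟩
  have : Algebra.IsIntegral (ResidueField A) (ResidueField L) := ⟨fun y => by
    obtain ⟨x, rfl⟩ := residue_surjective y
    exact ((Algebra.IsIntegral.isIntegral (R := A) x).map (IsScalarTower.toAlgHom A L (ResidueField L))).tower_top⟩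
  have : Algebra.IsAlgebraic (ResidueField A) (ResidueField L) := Algebra.IsIntegral.isAlgebraic
  exact Algebra.IsAlgebraic.isSepClosed (F := ResidueField A) (E := ResidueField L)

end Groth.Agent.Lib.Henselian.QFLocalization
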