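import Groth.Agent.Lib.Henselian.Henselization
import Groth.Agent.Lib.Henselian.StrictHenselization
import Groth.Agent.Lib.Henselian.QFLocalization
import Mathlib.RingTheory.QuasiFinite.Basic
import Mathlib.RingTheory.TensorProduct.Maps

/-!
# Henselizations and base change

* `isLocalHom_of_comp`, `bijective`
-/

universe u

open IsLocalRing

namespace Groth.Agent.Lib.Henselian.HenselBaseChange

/-- A map from a henselization compatible with a local map is local. -/
theorem isLocalHom_of_comp {R Rh T : Type u} [CommRing R] [IsLocalRing R] [CommRing Rh] [IsLocalRing Rh]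
    [Algebra R Rh] (h : (maximalIdeal R).map (algebraMap R Rh) = maximalIdeal Rh)
    [CommRing T] [IsLocalRing T] (g : Rh →+* T) [IsLocalHom (g.comp (algebraMap R Rh))] : IsLocalHom g := by
  refine ((local_hom_TFAE g).out 0 2 rfl rfl).mpr ?_
  rw [← h, Ideal.map_map]
  exact ((local_hom_TFAE (g.comp (algebraMap R Rh))).out 0 2 rfl rfl).mp inferInstance

/-- A map to a henselization from a henselian local ring is bijective if the source is rigid. -/
theorem bijective {R Rh M : Type u} [CommRing R] [IsLocalRing R] [CommRing Rh] [IsLocalRing Rh]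
    [Algebra R Rh] [IsLocalHom (algebraMap R Rh)] [hR : Hensel.IsHenselization R Rh]
    [CommRing M] [HenselianLocalRing M] (π : M →+* Rh) [IsLocalHom π] (θ : R →+* M)
    (hθ : π.comp θ = algebraMap R Rh)
    (huniq : ∀ g : M →+* M, IsLocalHom g → g.comp θ = θ → g = RingHom.id M) : Function.Bijective π := by
  have := hR.henselian
  have : IsLocalHom (π.comp θ) := hθ ▸ ‹IsLocalHom (algebraMap R Rh)›
  have : IsLocalHom θ := ⟨fun a ha => isUnit_of_map_unit (π.comp θ) a (ha.map π)⟩
  obtain ⟨g, hg, -⟩ := hR.universal M θ inferInstance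
  have : IsLocalHom (g.comp (algebraMap R Rh)) := hg.symm ▸ ‹IsLocalHom θ›
  have : IsLocalHom g := isLocalHom_of_comp (Henselization.map_maximalIdeal (R := R) (S := Rh)) g
  have h1 : π.comp g = RingHom.id Rh :=
    (hR.universal Rh (algebraMap R Rh) inferInstance).unique (by rw [RingHom.comp_assoc, hg, hθ]) rfl
  have h2 : g.comp π = RingHom.id M := huniq _ inferInstance (by rw [RingHom.comp_assoc, hθ, hg])
  exact Function.bijective_iff_has_inverse.mpr ⟨g, RingHom.congr_fun h2, RingHom.congr_fun h1⟩

end Groth.Agent.Lib.Henselian.HenselBaseChange
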