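import Groth.Agent.Lib.Henselian.StrictBaseChange
import Groth.Agent.Lib.Henselian.HenselBaseChange
import Groth.Agent.Lib.Henselian.Normal

/-!
# Unibranch local domains

* `isLocalRing_of_isDomain`: an integral domain integral over a henselian local ring is local
* `isDomain_of_henselization`, `isDomain_of_strictHenselization`
* `isLocalRing_of_isDomain_henselian`, `isPurelyInseparable_of_isDomain`
-/

universe u

open IsLocalRing TensorProduct
open Groth.Agent.Lib.Henselian.Pair

namespace Groth.Agent.Lib.Henselian.Unibranch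

attribute [local instance] Algebra.TensorProduct.rightAlgebra

/-- A domain which is integral over a henselian local ring is local. -/
theorem isLocalRing_of_isDomain (S C : Type u) [CommRing S] [HenselianLocalRing S] [CommRing C]
    [IsDomain C] [Algebra S C] [Algebra.IsIntegral S C] : IsLocalRing C := by
  refine IsLocalRing.of_isUnit_or_isUnit_one_sub_self fun x => ?_
  let C₀ := Algebra.adjoin S ({x} : Set C)
  have : Module.Finite S C₀ :=
    Algebra.finite_adjoin_of_finite_of_isIntegral (Set.finite_singleton x) fun y _ => Algebra.IsIntegral.isIntegral y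
  let y : C₀ := ⟨x, Algebra.subset_adjoin rfl⟩
  have : IsLocalRing C₀ := by
    obtain ⟨m, hm⟩ := Ideal.exists_maximal C₀
    refine IsLocalRing.of_unique_max_ideal ⟨m, hm, fun n hn => by_contra fun hne => ?_⟩
    obtain ⟨e, he, hem, hother⟩ := Finite.exists_idempotent_maximal (A := S)
      (idempotents_bijOn (maximalIdeal S) C₀).surjOn ⟨m, hm⟩
    have hen : e ∈ n := hother ⟨n, hn⟩ fun h => hne (congrArg MaximalSpectrum.asIdeal h)
    rcases IsIdempotentElem.iff_eq_zero_or_one.mp he with rfl | rfl
    · exact hem m.zero_mem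
    · exact hn.ne_top ((Ideal.eq_top_iff_one n).mpr hen)
  rcases IsLocalRing.isUnit_or_isUnit_one_sub_self y with h | h
  · exact Or.inl (h.map C₀.val)
  · exact Or.inr (by simpa [y] using h.map C₀.val)

variable (R R' S : Type u) [CommRing R] [IsLocalRing R] [CommRing R'] [IsLocalRing R'] [Algebra R R']
  [Algebra.IsIntegral R R'] [CommRing S] [IsLocalRing S] [Algebra R S] [IsLocalHom (algebraMap R S)]

omit [IsLocalRing S] [IsLocalHom (algebraMap R S)] [IsLocalRing R] [IsLocalRing R'] in
lemma isIntegral_right : Algebra.IsIntegral S (R' ⊗[R] S) := ⟨fun x => by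
  have h := (Algebra.IsIntegral.isIntegral (R := S)
    ((Algebra.TensorProduct.commRight R S R').symm x)).map (Algebra.TensorProduct.commRight R S R').toAlgHom
  simpa using h⟩

omit [IsLocalRing S] [IsLocalHom (algebraMap R S)] in
lemma isLocalHom_of_isIntegral : IsLocalHom (algebraMap R R') :=
  ((local_hom_TFAE _).out 0 4 rfl rfl).mpr
    (eq_maximalIdeal (Ideal.isMaximal_comap_of_isIntegral_of_isMaximal (maximalIdeal R')))

/-- The tensor product with the henselization of the base is local. -/
theorem isLocalRing_tensor_henselization [Hensel.IsHenselization R S] : IsLocalRing (R' ⊗[R] S) := by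
  have := isLocalHom_of_isIntegral R R'
  have := Henselization.faithfullyFlat R S
  have := isIntegral_right R R' S
  have : Nontrivial (R' ⊗[R] S) := inferInstance
  let iB := algebraMap S (R' ⊗[R] S)
  have hmax : ∀ P : Ideal (R' ⊗[R] S), P.IsMaximal → (maximalIdeal S).map iB ≤ P := fun P hP =>
    Ideal.map_le_iff_le_comap.mpr
      (eq_maximalIdeal (Ideal.isMaximal_comap_of_isIntegral_of_isMaximal (R := S) P)).ge
  have key : ∀ x : R' ⊗[R] S, ∃ r' : R', x - r' ⊗ₜ 1 ∈ (maximalIdeal S).map iB := by
    intro x
    induction x using TensorProduct.induction_on with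
    | zero => exact ⟨0, by simp⟩
    | tmul r' s =>
      obtain ⟨a, ha⟩ := Henselization.exists_sub_mem R S s
      refine ⟨a • r', ?_⟩
      have e : r' ⊗ₜ[R] s - (a • r') ⊗ₜ[R] (1 : S) = (r' ⊗ₜ[R] (1 : S)) * iB (s - algebraMap R S a) := by
        rw [TensorProduct.smul_tmul, ← Algebra.algebraMap_eq_smul_one, ← TensorProduct.tmul_sub]
        simp [iB, RingHom.algebraMap_toAlgebra]
      rw [e]
      exact Ideal.mul_mem_left _ _ (Ideal.mem_map_of_mem _ ha)
    | add x y hx hy =>
      obtain ⟨a, ha⟩ := hx
      obtain ⟨b, hb⟩ := hy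
      exact ⟨a + b, by rw [TensorProduct.add_tmul, add_sub_add_comm]; exact add_mem ha hb⟩
  let iA : R' →+* R' ⊗[R] S := algebraMap R' (R' ⊗[R] S)
  have hA : ∀ P : Ideal (R' ⊗[R] S), P.IsMaximal → P.comap iA = maximalIdeal R' := by
    intro P hP
    have hp : (P.comap iA).IsPrime := Ideal.comap_isPrime _ _
    refine eq_maximalIdeal (Ideal.isMaximal_of_isIntegral_of_isMaximal_comap (R := R) _ ?_)
    have h1 : maximalIdeal R ≤ (P.comap iA).comap (algebraMap R R') := by
      intro r hr
      rw [Ideal.mem_comap, Ideal.mem_comap]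
      have h2 : iA (algebraMap R R' r) = iB (algebraMap R S r) := by
        simp [iA, iB, RingHom.algebraMap_toAlgebra]
      rw [h2]
      exact hmax P hP (Ideal.mem_map_of_mem _ fun hu => hr (isUnit_of_map_unit (algebraMap R S) r hu))
    exact (maximalIdeal.isMaximal R).eq_of_le (Ideal.IsPrime.ne_top inferInstance) h1 ▸ maximalIdeal.isMaximal R
  obtain ⟨M, hM⟩ := Ideal.exists_maximal (R' ⊗[R] S)
  refine IsLocalRing.of_unique_max_ideal ⟨M, hM, fun N hN => hN.eq_of_le hM.ne_top fun x hx => ?_⟩
  obtain ⟨r', hr'⟩ := key x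
  have h1 : iA r' ∈ N := by
    have := sub_mem hx (hmax N hN hr')
    rwa [sub_sub_cancel] at this
  have h2 : iA r' ∈ M := (hA M hM).ge ((hA N hN).le h1)
  have := add_mem (hmax M hM hr') h2
  rwa [show iA r' = r' ⊗ₜ 1 from rfl, sub_add_cancel] at this

/-- The henselization of a unibranch domain is a domain. -/
theorem isDomain_of_henselization [IsDomain R'] [IsIntegrallyClosed R']
    (hinj : Function.Injective (algebraMap R R')) [hS : Hensel.IsHenselization R S] : IsDomain S := by
  have := hS.henselian
  have := isLocalHom_of_isIntegral R R'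
  have := isLocalRing_tensor_henselization R R' S
  have := isIntegral_right R R' S
  have := Henselization.flat R S
  have : IsLocalHom (algebraMap S (R' ⊗[R] S)) := ((local_hom_TFAE _).out 0 4 rfl rfl).mpr
    (eq_maximalIdeal (Ideal.isMaximal_comap_of_isIntegral_of_isMaximal (R := S) (maximalIdeal (R' ⊗[R] S))))
  have : HenselianLocalRing (R' ⊗[R] S) := LocalRing.henselianLocalRing_of_isIntegral S _
  let T := Henselization.Henselization R'
  have : ∀ i : Pointed.Pt R' (ResidueField R'), IsLocalRing i.Loc := fun i =>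
    RingHom.domain_isLocalRing (i.α : i.Loc →+* ResidueField R')
  have : IsDomain T := Normal.isDomain_lim
  obtain ⟨g, hg, -⟩ := hS.universal T ((algebraMap R' T).comp (algebraMap R R')) (RingHom.isLocalHom_comp _ _)
  have : IsLocalHom (g.comp (algebraMap R S)) := hg.symm ▸ RingHom.isLocalHom_comp _ _
  have : IsLocalHom g := HenselBaseChange.isLocalHom_of_comp (Henselization.map_maximalIdeal R S) g
  let : Algebra R T := ((algebraMap R' T).comp (algebraMap R R')).toAlgebra
  let π₀ : R' ⊗[R] S →ₐ[R] T := Algebra.TensorProduct.lift ⟨algebraMap R' T, fun _ => rfl⟩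
    ⟨g, fun r => RingHom.congr_fun hg r⟩ fun _ _ => Commute.all _ _
  let π := π₀.toRingHom
  have hπS : π.comp (algebraMap S (R' ⊗[R] S)) = g :=
    RingHom.ext fun s => by simp [π, π₀, RingHom.algebraMap_toAlgebra]
  have : IsLocalHom π := by
    refine ((local_hom_TFAE _).out 0 4 rfl rfl).mpr (eq_maximalIdeal ?_)
    have : ((maximalIdeal T).comap π).IsPrime := Ideal.comap_isPrime _ _
    refine Ideal.isMaximal_of_isIntegral_of_isMaximal_comap (R := S) _ ?_
    rw [Ideal.comap_comap, hπS, ((local_hom_TFAE g).out 0 4 rfl rfl).mp inferInstance]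
    exact maximalIdeal.isMaximal S
  have hbij := HenselBaseChange.bijective (R := R') π (algebraMap R' (R' ⊗[R] S))
    (RingHom.ext fun r => by simp [π, π₀]) fun h hloc hh => by
    have hhS : h.comp (algebraMap S (R' ⊗[R] S)) = algebraMap S (R' ⊗[R] S) := by
      have hsq : (algebraMap S (R' ⊗[R] S)).comp (algebraMap R S) =
          (algebraMap R' (R' ⊗[R] S)).comp (algebraMap R R') :=
        RingHom.ext fun r => by simp [RingHom.algebraMap_toAlgebra]
      refine (hS.universal (R' ⊗[R] S) ((algebraMap S (R' ⊗[R] S)).comp (algebraMap R S))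
        (RingHom.isLocalHom_comp _ _)).unique ?_ rfl
      rw [RingHom.comp_assoc, hsq, ← RingHom.comp_assoc, hh]
    refine RingHom.ext fun x => ?_
    induction x using TensorProduct.induction_on with
    | zero => simp
    | tmul a b =>
      have e : a ⊗ₜ[R] b = algebraMap R' (R' ⊗[R] S) a * algebraMap S (R' ⊗[R] S) b := by
        simp [RingHom.algebraMap_toAlgebra]
      rw [RingHom.id_apply, e, map_mul]
      exact congrArg₂ (· * ·) (RingHom.congr_fun hh a) (RingHom.congr_fun hhS b)
    | add x y hx hy => rw [map_add, hx, hy]; rfl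
  have : IsDomain (R' ⊗[R] S) := hbij.1.isDomain
  exact (Algebra.TensorProduct.includeRight_injective (R := R) (A := R') (B := S) hinj).isDomain

/-- The strict henselization of a geometrically unibranch domain is a domain. -/
theorem isDomain_of_strictHenselization [IsDomain R'] [IsIntegrallyClosed R']
    (hinj : Function.Injective (algebraMap R R')) [hl : IsLocalHom (algebraMap R R')]
    [IsPurelyInseparable (ResidueField R) (ResidueField R')]
    [hS : Hensel.IsStrictHenselization R S] : IsDomain S := by
  have := hS.henselian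
  have := hS.isSepClosure.sep_closed
  have := hS.isSepClosure.separable
  have := StrictHenselization.flat R S
  have := isIntegral_right R R' S
  obtain ⟨_, hloc, -⟩ := PurInsepTensor.exists_isLocalRing_tensor R R' S
  have : IsLocalHom (algebraMap S (R' ⊗[R] S)) := hloc
  obtain ⟨_, _⟩ := QFLocalization.henselian_and_sepClosed (A := S) (R' ⊗[R] S)
  let T := StrictHenselization.StrictHenselization R'
  have : ∀ i : Pointed.Pt R' (StrictHenselization.SK R'), IsLocalRing i.Loc := fun i =>
    RingHom.domain_isLocalRing (i.α : i.Loc →+* StrictHenselization.SK R')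
  have : IsDomain T := Normal.isDomain_lim
  have : IsSepClosed (ResidueField T) :=
    (inferInstance : Hensel.IsStrictHenselization R' T).isSepClosure.sep_closed
  let f := (algebraMap R' T).comp (algebraMap R R')
  have : IsLocalHom f := RingHom.isLocalHom_comp _ _
  let : Algebra (ResidueField R) (ResidueField T) := (ResidueField.map f).toAlgebra
  let τ : ResidueField S →ₐ[ResidueField R] ResidueField T := IsSepClosed.lift
  obtain ⟨g, ⟨hg, hgτ⟩, -⟩ := hS.universal T f τ.toRingHom (RingHom.ext fun x => τ.commutes x)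
  have : IsLocalHom g := ⟨fun x hx => by
    by_contra hu
    have h := hgτ x
    rw [(residue_eq_zero_iff x).mpr hu, map_zero] at h
    exact (hx.map (residue T)).ne_zero h⟩
  let : Algebra R T := f.toAlgebra
  let π₀ : R' ⊗[R] S →ₐ[R] T := Algebra.TensorProduct.lift ⟨algebraMap R' T, fun _ => rfl⟩
    ⟨g, fun r => RingHom.congr_fun hg r⟩ fun _ _ => Commute.all _ _
  let π := π₀.toRingHom
  have hπS : π.comp (algebraMap S (R' ⊗[R] S)) = g :=
    RingHom.ext fun s => by simp [π, π₀, RingHom.algebraMap_toAlgebra]
  have : IsLocalHom π := by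
    refine ((local_hom_TFAE _).out 0 4 rfl rfl).mpr (eq_maximalIdeal ?_)
    have : ((maximalIdeal T).comap π).IsPrime := Ideal.comap_isPrime _ _
    refine Ideal.isMaximal_of_isIntegral_of_isMaximal_comap (R := S) _ ?_
    rw [Ideal.comap_comap, hπS, ((local_hom_TFAE g).out 0 4 rfl rfl).mp inferInstance]
    exact maximalIdeal.isMaximal S
  have hbij := StrictData.bijective (M := R' ⊗[R] S) (StrictData.of_isStrictHenselization (R := R') (S := T)) π
    (algebraMap R' (R' ⊗[R] S)) (RingHom.ext fun r => by simp [π, π₀]) fun h hh hres => by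
    have hhS : h.comp (algebraMap S (R' ⊗[R] S)) = algebraMap S (R' ⊗[R] S) := by
      have hsq : (algebraMap S (R' ⊗[R] S)).comp (algebraMap R S) =
          (algebraMap R' (R' ⊗[R] S)).comp (algebraMap R R') :=
        RingHom.ext fun r => by simp [RingHom.algebraMap_toAlgebra]
      refine StrictBaseChange.ringHom_ext_of_data (StrictData.of_isStrictHenselization (R := R) (S := S))
        _ _ ?_ fun x => hres _
      rw [RingHom.comp_assoc, hsq, ← RingHom.comp_assoc, hh]
    refine RingHom.ext fun x => ?_
    induction x using TensorProduct.induction_on with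
    | zero => simp
    | tmul a b =>
      have e : a ⊗ₜ[R] b = algebraMap R' (R' ⊗[R] S) a * algebraMap S (R' ⊗[R] S) b := by
        simp [RingHom.algebraMap_toAlgebra]
      rw [RingHom.id_apply, e, map_mul]
      exact congrArg₂ (· * ·) (RingHom.congr_fun hh a) (RingHom.congr_fun hhS b)
    | add x y hx hy => rw [map_add, hx, hy]; rfl
  have : IsDomain (R' ⊗[R] S) := hbij.1.isDomain
  exact (Algebra.TensorProduct.includeRight_injective (R := R) (A := R') (B := S) hinj).isDomain

end Groth.Agent.Lib.Henselian.Unibranch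

namespace Groth.Agent.Lib.Henselian.Unibranch

attribute [local instance] Algebra.TensorProduct.rightAlgebra

variable (R R' K S : Type u) [CommRing R] [IsDomain R] [IsLocalRing R] [CommRing R'] [IsDomain R']
  [Field K] [Algebra R R'] [Algebra.IsIntegral R R'] [Algebra R K] [IsFractionRing R K] [Algebra R' K]
  [IsScalarTower R R' K] [CommRing S] [IsDomain S] [IsLocalRing S] [Algebra R S]
  [IsLocalHom (algebraMap R S)]

omit [Algebra.IsIntegral R R'] [IsLocalHom (algebraMap R S)] in
/-- The base change of a birational extension to a flat domain is a domain. -/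
theorem isDomain_tensor (hinj' : Function.Injective (algebraMap R' K)) [Module.FaithfullyFlat R S] :
    IsDomain (R' ⊗[R] S) := by
  have hRR' : Function.Injective (algebraMap R R') := by
    refine Function.Injective.of_comp (f := algebraMap R' K) ?_
    rw [← RingHom.coe_comp, ← IsScalarTower.algebraMap_eq]
    exact IsFractionRing.injective R K
  have hright := Algebra.TensorProduct.includeRight_injective (R := R) (A := R') (B := S) hRR'
  have hclear : ∀ x : R' ⊗[R] S, ∃ (d : R) (s : S), d ≠ 0 ∧ d • x = (1 : R') ⊗ₜ s := by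
    intro x
    induction x using TensorProduct.induction_on with
    | zero => exact ⟨1, 0, one_ne_zero, by simp⟩
    | tmul a b =>
      obtain ⟨⟨n, d⟩, hnd⟩ := IsLocalization.surj (nonZeroDivisors R) (algebraMap R' K a)
      refine ⟨d, n • b, nonZeroDivisors.coe_ne_zero d, ?_⟩
      have : (d : R) • a = algebraMap R R' n := hinj' (by
        rw [Algebra.smul_def, map_mul, ← IsScalarTower.algebraMap_apply, ← IsScalarTower.algebraMap_apply, mul_comm]
        exact hnd)
      rw [TensorProduct.smul_tmul', this, Algebra.algebraMap_eq_smul_one, TensorProduct.smul_tmul]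
    | add x y hx hy =>
      obtain ⟨d, s, hd, hs⟩ := hx
      obtain ⟨e, t, he, ht⟩ := hy
      refine ⟨d * e, e • s + d • t, mul_ne_zero hd he, ?_⟩
      rw [smul_add, TensorProduct.tmul_add, TensorProduct.tmul_smul, TensorProduct.tmul_smul, ← hs, ← ht,
        smul_smul, smul_smul, mul_comm e d]
  have htf : ∀ d : R, d ≠ 0 → Function.Injective fun x : R' ⊗[R] S => d • x := by
    intro d hd
    have h1 := Module.Flat.rTensor_preserves_injective_linearMap (M := S) (LinearMap.lsmul R R' d) (fun a b h => by
      simp only [LinearMap.lsmul_apply, Algebra.smul_def] at h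
      exact mul_left_cancel₀ ((map_ne_zero_iff _ hRR').mpr hd) h)
    have h2 : (LinearMap.lsmul R R' d).rTensor S = LinearMap.lsmul R (R' ⊗[R] S) d :=
      TensorProduct.ext' fun a b => by simp [TensorProduct.smul_tmul']
    rw [h2] at h1
    exact h1
  have : Nontrivial (R' ⊗[R] S) := hright.nontrivial
  have : NoZeroDivisors (R' ⊗[R] S) := ⟨fun {x y} hxy => by
    obtain ⟨d, s, hd, hs⟩ := hclear x
    obtain ⟨e, t, he, ht⟩ := hclear y
    have hst : (1 : R') ⊗ₜ[R] (s * t) = 0 := by
      rw [← one_mul (1 : R'), ← Algebra.TensorProduct.tmul_mul_tmul, ← hs, ← ht, smul_mul_smul_comm, hxy,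
        smul_zero]
    rcases mul_eq_zero.mp (hright (hst.trans (map_zero _).symm)) with h | h
    · exact Or.inl (htf d hd (show d • x = d • (0 : R' ⊗[R] S) by rw [hs, h, TensorProduct.tmul_zero, smul_zero]))
    · exact Or.inr (htf e he (show e • y = e • (0 : R' ⊗[R] S) by rw [ht, h, TensorProduct.tmul_zero, smul_zero]))⟩
  exact NoZeroDivisors.to_isDomain _

omit [IsLocalHom (algebraMap R S)] in
/-- If the (strict) henselization is a domain then the base is unibranch. -/
theorem isLocalRing_of_isDomain_henselian (hinj' : Function.Injective (algebraMap R' K))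
    [Module.FaithfullyFlat R S] (h : HenselianLocalRing S) :
    IsLocalRing (R' ⊗[R] S) ∧ IsLocalRing R' := by
  have := isDomain_tensor R R' K S hinj'
  have : Algebra.IsIntegral S (R' ⊗[R] S) := ⟨fun x => by
    have h := (Algebra.IsIntegral.isIntegral (R := S)
      ((Algebra.TensorProduct.commRight R S R').symm x)).map (Algebra.TensorProduct.commRight R S R').toAlgHom
    simpa using h⟩
  have hloc := isLocalRing_of_isDomain S (R' ⊗[R] S)
  refine ⟨hloc, ?_⟩
  have : IsLocalHom (algebraMap R' (R' ⊗[R] S)) := ⟨fun a ha => by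
    by_contra hu
    obtain ⟨m, hm, ham⟩ := exists_max_ideal_of_mem_nonunits hu
    have : m.map (algebraMap R' (R' ⊗[R] S)) ≠ ⊤ := fun h => hm.ne_top <| by
      rw [← Ideal.comap_map_eq_self_of_faithfullyFlat (B := R' ⊗[R] S) m, h, Ideal.comap_top]
    exact this (Ideal.eq_top_of_isUnit_mem _ (Ideal.mem_map_of_mem _ ham) ha)⟩
  exact RingHom.domain_isLocalRing (algebraMap R' (R' ⊗[R] S))

/-- If the strict henselization is a domain, the residue field extension is purely inseparable. -/
theorem isPurelyInseparable_of_isDomain (hinj' : Function.Injective (algebraMap R' K))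
    [hS : Hensel.IsStrictHenselization R S] [IsLocalRing R'] [IsLocalHom (algebraMap R R')] :
    IsPurelyInseparable (ResidueField R) (ResidueField R') := by
  have := hS.henselian
  have := hS.isSepClosure.sep_closed
  have := hS.isSepClosure.separable
  have := StrictHenselization.faithfullyFlat R S
  have := (isLocalRing_of_isDomain_henselian R R' K S hinj' hS.henselian).1
  let C := R' ⊗[R] S
  have : Algebra.IsIntegral S C := ⟨fun x => by
    have h := (Algebra.IsIntegral.isIntegral (R := S)
      ((Algebra.TensorProduct.commRight R S R').symm x)).map (Algebra.TensorProduct.commRight R S R').toAlgHom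
    simpa using h⟩
  have : IsLocalHom (algebraMap S C) := ((local_hom_TFAE _).out 0 4 rfl rfl).mpr
    (eq_maximalIdeal (Ideal.isMaximal_comap_of_isIntegral_of_isMaximal (R := S) (maximalIdeal C)))
  have : Algebra.IsIntegral (ResidueField S) (ResidueField C) := ⟨fun y => by
    obtain ⟨x, rfl⟩ := residue_surjective y
    exact ((Algebra.IsIntegral.isIntegral (R := S) x).map (IsScalarTower.toAlgHom S C (ResidueField C))).tower_top⟩
  have : Algebra.IsAlgebraic (ResidueField S) (ResidueField C) := Algebra.IsIntegral.isAlgebraic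
  rw [isPurelyInseparable_iff_subsingleton_emb]
  refine ⟨fun σ₁ σ₂ => AlgHom.ext fun α => ?_⟩
  let Ω := AlgebraicClosure (ResidueField R')
  let ι : ResidueField S →ₐ[ResidueField R] Ω := IsAlgClosed.lift
  let : Algebra R Ω := ((algebraMap (ResidueField R) Ω).comp (residue R)).toAlgebra
  let φ : (ResidueField R' →ₐ[ResidueField R] Ω) → C →ₐ[R] Ω := fun σ =>
    Algebra.TensorProduct.lift ⟨σ.toRingHom.comp (residue R'), fun r => σ.commutes (residue R r)⟩
      ⟨ι.toRingHom.comp (residue S), fun r => ι.commutes (residue R r)⟩ fun _ _ => Commute.all _ _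
  let q := ringExpChar (ResidueField S)
  have : ExpChar Ω q := expChar_of_injective_ringHom ι.toRingHom.injective q
  have hker : ∀ σ, ∀ x ∈ maximalIdeal C, φ σ x = 0 := by
    intro σ x hx
    have : (RingHom.ker (φ σ).toRingHom).IsPrime := RingHom.ker_isPrime _
    have hmax : (RingHom.ker (φ σ).toRingHom).IsMaximal := by
      refine Ideal.isMaximal_of_isIntegral_of_isMaximal_comap (R := S) _ ?_
      have : (RingHom.ker (φ σ).toRingHom).comap (algebraMap S C) = maximalIdeal S := by
        ext s
        rw [Ideal.mem_comap, RingHom.mem_ker, ← residue_eq_zero_iff]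
        simp [φ, C, RingHom.algebraMap_toAlgebra]
      exact this ▸ maximalIdeal.isMaximal S
    exact (eq_maximalIdeal hmax).ge hx
  obtain ⟨a, rfl⟩ := residue_surjective α
  obtain ⟨n, s', hn⟩ := IsPurelyInseparable.pow_mem (ResidueField S) q (residue C (a ⊗ₜ[R] (1 : S)))
  obtain ⟨s, rfl⟩ := residue_surjective s'
  have hmem : (a ⊗ₜ[R] (1 : S)) ^ q ^ n - algebraMap S C s ∈ maximalIdeal C := by
    rw [← residue_eq_zero_iff, map_sub, map_pow, ← hn, sub_eq_zero]
    rfl
  have key : ∀ σ : ResidueField R' →ₐ[ResidueField R] Ω, (σ (residue R' a)) ^ q ^ n = ι (residue S s) := fun σ => by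
    have h := hker σ _ hmem
    rw [map_sub, map_pow, sub_eq_zero] at h
    have h₁ : φ σ (a ⊗ₜ[R] (1 : S)) = σ (residue R' a) := by
      show σ (residue R' a) * ι (residue S 1) = σ (residue R' a)
      simp
    have h₂ : φ σ (algebraMap S C s) = ι (residue S s) := by
      show σ (residue R' 1) * ι (residue S s) = ι (residue S s)
      simp
    rwa [h₁, h₂] at h
  exact iterateFrobenius_inj Ω q n (by rw [iterateFrobenius_def, iterateFrobenius_def, key, key])

end Groth.Agent.Lib.Henselian.Unibranch

namespace Groth.Agent.Lib.Henselian.Unibranch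

/-- The fraction ring of the quotient by the zero ideal. -/
lemma isFractionRing_quotient (R : Type u) [CommRing R] [IsDomain R] {N : Ideal R} (hN : N = ⊥)
    [IsDomain (R ⧸ N)] :
    IsFractionRing R (FractionRing (R ⧸ N)) := by
  have hinj : Function.Injective (algebraMap R (FractionRing (R ⧸ N))) := by
    rw [IsScalarTower.algebraMap_eq R (R ⧸ N), RingHom.coe_comp]
    refine (IsFractionRing.injective _ _).comp ?_
    rw [injective_iff_map_eq_zero]
    intro a ha
    have h2 : a ∈ N := Ideal.Quotient.eq_zero_iff_mem.mp ha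
    simpa [hN] using h2
  refine ⟨fun y => ((map_ne_zero_iff _ hinj).mpr (nonZeroDivisors.coe_ne_zero y)).isUnit, fun z => ?_, fun {x y} h => ⟨1, by rw [hinj h]⟩⟩
  obtain ⟨⟨n, d⟩, h⟩ := IsLocalization.surj (nonZeroDivisors (R ⧸ N)) z
  obtain ⟨n, rfl⟩ := Ideal.Quotient.mk_surjective n
  obtain ⟨d', hd'⟩ := Ideal.Quotient.mk_surjective (d : R ⧸ N)
  refine ⟨⟨n, d', mem_nonZeroDivisors_of_ne_zero fun h0 => nonZeroDivisors.coe_ne_zero d (by rw [← hd', h0, map_zero])⟩, ?_⟩
  rw [IsScalarTower.algebraMap_apply R (R ⧸ N), IsScalarTower.algebraMap_apply R (R ⧸ N) _ n,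
    Ideal.Quotient.algebraMap_eq, hd']
  exact h

end Groth.Agent.Lib.Henselian.Unibranch
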