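import Mathlib.RingTheory.ReesAlgebra
import Mathlib.RingTheory.FiniteType
import Mathlib.RingTheory.Filtration
import Mathlib.RingTheory.Flat.FaithfullyFlat.Algebra
import Mathlib.RingTheory.Flat.Localization
import Mathlib.RingTheory.Localization.Submodule

/-!
# A Noetherianity criterion

* `isNoetherianRing_of_fg_closed`: a ring with a finitely generated ideal `m` such that `S/m` is
  Noetherian and every finitely generated ideal is `m`-adically closed is Noetherian
* `isNoetherianRing_of_faithfullyFlat`: descent of Noetherianity along faithfully flat maps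
-/

universe u v

open Polynomial

namespace Groth.Agent.Lib.Henselian.NoetherianCriterion

variable {S : Type u} [CommRing S]

/-- A ring with a finitely generated ideal `m`, Noetherian modulo `m`, in which all finitely
generated ideals are `m`-adically closed, is Noetherian. -/
theorem isNoetherianRing_of_fg_closed (m : Ideal S) (hm : m.FG) [IsNoetherianRing (S ⧸ m)]
    (h : ∀ J : Ideal S, J.FG → ∀ x : S, (∀ n : ℕ, x ∈ J ⊔ m ^ n) → x ∈ J) :
    IsNoetherianRing S := by
  classical
  refine (isNoetherianRing_iff_ideal_fg S).mpr fun I => ?_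
  let Rees := reesAlgebra m
  let 𝔪 : Ideal Rees := m.map (algebraMap S Rees)
  let G := Rees ⧸ 𝔪
  have : Algebra.FiniteType S Rees := ⟨(reesAlgebra m).fg_top.mpr (reesAlgebra.fg hm)⟩
  have : Algebra.FiniteType (S ⧸ m) G := Algebra.FiniteType.of_restrictScalars_finiteType S _ _
  have : IsNoetherianRing G := Algebra.FiniteType.isNoetherianRing (S ⧸ m) G
  let T : Set G := {g | ∃ (d : ℕ) (a : S) (ha : a ∈ m ^ d), a ∈ I ∧
    g = Ideal.Quotient.mk 𝔪 ⟨monomial d a, reesAlgebra.monomial_mem.mpr ha⟩}
  obtain ⟨t, htT, ht⟩ := (Submodule.fg_span_iff_fg_span_finset_subset T).mp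
    (IsNoetherian.noetherian (Submodule.span G T))
  choose! d a ha haI hga using fun g (hg : g ∈ T) => hg
  let J : Ideal S := Ideal.span (t.image a : Set S)
  have hJI : J ≤ I := Ideal.span_le.mpr fun x hx => by
    simp only [Finset.coe_image, Set.mem_image] at hx
    obtain ⟨g, hg, rfl⟩ := hx
    exact haI g (htT hg)
  -- every polynomial congruent to a member of the span has coefficients in `J` up to higher order
  have key : ∀ g ∈ Submodule.span G (t : Set G), ∀ p : Rees, Ideal.Quotient.mk 𝔪 p = g →
      ∀ n, (p : S[X]).coeff n ∈ J ⊔ m ^ (n + 1) := by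
    have h𝔪 : ∀ p ∈ 𝔪, ∀ n, (p : S[X]).coeff n ∈ m ^ (n + 1) := fun p hp => by
      induction hp using Submodule.span_induction with
      | mem y hy =>
        obtain ⟨c, hc, rfl⟩ := hy
        intro n
        rw [show ((algebraMap S Rees c : Rees) : S[X]) = C c from rfl, coeff_C]
        split_ifs with hn
        · subst hn
          simpa using hc
        · exact zero_mem _
      | zero => intro n; simp
      | add y z _ _ h1 h2 => intro n; rw [Subalgebra.coe_add, coeff_add]; exact add_mem (h1 n) (h2 n)
      | smul r y _ h1 =>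
        intro n
        rw [smul_eq_mul, Subalgebra.coe_mul, coeff_mul]
        refine Ideal.sum_mem _ fun ij hij => ?_
        obtain rfl := Finset.HasAntidiagonal.mem_antidiagonal.mp hij
        rw [add_assoc, pow_add]
        exact Ideal.mul_mem_mul (r.2 ij.1) (h1 ij.2)
    intro g hg
    induction hg using Submodule.span_induction with
    | mem g hg =>
      intro p hp n
      have h1 := h𝔪 _ (Ideal.Quotient.eq.mp (hp.trans (hga g (htT hg)))) n
      have h2 : (monomial (d g) (a g)).coeff n ∈ J := by
        rw [coeff_monomial]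
        split_ifs
        · exact Ideal.subset_span (Finset.mem_image_of_mem a hg)
        · exact zero_mem _
      have h3 := (Ideal.mem_sup_left (T := m ^ (n + 1)) h2)
      rw [Subalgebra.coe_sub, coeff_sub] at h1
      simpa using add_mem (Ideal.mem_sup_right (S := J) h1) h3
    | zero =>
      intro p hp n
      exact Ideal.mem_sup_right (h𝔪 p (Ideal.Quotient.eq_zero_iff_mem.mp hp) n)
    | add g g' _ _ h1 h2 =>
      intro p hp n
      obtain ⟨q, hq⟩ := Ideal.Quotient.mk_surjective g
      have h3 := h2 (p - q) (by rw [map_sub, hp, hq, add_sub_cancel_left]) n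
      rw [Subalgebra.coe_sub, coeff_sub] at h3
      simpa using add_mem h3 (h1 q hq n)
    | smul r g _ h1 =>
      intro p hp n
      obtain ⟨q, hq⟩ := Ideal.Quotient.mk_surjective g
      obtain ⟨r', rfl⟩ := Ideal.Quotient.mk_surjective r
      have h3 := h𝔪 _ (Ideal.Quotient.eq.mp (hp.trans (show _ = Ideal.Quotient.mk 𝔪 (r' * q) by
        rw [smul_eq_mul, map_mul, hq]))) n
      have h4 : ((r' * q : Rees) : S[X]).coeff n ∈ J ⊔ m ^ (n + 1) := by
        rw [Subalgebra.coe_mul, coeff_mul]
        refine Ideal.sum_mem _ fun ij hij => ?_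
        obtain rfl := Finset.HasAntidiagonal.mem_antidiagonal.mp hij
        obtain ⟨j, hj, z, hz, hjz⟩ := Submodule.mem_sup.mp (h1 q hq ij.2)
        rw [← hjz, mul_add, add_assoc, pow_add]
        exact Submodule.add_mem_sup (Ideal.mul_mem_left _ _ hj) (Ideal.mul_mem_mul (r'.2 ij.1) hz)
      rw [Subalgebra.coe_sub, coeff_sub] at h3
      simpa using add_mem (Ideal.mem_sup_right (S := J) h3) h4
  have step : ∀ n, ∀ x ∈ I, ∃ j ∈ J, x - j ∈ m ^ n := by
    intro n
    induction n with
    | zero => exact fun x _ => ⟨0, zero_mem _, by simp⟩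
    | succ n ih =>
      intro x hx
      obtain ⟨j, hj, hxj⟩ := ih x hx
      have hmem : Ideal.Quotient.mk 𝔪 ⟨monomial n (x - j), reesAlgebra.monomial_mem.mpr hxj⟩ ∈
          Submodule.span G (t : Set G) :=
        ht ▸ Submodule.subset_span ⟨n, x - j, hxj, I.sub_mem hx (hJI hj), rfl⟩
      have h1 := key _ hmem _ rfl n
      rw [coeff_monomial, if_pos rfl] at h1
      obtain ⟨j', hj', z, hz, hjz⟩ := Submodule.mem_sup.mp h1
      refine ⟨j + j', add_mem hj hj', ?_⟩
      rwa [show x - (j + j') = z by linear_combination -hjz]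
  have : I = J := le_antisymm (fun x hx => h J ⟨t.image a, rfl⟩ x fun n => by
    obtain ⟨j, hj, hxj⟩ := step n x hx
    exact Submodule.mem_sup.mpr ⟨j, hj, x - j, hxj, by ring⟩) hJI
  exact this ▸ ⟨t.image a, rfl⟩

/-- Noetherianity descends along faithfully flat homomorphisms. -/
theorem isNoetherianRing_of_faithfullyFlat (A : Type v) [CommRing A] [Algebra A S]
    [Module.FaithfullyFlat A S] [IsNoetherianRing S] : IsNoetherianRing A := by
  refine isNoetherian_iff'.mpr (StrictMono.wellFoundedGT (f := Ideal.map (algebraMap A S)) ?_)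
  refine Monotone.strictMono_of_injective (fun I J h => Ideal.map_mono h) fun I J h => ?_
  rw [← Ideal.comap_map_eq_self_of_faithfullyFlat (B := S) I, h,
    Ideal.comap_map_eq_self_of_faithfullyFlat]

/-- Adically approximable elements of extended ideals lie in them, for flat local situations over a
Noetherian ring. -/
theorem mem_map_of_forall_mem_sup {A : Type v} [CommRing A] [IsNoetherianRing A] [IsLocalRing S]
    [Algebra A S] [Module.Flat A S] (a J : Ideal A)
    (ha : a.map (algebraMap A S) ≤ IsLocalRing.maximalIdeal S) {z : A}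
    (h : ∀ n : ℕ, algebraMap A S z ∈ (J ⊔ a ^ n).map (algebraMap A S)) :
    algebraMap A S z ∈ J.map (algebraMap A S) := by
  set p := (IsLocalRing.maximalIdeal S).comap (algebraMap A S)
  let L := Localization.AtPrime p
  have hu : ∀ y : p.primeCompl, IsUnit (algebraMap A S y) := fun y =>
    IsLocalRing.notMem_maximalIdeal.mp y.2
  let f : L →+* S := IsLocalization.lift hu
  let : Algebra L S := f.toAlgebra
  have : IsScalarTower A L S :=
    IsScalarTower.of_algebraMap_eq fun y => (IsLocalization.lift_eq hu y).symm
  have : Module.Flat L S := (Module.flat_iff_of_isLocalization L p.primeCompl S).mpr inferInstance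
  have : IsLocalHom (algebraMap L S) := ⟨fun y hy => by
    obtain ⟨x, s, rfl⟩ := IsLocalization.exists_mk'_eq p.primeCompl y
    refine IsLocalization.AtPrime.isUnit_mk'_iff L p x s |>.mpr fun hx => ?_
    have h1 := congrArg (algebraMap L S) (IsLocalization.mk'_spec L x s)
    rw [map_mul, ← IsScalarTower.algebraMap_apply, ← IsScalarTower.algebraMap_apply] at h1
    exact hx (h1 ▸ (hy.mul (hu s)))⟩
  have : Module.FaithfullyFlat L S := Module.FaithfullyFlat.of_flat_of_isLocalHom
  have hK : ∀ K : Ideal A, algebraMap A S z ∈ K.map (algebraMap A S) →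
      algebraMap A L z ∈ K.map (algebraMap A L) := fun K hz => by
    rw [IsScalarTower.algebraMap_apply A L S, IsScalarTower.algebraMap_eq A L S, ← Ideal.map_map,
      ← Ideal.mem_comap, Ideal.comap_map_eq_self_of_faithfullyFlat] at hz
    exact hz
  set JL := J.map (algebraMap A L)
  set aL := a.map (algebraMap A L)
  have haL : aL ≤ IsLocalRing.maximalIdeal L := by
    rw [Ideal.map_le_iff_le_comap]
    intro y hy
    rw [Ideal.mem_comap, IsLocalization.AtPrime.to_map_mem_maximal_iff L p y]
    exact ha (Ideal.mem_map_of_mem _ hy)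
  have hz : algebraMap A L z ∈ JL := by
    rcases eq_or_ne JL ⊤ with htop | htop
    · rw [htop]; trivial
    have : Nontrivial (L ⧸ JL) := Ideal.Quotient.nontrivial_iff.mpr htop
    have : IsLocalRing (L ⧸ JL) := IsLocalRing.of_surjective' _ Ideal.Quotient.mk_surjective
    have : IsNoetherianRing (L ⧸ JL) :=
      isNoetherianRing_of_surjective L _ (Ideal.Quotient.mk JL) Ideal.Quotient.mk_surjective
    have hne : aL.map (Ideal.Quotient.mk JL) ≠ ⊤ := fun htop' => by
      have := Ideal.comap_map_of_surjective (Ideal.Quotient.mk JL) Ideal.Quotient.mk_surjective aL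
      rw [htop', Ideal.comap_top, ← RingHom.ker_eq_comap_bot, Ideal.mk_ker] at this
      have hle : aL ⊔ JL ≤ IsLocalRing.maximalIdeal L :=
        sup_le haL (IsLocalRing.le_maximalIdeal htop)
      rw [← this] at hle
      exact (IsLocalRing.maximalIdeal.isMaximal L).ne_top (top_le_iff.mp hle)
    rw [← Ideal.Quotient.eq_zero_iff_mem, ← Ideal.mem_bot,
      ← Ideal.iInf_pow_eq_bot_of_isLocalRing _ hne, Ideal.mem_iInf]
    intro n
    have h1 := hK _ (h n)
    rw [Ideal.map_sup, Ideal.map_pow] at h1
    have h2 := Ideal.mem_map_of_mem (Ideal.Quotient.mk JL) h1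
    rw [Ideal.map_sup, Ideal.map_quotient_self, bot_sup_eq, Ideal.map_pow] at h2
    exact h2
  have h1 := Ideal.mem_map_of_mem (algebraMap L S) hz
  rwa [Ideal.map_map, ← IsScalarTower.algebraMap_eq, ← IsScalarTower.algebraMap_apply] at h1

end Groth.Agent.Lib.Henselian.NoetherianCriterion
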