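import Groth.Agent.Lib.Henselian.Pointed
import Groth.Agent.Lib.Henselian.NoetherianCriterion
import Groth.Agent.H56.AbsFlat
import Mathlib.RingTheory.Unramified.LocalStructure
import Mathlib.RingTheory.TensorProduct.Quotient

/-!
# Properties of `Lim A Ω`

* `flat_of_etale`: the colimit is flat over each étale algebra mapping to it
* `isNoetherianRing_lim`, `eq_of_le_of_comap_eq`, `isReduced_lim`
-/

universe u

open TensorProduct
open Groth.Agent.Lib.Henselian.Basic Groth.Agent.Lib.Henselian.Etale Groth.Agent.Lib.Henselian.Pointed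

namespace Groth.Agent.Lib.Henselian.LimProps

variable {A : Type u} [CommRing A] {Ω : Type u} [CommRing Ω] [Algebra A Ω]

/-- Above every stage there is a stage flat over a given étale algebra mapping to the colimit. -/
lemma exists_flat_stage {A' : Type u} [CommRing A'] [Algebra A A'] [Algebra.Etale A A']
    (φ : A' →ₐ[A] Lim A Ω) (i : Pt A Ω) :
    ∃ (k : Pt A Ω) (_ : i ≤ k) (ι : A' →ₐ[A] k.Loc),
      (Lim.of k).comp ι = φ ∧ ι.toRingHom.Flat := by
  let γ : A' ⊗[A] i.Alg →ₐ[A] Ω := Algebra.TensorProduct.productMap ((Lim.α A Ω).comp φ) i.pt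
  have : Algebra.Etale A (A' ⊗[A] i.Alg) := Algebra.Etale.comp A A' _
  obtain ⟨k, e, he⟩ := Pt.exists_ofAlgebra A Ω (A' ⊗[A] i.Alg) γ
  let ψ : A' ⊗[A] i.Alg →ₐ[A] k.Loc := (IsScalarTower.toAlgHom A k.Alg k.Loc).comp e.toAlgHom
  have hψ : ∀ z, k.α (ψ z) = γ z := fun z => by
    rw [← he]
    exact Pt.α_algebraMap k (e z)
  obtain ⟨g, hg, -⟩ := Pt.exists_locMap (i := i) k.α (ψ.comp Algebra.TensorProduct.includeRight)
    (AlgHom.ext fun x => (hψ (1 ⊗ₜ x)).trans (by simp [γ]))
  refine ⟨k, ⟨⟨g, hg⟩⟩, ψ.comp Algebra.TensorProduct.includeLeft, ?_, ?_⟩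
  · refine algHom_ext_of_isLocalHom (Lim.α A Ω : Lim A Ω →+* Ω) _ _ fun x => ?_
    show Lim.α A Ω (Lim.of k (ψ (x ⊗ₜ 1))) = _
    rw [Lim.α_of, hψ]
    simp [γ]
  · have h1 : (algebraMap A' (A' ⊗[A] i.Alg)).Flat := by
      rw [RingHom.flat_algebraMap_iff]; infer_instance
    have h2 : e.toAlgHom.toRingHom.Flat :=
      RingHom.Flat.of_bijective e.bijective
    have h3 : (algebraMap k.Alg k.Loc).Flat := by
      rw [RingHom.flat_algebraMap_iff]
      exact IsLocalization.flat k.Loc k.units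
    have h12 := RingHom.Flat.comp h1 h2
    have h123 := RingHom.Flat.comp h12 h3
    have heq : (ψ.comp Algebra.TensorProduct.includeLeft).toRingHom = (algebraMap k.Alg k.Loc).comp
        (e.toAlgHom.toRingHom.comp (algebraMap A' (A' ⊗[A] i.Alg))) := RingHom.ext fun x => rfl
    rw [heq]
    exact h123

/-- The colimit is flat over every étale algebra mapping to it. -/
theorem flat_of_etale {A' : Type u} [CommRing A'] [Algebra A A'] [Algebra.Etale A A']
    (φ : A' →ₐ[A] Lim A Ω) : φ.toRingHom.Flat := by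
  classical
  let : Algebra A' (Lim A Ω) := φ.toRingHom.toAlgebra
  show Module.Flat A' (Lim A Ω)
  refine Module.Flat.of_forall_isTrivialRelation fun {l} f x h => ?_
  -- a stage containing the elements
  obtain ⟨A'', _, _, _, φ'', hφ''⟩ := Lim.exists_etale_range (Finset.univ.image x)
  choose y hy using fun k => hφ'' (Finset.mem_image_of_mem x (Finset.mem_univ k))
  obtain ⟨i, ψ, hψ⟩ := Lim.exists_factor φ''
  obtain ⟨k, hik, ι, hι, -⟩ := exists_flat_stage φ i
  set w : Fin l → k.Loc := fun j => Pt.trans hik (ψ (y j))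
  have hw : ∀ j, Lim.of k (w j) = x j := fun j => by
    rw [Lim.of_trans, ← hy j, ← hψ]
    rfl
  have hz : Lim.of k (∑ j, ι (f j) * w j) = Lim.of k 0 := by
    rw [map_zero, map_sum, ← h]
    refine Finset.sum_congr rfl fun j _ => ?_
    rw [map_mul, hw]
    exact congrArg (· * x j) (AlgHom.congr_fun hι (f j))
  obtain ⟨m, hkm, hkm', hm⟩ := Lim.exists_trans_eq hz
  obtain ⟨k', hmk', ι', hι', hflat⟩ := exists_flat_stage φ m
  have hcomp : ∀ a, Pt.trans (hkm.trans hmk') (ι a) = ι' a := fun a => by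
    refine AlgHom.congr_fun (algHom_ext_of_isLocalHom (k'.α : k'.Loc →+* Ω)
      ((Pt.trans (hkm.trans hmk')).comp ι) ι' fun b => ?_) a
    show k'.α (Pt.trans _ (ι b)) = k'.α (ι' b)
    rw [Pt.α_trans, ← Lim.α_of k (ι b), ← Lim.α_of k' (ι' b)]
    exact congrArg (Lim.α A Ω) ((AlgHom.congr_fun hι b).trans (AlgHom.congr_fun hι' b).symm)
  let : Algebra A' k'.Loc := ι'.toRingHom.toAlgebra
  have : Module.Flat A' k'.Loc := hflat
  have hrel : ∑ j, f j • Pt.trans (hkm.trans hmk') (w j) = 0 := by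
    have h1 := congrArg (Pt.trans hmk') hm
    have hdir : ∀ u, Pt.trans hmk' (Pt.trans hkm u) = Pt.trans (hkm.trans hmk') u := fun u =>
      DirectedSystem.map_map (f := fun _ _ h => Pt.trans h) hkm hmk' u
    simp only [map_zero] at h1
    rw [hdir, map_sum] at h1
    refine Eq.trans (Finset.sum_congr rfl fun j _ => ?_) h1
    rw [map_mul, hcomp]
    rfl
  obtain ⟨r, a, v, hv, ha⟩ := Module.Flat.isTrivialRelation_of_sum_smul_eq_zero hrel
  refine ⟨r, a, fun j => Lim.of k' (v j), fun j => ?_, ha⟩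
  rw [← hw j, ← Lim.of_trans (hkm.trans hmk'), show Pt.trans (hkm.trans hmk') (w j) = _ from hv j,
    map_sum]
  refine Finset.sum_congr rfl fun s _ => ?_
  show Lim.of k' (ι' (a j s) * v s) = φ (a j s) * _
  rw [map_mul, ← hι']
  rfl

/-- The colimit over a Noetherian ring is Noetherian, if it is local with extended maximal ideal. -/
theorem isNoetherianRing_lim [IsNoetherianRing A] [IsLocalRing (Lim A Ω)] (a : Ideal A)
    (ha : a.map (algebraMap A (Lim A Ω)) = IsLocalRing.maximalIdeal (Lim A Ω)) :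
    IsNoetherianRing (Lim A Ω) := by
  classical
  have : IsNoetherianRing (Lim A Ω ⧸ IsLocalRing.maximalIdeal (Lim A Ω)) :=
    let := Ideal.Quotient.field (IsLocalRing.maximalIdeal (Lim A Ω))
    inferInstance
  refine NoetherianCriterion.isNoetherianRing_of_fg_closed (IsLocalRing.maximalIdeal (Lim A Ω))
    (ha ▸ Ideal.FG.map (IsNoetherian.noetherian a) _) fun J hJ x hx => ?_
  obtain ⟨s, rfl⟩ := hJ
  obtain ⟨A', _, _, _, φ, hφ⟩ := Lim.exists_etale_range (insert x s)
  obtain ⟨z, rfl⟩ := hφ (Finset.mem_insert_self x s)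
  have : IsNoetherianRing A' := Algebra.FiniteType.isNoetherianRing A A'
  let : Algebra A' (Lim A Ω) := φ.toRingHom.toAlgebra
  have : Module.Flat A' (Lim A Ω) := flat_of_etale φ
  let J' : Ideal A' := Ideal.span (φ ⁻¹' (s : Set (Lim A Ω)))
  have hJ' : J'.map (algebraMap A' (Lim A Ω)) = Ideal.span (s : Set (Lim A Ω)) := by
    rw [Ideal.map_span]
    congr 1
    exact Set.image_preimage_eq_of_subset fun y hy => hφ (Finset.mem_insert_of_mem hy)
  have haa : (a.map (algebraMap A A')).map (algebraMap A' (Lim A Ω)) =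
      IsLocalRing.maximalIdeal (Lim A Ω) := by
    rw [Ideal.map_map, ← ha]
    exact congrArg (fun g => Ideal.map g a) φ.comp_algebraMap
  have h1 := NoetherianCriterion.mem_map_of_forall_mem_sup (S := Lim A Ω) (a.map (algebraMap A A'))
    J' haa.le (z := z) fun n => by
      rw [Ideal.map_sup, Ideal.map_pow, hJ', haa]
      exact hx n
  rwa [hJ'] at h1

/-- The fibres of the colimit over the base are discrete. -/
theorem eq_of_le_of_comap_eq {P Q : Ideal (Lim A Ω)} [P.IsPrime] [Q.IsPrime] (hle : P ≤ Q)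
    (h : P.comap (algebraMap A (Lim A Ω)) = Q.comap (algebraMap A (Lim A Ω))) : P = Q := by
  classical
  refine le_antisymm hle fun x hx => ?_
  obtain ⟨A', _, _, _, φ, hφ⟩ := Lim.exists_etale_range {x}
  obtain ⟨z, rfl⟩ := hφ (Finset.mem_singleton_self x)
  have h' := Algebra.QuasiFinite.eq_of_le_of_under_eq (R := A) (P.comap φ.toRingHom)
    (Q.comap φ.toRingHom) (Ideal.comap_mono hle) (by
      simp only [Ideal.comap_comap, AlgHom.toRingHom_eq_coe, AlgHom.comp_algebraMap]
      exact h)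
  exact (h'.ge hx :)

/-- The colimit over a reduced ring is reduced. -/
theorem isReduced_lim [IsReduced A] : IsReduced (Lim A Ω) := by
  classical
  refine ⟨fun x ⟨n, hn⟩ => ?_⟩
  obtain ⟨A', _, _, _, φ, hφ⟩ := Lim.exists_etale_range {x}
  obtain ⟨z, rfl⟩ := hφ (Finset.mem_singleton_self x)
  rw [← map_pow] at hn
  obtain ⟨i, ψ, hψ, h0⟩ := Lim.exists_factor_eq_zero φ hn
  have : Algebra.WeaklyEtale A i.Alg := inferInstance
  have : IsReduced i.Alg := H56.AbsFlat.isReduced_of_weaklyEtale A i.Alg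
  have : IsReduced i.Loc := isReduced_localizationPreserves (R := i.Alg) i.units i.Loc inferInstance
  have : ψ z = 0 := IsReduced.eq_zero _ ⟨n, by rw [← map_pow]; exact h0⟩
  rw [← hψ, AlgHom.comp_apply, this, map_zero]

/-- Radical ideals of the base extend to radical ideals of the colimit. -/
theorem isRadical_map {a : Ideal A} (ha : a.IsRadical) :
    (a.map (algebraMap A (Lim A Ω))).IsRadical := by
  classical
  have : IsReduced (A ⧸ a) := (Ideal.isRadical_iff_quotient_reduced a).mp ha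
  rintro x ⟨n, hn⟩
  obtain ⟨A', _, _, _, φ, hφ⟩ := Lim.exists_etale_range {x}
  obtain ⟨z, rfl⟩ := hφ (Finset.mem_singleton_self x)
  obtain ⟨i, ψ, hψ⟩ := Lim.exists_factor φ
  have hφi : Lim.of i (ψ z) = φ z := AlgHom.congr_fun hψ z
  -- membership in an extended ideal is visible at a stage
  have hstage : ∀ y ∈ a.map (algebraMap A (Lim A Ω)), ∀ (j : Pt A Ω) (w : j.Loc), Lim.of j w = y →
      ∃ (k : Pt A Ω) (h : j ≤ k), Pt.trans h w ∈ a.map (algebraMap A k.Loc) := by
    intro y hy j w hw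
    obtain ⟨k, v, hv, rfl⟩ : ∃ (k : Pt A Ω) (v : k.Loc),
        v ∈ a.map (algebraMap A k.Loc) ∧ Lim.of k v = y := by
      clear hw
      induction hy using Submodule.span_induction with
      | mem y hy =>
        obtain ⟨c, hc, rfl⟩ := hy
        exact ⟨j, algebraMap A j.Loc c, Ideal.mem_map_of_mem _ hc, (Lim.of j).commutes c⟩
      | zero => exact ⟨j, 0, zero_mem _, map_zero _⟩
      | add y₁ y₂ _ _ h₁ h₂ =>
        obtain ⟨k₁, v₁, hv₁, rfl⟩ := h₁
        obtain ⟨k₂, v₂, hv₂, rfl⟩ := h₂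
        obtain ⟨k, hk₁, hk₂⟩ := exists_ge_ge k₁ k₂
        refine ⟨k, Pt.trans hk₁ v₁ + Pt.trans hk₂ v₂, add_mem ?_ ?_, by
          rw [map_add, Lim.of_trans, Lim.of_trans]⟩
        · exact map_mem hk₁ hv₁
        · exact map_mem hk₂ hv₂
      | smul r y _ h =>
        obtain ⟨k₁, v₁, hv₁, rfl⟩ := h
        obtain ⟨k₂, r, rfl⟩ := Lim.exists_of r
        obtain ⟨k, hk₁, hk₂⟩ := exists_ge_ge k₁ k₂
        refine ⟨k, Pt.trans hk₂ r * Pt.trans hk₁ v₁, Ideal.mul_mem_left _ _ (map_mem hk₁ hv₁), by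
          rw [map_mul, Lim.of_trans, Lim.of_trans]; rfl⟩
    obtain ⟨m, hjm, hkm, e⟩ := Lim.exists_trans_eq hw
    exact ⟨m, hjm, e ▸ map_mem hkm hv⟩
  obtain ⟨k, hik, hk⟩ := hstage _ hn i (ψ z ^ n) (by rw [map_pow, hφi])
  have hrad : (a.map (algebraMap A k.Loc)).IsRadical := by
    have : IsReduced ((A ⧸ a) ⊗[A] k.Alg) :=
      H56.AbsFlat.isReduced_of_weaklyEtale (A ⧸ a) ((A ⧸ a) ⊗[A] k.Alg)
    have : IsReduced (k.Alg ⧸ a.map (algebraMap A k.Alg)) :=
      isReduced_of_injective _ (Algebra.TensorProduct.quotIdealMapEquivQuotTensor k.Alg a).injective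
    have h1 := ((Ideal.isRadical_iff_quotient_reduced _).mpr this).radical
    rw [IsScalarTower.algebraMap_eq A k.Alg k.Loc, ← Ideal.map_map, ← h1,
      IsLocalization.map_radical k.units]
    exact Ideal.radical_isRadical _
  have h2 : Pt.trans hik (ψ z) ∈ a.map (algebraMap A k.Loc) := hrad ⟨n, by rwa [← map_pow]⟩
  have h3 := Ideal.mem_map_of_mem (Lim.of k).toRingHom h2
  rw [Ideal.map_map, AlgHom.toRingHom_eq_coe, AlgHom.comp_algebraMap] at h3
  rw [← hφi, ← Lim.of_trans hik]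
  exact h3
where
  map_mem {a : Ideal A} {j k : Pt A Ω} (h : j ≤ k) {v : j.Loc}
      (hv : v ∈ a.map (algebraMap A j.Loc)) : Pt.trans h v ∈ a.map (algebraMap A k.Loc) := by
    have h1 := Ideal.mem_map_of_mem (Pt.trans h).toRingHom hv
    rwa [Ideal.map_map, AlgHom.toRingHom_eq_coe, AlgHom.comp_algebraMap] at h1

end Groth.Agent.Lib.Henselian.LimProps
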