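import Groth.Agent.Lib.Henselian.Henselization
import Groth.Agent.Lib.Henselian.StrictHenselization
import Groth.Agent.Lib.Henselian.LimProps
import Mathlib.RingTheory.KrullDimension.Basic
import Mathlib.RingTheory.Flat.FaithfullyFlat.Algebra
import Mathlib.RingTheory.Ideal.GoingDown

/-!
# Permanence properties of (strict) henselization

Noetherianity, reducedness and dimension, for any `Hensel.IsHenselization R S` and any
`Hensel.IsStrictHenselization R S`.
-/

universe u

open IsLocalRing

namespace Groth.Agent.Lib.Henselian.Permanence

variable (R : Type u) [CommRing R] [IsLocalRing R] (S : Type u) [CommRing S] [IsLocalRing S]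
  [Algebra R S] [IsLocalHom (algebraMap R S)]

section Henselization

variable [Hensel.IsHenselization R S]

theorem isNoetherianRing [IsNoetherianRing R] : IsNoetherianRing S := by
  have : IsNoetherianRing (Henselization.Henselization R) :=
    LimProps.isNoetherianRing_lim (maximalIdeal R) (Henselization.map_maximalIdeal_self R)
  exact isNoetherianRing_of_ringEquiv _ (Henselization.equivOfIsHenselization R S).toRingEquiv

theorem isNoetherianRing_iff : IsNoetherianRing R ↔ IsNoetherianRing S := by
  refine ⟨fun _ => isNoetherianRing R S, fun _ => ?_⟩
  have := Henselization.faithfullyFlat R S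
  exact NoetherianCriterion.isNoetherianRing_of_faithfullyFlat (S := S) R

theorem isReduced_iff : IsReduced R ↔ IsReduced S := by
  have := Henselization.faithfullyFlat R S
  refine ⟨fun _ => ?_, fun _ => isReduced_of_injective (algebraMap R S)
    (FaithfulSMul.algebraMap_injective R S)⟩
  have : IsReduced (Henselization.Henselization R) := LimProps.isReduced_lim
  exact isReduced_of_injective _ (Henselization.equivOfIsHenselization R S).symm.injective

theorem eq_of_le_of_comap_eq {P Q : Ideal S} [P.IsPrime] [Q.IsPrime] (hle : P ≤ Q)
    (h : P.comap (algebraMap R S) = Q.comap (algebraMap R S)) : P = Q := by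
  let e := Henselization.equivOfIsHenselization R S
  refine Ideal.comap_injective_of_surjective (e : Henselization.Henselization R →+* S) e.surjective ?_
  refine LimProps.eq_of_le_of_comap_eq (Ideal.comap_mono hle) ?_
  rw [Ideal.comap_comap, Ideal.comap_comap,
    show (e : Henselization.Henselization R →+* S).comp (algebraMap R _) = algebraMap R S from
      e.toAlgHom.comp_algebraMap]
  exact h

theorem isRadical_map {a : Ideal R} (ha : a.IsRadical) : (a.map (algebraMap R S)).IsRadical := by
  let e := Henselization.equivOfIsHenselization R S
  rw [show algebraMap R S = (e : Henselization.Henselization R →+* S).comp (algebraMap R _) from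
    e.toAlgHom.comp_algebraMap.symm, ← Ideal.map_map,
    show ((a.map (algebraMap R _)).map (e : Henselization.Henselization R →+* S)) =
      (a.map (algebraMap R _)).comap (e.symm.toRingEquiv : S →+* Henselization.Henselization R) from
      Ideal.map_comap_of_equiv e.toRingEquiv]
  exact (LimProps.isRadical_map ha).comap _

end Henselization

section Strict

variable [Hensel.IsStrictHenselization R S]

theorem strict_isNoetherianRing [IsNoetherianRing R] : IsNoetherianRing S := by
  have : IsNoetherianRing (StrictHenselization.StrictHenselization R) :=
    LimProps.isNoetherianRing_lim (maximalIdeal R) (StrictHenselization.map_maximalIdeal_self R)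
  exact isNoetherianRing_of_ringEquiv _
    (StrictHenselization.equivOfIsStrictHenselization R S).toRingEquiv

theorem strict_isNoetherianRing_iff : IsNoetherianRing R ↔ IsNoetherianRing S := by
  refine ⟨fun _ => strict_isNoetherianRing R S, fun _ => ?_⟩
  have := StrictHenselization.faithfullyFlat R S
  exact NoetherianCriterion.isNoetherianRing_of_faithfullyFlat (S := S) R

theorem strict_isReduced_iff : IsReduced R ↔ IsReduced S := by
  have := StrictHenselization.faithfullyFlat R S
  refine ⟨fun _ => ?_, fun _ => isReduced_of_injective (algebraMap R S)
    (FaithfulSMul.algebraMap_injective R S)⟩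
  have : IsReduced (StrictHenselization.StrictHenselization R) := LimProps.isReduced_lim
  exact isReduced_of_injective _
    (StrictHenselization.equivOfIsStrictHenselization R S).symm.injective

theorem strict_eq_of_le_of_comap_eq {P Q : Ideal S} [P.IsPrime] [Q.IsPrime] (hle : P ≤ Q)
    (h : P.comap (algebraMap R S) = Q.comap (algebraMap R S)) : P = Q := by
  let e := StrictHenselization.equivOfIsStrictHenselization R S
  refine Ideal.comap_injective_of_surjective
    (e : StrictHenselization.StrictHenselization R →+* S) e.surjective ?_
  refine LimProps.eq_of_le_of_comap_eq (Ideal.comap_mono hle) ?_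
  rw [Ideal.comap_comap, Ideal.comap_comap,
    show (e : StrictHenselization.StrictHenselization R →+* S).comp (algebraMap R _) =
      algebraMap R S from e.toAlgHom.comp_algebraMap]
  exact h

theorem strict_isRadical_map {a : Ideal R} (ha : a.IsRadical) :
    (a.map (algebraMap R S)).IsRadical := by
  let e := StrictHenselization.equivOfIsStrictHenselization R S
  rw [show algebraMap R S =
    (e : StrictHenselization.StrictHenselization R →+* S).comp (algebraMap R _) from
    e.toAlgHom.comp_algebraMap.symm, ← Ideal.map_map,
    show ((a.map (algebraMap R _)).map (e : StrictHenselization.StrictHenselization R →+* S)) =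
      (a.map (algebraMap R _)).comap
        (e.symm.toRingEquiv : S →+* StrictHenselization.StrictHenselization R) from
      Ideal.map_comap_of_equiv e.toRingEquiv]
  exact (LimProps.isRadical_map ha).comap _

end Strict

omit [IsLocalRing S] [IsLocalHom (algebraMap R S)] [IsLocalRing R] in
/-- A faithfully flat map with discrete fibres preserves the dimension. -/
theorem ringKrullDim_eq_of_discrete_fibres [Module.FaithfullyFlat R S]
    (h : ∀ {P Q : Ideal S} [P.IsPrime] [Q.IsPrime], P ≤ Q →
      P.comap (algebraMap R S) = Q.comap (algebraMap R S) → P = Q) :
    ringKrullDim S = ringKrullDim R := by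
  refine le_antisymm ?_ ?_
  · refine Order.krullDim_le_of_strictMono (PrimeSpectrum.comap (algebraMap R S)) fun P Q hPQ => ?_
    have hle : PrimeSpectrum.comap (algebraMap R S) P ≤ PrimeSpectrum.comap (algebraMap R S) Q :=
      Ideal.comap_mono hPQ.le
    exact lt_of_le_of_ne hle fun he => hPQ.ne (PrimeSpectrum.ext
      (h hPQ.le (congrArg PrimeSpectrum.asIdeal he)))
  · refine iSup_le fun l => ?_
    obtain ⟨Q, hQ⟩ := PrimeSpectrum.comap_surjective_of_faithfullyFlat (A := R) (B := S) l.last
    have : Q.asIdeal.LiesOver l.last.asIdeal := ⟨(congrArg PrimeSpectrum.asIdeal hQ).symm⟩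
    obtain ⟨L, hL, -, -⟩ :=
      Ideal.exists_ltSeries_of_hasGoingDown l Q.asIdeal
    exact le_iSup_of_le L (by rw [hL])

theorem ringKrullDim_eq [Hensel.IsHenselization R S] : ringKrullDim S = ringKrullDim R :=
  have := Henselization.faithfullyFlat R S
  ringKrullDim_eq_of_discrete_fibres R S (eq_of_le_of_comap_eq R S)

theorem strict_ringKrullDim_eq [Hensel.IsStrictHenselization R S] :
    ringKrullDim S = ringKrullDim R :=
  have := StrictHenselization.faithfullyFlat R S
  ringKrullDim_eq_of_discrete_fibres R S (strict_eq_of_le_of_comap_eq R S)

end Groth.Agent.Lib.Henselian.Permanence
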