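import Groth.Agent.Lib.Henselian.Pointed
import Groth.Agent.Lib.Henselian.LocalRing
import Groth.Prelude.Def_Hensel
import Mathlib.RingTheory.LocalRing.RingHom.Basic
import Mathlib.RingTheory.Flat.FaithfullyFlat.Algebra

/-!
# Henselization of pairs and of local rings

* `henselianRing_map`, `existsUnique_ringHom`: for `algebraMap A Ω` surjective with kernel `I`,
  `Lim A Ω` is the henselization of the pair `(A, I)`
* `Henselization R`, `isHenselization` and the comparison `equivOfIsHenselization`
* properties of any `Hensel.IsHenselization R S`: `map_maximalIdeal`, `residue_bijective`,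
  `faithfullyFlat`, `quotientMap_pow_bijective`
-/

universe u

open IsLocalRing
open Groth.Agent.Lib.Henselian.Basic Groth.Agent.Lib.Henselian.Pointed

namespace Groth.Agent.Lib.Henselian.Henselization

section Pair

variable {A : Type u} [CommRing A] {Ω : Type u} [CommRing Ω] [Algebra A Ω]

lemma α_surjective (h : Function.Surjective (algebraMap A Ω)) :
    Function.Surjective (Lim.α A Ω) := fun q => by
  obtain ⟨a, rfl⟩ := h q
  exact ⟨algebraMap A _ a, (Lim.α A Ω).commutes a⟩

theorem henselianRing_map (h : Function.Surjective (algebraMap A Ω)) :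
    HenselianRing (Lim A Ω) ((RingHom.ker (algebraMap A Ω)).map (algebraMap A (Lim A Ω))) := by
  rw [← Lim.ker_α_eq_map h]
  exact Lim.henselianRing_ker

/-- The universal property of the henselization of a pair. -/
theorem existsUnique_ringHom (h : Function.Surjective (algebraMap A Ω)) {C : Type u} [CommRing C]
    (J : Ideal C) [HenselianRing C J] (f : A →+* C)
    (hf : (RingHom.ker (algebraMap A Ω)).map f ≤ J) :
    ∃! g : Lim A Ω →+* C, g.comp (algebraMap A (Lim A Ω)) = f := by
  let : Algebra A C := f.toAlgebra
  let e : (A ⧸ RingHom.ker (algebraMap A Ω)) ≃ₐ[A] Ω :=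
    Ideal.quotientKerAlgEquivOfSurjective (f := Algebra.ofId A Ω) h
  let θ₁ : A ⧸ RingHom.ker (algebraMap A Ω) →ₐ[A] C ⧸ J :=
    Ideal.Quotient.liftₐ _ (Algebra.ofId A _) fun a ha => by
      rw [Algebra.ofId_apply, IsScalarTower.algebraMap_apply A C (C ⧸ J),
        Ideal.Quotient.algebraMap_eq, Ideal.Quotient.eq_zero_iff_mem]
      exact hf (Ideal.mem_map_of_mem _ ha)
  let θ : Ω →ₐ[A] C ⧸ J := θ₁.comp e.symm.toAlgHom
  obtain ⟨g, hg, huniq⟩ := Lim.existsUnique_lift J θ
  refine ⟨g.toRingHom, g.comp_algebraMap, fun g' hg' => ?_⟩
  let g'' : Lim A Ω →ₐ[A] C := ⟨g', fun a => RingHom.congr_fun hg' a⟩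
  have : g'' = g := huniq g'' (AlgHom.ext fun x => by
    obtain ⟨a, ha⟩ := h (Lim.α A Ω x)
    have hmem : x - algebraMap A (Lim A Ω) a ∈ RingHom.ker (Lim.α A Ω : Lim A Ω →+* Ω) := by
      rw [RingHom.mem_ker, map_sub]
      exact sub_eq_zero.mpr (ha.symm.trans ((Lim.α A Ω).commutes a).symm)
    rw [Lim.ker_α_eq_map h] at hmem
    have h1 := Ideal.mem_map_of_mem g' hmem
    rw [Ideal.map_map, hg'] at h1
    have h2 : Ideal.Quotient.mk J (g' x) = Ideal.Quotient.mk J (f a) := by
      rw [Ideal.Quotient.eq, ← RingHom.congr_fun hg' a, RingHom.comp_apply, ← map_sub]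
      exact hf h1
    change Ideal.Quotient.mk J (g' x) = θ (Lim.α A Ω x)
    rw [h2, ← ha, AlgHom.commutes]
    rfl)
  rw [← this]

end Pair

section Local

variable (R : Type u) [CommRing R] [IsLocalRing R]

set_option linter.dupNamespace false in
/-- The henselization of a local ring. -/
abbrev Henselization : Type u := Lim R (ResidueField R)

lemma algebraMap_residueField_surjective : Function.Surjective (algebraMap R (ResidueField R)) :=
  residue_surjective

lemma ker_algebraMap_residueField : RingHom.ker (algebraMap R (ResidueField R)) = maximalIdeal R :=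
  ker_residue

instance instIsLocalRing : IsLocalRing (Henselization R) :=
  RingHom.domain_isLocalRing (Lim.α R (ResidueField R) : Henselization R →+* ResidueField R)

lemma map_maximalIdeal_self :
    (maximalIdeal R).map (algebraMap R (Henselization R)) = maximalIdeal (Henselization R) := by
  rw [← ker_algebraMap_residueField R, ← Lim.ker_α_eq_map (algebraMap_residueField_surjective R)]
  exact ker_eq_maximalIdeal _ (α_surjective (algebraMap_residueField_surjective R))

instance instHenselianLocalRing : HenselianLocalRing (Henselization R) := by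
  have := henselianRing_map (algebraMap_residueField_surjective R)
  rw [ker_algebraMap_residueField, map_maximalIdeal_self] at this
  exact LocalRing.henselianLocalRing_of_henselianRing

instance instIsLocalHom : IsLocalHom (algebraMap R (Henselization R)) where
  map_nonunit a ha := by
    have h := ha.map (Lim.α R (ResidueField R))
    rw [AlgHom.commutes] at h
    exact IsUnit.of_map (residue R) a h

instance isHenselization : Hensel.IsHenselization R (Henselization R) where
  henselian := inferInstance
  universal T _ _ f hf := by
    refine existsUnique_ringHom (algebraMap_residueField_surjective R) (maximalIdeal T) f ?_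
    rw [ker_algebraMap_residueField]
    exact ((local_hom_TFAE f).out 0 2).mp hf

variable (S : Type u) [CommRing S] [IsLocalRing S] [Algebra R S] [IsLocalHom (algebraMap R S)]
  [hS : Hensel.IsHenselization R S]

/-- Any henselization is isomorphic to `Henselization R`. -/
noncomputable def equivOfIsHenselization : Henselization R ≃ₐ[R] S := by
  have := hS.henselian
  let f := (Hensel.IsHenselization.universal (R := R) (S := Henselization R) S (algebraMap R S)
    inferInstance).exists.choose
  have hf : f.comp (algebraMap R (Henselization R)) = algebraMap R S :=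
    (Hensel.IsHenselization.universal (R := R) (S := Henselization R) S (algebraMap R S)
      inferInstance).exists.choose_spec
  let g := (hS.universal (Henselization R) (algebraMap R (Henselization R)) inferInstance).exists.choose
  have hg : g.comp (algebraMap R S) = algebraMap R (Henselization R) :=
    (hS.universal (Henselization R) (algebraMap R (Henselization R)) inferInstance).exists.choose_spec
  have h1 : g.comp f = RingHom.id _ :=
    (Hensel.IsHenselization.universal (R := R) (S := Henselization R) (Henselization R)
      (algebraMap R (Henselization R)) inferInstance).unique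
      (by rw [RingHom.comp_assoc, hf, hg]) (RingHom.id_comp _)
  have h2 : f.comp g = RingHom.id _ :=
    (hS.universal S (algebraMap R S) inferInstance).unique
      (by rw [RingHom.comp_assoc, hg, hf]) (RingHom.id_comp _)
  exact AlgEquiv.ofRingEquiv (f := RingEquiv.ofRingHom f g h2 h1) fun x => RingHom.congr_fun hf x

/-- The maximal ideal of a henselization is extended. -/
theorem map_maximalIdeal : (maximalIdeal R).map (algebraMap R S) = maximalIdeal S := by
  let e := equivOfIsHenselization R S
  have h : algebraMap R S = (e : Henselization R →+* S).comp (algebraMap R (Henselization R)) :=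
    (e.toAlgHom.comp_algebraMap).symm
  rw [h, ← Ideal.map_map, map_maximalIdeal_self]
  exact IsLocalRing.map_maximalIdeal_of_surjective _ e.surjective

/-- A henselization is flat. -/
theorem flat : Module.Flat R S :=
  Module.Flat.of_linearEquiv (equivOfIsHenselization R S).symm.toLinearEquiv

/-- A henselization is faithfully flat. -/
theorem faithfullyFlat : Module.FaithfullyFlat R S :=
  have := flat R S
  Module.FaithfullyFlat.of_flat_of_isLocalHom

/-- Every element of a henselization is congruent to an element of the ring. -/
theorem exists_sub_mem (x : S) : ∃ r : R, x - algebraMap R S r ∈ maximalIdeal S := by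
  let e := equivOfIsHenselization R S
  obtain ⟨r, hr⟩ := algebraMap_residueField_surjective R (Lim.α R (ResidueField R) (e.symm x))
  refine ⟨r, ?_⟩
  rw [← IsLocalRing.map_maximalIdeal_of_surjective (e : Henselization R →+* S) e.surjective,
    ← ker_eq_maximalIdeal _ (α_surjective (algebraMap_residueField_surjective R))]
  have h : e (e.symm x - algebraMap R _ r) = x - algebraMap R S r := by simp
  rw [← h]
  refine Ideal.mem_map_of_mem _ ?_
  rw [RingHom.mem_ker, map_sub]
  exact sub_eq_zero.mpr (hr.symm.trans ((Lim.α R (ResidueField R)).commutes r).symm)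

theorem residue_bijective : Function.Bijective (ResidueField.map (algebraMap R S)) := by
  refine ⟨RingHom.injective _, fun x => ?_⟩
  obtain ⟨x, rfl⟩ := residue_surjective x
  obtain ⟨r, hr⟩ := exists_sub_mem R S x
  refine ⟨residue R r, ?_⟩
  rw [ResidueField.map_residue]
  exact (Ideal.Quotient.eq.mpr hr).symm

theorem quotientMap_pow_bijective (n : ℕ) :
    Function.Bijective (Ideal.quotientMap ((maximalIdeal R ^ n).map (algebraMap R S))
      (algebraMap R S) Ideal.le_comap_map) := by
  have := faithfullyFlat R S
  refine ⟨Ideal.quotientMap_injective' ?_, ?_⟩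
  · rw [Ideal.comap_map_eq_self_of_faithfullyFlat]
  have key : ∀ (k : ℕ), ∀ x ∈ (maximalIdeal R ^ k).map (algebraMap R S), ∃ r : R,
      x - algebraMap R S r ∈ (maximalIdeal R ^ (k + 1)).map (algebraMap R S) := by
    intro k x hx
    induction hx using Submodule.span_induction with
    | mem y hy =>
      obtain ⟨r, -, rfl⟩ := hy
      exact ⟨r, by simp⟩
    | zero => exact ⟨0, by simp⟩
    | add y z _ _ h1 h2 =>
      obtain ⟨r, hr⟩ := h1
      obtain ⟨r', hr'⟩ := h2
      refine ⟨r + r', ?_⟩
      rw [map_add, add_sub_add_comm]
      exact add_mem hr hr'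
    | smul c y hy h1 =>
      obtain ⟨r, hr⟩ := h1
      obtain ⟨c', hc'⟩ := exists_sub_mem R S c
      refine ⟨c' * r, ?_⟩
      rw [smul_eq_mul, map_mul, show c * y - algebraMap R S c' * algebraMap R S r
        = (c - algebraMap R S c') * y + algebraMap R S c' * (y - algebraMap R S r) by ring]
      refine add_mem ?_ (Ideal.mul_mem_left _ _ hr)
      rw [← map_maximalIdeal R S] at hc'
      have h := Ideal.mul_mem_mul hc' (show y ∈ (maximalIdeal R ^ k).map (algebraMap R S) from hy)
      rw [← Ideal.map_mul, ← pow_succ'] at h
      exact h
  have surj : ∀ (k : ℕ), ∀ x : S, ∃ r : R,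
      x - algebraMap R S r ∈ (maximalIdeal R ^ k).map (algebraMap R S) := by
    intro k x
    induction k with
    | zero => exact ⟨0, by rw [pow_zero, Ideal.one_eq_top, Ideal.map_top]; trivial⟩
    | succ k ih =>
      obtain ⟨r, hr⟩ := ih
      obtain ⟨r', hr'⟩ := key k _ hr
      exact ⟨r + r', by rwa [map_add, ← sub_sub]⟩
  intro x
  obtain ⟨x, rfl⟩ := Ideal.Quotient.mk_surjective x
  obtain ⟨r, hr⟩ := surj n x
  exact ⟨Ideal.Quotient.mk _ r, by rw [Ideal.quotientMap_mk, eq_comm, Ideal.Quotient.eq]; exact hr⟩

end Local

end Groth.Agent.Lib.Henselian.Henselization
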