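import Groth.Agent.Lib.Henselian.Basic
import Mathlib.RingTheory.ZariskisMainTheorem
import Mathlib.RingTheory.Unramified.Finite
import Mathlib.RingTheory.Unramified.LocalStructure
import Mathlib.RingTheory.Etale.StandardEtale
import Mathlib.RingTheory.Ideal.IdempotentFG
import Mathlib.RingTheory.FinitePresentation

/-!
# Henselian pairs and étale algebras

* `algHom_ext_of_isLocalHom`: maps out of an unramified algebra agreeing after a local hom are equal
* `exists_algHom_lift`, `existsUnique_algHom_lift`: if `A` is henselian at `I`, maps from an étale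
  algebra to `A/I` lift uniquely to `A`
* `henselianRing_of_algHom_lift`, `henselianRing_of_cyclicLift`: converses
-/

universe u v w

open Polynomial TensorProduct Filter
open Groth.Agent.Lib.Henselian.Basic

namespace Groth.Agent.Lib.Henselian.Etale

/-- Two maps out of an unramified algebra which agree after composing with a local homomorphism are
equal. -/
theorem algHom_ext_of_isLocalHom {R A' C Ω : Type*} [CommRing R] [CommRing A'] [CommRing C]
    [CommRing Ω] [Algebra R A'] [Algebra R C] [Algebra.FormallyUnramified R A']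
    [Algebra.EssFiniteType R A'] (α : C →+* Ω) [IsLocalHom α] (φ ψ : A' →ₐ[R] C)
    (h : ∀ x, α (φ x) = α (ψ x)) : φ = ψ := by
  set μ := Algebra.TensorProduct.productMap φ ψ
  set ε := μ (Algebra.FormallyUnramified.elem R A')
  have hα : ∀ t : A' ⊗[R] A', α (μ t) = α (φ (Algebra.TensorProduct.lmul' R t)) := by
    intro t
    induction t using TensorProduct.induction_on with
    | zero => simp
    | tmul x y => simp [μ, h y]
    | add t t' ht ht' => simp only [map_add, ht, ht']
  have hε : IsUnit ε := by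
    refine IsUnit.of_map α ε ?_
    rw [hα, Algebra.FormallyUnramified.lmul_elem, map_one, map_one]
    exact isUnit_one
  refine AlgHom.ext fun x => hε.mul_left_injective ?_
  have := congrArg μ (Algebra.FormallyUnramified.one_tmul_mul_elem (R := R) x)
  simp only [map_mul, μ, Algebra.TensorProduct.productMap_apply_tmul, map_one, one_mul,
    mul_one] at this
  exact this.symm

/-- Two maps out of an unramified algebra which agree modulo an ideal in the Jacobson radical are
equal. -/
theorem algHom_ext_of_le_jacobson {R A' C : Type*} [CommRing R] [CommRing A'] [CommRing C]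
    [Algebra R A'] [Algebra R C] [Algebra.FormallyUnramified R A'] [Algebra.EssFiniteType R A']
    {J : Ideal C} (hJ : J ≤ Ideal.jacobson ⊥) (φ ψ : A' →ₐ[R] C)
    (h : ∀ x, φ x - ψ x ∈ J) : φ = ψ := by
  have := isLocalHom_of_le_jacobson_bot J hJ
  exact algHom_ext_of_isLocalHom (Ideal.Quotient.mk J) φ ψ fun x => Ideal.Quotient.eq.mpr (h x)

variable {A : Type u} [CommRing A]

lemma exists_mem_map_of_mem_smul {A' : Type v} [CommRing A'] [Algebra A A'] (B : Subalgebra A A')
    (I : Ideal A) (z : B) (hz : (z : A') ∈ I • Subalgebra.toSubmodule B) :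
    z ∈ I.map (algebraMap A B) := by
  have h : Subalgebra.toSubmodule B = Submodule.map B.val.toLinearMap ⊤ := by
    ext x
    simp only [Subalgebra.mem_toSubmodule, Submodule.mem_map, Submodule.mem_top, true_and]
    exact ⟨fun hx => ⟨⟨x, hx⟩, rfl⟩, fun ⟨y, hy⟩ => hy ▸ y.2⟩
  rw [h, ← Submodule.map_smul''] at hz
  obtain ⟨y, hy, hy'⟩ := hz
  rw [Ideal.smul_top_eq_map] at hy
  obtain rfl : y = z := Subtype.ext hy'
  exact hy

theorem exists_algHom_lift_of_cyclicLift {I : Ideal A} (hI : I ≤ Ideal.jacobson ⊥)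
    (hC : CyclicLift.{u, v} A I) {A' : Type v} [CommRing A'] [Algebra A A'] [Algebra.Etale A A']
    (σ : A' →ₐ[A] A ⧸ I) :
    ∃ τ : A' →ₐ[A] A, (Ideal.Quotient.mkₐ A I).comp τ = σ := by
  classical
  have hσC : ∀ a : A, σ (algebraMap A A' a) = Ideal.Quotient.mk I a := fun a => by
    simp [AlgHom.commutes]
  -- Zariski's main theorem, at finitely many places
  let 𝒮 : Set A' := {r | IsIntegral A r ∧ ∀ x, ∃ m : ℕ, IsIntegral A (r ^ m * x)}
  have h𝒮 : Ideal.span 𝒮 = ⊤ := by
    by_contra hne
    obtain ⟨p, hp, hle⟩ := Ideal.exists_le_maximal _ hne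
    obtain ⟨r, hr, hri, hr'⟩ :=
      Algebra.zariskisMainProperty_iff.mp (Algebra.ZariskisMainProperty.of_finiteType (R := A) p)
    exact hr (hle (Ideal.subset_span ⟨hri, hr'⟩))
  obtain ⟨t, ht, ht1⟩ := Submodule.mem_span_finite_of_mem_span
    ((Ideal.eq_top_iff_one _).mp h𝒮)
  obtain ⟨s, hs⟩ := Algebra.FiniteType.out (R := A) (A := A')
  choose! m hm using fun r (hr : r ∈ 𝒮) => hr.2
  let G : Set A' := (t : Set A') ∪ Set.image2 (fun r x => r ^ m r x * x) (t : Set A') (s : Set A')
  let B : Subalgebra A A' := Algebra.adjoin A G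
  have hBfin : Module.Finite A B := Module.Finite.iff_fg.mpr (fg_adjoin_of_finite
    (t.finite_toSet.union (t.finite_toSet.image2 _ s.finite_toSet)) (by
      rintro x (hx | ⟨r, hr, y, hy, rfl⟩)
      · exact (ht hx).1
      · exact hm r (ht hr) y))
  have htB : ∀ r ∈ t, r ∈ B := fun r hr => Algebra.subset_adjoin (Or.inl hr)
  have hBpow : ∀ r ∈ t, ∀ a : A', ∀ᶠ M : ℕ in atTop, r ^ M * a ∈ B := by
    intro r hr a
    have up : ∀ (b : A') (M : ℕ), r ^ M * b ∈ B → ∀ᶠ M' : ℕ in atTop, r ^ M' * b ∈ B := by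
      intro b M hb
      refine eventually_atTop.mpr ⟨M, fun M' hM => ?_⟩
      obtain ⟨k, rfl⟩ := Nat.exists_eq_add_of_le hM
      rw [pow_add, mul_comm (r ^ M), mul_assoc]
      exact B.mul_mem (B.pow_mem (htB r hr) k) hb
    have ha : a ∈ Algebra.adjoin A (s : Set A') := hs ▸ Algebra.mem_top
    induction ha using Algebra.adjoin_induction with
    | mem x hx => exact up x (m r x) (Algebra.subset_adjoin (Or.inr ⟨r, hr, x, hx, rfl⟩))
    | algebraMap c => exact up _ 0 (by simpa using B.algebraMap_mem c)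
    | add x y _ _ hx hy =>
      filter_upwards [hx, hy] with M h1 h2
      rw [mul_add]
      exact B.add_mem h1 h2
    | mul x y _ _ hx hy =>
      obtain ⟨M₁, h₁⟩ := hx.exists
      obtain ⟨M₂, h₂⟩ := hy.exists
      refine up _ (M₁ + M₂) ?_
      rw [show r ^ (M₁ + M₂) * (x * y) = r ^ M₁ * x * (r ^ M₂ * y) by ring]
      exact B.mul_mem h₁ h₂
  have hBpowI : ∀ r ∈ t, ∀ z ∈ I • (⊤ : Submodule A A'),
      ∀ᶠ M : ℕ in atTop, r ^ M * z ∈ I • Subalgebra.toSubmodule B := by
    intro r hr z hz
    refine Submodule.smul_induction_on hz (fun a ha x _ => ?_) (fun x y hx hy => ?_)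
    · filter_upwards [hBpow r hr x] with M hM
      rw [mul_smul_comm]
      exact Submodule.smul_mem_smul ha hM
    · filter_upwards [hx, hy] with M h1 h2
      rw [mul_add]
      exact add_mem h1 h2
  -- partitions of unity modulo `σ`
  have hw : ∀ M : ℕ, ∃ w : A', σ w = 1 ∧ ∀ (y : A') (N : Submodule A A'),
      (∀ r ∈ t, r ^ M * y ∈ N) → w * y ∈ N := by
    intro M
    let T := (fun r : A' => r ^ M) '' (t : Set A')
    have key : ∀ z ∈ Ideal.span T, ∃ w ∈ Submodule.span A T, σ w = σ z := by
      intro z hz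
      induction hz using Submodule.span_induction with
      | mem z hz => exact ⟨z, Submodule.subset_span hz, rfl⟩
      | zero => exact ⟨0, zero_mem _, rfl⟩
      | add z z' _ _ h1 h2 =>
        obtain ⟨w, hw, hw'⟩ := h1
        obtain ⟨w₂, hw₂, hw₂'⟩ := h2
        exact ⟨w + w₂, add_mem hw hw₂, by rw [map_add, map_add, hw', hw₂']⟩
      | smul c z _ h1 =>
        obtain ⟨w, hw, hw'⟩ := h1
        obtain ⟨a, ha⟩ := Ideal.Quotient.mk_surjective (σ c)
        refine ⟨a • w, Submodule.smul_mem _ a hw, ?_⟩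
        rw [Algebra.smul_def, map_mul, hσC, ha, hw', smul_eq_mul, map_mul]
    obtain ⟨w, hw, hw1⟩ := key 1 (by
      rw [Ideal.span_pow_eq_top _ ((Ideal.eq_top_iff_one _).mpr ht1)]; trivial)
    refine ⟨w, by rw [hw1, map_one], fun y N hN => ?_⟩
    have hle : Submodule.span A T ≤ N.comap (LinearMap.mulRight A y) := by
      rw [Submodule.span_le]
      rintro _ ⟨r, hr, rfl⟩
      exact hN r hr
    exact hle hw
  -- the idempotent modulo `I` cutting out `σ`
  let IA' := I.map (algebraMap A A')
  let ι₀ : A ⧸ I →ₐ[A] A' ⧸ IA' :=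
    Ideal.Quotient.liftₐ I (Algebra.ofId A _) fun a ha => by
      rw [Algebra.ofId_apply, IsScalarTower.algebraMap_apply A A' (A' ⧸ IA'),
        Ideal.Quotient.algebraMap_eq, Ideal.Quotient.eq_zero_iff_mem]
      exact Ideal.mem_map_of_mem _ ha
  have hIA'σ : ∀ z ∈ IA', σ z = 0 := by
    intro z hz
    have hle : IA' ≤ RingHom.ker σ.toRingHom := Ideal.map_le_iff_le_comap.mpr fun a ha => by
      simp [Ideal.mem_comap, RingHom.mem_ker, hσC, Ideal.Quotient.eq_zero_iff_mem.mpr ha]
    exact hle hz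
  let σ' : A' ⧸ IA' →ₐ[A] A ⧸ I := Ideal.Quotient.liftₐ IA' σ hIA'σ
  have hσι : ∀ q : A ⧸ I, σ' (ι₀ q) = q := by
    intro q
    obtain ⟨a, rfl⟩ := Ideal.Quotient.mk_surjective q
    change σ' (algebraMap A (A' ⧸ IA') a) = _
    rw [AlgHom.commutes]
    rfl
  let μ := Algebra.TensorProduct.productMap (Ideal.Quotient.mkₐ A IA') (ι₀.comp σ)
  have hσμ : ∀ u : A' ⊗[A] A', σ' (μ u) = σ (Algebra.TensorProduct.lmul' A u) := by
    intro u
    induction u using TensorProduct.induction_on with
    | zero => simp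
    | tmul x y =>
      simp only [μ, Algebra.TensorProduct.productMap_apply_tmul, map_mul, AlgHom.comp_apply, hσι,
        Algebra.TensorProduct.lmul'_apply_tmul]
      rfl
    | add u u' hu hu' => simp only [map_add, hu, hu']
  obtain ⟨ε, hε⟩ := Ideal.Quotient.mk_surjective (μ (Algebra.FormallyUnramified.elem A A'))
  have hε1 : σ ε = 1 := by
    have := hσμ (Algebra.FormallyUnramified.elem A A')
    rw [Algebra.FormallyUnramified.lmul_elem, map_one, ← hε] at this
    exact this
  have hεI : ∀ x, σ x = 0 → x * ε ∈ IA' := by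
    intro x hx
    have := congrArg μ (Algebra.FormallyUnramified.one_tmul_mul_elem (R := A) x)
    simp only [map_mul, μ, Algebra.TensorProduct.productMap_apply_tmul, map_one, one_mul, mul_one,
      AlgHom.comp_apply, hx, map_zero, zero_mul] at this
    rw [← Ideal.Quotient.eq_zero_iff_mem, map_mul, hε]
    exact this.symm
  have hItop : ∀ z, z ∈ IA' → z ∈ I • (⊤ : Submodule A A') := by
    intro z hz
    rw [Ideal.smul_top_eq_map]
    exact hz
  obtain ⟨M₁, hM₁⟩ := ((t.eventually_all).mpr fun r hr => hBpow r hr ε).exists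
  obtain ⟨w₁, hw₁, hw₁'⟩ := hw M₁
  let b₁ : A' := w₁ * ε
  have hb₁B : b₁ ∈ B := hw₁' ε (Subalgebra.toSubmodule B) hM₁
  have hb₁I : ∀ x, σ x = 0 → b₁ * x ∈ IA' := fun x hx => by
    rw [show b₁ * x = w₁ * (x * ε) by ring]
    exact IA'.mul_mem_left _ (hεI x hx)
  obtain ⟨k, g, hg⟩ := Module.Finite.exists_fin (R := A) (M := B)
  choose ga hga using fun j => Ideal.Quotient.mk_surjective (σ (g j : A'))
  have hy : ∀ j, σ ((g j : A') - algebraMap A A' (ga j)) = 0 := fun j => by
    rw [map_sub, hσC, hga, sub_self]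
  obtain ⟨M₂, hM₂⟩ := ((t.eventually_all).mpr fun r hr => eventually_all.mpr fun j =>
    hBpowI r hr _ (hItop _ (hb₁I _ (hy j)))).exists
  obtain ⟨w₂, hw₂, hw₂'⟩ := hw M₂
  have hb₀B : w₂ * b₁ ∈ B :=
    hw₂' b₁ (Subalgebra.toSubmodule B) fun r hr => B.mul_mem (B.pow_mem (htB r hr) _) hb₁B
  let b₀ : B := ⟨w₂ * b₁, hb₀B⟩
  set IB := I.map (algebraMap A B)
  have hIBσ : ∀ x ∈ IB, σ (x : A') = 0 := by
    intro x hx
    have hle : IB ≤ RingHom.ker (σ.comp B.val).toRingHom :=
      Ideal.map_le_iff_le_comap.mpr fun a ha => by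
        simp [Ideal.mem_comap, RingHom.mem_ker, hσC, Ideal.Quotient.eq_zero_iff_mem.mpr ha]
    exact hle hx
  have hb₀x : ∀ x : B, ∀ a : A, σ (x : A') = Ideal.Quotient.mk I a →
      b₀ * (x - algebraMap A B a) ∈ IB := by
    have key : ∀ x : B, ∃ a : A, σ (x : A') = Ideal.Quotient.mk I a ∧
        b₀ * (x - algebraMap A B a) ∈ IB := by
      intro x
      have hx : x ∈ Submodule.span A (Set.range g) := hg ▸ Submodule.mem_top
      induction hx using Submodule.span_induction with
      | mem y hy' =>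
        obtain ⟨j, rfl⟩ := hy'
        refine ⟨ga j, (hga j).symm, exists_mem_map_of_mem_smul B I _ ?_⟩
        simp only [MulMemClass.coe_mul, AddSubgroupClass.coe_sub, Subalgebra.coe_algebraMap, b₀]
        rw [mul_assoc]
        exact hw₂' _ _ fun r hr => hM₂ r hr j
      | zero => exact ⟨0, by simp, by simp⟩
      | add y y' _ _ h1 h2 =>
        obtain ⟨a, ha, ha'⟩ := h1
        obtain ⟨a₂, ha₂, ha₂'⟩ := h2
        refine ⟨a + a₂, by simp [ha, ha₂], ?_⟩
        rw [map_add, add_sub_add_comm, mul_add]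
        exact IB.add_mem ha' ha₂'
      | smul c y _ h1 =>
        obtain ⟨a, ha, ha'⟩ := h1
        refine ⟨c * a, by simp [ha, Algebra.smul_def, hσC], ?_⟩
        rw [map_mul, Algebra.smul_def, ← mul_sub, mul_left_comm]
        exact IB.mul_mem_left _ ha'
    intro x a ha
    obtain ⟨a', ha', h⟩ := key x
    rw [show x - algebraMap A B a = (x - algebraMap A B a') + algebraMap A B (a' - a) by
      rw [map_sub]; ring, mul_add]
    exact IB.add_mem h (IB.mul_mem_left _
      (Ideal.mem_map_of_mem _ (Ideal.Quotient.eq.mp (ha'.symm.trans ha))))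
  have hb₀1 : σ (b₀ : A') = 1 := by simp [b₀, b₁, hw₁, hw₂, hε1]
  have hb₀idem : b₀ * b₀ - b₀ ∈ IB := by
    have := hb₀x b₀ 1 (by rw [hb₀1, map_one])
    rwa [map_one, mul_sub, mul_one] at this
  have hb₀cyc : ∀ x : B, ∃ a : A, b₀ * x - algebraMap A B a * b₀ ∈ IB := by
    intro x
    obtain ⟨a, ha⟩ := Ideal.Quotient.mk_surjective (σ (x : A'))
    exact ⟨a, by have := hb₀x x a ha.symm; rwa [mul_sub, mul_comm b₀ (algebraMap A B a)] at this⟩
  obtain ⟨e, he, heb⟩ := hC B hBfin b₀ hb₀idem hb₀cyc
  -- `e B` is cyclic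
  have hecyc : ∀ x : B, ∃ a : A, e * x = algebraMap A B a * e := by
    have htop : (⊤ : Submodule A B) ≤
        Submodule.span A {e} ⊔ LinearMap.range (LinearMap.mulLeft A (1 - e)) := by
      refine Submodule.le_of_le_smul_of_le_jacobson_bot Module.Finite.fg_top hI ?_
      intro x _
      obtain ⟨a, ha⟩ := Ideal.Quotient.mk_surjective (σ (x : A'))
      have h1 : e * x - algebraMap A B a * e ∈ IB := by
        rw [show e * x - algebraMap A B a * e
          = (e - b₀) * (x - algebraMap A B a) + b₀ * (x - algebraMap A B a) by ring]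
        exact IB.add_mem (IB.mul_mem_right _ heb) (hb₀x x a ha.symm)
      rw [show x = (a • e + (1 - e) * x) + (e * x - algebraMap A B a * e) by
        rw [Algebra.smul_def]; ring]
      refine Submodule.add_mem_sup (Submodule.add_mem_sup ?_ ⟨x, rfl⟩) ?_
      · exact Submodule.smul_mem _ a (Submodule.mem_span_singleton_self e)
      · rw [Ideal.smul_top_eq_map]; exact h1
    intro x
    obtain ⟨y, hy', z, ⟨z', hz⟩, hyz⟩ := Submodule.mem_sup.mp (htop (Submodule.mem_top (x := x)))
    obtain ⟨a, rfl⟩ := Submodule.mem_span_singleton.mp hy'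
    refine ⟨a, ?_⟩
    subst hz hyz
    rw [LinearMap.mulLeft_apply, Algebra.smul_def]
    linear_combination (algebraMap A B a - z') * he.eq
  have he1 : σ (e : A') = 1 := by
    have := hIBσ _ heb
    rw [AddSubgroupClass.coe_sub, map_sub, sub_eq_zero, hb₀1] at this
    exact this
  -- `e A'` is cyclic
  have hecyc' : ∀ z : A', ∃ a : A, (e : A') * z = algebraMap A A' a * (e : A') := by
    intro z
    obtain ⟨M, hM⟩ := ((t.eventually_all).mpr fun r hr => hBpow r hr z).exists
    obtain ⟨w, hw, hw'⟩ := hw M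
    have hwzB : w * z ∈ B := hw' z (Subalgebra.toSubmodule B) hM
    have hwB : w ∈ B := by
      simpa using hw' 1 (Subalgebra.toSubmodule B)
        fun r hr => by simpa using B.pow_mem (htB r hr) M
    obtain ⟨a, ha⟩ := hecyc ⟨_, hwzB⟩
    obtain ⟨c, hc⟩ := hecyc ⟨_, hwB⟩
    have ha' := congrArg Subtype.val ha
    have hc' := congrArg Subtype.val hc
    simp only [MulMemClass.coe_mul, Subalgebra.coe_algebraMap] at ha' hc'
    have hc1 : c - 1 ∈ I := by
      have := congrArg σ hc'
      rw [map_mul, map_mul, he1, hw, hσC, mul_one, mul_one] at this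
      exact Ideal.Quotient.eq.mp (this.symm.trans (map_one _).symm)
    obtain ⟨d, hd⟩ := isUnit_of_sub_one_mem hI hc1
    refine ⟨↑d⁻¹ * a, ?_⟩
    have hdd : algebraMap A A' ↑d⁻¹ * algebraMap A A' c = 1 := by
      rw [← map_mul, ← hd, Units.inv_mul, map_one]
    rw [map_mul]
    linear_combination (algebraMap A A' ↑d⁻¹) * ha' - (algebraMap A A' ↑d⁻¹ * z) * hc'
      - ((e : A') * z) * hdd
  -- `A → A'[1/e]` is an isomorphism
  let L := Localization.Away (e : A')
  have heL : algebraMap A' L (e : A') = 1 := by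
    have hu : IsUnit (algebraMap A' L (e : A')) := IsLocalization.Away.algebraMap_isUnit _
    refine hu.mul_left_cancel ?_
    rw [← map_mul, mul_one, ← MulMemClass.coe_mul, he.eq]
  have hLsurj : Function.Surjective (algebraMap A L) := by
    intro q
    obtain ⟨n, z, hz⟩ := IsLocalization.Away.surj (e : A') q
    rw [heL, one_pow, mul_one] at hz
    obtain ⟨a, ha⟩ := hecyc' z
    refine ⟨a, ?_⟩
    have := congrArg (algebraMap A' L) ha
    rw [map_mul, map_mul, heL, one_mul, mul_one, ← IsScalarTower.algebraMap_apply] at this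
    rw [hz, this]
  have hσL : ∀ a : A, algebraMap A L a = 0 → a ∈ I := by
    intro a ha
    rw [IsScalarTower.algebraMap_apply A A' L] at ha
    obtain ⟨⟨_, n, rfl⟩, hn⟩ := (IsLocalization.map_eq_zero_iff (.powers (e : A')) L _).mp ha
    have := congrArg σ hn
    rw [map_mul, map_pow, he1, one_pow, one_mul, hσC, map_zero] at this
    exact Ideal.Quotient.eq_zero_iff_mem.mp this
  have hker : RingHom.ker (algebraMap A L) = ⊥ := by
    have h1 : IsIdempotentElem (RingHom.ker (algebraMap A L)) :=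
      (Algebra.FormallyEtale.iff_of_surjective hLsurj).mp inferInstance
    have h2 : (RingHom.ker (algebraMap A L)).FG :=
      Algebra.FinitePresentation.ker_fG_of_surjective (Algebra.ofId A L) hLsurj
    obtain ⟨ε', hε', heq⟩ := (Ideal.isIdempotentElem_iff_of_fg _ h2).mp h1
    rw [heq, Ideal.submodule_span_eq, Ideal.span_singleton_eq_bot]
    refine eq_zero_of_isIdempotentElem hI hε' (hσL _ ?_)
    rw [← RingHom.mem_ker, heq]
    exact Submodule.mem_span_singleton_self _
  let eL : A ≃ₐ[A] L := AlgEquiv.ofBijective (Algebra.ofId A L)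
    ⟨(RingHom.injective_iff_ker_eq_bot _).mpr hker, hLsurj⟩
  refine ⟨eL.symm.toAlgHom.comp (IsScalarTower.toAlgHom A A' L), AlgHom.ext fun z => ?_⟩
  set a := eL.symm (algebraMap A' L z)
  have ha : algebraMap A' L (algebraMap A A' a) = algebraMap A' L z := by
    rw [← IsScalarTower.algebraMap_apply]
    exact eL.apply_symm_apply _
  obtain ⟨⟨_, n, rfl⟩, hn⟩ := IsLocalization.exists_of_eq (M := .powers (e : A')) ha
  have := congrArg σ hn
  rw [map_mul, map_mul, map_pow, he1, one_pow, one_mul, one_mul, hσC] at this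
  exact this

/-- If `A` is henselian at `I`, every map from an étale `A`-algebra to `A/I` lifts to `A`. -/
theorem exists_algHom_lift_self (I : Ideal A) [HenselianRing A I] {A' : Type v} [CommRing A']
    [Algebra A A'] [Algebra.Etale A A'] (σ : A' →ₐ[A] A ⧸ I) :
    ∃ τ : A' →ₐ[A] A, (Ideal.Quotient.mkₐ A I).comp τ = σ :=
  exists_algHom_lift_of_cyclicLift HenselianRing.jac (cyclicLift_of_henselianRing I) σ

/-- If the `R`-algebra `A` is henselian at `I`, every `R`-map from an étale `R`-algebra to `A/I`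
lifts to `A`. -/
theorem exists_algHom_lift (I : Ideal A) [HenselianRing A I] {R : Type w} [CommRing R]
    [Algebra R A] {S : Type v} [CommRing S] [Algebra R S] [Algebra.Etale R S]
    (σ : S →ₐ[R] A ⧸ I) : ∃ τ : S →ₐ[R] A, (Ideal.Quotient.mkₐ R I).comp τ = σ := by
  let σA : A ⊗[R] S →ₐ[A] A ⧸ I :=
    Algebra.TensorProduct.lift (Algebra.ofId A _) σ fun _ _ => Commute.all _ _
  obtain ⟨τ, hτ⟩ := exists_algHom_lift_self I σA
  refine ⟨(τ.restrictScalars R).comp Algebra.TensorProduct.includeRight, AlgHom.ext fun x => ?_⟩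
  have := AlgHom.congr_fun hτ (1 ⊗ₜ x)
  simpa [σA] using this

/-- If the `R`-algebra `A` is henselian at `I`, every `R`-map from an étale `R`-algebra to `A/I`
lifts uniquely to `A`. -/
theorem existsUnique_algHom_lift (I : Ideal A) [HenselianRing A I] {R : Type w} [CommRing R]
    [Algebra R A] {S : Type v} [CommRing S] [Algebra R S] [Algebra.Etale R S]
    (σ : S →ₐ[R] A ⧸ I) : ∃! τ : S →ₐ[R] A, (Ideal.Quotient.mkₐ R I).comp τ = σ := by
  obtain ⟨τ, hτ⟩ := exists_algHom_lift I σ
  refine ⟨τ, hτ, fun τ' hτ' => algHom_ext_of_le_jacobson (J := I) HenselianRing.jac τ' τ fun x => ?_⟩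
  exact Ideal.Quotient.eq.mp ((AlgHom.congr_fun hτ' x).trans (AlgHom.congr_fun hτ x).symm)

/-- If maps from étale algebras to `A/I` lift, then `A` is henselian at `I`. -/
theorem henselianRing_of_algHom_lift (I : Ideal A)
    (h : ∀ (A' : Type u) [CommRing A'] [Algebra A A'] [Algebra.Etale A A']
      (σ : A' →ₐ[A] A ⧸ I), ∃ τ : A' →ₐ[A] A, (Ideal.Quotient.mkₐ A I).comp τ = σ) :
    HenselianRing A I where
  jac := by
    refine le_jacobson_bot_of_isUnit_add_one fun x hx => ?_
    have hu : IsUnit (algebraMap A (A ⧸ I) (1 + x)) := by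
      rw [Ideal.Quotient.algebraMap_eq, map_add, Ideal.Quotient.eq_zero_iff_mem.mpr hx, add_zero,
        map_one]
      exact isUnit_one
    have : Algebra.Etale A (Localization.Away (1 + x)) := .of_isLocalizationAway (1 + x)
    obtain ⟨τ, -⟩ := h (Localization.Away (1 + x))
      (IsLocalization.Away.liftAlgHom (1 + x) (f := Algebra.ofId A _) hu)
    have h1 := (IsLocalization.Away.algebraMap_isUnit (S := Localization.Away (1 + x)) (1 + x)).map τ
    rwa [AlgHom.commutes] at h1
  is_henselian f hf a₀ h₁ h₂ := by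
    let P : StandardEtalePair A :=
      ⟨f, hf, derivative f, ⟨1, 0, 1, by simp⟩⟩
    have hP : P.HasMap (Ideal.Quotient.mk I a₀) := by
      constructor
      · rw [← Ideal.Quotient.algebraMap_eq, aeval_algebraMap_apply_eq_algebraMap_eval]
        exact Ideal.Quotient.eq_zero_iff_mem.mpr h₁
      · rw [← Ideal.Quotient.algebraMap_eq, aeval_algebraMap_apply_eq_algebraMap_eval]
        exact h₂
    obtain ⟨τ, hτ⟩ := h P.Ring (P.lift _ hP)
    refine ⟨τ P.X, ?_, ?_⟩
    · have := (P.hasMap_X.map τ).1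
      rwa [IsRoot, ← Polynomial.coe_aeval_eq_eval]
    · have := AlgHom.congr_fun hτ P.X
      rw [StandardEtalePair.lift_X] at this
      exact Ideal.Quotient.eq.mp this

theorem henselianRing_of_cyclicLift {I : Ideal A} (hI : I ≤ Ideal.jacobson ⊥)
    (hC : CyclicLift.{u, u} A I) : HenselianRing A I :=
  henselianRing_of_algHom_lift I fun _ _ _ _ σ => exists_algHom_lift_of_cyclicLift hI hC σ

theorem henselianRing_of_gabberRoot {I : Ideal A} (hI : I ≤ Ideal.jacobson ⊥)
    (hG : GabberRoot A I) : HenselianRing A I :=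
  henselianRing_of_cyclicLift hI (cyclicLift_of_gabberRoot hI hG)

end Groth.Agent.Lib.Henselian.Etale
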