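import Groth.Agent.Lib.Henselian.Pair
import Groth.Agent.Lib.Henselian.EtaleLift
import Mathlib.RingTheory.ZariskisMainTheorem
import Mathlib.RingTheory.Localization.Away.Lemmas

/-!
# Finite étale algebras lift along henselian pairs

* `exists_finite_subalgebra_span_top`: a global form of Zariski's main theorem
* `exists_finite_etale_lift`: finite étale `A/I`-algebras lift to finite étale `A`-algebras
-/

universe u v

open TensorProduct Filter
open Groth.Agent.Lib.Henselian.Basic Groth.Agent.Lib.Henselian.Pair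
open Groth.Agent.Lib.Henselian.EtaleLift

namespace Groth.Agent.Lib.Henselian.FiniteEtale

/-- A finite type quasi-finite algebra contains a finite subalgebra `B` and finitely many elements
`r` of `B` generating the unit ideal, with every element eventually multiplied into `B` by powers
of each `r`. -/
theorem exists_finite_subalgebra_span_top (A : Type u) (L : Type v) [CommRing A] [CommRing L]
    [Algebra A L] [Algebra.FiniteType A L] [Algebra.QuasiFinite A L] :
    ∃ (B : Subalgebra A L) (t : Finset L), Module.Finite A B ∧ (∀ r ∈ t, r ∈ B) ∧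
      Ideal.span (t : Set L) = ⊤ ∧ ∀ r ∈ t, ∀ a : L, ∀ᶠ M : ℕ in atTop, r ^ M * a ∈ B := by
  classical
  let 𝒮 : Set L := {r | IsIntegral A r ∧ ∀ x, ∃ m : ℕ, IsIntegral A (r ^ m * x)}
  have h𝒮 : Ideal.span 𝒮 = ⊤ := by
    by_contra hne
    obtain ⟨p, hp, hle⟩ := Ideal.exists_le_maximal _ hne
    obtain ⟨r, hr, hri, hr'⟩ :=
      Algebra.zariskisMainProperty_iff.mp (Algebra.ZariskisMainProperty.of_finiteType (R := A) p)
    exact hr (hle (Ideal.subset_span ⟨hri, hr'⟩))
  obtain ⟨t, ht, ht1⟩ := Submodule.mem_span_finite_of_mem_span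
    ((Ideal.eq_top_iff_one _).mp h𝒮)
  obtain ⟨s, hs⟩ := Algebra.FiniteType.out (R := A) (A := L)
  choose! m hm using fun r (hr : r ∈ 𝒮) => hr.2
  let B : Subalgebra A L := Algebra.adjoin A
    ((t : Set L) ∪ Set.image2 (fun r x => r ^ m r x * x) (t : Set L) (s : Set L))
  have hBfin : Module.Finite A B := Module.Finite.iff_fg.mpr (fg_adjoin_of_finite
    (t.finite_toSet.union (t.finite_toSet.image2 _ s.finite_toSet)) (by
      rintro x (hx | ⟨r, hr, y, hy, rfl⟩)
      · exact (ht hx).1
      · exact hm r (ht hr) y))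
  have htB : ∀ r ∈ t, r ∈ B := fun r hr => Algebra.subset_adjoin (Or.inl hr)
  refine ⟨B, t, hBfin, htB, (Ideal.eq_top_iff_one _).mpr ht1, fun r hr a => ?_⟩
  have up : ∀ (b : L) (M : ℕ), r ^ M * b ∈ B → ∀ᶠ M' : ℕ in atTop, r ^ M' * b ∈ B := by
    intro b M hb
    refine eventually_atTop.mpr ⟨M, fun M' hM => ?_⟩
    obtain ⟨k, rfl⟩ := Nat.exists_eq_add_of_le hM
    rw [pow_add, mul_comm (r ^ M), mul_assoc]
    exact B.mul_mem (B.pow_mem (htB r hr) k) hb
  have ha : a ∈ Algebra.adjoin A (s : Set L) := hs ▸ Algebra.mem_top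
  induction ha using Algebra.adjoin_induction with
  | mem x hx => exact up x (m r x) (Algebra.subset_adjoin (Or.inr ⟨r, hr, x, hx, rfl⟩))
  | algebraMap c => exact up _ 0 (by simpa using B.algebraMap_mem c)
  | add x y _ _ hx hy =>
    filter_upwards [hx, hy] with M h1 h2
    rw [mul_add]
    exact B.add_mem h1 h2
  | mul x y _ _ hx hy =>
    obtain ⟨M₁, h₁⟩ := hx.exists
    obtain ⟨M₂, h₂⟩ := hy.exists
    refine up _ (M₁ + M₂) ?_
    rw [show r ^ (M₁ + M₂) * (x * y) = r ^ M₁ * x * (r ^ M₂ * y) by ring]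
    exact B.mul_mem h₁ h₂

variable {A : Type u} [CommRing A]

/-- Finite étale algebras over `A/I` lift to finite étale algebras over `A` when `A` is henselian
at `I`. -/
theorem exists_finite_etale_lift (I : Ideal A) [HenselianRing A I] (C : Type u) [CommRing C]
    [Algebra (A ⧸ I) C] [Module.Finite (A ⧸ I) C] [Algebra.Etale (A ⧸ I) C] :
    ∃ (B : Type u) (_ : CommRing B) (_ : Algebra A B), Module.Finite A B ∧ Algebra.Etale A B ∧
      Nonempty (((A ⧸ I) ⊗[A] B) ≃ₐ[A ⧸ I] C) := by
  classical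
  let : Algebra A C := Algebra.compHom C (Ideal.Quotient.mk I)
  have : IsScalarTower A (A ⧸ I) C := IsScalarTower.of_algebraMap_eq fun _ => rfl
  have : Module.Finite A C := Module.Finite.trans (A ⧸ I) C
  obtain ⟨L, _, _, hL, ψ, hψ, hker⟩ := exists_etale_lift I C
  obtain ⟨B, t, hBfin, htB, htop, hpow⟩ := exists_finite_subalgebra_span_top A L
  have htopM : ∀ M : ℕ, (1 : L) ∈ Ideal.span ((fun r : L => r ^ M) '' (t : Set L)) := fun M =>
    (Ideal.eq_top_iff_one _).mp (Ideal.span_pow_eq_top _ htop M)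
  -- `B` surjects onto `C`
  let φ : B →ₐ[A] C := ψ.comp B.val
  have hφ : Function.Surjective φ := by
    obtain ⟨g, hg⟩ := Module.Finite.fg_top (R := A) (M := C)
    choose ℓ hℓ using hψ
    obtain ⟨M, hM⟩ : ∃ M : ℕ, ∀ r ∈ t, ∀ x ∈ g, r ^ M * ℓ x ∈ B :=
      ((Finset.eventually_all t).mpr fun r hr => (Finset.eventually_all g).mpr
        fun x _ => hpow r hr (ℓ x)).exists
    have h1 : ∀ r ∈ t, ∀ c : C, ψ (r ^ M) * c ∈ φ.range := by
      intro r hr c
      have hc : c ∈ Submodule.span A (g : Set C) := hg ▸ Submodule.mem_top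
      induction hc using Submodule.span_induction with
      | mem x hx => exact ⟨⟨_, hM r hr x hx⟩, by simp [φ, hℓ]⟩
      | zero => simp
      | add x y _ _ hx hy => rw [mul_add]; exact add_mem hx hy
      | smul a x _ hx => rw [mul_smul_comm]; exact φ.range.smul_mem hx a
    intro c
    show c ∈ φ.range
    have : ∀ z ∈ Ideal.span ((fun r : L => r ^ M) '' (t : Set L)), ∀ c : C, ψ z * c ∈ φ.range := by
      intro z hz
      induction hz using Submodule.span_induction with
      | mem x hx => obtain ⟨r, hr, rfl⟩ := hx; exact h1 r hr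
      | zero => simp
      | add x y _ _ hx hy =>
        intro c
        rw [map_add, add_mul]
        exact add_mem (hx c) (hy c)
      | smul a x _ hx =>
        intro c
        rw [smul_eq_mul, map_mul, mul_comm (ψ a), mul_assoc]
        exact hx _
    simpa using this 1 (htopM M) c
  -- the kernel of `B → C` is finitely generated modulo `IB`
  set IB := I.map (algebraMap A B) with hIB
  have hIBker : ∀ z ∈ IB, φ z = 0 := by
    intro z hz
    refine (Ideal.map_le_iff_le_comap.mpr fun a ha => ?_ : IB ≤ RingHom.ker φ.toRingHom) hz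
    show φ (algebraMap A B a) = 0
    rw [AlgHom.commutes, IsScalarTower.algebraMap_apply A (A ⧸ I) C, Ideal.Quotient.algebraMap_eq,
      Ideal.Quotient.eq_zero_iff_mem.mpr ha, map_zero]
  let φ' : (B ⧸ IB) →ₐ[A] C := Ideal.Quotient.liftₐ IB φ hIBker
  let : Algebra (B ⧸ IB) C := φ'.toRingHom.toAlgebra
  have : IsScalarTower (A ⧸ I) (B ⧸ IB) C := by
    refine IsScalarTower.of_algebraMap_eq fun x => ?_
    obtain ⟨a, rfl⟩ := Ideal.Quotient.mk_surjective x
    exact (φ'.commutes a).symm
  have : Algebra.FiniteType (A ⧸ I) (B ⧸ IB) :=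
    Algebra.FiniteType.of_restrictScalars_finiteType A (A ⧸ I) (B ⧸ IB)
  have : Algebra.FinitePresentation (B ⧸ IB) C :=
    Algebra.FinitePresentation.of_restrict_scalars_finitePresentation (A ⧸ I) (B ⧸ IB) C
  obtain ⟨G, hG⟩ := Algebra.FinitePresentation.ker_fG_of_surjective (Algebra.ofId (B ⧸ IB) C)
    (fun c => ⟨Ideal.Quotient.mk IB (hφ c).choose, (hφ c).choose_spec⟩)
  -- powers of the `r` multiply the kernel into `IB`
  have hev : ∀ r ∈ t, ∀ z ∈ I • (⊤ : Submodule A L),
      ∀ᶠ M : ℕ in atTop, r ^ M * z ∈ I • Subalgebra.toSubmodule B := by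
    intro r hr z hz
    refine Submodule.smul_induction_on hz (fun a ha x _ => ?_) (fun x y hx hy => ?_)
    · filter_upwards [hpow r hr x] with M hM
      rw [mul_smul_comm]
      exact Submodule.smul_mem_smul ha hM
    · filter_upwards [hx, hy] with M h1 h2
      rw [mul_add]
      exact add_mem h1 h2
  let bt : {r // r ∈ t} → B := fun r => ⟨r.1, htB r.1 r.2⟩
  choose σ hσ using fun x : B ⧸ IB => Ideal.Quotient.mk_surjective x
  obtain ⟨M, hM⟩ : ∃ M : ℕ, ∀ r ∈ t, ∀ x ∈ G, r ^ M * (σ x : L) ∈ I • Subalgebra.toSubmodule B := by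
    refine ((Finset.eventually_all t).mpr fun r hr => (Finset.eventually_all G).mpr
      fun x hx => hev r hr _ ?_).exists
    rw [Ideal.smul_top_eq_map, Submodule.restrictScalars_mem, ← hker, RingHom.mem_ker]
    show φ (σ x) = 0
    have : φ' (Ideal.Quotient.mk IB (σ x)) = 0 := by
      rw [hσ]
      exact RingHom.mem_ker.mp (hG ▸ Ideal.subset_span hx : x ∈ RingHom.ker _)
    exact this
  -- the idempotent
  obtain ⟨a, ha1, haK⟩ : ∃ a : B, φ a = 1 ∧ ∀ k, φ k = 0 → a * k ∈ IB := by
    have hann : ∀ r : {r // r ∈ t}, ∀ k, φ k = 0 → bt r ^ M * k ∈ IB := by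
      intro r k hk
      have hk' : Ideal.Quotient.mk IB k ∈ Ideal.span (G : Set (B ⧸ IB)) := by
        rw [hG]
        exact hk
      rw [← Ideal.Quotient.eq_zero_iff_mem, map_mul]
      refine Submodule.span_induction (fun x hx => ?_) (mul_zero _)
        (fun x y _ _ hx hy => by rw [mul_add, hx, hy, add_zero])
        (fun c x _ hx => by rw [smul_eq_mul, mul_left_comm, hx, mul_zero]) hk'
      rw [← hσ x, ← map_mul, Ideal.Quotient.eq_zero_iff_mem]
      exact Groth.Agent.Lib.Henselian.Etale.exists_mem_map_of_mem_smul B I _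
        (hM r.1 r.2 x hx)
    obtain ⟨u, hu⟩ : (1 : C) ∈ Ideal.span (Set.range fun r : {r // r ∈ t} => φ (bt r ^ M)) ∧ True :=
      ⟨by
        have := Ideal.mem_map_of_mem ψ (htopM M)
        rw [map_one, Ideal.map_span] at this
        refine Ideal.span_mono ?_ this
        rintro _ ⟨_, ⟨r, hr, rfl⟩, rfl⟩
        exact ⟨⟨r, hr⟩, rfl⟩, trivial⟩
    have key : ∀ z ∈ Ideal.span (Set.range fun r : {r // r ∈ t} => φ (bt r ^ M)),
        ∃ a : B, φ a = z ∧ ∀ k, φ k = 0 → a * k ∈ IB := by
      intro z hz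
      induction hz using Submodule.span_induction with
      | mem x hx => obtain ⟨r, rfl⟩ := hx; exact ⟨_, rfl, hann r⟩
      | zero => exact ⟨0, map_zero _, fun k _ => by simp⟩
      | add x y _ _ hx hy =>
        obtain ⟨a, ha, ha'⟩ := hx
        obtain ⟨b, hb, hb'⟩ := hy
        exact ⟨a + b, by rw [map_add, ha, hb],
          fun k hk => by rw [add_mul]; exact add_mem (ha' k hk) (hb' k hk)⟩
      | smul c x _ hx =>
        obtain ⟨a, ha, ha'⟩ := hx
        obtain ⟨c', rfl⟩ := hφ c
        exact ⟨c' * a, by rw [map_mul, ha, smul_eq_mul],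
          fun k hk => by rw [mul_assoc]; exact Ideal.mul_mem_left _ c' (ha' k hk)⟩
    exact key 1 u
  obtain ⟨e, he, hea⟩ := exists_isIdempotentElem_lift I (b := a) (by
    have := haK (a - 1) (by rw [map_sub, ha1, map_one, sub_self])
    rwa [mul_sub, mul_one] at this)
  have he1 : φ e = 1 := by
    have := hIBker _ hea
    rwa [map_sub, ha1, sub_eq_zero] at this
  have heK : ∀ k, φ k = 0 → e * k ∈ IB := fun k hk => by
    rw [← sub_add_cancel e a, add_mul]
    exact add_mem (IB.mul_mem_right k hea) (haK k hk)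
  -- `t` generates the unit ideal on the component of `e`
  have hgen : Ideal.span (insert (1 - e) (Set.range bt)) = ⊤ := by
    set J := Ideal.span (insert (1 - e) (Set.range bt))
    obtain ⟨j, hj, hj1⟩ : ∃ j ∈ Ideal.span (Set.range bt), φ j = 1 := by
      have h : (1 : C) ∈ (Ideal.span (Set.range bt)).map φ := by
        have := Ideal.mem_map_of_mem ψ ((Ideal.eq_top_iff_one _).mp htop)
        rw [map_one, Ideal.map_span] at this
        rw [Ideal.map_span]
        refine Ideal.span_mono ?_ this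
        rintro _ ⟨r, hr, rfl⟩
        exact ⟨bt ⟨r, hr⟩, ⟨⟨r, hr⟩, rfl⟩, rfl⟩
      exact (Ideal.mem_map_iff_of_surjective φ hφ).mp h
    have hjJ : (1 - e) + e * j ∈ J :=
      add_mem (Ideal.subset_span (Set.mem_insert _ _))
        (Ideal.mul_mem_left _ e (Ideal.span_mono (Set.subset_insert _ _) hj))
    refine Ideal.eq_top_of_isUnit_mem _ hjJ ?_
    have hmem : e * (j - 1) ∈ (⊥ : Ideal B).jacobson :=
      map_le_jacobson_of_isIntegral HenselianRing.jac
        (heK _ (by rw [map_sub, hj1, map_one, sub_self]))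
    simpa [mul_sub, add_comm, sub_add_eq_add_sub, add_sub_assoc] using
      (Ideal.mem_jacobson_bot.mp hmem 1)
  -- the lift
  let J : Ideal L := Ideal.span {1 - (e : L)}
  have heL : IsIdempotentElem (e : L) := congrArg Subtype.val he.eq
  have hJker : ∀ z ∈ J, ψ z = 0 := by
    intro z hz
    obtain ⟨c, rfl⟩ := Ideal.mem_span_singleton'.mp hz
    rw [map_mul, map_sub, map_one, show ψ (e : L) = 1 from he1, sub_self, mul_zero]
  have hsurj : Function.Surjective ((Ideal.Quotient.mkₐ A J).comp B.val) := by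
    intro x
    obtain ⟨y, rfl⟩ := Ideal.Quotient.mk_surjective x
    obtain ⟨N, hN⟩ : ∃ N : ℕ, ∀ r ∈ t, r ^ N * y ∈ B :=
      ((Finset.eventually_all t).mpr fun r hr => hpow r hr y).exists
    have h1 := (Ideal.eq_top_iff_one _).mp (Ideal.span_pow_eq_top _ hgen (N + 1))
    have key : ∀ b ∈ Ideal.span ((fun b : B => b ^ (N + 1)) '' insert (1 - e) (Set.range bt)),
        Ideal.Quotient.mk J ((b : L) * y) ∈ ((Ideal.Quotient.mkₐ A J).comp B.val).range := by
      intro b hb
      induction hb using Submodule.span_induction with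
      | mem x hx =>
        obtain ⟨b, hb | ⟨r, rfl⟩, rfl⟩ := hx
        · have : Ideal.Quotient.mk J (((b ^ (N + 1) : B) : L) * y) = 0 := by
            subst hb
            rw [Ideal.Quotient.eq_zero_iff_mem, he.one_sub.pow_succ_eq]
            exact J.mul_mem_right y (Ideal.subset_span (by simp))
          rw [this]
          exact zero_mem _
        · refine ⟨⟨(r : L) ^ (N + 1) * y, ?_⟩, by simp [bt]⟩
          rw [pow_succ', mul_assoc]
          exact B.mul_mem (htB r r.2) (hN r r.2)
      | zero => simp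
      | add x y _ _ hx hy =>
        rw [Subalgebra.coe_add, add_mul, map_add]
        exact add_mem hx hy
      | smul c x _ hx =>
        rw [smul_eq_mul, Subalgebra.coe_mul, mul_assoc, map_mul]
        exact mul_mem ⟨c, rfl⟩ hx
    obtain ⟨b, hb⟩ := key 1 h1
    exact ⟨b, by simpa using hb⟩
  have : Module.Finite A (L ⧸ J) := Module.Finite.of_surjective
    ((Ideal.Quotient.mkₐ A J).comp B.val).toLinearMap hsurj
  have : IsLocalization.Away (e : L) (L ⧸ J) := IsLocalization.Away.quotient_of_isIdempotentElem heL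
  have : Algebra.Etale L (L ⧸ J) := Algebra.Etale.of_isLocalizationAway (e : L)
  let ψ' : (L ⧸ J) →ₐ[A] C := Ideal.Quotient.liftₐ J ψ hJker
  refine ⟨L ⧸ J, inferInstance, inferInstance, inferInstance, Algebra.Etale.comp A L (L ⧸ J),
    nonempty_tensor_equiv I ψ' (fun c => ⟨Ideal.Quotient.mk J (hψ c).choose, (hψ c).choose_spec⟩)
      (le_antisymm ?_ ?_)⟩
  · intro x hx
    obtain ⟨y, rfl⟩ := Ideal.Quotient.mk_surjective x
    have hy : y ∈ I.map (algebraMap A L) := hker ▸ hx
    have := Ideal.mem_map_of_mem (Ideal.Quotient.mk J) hy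
    rwa [Ideal.map_map] at this
  · refine Ideal.map_le_iff_le_comap.mpr fun a ha => ?_
    show ψ (algebraMap A L a) = 0
    exact RingHom.mem_ker.mp ((hker ▸ Ideal.mem_map_of_mem _ ha : algebraMap A L a ∈ RingHom.ker ψ.toRingHom))

end Groth.Agent.Lib.Henselian.FiniteEtale
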