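import Groth.Agent.Lib.Henselian.Permanence
import Groth.Agent.Lib.Excellent.QuotientFibre
import Groth.Agent.Lib.Excellent.CompletionTopology
import Mathlib.RingTheory.TensorProduct.Quotient
import Mathlib.RingTheory.AdicCompletion.Algebra

/-!
# The completion of a henselization

* `exists_cplEquiv`: a Noetherian local ring and its henselization have the same completion
* `exists_cplQuotEquiv`: the completion of a quotient
-/

universe u

open IsLocalRing TensorProduct

namespace Groth.Agent.Lib.Henselian.HenselCompletion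

open Groth.Agent.Lib.Excellent

variable (R S : Type u) [CommRing R] [IsLocalRing R] [CommRing S] [IsLocalRing S] [Algebra R S]
  [IsLocalHom (algebraMap R S)] [Hensel.IsHenselization R S]

lemma truncMap_bijective (n : ℕ) : Function.Bijective
    (Ideal.quotientMapₐ (((maximalIdeal R).map (algebraMap R S)) ^ n) (Algebra.ofId R S)
      (CompletionFinite.pow_map_le (maximalIdeal R) S n)) := by
  have h := Henselization.quotientMap_pow_bijective R S n
  have e : (maximalIdeal R).map (algebraMap R S) ^ n = (maximalIdeal R ^ n).map (algebraMap R S) :=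
    (Ideal.map_pow _ _ n).symm
  constructor
  · intro x y hxy
    obtain ⟨a, rfl⟩ := Ideal.Quotient.mk_surjective x
    obtain ⟨b, rfl⟩ := Ideal.Quotient.mk_surjective y
    refine h.1 ?_
    rw [Ideal.quotientMap_mk, Ideal.quotientMap_mk, Ideal.Quotient.eq, ← e]
    exact Ideal.Quotient.eq.mp hxy
  · intro y
    obtain ⟨s, rfl⟩ := Ideal.Quotient.mk_surjective y
    obtain ⟨x, hx⟩ := h.2 (Ideal.Quotient.mk _ s)
    obtain ⟨a, rfl⟩ := Ideal.Quotient.mk_surjective x
    refine ⟨Ideal.Quotient.mk _ a, ?_⟩
    refine Ideal.Quotient.eq.mpr ?_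
    rw [e]
    exact Ideal.Quotient.eq.mp hx

/-- The completion of a henselization is the completion of the ring. -/
theorem exists_cplEquiv :
    ∃ e : EGA4.Cpl R ≃+* EGA4.Cpl S, ∀ r, e (algebraMap R (EGA4.Cpl R) r) =
      algebraMap S (EGA4.Cpl S) (algebraMap R S r) := by
  let J := maximalIdeal R
  let t := CompletionFinite.truncMap J S
  let φ := CompletionFinite.mapAlgHom J S
  have hφ : ∀ n x, AdicCompletion.evalₐ (J.map (algebraMap R S)) n (φ x) = t n x := fun n x =>
    AdicCompletion.evalₐ_liftAlgHom _ _ (CompletionFinite.truncMap_compat J S) n x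
  have ht : ∀ n x, t n x = Ideal.quotientMapₐ _ (Algebra.ofId R S) (CompletionFinite.pow_map_le J S n)
      (AdicCompletion.evalₐ J n x) := fun _ _ => rfl
  have hinj : Function.Injective φ := fun x y hxy => AdicCompletion.ext_evalₐ fun n =>
    (truncMap_bijective R S n).1 (by rw [← ht, ← ht, ← hφ, ← hφ, hxy])
  have hsurj : Function.Surjective φ := fun z => by
    let ψ : (n : ℕ) → R ⧸ J ^ n := fun n =>
      (Equiv.ofBijective _ (truncMap_bijective R S n)).symm (AdicCompletion.evalₐ _ n z)
    choose a ha using fun n => Ideal.Quotient.mk_surjective (ψ n)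
    have hψ : ∀ n, Ideal.Quotient.mk (J.map (algebraMap R S) ^ n) (algebraMap R S (a n)) =
        AdicCompletion.evalₐ _ n z := fun n => by
      rw [← Equiv.apply_symm_apply (Equiv.ofBijective _ (truncMap_bijective R S n))
        (AdicCompletion.evalₐ _ n z)]
      exact congrArg (Ideal.quotientMapₐ _ (Algebra.ofId R S) (CompletionFinite.pow_map_le J S n)) (ha n)
    have hcauchy : ∀ {m n : ℕ}, m ≤ n → a m ≡ a n [SMOD (J ^ m • ⊤ : Submodule R R)] := by
      intro m n hmn
      rw [SModEq.sub_mem]
      have h1 := congrArg (Ideal.Quotient.factor (Ideal.pow_le_pow_right hmn)) (hψ n)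
      rw [Ideal.Quotient.factor_mk, CompletionTopology.factor_evalₐ hmn, ← hψ m] at h1
      have h2 : Ideal.Quotient.mk (J ^ m) (a m) = Ideal.Quotient.mk (J ^ m) (a n) :=
        (truncMap_bijective R S m).1 h1.symm
      simpa using Ideal.Quotient.eq.mp h2
    refine ⟨AdicCompletion.mk J R ⟨a, hcauchy⟩, AdicCompletion.ext_evalₐ fun n => ?_⟩
    rw [hφ, ht, AdicCompletion.evalₐ_mk]
    exact hψ n
  let e₀ := RingEquiv.ofBijective φ.toRingHom ⟨hinj, hsurj⟩
  have key : ∃ e : EGA4.Cpl R ≃+* AdicCompletion (J.map (algebraMap R S)) S, ∀ r,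
      e (algebraMap R (EGA4.Cpl R) r) =
        algebraMap S (AdicCompletion (J.map (algebraMap R S)) S) (algebraMap R S r) :=
    ⟨e₀, fun r => (φ.commutes r).trans (IsScalarTower.algebraMap_apply R S _ r)⟩
  rwa [show J.map (algebraMap R S) = maximalIdeal S from Henselization.map_maximalIdeal R S] at key

/-- The completion of a quotient of a Noetherian local ring. -/
theorem exists_cplQuotEquiv (A : Type u) [CommRing A] [IsLocalRing A] [IsNoetherianRing A] (I : Ideal A)
    [Nontrivial (A ⧸ I)] :
    Nonempty (EGA4.Cpl (A ⧸ I) ≃+* EGA4.Cpl A ⧸ I.map (algebraMap A (EGA4.Cpl A))) := by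
  obtain ⟨e⟩ := QuotientFibre.exists_cplEquiv A I
  exact ⟨e.symm.toRingEquiv.trans
    ((Algebra.TensorProduct.comm A (A ⧸ I) (EGA4.Cpl A)).toRingEquiv.trans
      (Algebra.TensorProduct.quotIdealMapEquivTensorQuot (A := A) (EGA4.Cpl A) I).symm.toRingEquiv)⟩

end Groth.Agent.Lib.Henselian.HenselCompletion
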