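import Groth.Agent.Lib.Henselian.RegularFibres
import Groth.Agent.Lib.Henselian.HenselCompletion
import Groth.Agent.Lib.Excellent.CompletionNoetherian
import Mathlib.RingTheory.AdicCompletion.AsTensorProduct

/-!
# Formal fibres of henselizations

* `isRegularHom_congr`, `isRegularHom_cpl_iff`
-/

universe u

open TensorProduct

namespace Groth.Agent.Lib.Henselian.FormalFibres

open Groth.Agent.Lib.Excellent.FormalFibre

theorem isRegularHom_congr {A C C' : Type u} [CommRing A] [CommRing C] [CommRing C'] [Algebra A C]
    [Algebra A C'] (e : C ≃ₐ[A] C') (h : CAlg.IsRegularHom A C) : CAlg.IsRegularHom A C' := by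
  have := h.1
  refine ⟨Module.Flat.of_linearEquiv e.symm.toLinearEquiv, fun p _ => ?_⟩
  let e' : p.Fiber C ≃ₐ[p.ResidueField] p.Fiber C' := Algebra.TensorProduct.congr AlgEquiv.refl e
  have := (h.2 p).1
  exact ⟨isNoetherianRing_of_ringEquiv _ e'.toRingEquiv, fun k' _ _ hk' =>
    have := (h.2 p).2 k' hk'
    Groth.Agent.Lib.Excellent.Transport.isoInvariant_isRegularRing (k' ⊗[p.ResidueField] p.Fiber C)
      (k' ⊗[p.ResidueField] p.Fiber C')
      (Algebra.TensorProduct.congr (AlgEquiv.refl : k' ≃ₐ[k'] k') e').toRingEquiv this⟩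

variable (R S : Type u) [CommRing R] [IsLocalRing R] [CommRing S] [IsLocalRing S]
  [IsNoetherianRing R] [Algebra R S] [IsLocalHom (algebraMap R S)] [Hensel.IsHenselization R S]

/-- The formal fibres of a henselization are geometrically regular iff those of the ring are. -/
theorem isRegularHom_cpl_iff :
    CAlg.IsRegularHom S (EGA4.Cpl S) ↔ CAlg.IsRegularHom R (EGA4.Cpl R) := by
  have := Permanence.isNoetherianRing R S
  let C := EGA4.Cpl S
  have : Module.Flat S C := AdicCompletion.flat_of_isNoetherian _
  have : IsScalarTower R S C := inferInstance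
  obtain ⟨e, he⟩ := HenselCompletion.exists_cplEquiv R S
  let e' : EGA4.Cpl R ≃ₐ[R] C := AlgEquiv.ofRingEquiv (f := e) fun r => (he r).trans (IsScalarTower.algebraMap_apply R S C r).symm
  have hind : EtPBC.IsIndEtale R S := Groth.Agent.Lib.IndEtale.Basic.of_algEquiv
    Groth.Agent.Lib.Henselian.IndEtale.isIndEtale_lim (Henselization.equivOfIsHenselization R S)
  rw [← RegularFibres.isRegularHom_iff (C := C) hind]
  exact ⟨isRegularHom_congr e'.symm, isRegularHom_congr e'⟩

variable {R S}

/-- The formal fibres of a henselization are geometrically reduced iff those of the ring are. -/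
theorem hasGeomReducedFormalFibres_iff :
    EGA4.HasGeomReducedFormalFibres S ↔ EGA4.HasGeomReducedFormalFibres R := by
  have := Permanence.isNoetherianRing R S
  let C := EGA4.Cpl S
  have : IsScalarTower R S C := inferInstance
  obtain ⟨e, he⟩ := HenselCompletion.exists_cplEquiv R S
  let e' : EGA4.Cpl R ≃ₐ[R] C := AlgEquiv.ofRingEquiv (f := e) fun r =>
    (he r).trans (IsScalarTower.algebraMap_apply R S C r).symm
  have hind : EtPBC.IsIndEtale R S := Groth.Agent.Lib.IndEtale.Basic.of_algEquiv
    Groth.Agent.Lib.Henselian.IndEtale.isIndEtale_lim (Henselization.equivOfIsHenselization R S)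
  refine (geomReduced_fibres_iff C).trans (Iff.trans ?_ (geomReduced_fibres_iff (EGA4.Cpl R)).symm)
  refine (RegularFibres.forall_finPoint_iff (C := C) hind isoInvariant_isReduced
    fun T D => RegularFibres.isReduced_iff_forall_quotient T D).symm.trans ?_
  refine forall_congr' fun K => forall_congr' fun _ => forall_congr' fun _ => forall_congr' fun _ => ⟨fun h => ?_, fun h => ?_⟩
  · exact isReduced_of_injective _ (Algebra.TensorProduct.congr (AlgEquiv.refl : K ≃ₐ[K] K) e').injective
  · exact isReduced_of_injective _ (Algebra.TensorProduct.congr (AlgEquiv.refl : K ≃ₐ[K] K) e').symm.injective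

theorem isReduced_fractionField_tensor {A : Type u} [CommRing A] (C : Type u) [CommRing C] [Algebra A C]
    (B : Type u) [CommRing B] [Algebra A B] [IsDomain B] (K : Type u) [Field K] [Algebra A K]
    [Algebra B K] [IsScalarTower A B K] [IsFractionRing B K] (h : IsReduced (B ⊗[A] C)) :
    IsReduced (K ⊗[A] C) := by
  letI : Algebra (B ⊗[A] C) (K ⊗[A] C) :=
    (Algebra.TensorProduct.map (IsScalarTower.toAlgHom A B K) (AlgHom.id A C)).toRingHom.toAlgebra
  haveI : IsScalarTower B (B ⊗[A] C) (K ⊗[A] C) :=
    .of_algebraMap_eq fun x => by simp [RingHom.algebraMap_toAlgebra]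
  haveI := IsLocalization.tensorProduct_tensorProduct A C (nonZeroDivisors B) K
    (by ext; simp [RingHom.algebraMap_toAlgebra])
  exact isReduced_localizationPreserves (Algebra.algebraMapSubmonoid (B ⊗[A] C) (nonZeroDivisors B)) _ h

end Groth.Agent.Lib.Henselian.FormalFibres
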