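import Groth.Agent.Lib.Henselian.Etale
import Mathlib.RingTheory.Polynomial.UniversalFactorizationRing
import Mathlib.LinearAlgebra.Matrix.Charpoly.LinearMap
import Mathlib.RingTheory.IntegralClosure.IsIntegralClosure.Basic

/-!
# Henselian pairs: factorisations, idempotents, integral extensions

* `exists_monic_factor_lift`: coprime monic factorisations modulo `I` lift
* `exists_isIdempotentElem_lift` (finite algebras), `exists_isIdempotentElem_lift_of_isIntegral`,
  `idempotents_bijOn`
* `henselianRing_of_isIntegral`, `henselianRing_of_finite_idempotents`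
* `henselianRing_radical`, `henselianRing_iff_of_radical_eq`, `henselianRing_sup`
-/

universe u v

open Polynomial
open Groth.Agent.Lib.Henselian.Basic Groth.Agent.Lib.Henselian.Etale

namespace Groth.Agent.Lib.Henselian.Pair

variable {A : Type u} [CommRing A]

lemma subsingleton_of_subsingleton_quotient {I : Ideal A} (hI : I ≤ Ideal.jacobson ⊥)
    [Subsingleton (A ⧸ I)] : Subsingleton A := by
  refine subsingleton_of_zero_eq_one (isUnit_zero_iff.mp (isUnit_of_isUnit_mk hI ?_))
  rw [Subsingleton.elim (Ideal.Quotient.mk I 0) 1]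
  exact isUnit_one

/-- A factorisation modulo `I` of a monic polynomial into coprime monic factors lifts. -/
theorem exists_monic_factor_lift (I : Ideal A) [HenselianRing A I] {f : A[X]} (hf : f.Monic)
    {g₀ h₀ : (A ⧸ I)[X]} (hg : g₀.Monic) (hh : h₀.Monic) (hc : IsCoprime g₀ h₀)
    (he : f.map (Ideal.Quotient.mk I) = g₀ * h₀) :
    ∃ g h : A[X], g.Monic ∧ h.Monic ∧ IsCoprime g h ∧ f = g * h ∧
      g.map (Ideal.Quotient.mk I) = g₀ ∧ h.map (Ideal.Quotient.mk I) = h₀ := by
  rcases subsingleton_or_nontrivial (A ⧸ I) with hs | hs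
  · have := subsingleton_of_subsingleton_quotient (I := I) HenselianRing.jac
    exact ⟨f, f, hf, hf, by rw [Subsingleton.elim f 1]; exact isCoprime_one_left,
      Subsingleton.elim _ _, Subsingleton.elim _ _, Subsingleton.elim _ _⟩
  set n := f.natDegree with hn
  set m := g₀.natDegree
  set k := h₀.natDegree
  have hnmk : n = m + k := by rw [hn, ← hf.natDegree_map (Ideal.Quotient.mk I), he, hg.natDegree_mul hh]
  let p : MonicDegreeEq A n := .mk f hf rfl
  let q₀ : MonicDegreeEq (A ⧸ I) m × MonicDegreeEq (A ⧸ I) k :=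
    (.mk g₀ hg rfl, .mk h₀ hh rfl)
  obtain ⟨τ, hτ⟩ := exists_algHom_lift_self I
    ((UniversalCoprimeFactorizationRing.homEquiv (A ⧸ I) m k hnmk p).symm ⟨q₀, he.symm, hc⟩)
  let q := UniversalCoprimeFactorizationRing.homEquiv A m k hnmk p τ
  have h1 := UniversalCoprimeFactorizationRing.homEquiv_comp_fst A m k hnmk p τ
    (Ideal.Quotient.mkₐ A I)
  have h2 := UniversalCoprimeFactorizationRing.homEquiv_comp_snd A m k hnmk p τ
    (Ideal.Quotient.mkₐ A I)
  rw [hτ, Equiv.apply_symm_apply] at h1 h2
  refine ⟨q.1.1.1, q.1.2.1, q.1.1.monic, q.1.2.monic, q.2.2, ?_, ?_, ?_⟩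
  · rw [q.2.1, Algebra.algebraMap_self, Polynomial.map_id]
    rfl
  · exact (congrArg Subtype.val h1).symm
  · exact (congrArg Subtype.val h2).symm

/-- Coprime factorisations modulo `I` of monic polynomials lift to (arbitrary) factorisations. -/
def WeakFactorLift (A : Type u) [CommRing A] (I : Ideal A) : Prop :=
  ∀ f : A[X], f.Monic → ∀ g₀ h₀ : (A ⧸ I)[X], g₀.Monic → h₀.Monic → IsCoprime g₀ h₀ →
    f.map (Ideal.Quotient.mk I) = g₀ * h₀ →
    ∃ g h : A[X], f = g * h ∧ g.map (Ideal.Quotient.mk I) = g₀ ∧ h.map (Ideal.Quotient.mk I) = h₀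

theorem weakFactorLift_of_henselianRing (I : Ideal A) [HenselianRing A I] : WeakFactorLift A I :=
  fun _ hf _ _ hg hh hc he =>
    let ⟨g, h, _, _, _, h1, h2, h3⟩ := exists_monic_factor_lift I hf hg hh hc he
    ⟨g, h, h1, h2, h3⟩

/-- Coprime factorisations which lift, even to non-monic factors, already lift idempotents. -/
theorem exists_isIdempotentElem_lift_of_weakFactorLift {I : Ideal A} (hI : I ≤ Ideal.jacobson ⊥)
    (hfac : WeakFactorLift A I) {B : Type v} [CommRing B]
    [Algebra A B] [Module.Finite A B] {b : B} (hb : b * b - b ∈ I.map (algebraMap A B)) :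
    ∃ e : B, IsIdempotentElem e ∧ e - b ∈ I.map (algebraMap A B) := by
  rcases subsingleton_or_nontrivial A with hA | hA
  · have : Subsingleton B := Module.subsingleton A B
    exact ⟨b, Subsingleton.elim _ _, by simp⟩
  rcases subsingleton_or_nontrivial (A ⧸ I) with hs | hs
  · have := subsingleton_of_subsingleton_quotient hI
    exact absurd hA (not_nontrivial A)
  set IB := I.map (algebraMap A B) with hIB
  have hrange : LinearMap.range (Algebra.lmul A B (b * b - b)) ≤ I • (⊤ : Submodule A B) := by
    rintro _ ⟨x, rfl⟩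
    rw [Ideal.smul_top_eq_map]
    exact IB.mul_mem_right x hb
  obtain ⟨p₀, hp₀, -, hcoeff, hp₀b⟩ :=
    LinearMap.exists_monic_and_natDegree_eq_and_coeff_mem_pow_and_aeval_eq_zero A (Algebra.lmul A B (b * b - b)) I hrange
  rw [aeval_algHom_apply] at hp₀b
  have hp₀c : aeval (b * b - b) p₀ = 0 := by
    simpa using LinearMap.congr_fun hp₀b 1
  have hp₀I : p₀.map (Ideal.Quotient.mk I) = X ^ p₀.natDegree := by
    ext i
    rw [coeff_map, coeff_X_pow]
    split_ifs with h
    · rw [h, hp₀.coeff_natDegree, map_one]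
    · rcases lt_or_gt_of_ne h with hlt | hgt
      · exact Ideal.Quotient.eq_zero_iff_mem.mpr (Ideal.pow_le_self (by omega) (hcoeff i))
      · rw [coeff_eq_zero_of_natDegree_lt hgt, map_zero]
  set N := p₀.natDegree + 1 with hN
  let f : A[X] := (p₀ * X).comp (X ^ 2 - X)
  have hq : (X ^ 2 - X : A[X]).natDegree = 2 := by
    compute_degree!
  have hf : f.Monic := (hp₀.mul monic_X).comp
    ((monic_X_pow 2).sub_of_left (by rw [degree_X_pow, degree_X]; decide)) (by omega)
  have hfmap : f.map (Ideal.Quotient.mk I) = X ^ N * (X - C 1) ^ N := by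
    rw [Polynomial.map_comp, Polynomial.map_mul, hp₀I, map_X, ← pow_succ, pow_comp, X_comp,
      Polynomial.map_sub, Polynomial.map_pow, map_X, ← mul_pow, map_one]
    ring
  have hcop : IsCoprime ((X : (A ⧸ I)[X]) ^ N) ((X - C 1) ^ N) := by
    refine (IsCoprime.pow ?_)
    simpa using isCoprime_X_sub_C_of_isUnit_sub (R := A ⧸ I) (a := 0) (b := 1) (by simp)
  obtain ⟨g, h, hgh, hgI, hhI⟩ :=
    hfac f hf _ _ (monic_X_pow N) ((monic_X_sub_C 1).pow N) hcop hfmap
  obtain ⟨u₀, v₀, huv⟩ := hcop
  obtain ⟨u, rfl⟩ := map_surjective (Ideal.Quotient.mk I) Ideal.Quotient.mk_surjective u₀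
  obtain ⟨v, rfl⟩ := map_surjective (Ideal.Quotient.mk I) Ideal.Quotient.mk_surjective v₀
  have hfb : aeval b f = 0 := by
    simp only [f, aeval_comp, map_mul, map_sub, aeval_X, sq, hp₀c, zero_mul]
  have hev : ∀ r : A[X], Ideal.Quotient.mk IB (aeval b r) =
      eval₂ (Ideal.quotientMap IB (algebraMap A B) Ideal.le_comap_map) (Ideal.Quotient.mk IB b)
        (r.map (Ideal.Quotient.mk I)) := by
    intro r
    rw [eval₂_map, Ideal.quotientMap_comp_mk, aeval_def, hom_eval₂]
  have hsum : Ideal.Quotient.mk IB (aeval b (u * g) + aeval b (v * h)) = 1 := by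
    rw [← map_add, hev, Polynomial.map_add, Polynomial.map_mul, Polynomial.map_mul, hgI, hhI, huv,
      eval₂_one]
  obtain ⟨w, hw⟩ := isUnit_of_sub_one_mem (map_le_jacobson_of_isIntegral hI)
    (Ideal.Quotient.eq.mp (hsum.trans (map_one _).symm))
  have hwinv : Ideal.Quotient.mk IB ↑w⁻¹ = 1 := by
    have := congrArg (Ideal.Quotient.mk IB) w.inv_mul
    rwa [map_mul, map_one, hw, hsum, mul_one] at this
  refine ⟨↑w⁻¹ * aeval b (u * g), ?_, ?_⟩
  · have h1 : (↑w⁻¹ : B) * (aeval b (u * g) + aeval b (v * h)) = 1 := by rw [← hw, Units.inv_mul]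
    have h2 : aeval b (u * g) * aeval b (v * h) = 0 := by
      rw [← map_mul, show u * g * (v * h) = u * v * (g * h) by ring, ← hgh, map_mul, hfb, mul_zero]
    show _ * _ = _
    linear_combination ((↑w⁻¹ : B) * aeval b (u * g)) * h1 - ((↑w⁻¹ : B) * ↑w⁻¹) * h2
  · have hbb : IsIdempotentElem (Ideal.Quotient.mk IB b) := by
      show _ * _ = _
      rw [← map_mul]; exact Ideal.Quotient.eq.mpr hb
    rw [← Ideal.Quotient.eq, map_mul, hwinv, one_mul]
    have h1 : Ideal.Quotient.mk IB (aeval b (u * g)) + Ideal.Quotient.mk IB (aeval b (v * h)) = 1 := by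
      rw [← map_add]; exact hsum
    simp only [map_mul, hev g, hev h, hgI, hhI, eval₂_pow, eval₂_X, eval₂_sub, map_one,
      eval₂_one] at h1 ⊢
    simp only [hN, hbb.pow_succ_eq] at h1 ⊢
    have hz : (Ideal.Quotient.mk IB b - 1) ^ N * Ideal.Quotient.mk IB b = 0 := by
      rw [hN, pow_succ, mul_assoc, sub_mul, one_mul, hbb.eq, sub_self, mul_zero]
    linear_combination (Ideal.Quotient.mk IB b) * h1 -
      (Ideal.Quotient.mk IB (aeval b u)) * hbb.eq - (Ideal.Quotient.mk IB (aeval b v)) * hz

/-- Idempotents of `B/IB` lift to the finite algebra `B`. -/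
theorem exists_isIdempotentElem_lift (I : Ideal A) [HenselianRing A I] {B : Type v} [CommRing B]
    [Algebra A B] [Module.Finite A B] {b : B} (hb : b * b - b ∈ I.map (algebraMap A B)) :
    ∃ e : B, IsIdempotentElem e ∧ e - b ∈ I.map (algebraMap A B) :=
  exists_isIdempotentElem_lift_of_weakFactorLift HenselianRing.jac
    (weakFactorLift_of_henselianRing I) hb

/-- Idempotents of `B/IB` lift to the integral algebra `B`. -/
theorem exists_isIdempotentElem_lift_of_isIntegral (I : Ideal A) [HenselianRing A I]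
    {B : Type v} [CommRing B] [Algebra A B] [Algebra.IsIntegral A B] {b : B}
    (hb : b * b - b ∈ I.map (algebraMap A B)) :
    ∃ e : B, IsIdempotentElem e ∧ e - b ∈ I.map (algebraMap A B) := by
  have hb' : b * b - b ∈ I • (⊤ : Submodule A B) := by rw [Ideal.smul_top_eq_map]; exact hb
  have key : ∀ z ∈ I • (⊤ : Submodule A B),
      ∃ F : Set B, F.Finite ∧ z ∈ I • Submodule.span A F := by
    intro z hz
    refine Submodule.smul_induction_on hz (fun a ha x _ => ⟨{x}, Set.finite_singleton x,
      Submodule.smul_mem_smul ha (Submodule.mem_span_singleton_self x)⟩) ?_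
    rintro x y ⟨F, hF, hx⟩ ⟨F', hF', hy⟩
    exact ⟨F ∪ F', hF.union hF', add_mem
      (Submodule.smul_mono le_rfl (Submodule.span_mono Set.subset_union_left) hx)
      (Submodule.smul_mono le_rfl (Submodule.span_mono Set.subset_union_right) hy)⟩
  obtain ⟨F, hF, hz⟩ := key _ hb'
  let B₀ : Subalgebra A B := Algebra.adjoin A (insert b F)
  have : Module.Finite A B₀ := Module.Finite.iff_fg.mpr
    (fg_adjoin_of_finite (hF.insert b) fun x _ => Algebra.IsIntegral.isIntegral x)
  let b' : B₀ := ⟨b, Algebra.subset_adjoin (Set.mem_insert b F)⟩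
  have hle : Submodule.span A F ≤ Subalgebra.toSubmodule B₀ :=
    Submodule.span_le.mpr fun x hx => Algebra.subset_adjoin (Set.mem_insert_of_mem b hx)
  obtain ⟨e, he, heb⟩ := exists_isIdempotentElem_lift I (b := b')
    (exists_mem_map_of_mem_smul B₀ I _ (Submodule.smul_mono le_rfl hle hz))
  refine ⟨e, he.map B₀.val, ?_⟩
  have := Ideal.mem_map_of_mem B₀.val.toRingHom heb
  rw [Ideal.map_map, show B₀.val.toRingHom.comp (algebraMap A B₀) = algebraMap A B from
    B₀.val.comp_algebraMap] at this
  exact this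

/-- Reduction modulo `IB` is bijective on idempotents, for integral `B`. -/
theorem idempotents_bijOn (I : Ideal A) [HenselianRing A I]
    (B : Type v) [CommRing B] [Algebra A B] [Algebra.IsIntegral A B] :
    Set.BijOn (Ideal.Quotient.mk (I.map (algebraMap A B)))
      {e : B | IsIdempotentElem e} {e | IsIdempotentElem e} := by
  refine ⟨fun e he => IsIdempotentElem.map he _, fun e he e' he' h => ?_, fun ε hε => ?_⟩
  · exact eq_of_isIdempotentElem (map_le_jacobson_of_isIntegral HenselianRing.jac) he he'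
      (Ideal.Quotient.eq.mp h)
  · obtain ⟨b, rfl⟩ := Ideal.Quotient.mk_surjective ε
    obtain ⟨e, he, heb⟩ := exists_isIdempotentElem_lift_of_isIntegral I (b := b)
      (Ideal.Quotient.eq.mp (by rw [map_mul]; exact hε))
    exact ⟨e, he, Ideal.Quotient.eq.mpr heb⟩

/-- If idempotents lift uniquely along `B → B/IB` for all finite `A`-algebras `B`, then `A` is
henselian at `I`. -/
theorem henselianRing_of_finite_idempotents (I : Ideal A)
    (h : ∀ (B : Type u) [CommRing B] [Algebra A B], Module.Finite A B →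
      Set.BijOn (Ideal.Quotient.mk (I.map (algebraMap A B)))
        {e : B | IsIdempotentElem e} {e | IsIdempotentElem e}) :
    HenselianRing A I := by
  refine henselianRing_of_cyclicLift ?_ fun B _ _ hB b₀ hb _ => ?_
  · refine le_jacobson_bot_of_isUnit_add_one fun x hx => ?_
    have hinj := (h (A ⧸ Ideal.span {1 + x}) inferInstance).injOn
    have htop : I.map (algebraMap A (A ⧸ Ideal.span {1 + x})) = ⊤ := by
      rw [Ideal.eq_top_iff_one]
      have h1 : (algebraMap A (A ⧸ Ideal.span {1 + x})) (-x) = 1 := by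
        rw [← map_one (algebraMap A (A ⧸ Ideal.span {1 + x})), Ideal.Quotient.algebraMap_eq,
          Ideal.Quotient.eq, Ideal.mem_span_singleton']
        exact ⟨-1, by ring⟩
      rw [← h1]
      exact Ideal.mem_map_of_mem _ (I.neg_mem hx)
    have := hinj (x₁ := 0) (x₂ := 1) IsIdempotentElem.zero IsIdempotentElem.one
      (Ideal.Quotient.eq.mpr (htop ▸ Submodule.mem_top))
    rw [← map_zero (Ideal.Quotient.mk (Ideal.span {1 + x})),
      ← map_one (Ideal.Quotient.mk (Ideal.span {1 + x})), Ideal.Quotient.eq,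
      Ideal.mem_span_singleton'] at this
    obtain ⟨c, hc⟩ := this
    exact IsUnit.of_mul_eq_one (-c) (by linear_combination -hc)
  · obtain ⟨e, he, heb⟩ := (h B hB).surjOn (show IsIdempotentElem (Ideal.Quotient.mk _ b₀) by
      show _ * _ = _
      rw [← map_mul]; exact Ideal.Quotient.eq.mpr hb)
    exact ⟨e, he, Ideal.Quotient.eq.mp heb⟩

theorem henselianRing_of_weakFactorLift {I : Ideal A} (hI : I ≤ Ideal.jacobson ⊥)
    (hfac : WeakFactorLift A I) : HenselianRing A I :=
  henselianRing_of_cyclicLift hI fun _ _ _ hB _ hb _ =>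
    have := hB
    exists_isIdempotentElem_lift_of_weakFactorLift hI hfac hb

/-- An integral algebra over a henselian pair is henselian at the extended ideal. -/
theorem henselianRing_of_isIntegral (I : Ideal A) [HenselianRing A I] (B : Type v) [CommRing B]
    [Algebra A B] [Algebra.IsIntegral A B] : HenselianRing B (I.map (algebraMap A B)) := by
  refine henselianRing_of_cyclicLift (map_le_jacobson_of_isIntegral HenselianRing.jac)
    fun C _ _ hC b₀ hb _ => ?_
  let : Algebra A C := Algebra.compHom C (algebraMap A B)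
  have : IsScalarTower A B C := IsScalarTower.of_algebraMap_eq fun _ => rfl
  have : Algebra.IsIntegral A C := Algebra.IsIntegral.trans B
  rw [Ideal.map_map, ← IsScalarTower.algebraMap_eq] at hb ⊢
  exact exists_isIdempotentElem_lift_of_isIntegral I hb

theorem henselianRing_radical (I : Ideal A) [HenselianRing A I] : HenselianRing A I.radical := by
  have : HenselianRing (A ⧸ I) (I.radical.map (Ideal.Quotient.mk I)) := by
    refine henselianRing_of_nil fun x hx => ?_
    obtain ⟨y, ⟨n, hn⟩, rfl⟩ :=
      (Ideal.mem_map_iff_of_surjective _ Ideal.Quotient.mk_surjective).mp hx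
    exact ⟨n, by rw [← map_pow, Ideal.Quotient.eq_zero_iff_mem.mpr hn]⟩
  exact henselianRing_of_quotient I.le_radical

theorem henselianRing_iff_of_radical_eq {I J : Ideal A} (h : I.radical = J.radical) :
    HenselianRing A I ↔ HenselianRing A J := by
  constructor <;> intro _
  · have := henselianRing_radical I
    exact henselianRing_of_le (J := I.radical) (h ▸ J.le_radical)
  · have := henselianRing_radical J
    exact henselianRing_of_le (J := J.radical) (h ▸ I.le_radical)

theorem henselianRing_sup (I J : Ideal A) [HenselianRing A I] [HenselianRing A J] :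
    HenselianRing A (I ⊔ J) := by
  have : HenselianRing (A ⧸ I) ((I ⊔ J).map (Ideal.Quotient.mk I)) := by
    rw [Ideal.map_sup, Ideal.map_quotient_self, bot_sup_eq]
    exact henselianRing_of_isIntegral J (A ⧸ I)
  exact henselianRing_of_quotient le_sup_left

end Groth.Agent.Lib.Henselian.Pair
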