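import Groth.Agent.Lib.Henselian.Etale
import Mathlib.RingTheory.Smooth.StandardSmooth
import Mathlib.RingTheory.Etale.Kaehler
import Mathlib.Algebra.MvPolynomial.PDeriv
import Mathlib.Algebra.Polynomial.Taylor

/-!
# Roots over henselian pairs

* `exists_root_lift`: simple roots of arbitrary (not necessarily monic) polynomials lift
* `exists_square_system_root`: solutions mod `I` of square systems with invertible Jacobian lift
-/

universe u v

open Groth.Agent.Lib.Henselian.Basic Groth.Agent.Lib.Henselian.Etale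

namespace Groth.Agent.Lib.Henselian.Roots

variable {A : Type u} [CommRing A]

open Polynomial in
/-- Hensel's lemma for arbitrary polynomials. -/
theorem exists_root_lift (I : Ideal A) [HenselianRing A I] (f : A[X]) {a₀ : A}
    (h₁ : f.eval a₀ ∈ I) (h₂ : IsUnit (Ideal.Quotient.mk I (f.derivative.eval a₀))) :
    ∃ a : A, f.IsRoot a ∧ a - a₀ ∈ I := by
  set q := taylor a₀ f with hq
  have hc : q.coeff 0 ∈ I := by rwa [hq, taylor_coeff_zero]
  obtain ⟨u, hu⟩ : IsUnit (q.coeff 1) := by
    rw [hq, taylor_coeff_one]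
    exact isUnit_of_isUnit_mk HenselianRing.jac h₂
  set c := q.coeff 0
  set v : A := ↑u⁻¹
  have hv : q.coeff 1 * v = 1 := by rw [← hu, Units.mul_inv]
  set N := q.natDegree with hN
  -- `q(-c v / z) z ^ (N+2) = c (z ^ (N+2) - z ^ (N+1) + p z)`
  let p : A[X] := ∑ i ∈ Finset.range (N + 1),
    C (q.coeff (i + 2) * (-v) ^ (i + 2) * c ^ (i + 1)) * X ^ (N - i)
  have hp : ∀ i, p.coeff i ∈ I := fun j => by
    simp only [p, finsetSum_coeff, coeff_C_mul]
    refine Ideal.sum_mem _ fun i _ => I.mul_mem_right _ ?_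
    rw [pow_succ c i, ← mul_assoc]
    exact I.mul_mem_left _ hc
  have hpd : p.natDegree ≤ N + 1 := by
    refine natDegree_sum_le_of_forall_le _ _ fun i _ => (natDegree_C_mul_X_pow_le _ _).trans ?_
    omega
  obtain ⟨α, hα1, hα⟩ := gabberRoot_of_henselianRing I (N + 1) N.succ_pos p hpd hp
  obtain ⟨w, rfl⟩ := isUnit_of_sub_one_mem HenselianRing.jac hα1
  set x : A := -(c * v * ↑w⁻¹) with hx
  have hqx : q.eval x = 0 := by
    have h0 : (w : A) ^ (N + 2) * q.eval x = 0 := by
      have hw : (w : A) * ↑w⁻¹ = 1 := w.mul_inv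
      have hroot : (w : A) ^ (N + 2) - (w : A) ^ (N + 1) + p.eval (w : A) = 0 := by
        have := hα.eq_zero
        rw [eval_add, eval_mul, eval_pow, eval_sub, eval_X, eval_one] at this
        linear_combination this
      have hpe : p.eval (w : A) = ∑ i ∈ Finset.range (N + 1),
          q.coeff (i + 2) * (-v) ^ (i + 2) * c ^ (i + 1) * (w : A) ^ (N - i) := by
        simp [p, eval_finsetSum]
      rw [eval_eq_sum_range' (p := q) (n := N + 3) (by omega),
        Finset.sum_range_succ', Finset.sum_range_succ']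
      rw [mul_add, mul_add, Finset.mul_sum]
      have hterm : ∀ i ∈ Finset.range (N + 1),
          (w : A) ^ (N + 2) * (q.coeff (i + 1 + 1) * x ^ (i + 1 + 1)) =
            c * (q.coeff (i + 2) * (-v) ^ (i + 2) * c ^ (i + 1) * (w : A) ^ (N - i)) := by
        intro i hi
        have hi' : i ≤ N := Nat.lt_succ_iff.mp (Finset.mem_range.mp hi)
        obtain ⟨k, hk⟩ := Nat.exists_eq_add_of_le hi'
        rw [hk, Nat.add_sub_cancel_left, hx, show i + k + 2 = (i + 2) + k by ring, pow_add,
          show -(c * v * ↑w⁻¹) = c * -v * ↑w⁻¹ by ring, mul_pow, mul_pow,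
          show i + 1 + 1 = i + 2 from rfl]
        calc _ = q.coeff (i + 2) * (c ^ (i + 2) * (-v) ^ (i + 2)) * (w : A) ^ k *
              ((w : A) * ↑w⁻¹) ^ (i + 2) := by rw [mul_pow]; ring
          _ = _ := by rw [hw, one_pow, pow_succ' c (i + 1)]; ring
      rw [Finset.sum_congr rfl hterm, ← Finset.mul_sum, ← hpe]
      linear_combination c * hroot + ((w : A) ^ (N + 2) * (-(c * ↑w⁻¹))) * hv
        + (-c * (w : A) ^ (N + 1)) * hw
    exact ((w.isUnit.pow _).mul_right_eq_zero).mp h0
  refine ⟨x + a₀, ?_, ?_⟩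
  · rw [IsRoot, ← taylor_eval, ← hq, hqx]
  · rw [add_sub_cancel_right, hx]
    exact I.neg_mem (I.mul_mem_right _ (I.mul_mem_right _ hc))

/-- Solutions modulo `I` of a square system of equations with invertible Jacobian lift. -/
theorem exists_square_system_root (I : Ideal A) [HenselianRing A I] {ι : Type} [Fintype ι]
    [DecidableEq ι] (P : ι → MvPolynomial ι A) (a₀ : ι → A)
    (h₀ : ∀ i, MvPolynomial.eval a₀ (P i) ∈ I)
    (hJ : IsUnit (Ideal.Quotient.mk I
      (Matrix.of fun i j => MvPolynomial.eval a₀ (MvPolynomial.pderiv j (P i))).det)) :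
    ∃ a : ι → A, (∀ i, MvPolynomial.eval a (P i) = 0) ∧ ∀ j, a j - a₀ j ∈ I := by
  let K : Ideal (MvPolynomial ι A) := Ideal.span (Set.range P)
  let S := MvPolynomial ι A ⧸ K
  let P₀ : Algebra.PreSubmersivePresentation A S ι ι :=
    Algebra.PreSubmersivePresentation.naive id Function.injective_id
  let Δ : S := P₀.jacobian
  let L := Localization.Away Δ
  have : Algebra.Etale A L := by
    have hΔ : IsUnit (algebraMap S L Δ) := IsLocalization.Away.algebraMap_isUnit _
    let Q : Algebra.SubmersivePresentation A L _ _ :=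
      { toPreSubmersivePresentation := .comp (.localizationAway L Δ) P₀
        jacobian_isUnit := by simpa [Algebra.smul_def, -isUnit_map_iff, Δ] using hΔ }
    have : Algebra.IsStandardSmoothOfRelativeDimension 0 A L :=
      Q.isStandardSmoothOfRelativeDimension (by
        simp [Q, Algebra.Presentation.dimension])
    infer_instance
  have hK : ∀ z ∈ K, (MvPolynomial.aeval fun j => Ideal.Quotient.mk I (a₀ j)) z = 0 := by
    intro z hz
    refine (Ideal.span_le (I := RingHom.ker _)).mpr ?_ hz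
    rintro _ ⟨i, rfl⟩
    rw [SetLike.mem_coe, RingHom.mem_ker]
    change MvPolynomial.eval₂ (algebraMap A (A ⧸ I)) (fun j => Ideal.Quotient.mk I (a₀ j)) (P i) = 0
    rw [Ideal.Quotient.algebraMap_eq]
    exact (MvPolynomial.eval₂_comp _ _ _).symm.trans (Ideal.Quotient.eq_zero_iff_mem.mpr (h₀ i))
  let σ₀ : S →ₐ[A] A ⧸ I := Ideal.Quotient.liftₐ K _ hK
  have hev : ∀ r : MvPolynomial ι A,
      σ₀ (Ideal.Quotient.mk K r) = Ideal.Quotient.mk I (MvPolynomial.eval a₀ r) := fun r =>
    (MvPolynomial.eval₂_comp (Ideal.Quotient.mk I) a₀ r).symm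
  have hσΔ : IsUnit (σ₀ Δ) := by
    have hval : ∀ x : MvPolynomial ι A, algebraMap P₀.Ring S x = Ideal.Quotient.mk K x := fun x => by
      rw [Algebra.Generators.algebraMap_apply]
      have h : MvPolynomial.aeval P₀.val = Ideal.Quotient.mkₐ A K :=
        MvPolynomial.algHom_ext fun j => by simp [P₀, K]; rfl
      exact AlgHom.congr_fun h x
    have hM : P₀.jacobiMatrix = Matrix.of fun i j => MvPolynomial.pderiv i (P j) :=
      Matrix.ext fun i j => Algebra.PreSubmersivePresentation.jacobiMatrix_naive _ _ _ _ i j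
    have hΔ' : Δ = Ideal.Quotient.mk K (Matrix.of fun i j => MvPolynomial.pderiv i (P j)).det := by
      rw [← hM]
      exact (Algebra.PreSubmersivePresentation.jacobian_eq_jacobiMatrix_det P₀).trans (hval _)
    rw [hΔ', hev]
    convert hJ using 2
    rw [RingHom.map_det, RingHom.mapMatrix_apply, ← Matrix.det_transpose]
    rfl
  let σ : L →ₐ[A] A ⧸ I := IsLocalization.Away.liftAlgHom Δ (f := σ₀) hσΔ
  obtain ⟨τ, hτ⟩ := exists_algHom_lift_self I σ
  let τ₀ : MvPolynomial ι A →ₐ[A] A :=
    (τ.comp (IsScalarTower.toAlgHom A S L)).comp (Ideal.Quotient.mkₐ A K)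
  refine ⟨fun j => τ₀ (MvPolynomial.X j), fun i => ?_, fun j => ?_⟩
  · have h : MvPolynomial.aeval (fun j => τ₀ (MvPolynomial.X j)) = τ₀ :=
      (MvPolynomial.aeval_unique τ₀).symm
    have := AlgHom.congr_fun h (P i)
    rw [MvPolynomial.aeval_eq_eval₂Hom, Algebra.algebraMap_self] at this
    refine this.trans ?_
    simp only [τ₀, AlgHom.comp_apply]
    rw [show Ideal.Quotient.mkₐ A K (P i) = 0 from
      Ideal.Quotient.eq_zero_iff_mem.mpr (Ideal.subset_span (Set.mem_range_self i)), map_zero, map_zero]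
  · rw [← Ideal.Quotient.eq]
    have := AlgHom.congr_fun hτ (algebraMap S L (Ideal.Quotient.mk K (MvPolynomial.X j)))
    simp only [σ, AlgHom.comp_apply, Ideal.Quotient.mkₐ_eq_mk] at this
    refine this.trans ?_
    simp [hev]

end Groth.Agent.Lib.Henselian.Roots
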