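import Groth.Agent.Lib.Henselian.PairHenselization
import Groth.Agent.Lib.Henselian.Pair

/-!
# Functoriality of henselizations of pairs

* `ringHom_ext`, `algHom_ext`, `existsUnique_algHom`: universal property over a base
* `isPairHenselization_self`, `algEquivOf`, `flat`
* `of_isNbhd`, `of_isNbhd'`: invariance under étale neighbourhoods
* `of_tensor`, `tensor_of_isIntegral`, `quotient`, `of_radical_eq`, `quotientMap_pow_bijective`
* `exists_factor`: maps from finitely presented algebras factor through a neighbourhood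
-/

universe u

open TensorProduct
open Groth.Agent.Lib.Henselian.Basic Groth.Agent.Lib.Henselian.Pair
open Groth.Agent.Lib.Henselian.PairHenselization

namespace Groth.Agent.Lib.Henselian.PairUP

variable {R : Type u} [CommRing R] {K : Ideal R} {B : Type u} [CommRing B] [Algebra R B]

theorem ringHom_ext (hB : Hens2.IsPairHenselization R K B) {C : Type u} [CommRing C] (J : Ideal C)
    (hC : HenselianRing C J) {g g' : B →+* C} (h : g.comp (algebraMap R B) = g'.comp (algebraMap R B))
    (hK : K.map (g.comp (algebraMap R B)) ≤ J) : g = g' :=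
  (hB.2 C J _ hC hK).unique rfl h.symm

theorem algHom_ext (hB : Hens2.IsPairHenselization R K B) {A : Type u} [CommRing A] [Algebra A R]
    [Algebra A B] [IsScalarTower A R B] {C : Type u} [CommRing C] [Algebra A C] (J : Ideal C)
    (hC : HenselianRing C J) {g g' : B →ₐ[A] C}
    (h : g.comp (IsScalarTower.toAlgHom A R B) = g'.comp (IsScalarTower.toAlgHom A R B))
    (hK : K.map (g.comp (IsScalarTower.toAlgHom A R B)).toRingHom ≤ J) : g = g' :=
  AlgHom.coe_ringHom_injective (ringHom_ext hB J hC (congrArg AlgHom.toRingHom h) hK)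

/-- The universal property over a base `A`. -/
theorem existsUnique_algHom {A : Type u} [CommRing A] [Algebra A R] [Algebra A B]
    [IsScalarTower A R B] (hB : Hens2.IsPairHenselization R K B) {C : Type u} [CommRing C]
    [Algebra A C] (J : Ideal C) (hC : HenselianRing C J) (f : R →ₐ[A] C)
    (hf : K.map f.toRingHom ≤ J) :
    ∃! g : B →ₐ[A] C, g.comp (IsScalarTower.toAlgHom A R B) = f := by
  obtain ⟨g, hg, -⟩ := hB.2 C J f.toRingHom hC hf
  let g' : B →ₐ[A] C :=
    { g with
      commutes' := fun a => by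
        show g (algebraMap A B a) = _
        rw [IsScalarTower.algebraMap_apply A R B]
        exact (RingHom.congr_fun hg _).trans (f.commutes a) }
  have hg' : g'.comp (IsScalarTower.toAlgHom A R B) = f := AlgHom.ext (RingHom.congr_fun hg)
  exact ⟨g', hg', fun g'' h'' => algHom_ext hB J hC (h''.trans hg'.symm) (h''.symm ▸ hf)⟩

/-- For extended ideals the condition on ideals is automatic. -/
lemma map_map_le {A : Type u} [CommRing A] (I : Ideal A) {S C : Type u} [CommRing S] [CommRing C]
    [Algebra A S] [Algebra A C] (f : S →ₐ[A] C) :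
    (I.map (algebraMap A S)).map f.toRingHom ≤ I.map (algebraMap A C) := by
  rw [Ideal.map_map]
  exact le_of_eq (congrArg (fun g => I.map g) f.comp_algebraMap)

theorem isPairHenselization_self (R : Type u) [CommRing R] (K : Ideal R) [HenselianRing R K] :
    Hens2.IsPairHenselization R K R := by
  refine ⟨?_, fun C _ J f _ _ => ⟨f, ?_, fun g hg => ?_⟩⟩
  · rwa [Algebra.algebraMap_self, Ideal.map_id]
  · exact RingHom.comp_id f
  · rwa [Algebra.algebraMap_self, RingHom.comp_id] at hg

/-- Two henselizations of one pair are isomorphic. -/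
noncomputable def algEquivOf (hB : Hens2.IsPairHenselization R K B) {B' : Type u} [CommRing B']
    [Algebra R B'] (hB' : Hens2.IsPairHenselization R K B') : B ≃ₐ[R] B' :=
  (equivOfIsPairHenselization hB).symm.trans (equivOfIsPairHenselization hB')

theorem of_algEquiv (hB : Hens2.IsPairHenselization R K B) {B' : Type u} [CommRing B']
    [Algebra R B'] (e : B ≃ₐ[R] B') : Hens2.IsPairHenselization R K B' := by
  have he : (e : B →+* B').comp (algebraMap R B) = algebraMap R B' := e.toAlgHom.comp_algebraMap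
  refine ⟨?_, fun C _ J f hC hf => ?_⟩
  · have h1 := hB.1
    let : Algebra B B' := (e : B →+* B').toAlgebra
    have : Algebra.IsIntegral B B' := Algebra.IsIntegral.of_surjective (Algebra.ofId B B') e.surjective
    have h2 := henselianRing_of_isIntegral (K.map (algebraMap R B)) B'
    rwa [Ideal.map_map, show (algebraMap B B').comp (algebraMap R B) = algebraMap R B' from he] at h2
  · obtain ⟨g, hg, huniq⟩ := hB.2 C J f hC hf
    refine ⟨g.comp (e.symm : B' →+* B), RingHom.ext fun r => ?_, fun g' hg' => RingHom.ext fun x => ?_⟩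
    · show g (e.symm (algebraMap R B' r)) = f r
      rw [e.symm.commutes]
      exact RingHom.congr_fun hg r
    · have := huniq (g'.comp (e : B →+* B')) ((RingHom.comp_assoc _ _ _).trans ((congrArg g'.comp he).trans hg'))
      rw [← this]
      exact congrArg g' (e.apply_symm_apply x).symm

theorem flat (hB : Hens2.IsPairHenselization R K B) : Module.Flat R B :=
  Module.Flat.of_linearEquiv (equivOfIsPairHenselization hB).symm.toLinearEquiv

section Nbhd

variable {S : Type u} [CommRing S] [Algebra R S] [Algebra.Etale R S] {H : Type u} [CommRing H]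
  [Algebra S H] [Algebra R H] [IsScalarTower R S H]

/-- A henselization of a neighbourhood is a henselization. -/
theorem of_isNbhd (hS : IsNbhd K S)
    (hH : Hens2.IsPairHenselization S (K.map (algebraMap R S)) H) :
    Hens2.IsPairHenselization R K H := by
  have hmap : (K.map (algebraMap R S)).map (algebraMap S H) = K.map (algebraMap R H) := by
    rw [Ideal.map_map, ← IsScalarTower.algebraMap_eq]
  refine ⟨hmap ▸ hH.1, fun C _ J f hC hf => ?_⟩
  let : Algebra R C := f.toAlgebra
  let ψ : R ⧸ K →ₐ[R] C ⧸ J := Ideal.Quotient.liftₐ K (Algebra.ofId R (C ⧸ J)) fun r hr =>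
    Ideal.Quotient.eq_zero_iff_mem.mpr (hf (Ideal.mem_map_of_mem _ hr))
  obtain ⟨τ, hτ, -⟩ := Etale.existsUnique_algHom_lift J (ψ.comp (point hS))
  have hτJ : ∀ τ' : S →ₐ[R] C, (K.map (algebraMap R S)).map τ'.toRingHom ≤ J := fun τ' => by
    rw [Ideal.map_map, show τ'.toRingHom.comp (algebraMap R S) = f from τ'.comp_algebraMap]
    exact hf
  obtain ⟨g, hg, huniq⟩ := existsUnique_algHom hH J hC τ (hτJ τ)
  refine ⟨g.toRingHom, g.comp_algebraMap, fun g' hg' => ?_⟩
  let g'' : H →ₐ[R] C := ⟨g', RingHom.congr_fun hg'⟩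
  have h1 : g''.comp (IsScalarTower.toAlgHom R S H) = τ := by
    refine Etale.algHom_ext_of_le_jacobson (J := J) hC.jac _ _ fun x => ?_
    obtain ⟨r, hr⟩ := exists_sub_mem_of_isNbhd hS x
    have key : ∀ τ' : S →ₐ[R] C, τ' x - f r ∈ J := fun τ' => by
      have := hτJ τ' (Ideal.mem_map_of_mem τ'.toRingHom hr)
      rwa [map_sub, show τ'.toRingHom (algebraMap R S r) = f r from τ'.commutes r] at this
    have := sub_mem (key (g''.comp (IsScalarTower.toAlgHom R S H))) (key τ)
    rwa [sub_sub_sub_cancel_right] at this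
  exact congrArg AlgHom.toRingHom (huniq g'' h1)

/-- A henselization is a henselization of each of its neighbourhoods. -/
theorem of_isNbhd' (hS : IsNbhd K S) (hH : Hens2.IsPairHenselization R K H) :
    Hens2.IsPairHenselization S (K.map (algebraMap R S)) H := by
  have hmap : (K.map (algebraMap R S)).map (algebraMap S H) = K.map (algebraMap R H) := by
    rw [Ideal.map_map, ← IsScalarTower.algebraMap_eq]
  refine ⟨hmap.symm ▸ hH.1, fun C _ J f hC hf => ?_⟩
  rw [Ideal.map_map] at hf
  obtain ⟨g, hg, huniq⟩ := hH.2 C J (f.comp (algebraMap R S)) hC hf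
  refine ⟨g, ?_, fun g' hg' => huniq g' ?_⟩
  · let : Algebra R C := (f.comp (algebraMap R S)).toAlgebra
    let a : S →ₐ[R] C := ⟨g.comp (algebraMap S H), fun r => by
      show g (algebraMap S H (algebraMap R S r)) = _
      rw [← IsScalarTower.algebraMap_apply]
      exact RingHom.congr_fun hg r⟩
    let b : S →ₐ[R] C := ⟨f, fun _ => rfl⟩
    have : a = b := by
      refine Etale.algHom_ext_of_le_jacobson (J := J) hC.jac _ _ fun x => ?_
      obtain ⟨r, hr⟩ := exists_sub_mem_of_isNbhd hS x
      have key : ∀ τ' : S →ₐ[R] C, τ' x - f (algebraMap R S r) ∈ J := fun τ' => by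
        have h2 := Ideal.mem_map_of_mem τ'.toRingHom hr
        rw [Ideal.map_map, show τ'.toRingHom.comp (algebraMap R S) = f.comp (algebraMap R S) from
          τ'.comp_algebraMap, map_sub,
          show τ'.toRingHom (algebraMap R S r) = f (algebraMap R S r) from τ'.commutes r] at h2
        exact hf h2
      have := sub_mem (key a) (key b)
      rwa [sub_sub_sub_cancel_right] at this
    exact congrArg AlgHom.toRingHom this
  · rw [← hg', RingHom.comp_assoc, ← IsScalarTower.algebraMap_eq]

end Nbhd

/-- A henselization of `B ⊗ S` is a henselization of `S`. -/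
theorem of_tensor (hB : Hens2.IsPairHenselization R K B) {S : Type u} [CommRing S] [Algebra R S]
    {H : Type u} [CommRing H] [Algebra (B ⊗[R] S) H] [Algebra S H]
    (h : ∀ s, algebraMap (B ⊗[R] S) H (1 ⊗ₜ s) = algebraMap S H s)
    (hH : Hens2.IsPairHenselization (B ⊗[R] S) (K.map (algebraMap R (B ⊗[R] S))) H) :
    Hens2.IsPairHenselization S (K.map (algebraMap R S)) H := by
  have hS : algebraMap S H = (algebraMap (B ⊗[R] S) H).comp
      (Algebra.TensorProduct.includeRight : S →ₐ[R] B ⊗[R] S).toRingHom := RingHom.ext fun s => (h s).symm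
  have hincl : (Algebra.TensorProduct.includeRight : S →ₐ[R] B ⊗[R] S).toRingHom.comp (algebraMap R S) =
      algebraMap R (B ⊗[R] S) := Algebra.TensorProduct.includeRight.comp_algebraMap
  refine ⟨?_, fun C _ J f hC hf => ?_⟩
  · rw [Ideal.map_map, hS, RingHom.comp_assoc, hincl, ← Ideal.map_map]
    exact hH.1
  rw [Ideal.map_map] at hf
  let : Algebra R C := (f.comp (algebraMap R S)).toAlgebra
  let fR : S →ₐ[R] C := ⟨f, fun _ => rfl⟩
  obtain ⟨gB, hgB, hgBu⟩ := hB.2 C J _ hC hf
  let gB' : B →ₐ[R] C := ⟨gB, RingHom.congr_fun hgB⟩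
  let q : B ⊗[R] S →ₐ[R] C := Algebra.TensorProduct.lift gB' fR fun _ _ => Commute.all _ _
  have hq : (K.map (algebraMap R (B ⊗[R] S))).map q.toRingHom ≤ J := by
    rw [Ideal.map_map, show q.toRingHom.comp (algebraMap R (B ⊗[R] S)) = f.comp (algebraMap R S) from
      q.comp_algebraMap]
    exact hf
  obtain ⟨g, hg, huniq⟩ := hH.2 C J q.toRingHom hC hq
  refine ⟨g, RingHom.ext fun s => ?_, fun g' hg' => huniq g' ?_⟩
  · show g (algebraMap S H s) = f s
    rw [← h]
    refine (RingHom.congr_fun hg (1 ⊗ₜ s)).trans ?_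
    show q (1 ⊗ₜ s) = f s
    simp only [q, Algebra.TensorProduct.lift_tmul, map_one, one_mul]
    rfl
  · have hR : g'.comp (algebraMap S H) = f := hg'
    let φ : B ⊗[R] S →ₐ[R] C := ⟨g'.comp (algebraMap (B ⊗[R] S) H), fun r => by
      show g' (algebraMap (B ⊗[R] S) H (algebraMap R _ r)) = f (algebraMap R S r)
      rw [← hincl, RingHom.comp_apply]
      show g' (algebraMap (B ⊗[R] S) H (1 ⊗ₜ _)) = _
      rw [h]
      exact RingHom.congr_fun hR _⟩
    have h1 : φ.comp Algebra.TensorProduct.includeRight = q.comp Algebra.TensorProduct.includeRight :=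
      AlgHom.ext fun s => by
        show g' (algebraMap (B ⊗[R] S) H (1 ⊗ₜ s)) = q (1 ⊗ₜ s)
        rw [h]
        simp only [q, Algebra.TensorProduct.lift_tmul, map_one, one_mul]
        exact RingHom.congr_fun hR s
    have h2 : φ.comp Algebra.TensorProduct.includeLeft = gB' :=
      AlgHom.coe_ringHom_injective (hgBu _ (φ.comp Algebra.TensorProduct.includeLeft).comp_algebraMap)
    have h3 : φ = q := Algebra.TensorProduct.ext
      (h2.trans (AlgHom.ext fun b => by simp [q])) h1
    exact congrArg AlgHom.toRingHom h3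

/-- Henselization commutes with integral base change. -/
theorem tensor_of_isIntegral (hB : Hens2.IsPairHenselization R K B) {S : Type u} [CommRing S]
    [Algebra R S] [Algebra.IsIntegral R S] [Algebra S (B ⊗[R] S)]
    (h : ∀ s, algebraMap S (B ⊗[R] S) s = 1 ⊗ₜ s) :
    Hens2.IsPairHenselization S (K.map (algebraMap R S)) (B ⊗[R] S) := by
  refine of_tensor hB (fun s => (h s).symm) ?_
  have := hB.1
  have h2 := henselianRing_of_isIntegral (K.map (algebraMap R B)) (B ⊗[R] S)
  rw [Ideal.map_map, ← IsScalarTower.algebraMap_eq R B (B ⊗[R] S)] at h2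
  exact isPairHenselization_self _ _

/-- Henselization commutes with quotients. -/
theorem quotient (hB : Hens2.IsPairHenselization R K B) (L : Ideal R)
    [Algebra (R ⧸ L) (B ⧸ L.map (algebraMap R B))]
    (h : ∀ r, algebraMap (R ⧸ L) (B ⧸ L.map (algebraMap R B)) (Ideal.Quotient.mk L r) =
      Ideal.Quotient.mk _ (algebraMap R B r)) :
    Hens2.IsPairHenselization (R ⧸ L) (K.map (Ideal.Quotient.mk L)) (B ⧸ L.map (algebraMap R B)) := by
  have hc : (algebraMap (R ⧸ L) (B ⧸ L.map (algebraMap R B))).comp (Ideal.Quotient.mk L) =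
      (Ideal.Quotient.mk _).comp (algebraMap R B) := RingHom.ext h
  refine ⟨?_, fun C _ J f hC hf => ?_⟩
  · have := hB.1
    have h2 := henselianRing_of_isIntegral (K.map (algebraMap R B)) (B ⧸ L.map (algebraMap R B))
    rwa [Ideal.Quotient.algebraMap_eq, Ideal.map_map, ← hc, ← Ideal.map_map] at h2
  rw [Ideal.map_map] at hf
  obtain ⟨g, hg, huniq⟩ := hB.2 C J (f.comp (Ideal.Quotient.mk L)) hC hf
  have hgL : L.map (algebraMap R B) ≤ RingHom.ker g := Ideal.map_le_iff_le_comap.mpr fun r hr => by
    show g (algebraMap R B r) = 0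
    rw [← RingHom.comp_apply g, hg, RingHom.comp_apply, Ideal.Quotient.eq_zero_iff_mem.mpr hr, map_zero]
  refine ⟨Ideal.Quotient.lift _ g hgL, ?_, fun g' hg' => ?_⟩
  · refine RingHom.ext fun x => ?_
    obtain ⟨r, rfl⟩ := Ideal.Quotient.mk_surjective x
    show Ideal.Quotient.lift _ g hgL (algebraMap (R ⧸ L) _ (Ideal.Quotient.mk L r)) = _
    rw [h]
    exact RingHom.congr_fun hg r
  · have := huniq (g'.comp (Ideal.Quotient.mk _))
      (by show (g'.comp (Ideal.Quotient.mk _)).comp (algebraMap R B) = _
          rw [RingHom.comp_assoc, ← hc, ← RingHom.comp_assoc, hg'])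
    refine Ideal.Quotient.ringHom_ext ?_
    rw [this]
    rfl

/-- Only the radical of the ideal matters. -/
theorem of_radical_eq {K' : Ideal R} (h : K.radical = K'.radical)
    (hB : Hens2.IsPairHenselization R K B) : Hens2.IsPairHenselization R K' B := by
  have key : ∀ (L L' : Ideal R), L ≤ L'.radical → ∀ {C : Type u} [CommRing C] (f : R →+* C)
      (J : Ideal C), L'.map f ≤ J → L.map f ≤ J.radical := fun L L' hL {C} _ f J hJ =>
    ((Ideal.map_mono hL).trans (Ideal.map_radical_le f)).trans (Ideal.radical_mono hJ)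
  refine ⟨?_, fun C _ J f hC hf => hB.2 C J.radical f (henselianRing_radical J) ?_⟩
  · refine (henselianRing_iff_of_radical_eq (le_antisymm ?_ ?_)).mp hB.1
    · exact Ideal.radical_le_radical_iff.mpr (key K K' (h ▸ Ideal.le_radical) _ _ le_rfl)
    · exact Ideal.radical_le_radical_iff.mpr (key K' K (h ▸ Ideal.le_radical) _ _ le_rfl)
  · exact key K K' (h ▸ Ideal.le_radical) _ _ hf

/-- `R/K^n = B/K^nB`. -/
theorem quotientMap_pow_bijective (hB : Hens2.IsPairHenselization R K B) (n : ℕ) :
    Function.Bijective (Ideal.quotientMap ((K ^ n).map (algebraMap R B)) (algebraMap R B)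
      Ideal.le_comap_map) := by
  let : Algebra (R ⧸ K ^ n) (B ⧸ (K ^ n).map (algebraMap R B)) :=
    (Ideal.quotientMap ((K ^ n).map (algebraMap R B)) (algebraMap R B) Ideal.le_comap_map).toAlgebra
  have h1 := quotient hB (K ^ n) fun r => rfl
  have : HenselianRing (R ⧸ K ^ n) (K.map (Ideal.Quotient.mk (K ^ n))) := by
    refine henselianRing_of_nil fun x hx => ?_
    obtain ⟨y, hy, rfl⟩ := (Ideal.mem_map_iff_of_surjective _ Ideal.Quotient.mk_surjective).mp hx
    exact ⟨n, by rw [← map_pow, Ideal.Quotient.eq_zero_iff_mem]; exact Ideal.pow_mem_pow hy n⟩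
  have h2 := isPairHenselization_self (R ⧸ K ^ n) (K.map (Ideal.Quotient.mk (K ^ n)))
  let e := algEquivOf h2 h1
  have he : ∀ x, algebraMap (R ⧸ K ^ n) (B ⧸ (K ^ n).map (algebraMap R B)) x = e x := fun x =>
    (e.commutes x).symm
  show Function.Bijective (algebraMap (R ⧸ K ^ n) (B ⧸ (K ^ n).map (algebraMap R B)))
  rw [show ⇑(algebraMap (R ⧸ K ^ n) (B ⧸ (K ^ n).map (algebraMap R B))) = ⇑e from funext he]
  exact e.bijective

theorem quotientMap_bijective (hB : Hens2.IsPairHenselization R K B) :
    Function.Bijective (Ideal.quotientMap (K.map (algebraMap R B)) (algebraMap R B)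
      Ideal.le_comap_map) := by
  refine ⟨Ideal.quotientMap_injective' fun r hr => ?_, fun q => ?_⟩
  · have := (quotientMap_pow_bijective hB 1).1
      (a₁ := Ideal.Quotient.mk (K ^ 1) r) (a₂ := 0) (by
        rw [Ideal.quotientMap_mk, map_zero, Ideal.Quotient.eq_zero_iff_mem, pow_one]
        exact hr)
    rwa [Ideal.Quotient.eq_zero_iff_mem, pow_one] at this
  · obtain ⟨x, rfl⟩ := Ideal.Quotient.mk_surjective q
    obtain ⟨r, hr⟩ := (quotientMap_pow_bijective hB 1).2 (Ideal.Quotient.mk _ x)
    obtain ⟨r, rfl⟩ := Ideal.Quotient.mk_surjective r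
    refine ⟨Ideal.Quotient.mk K r, ?_⟩
    rw [Ideal.quotientMap_mk, Ideal.Quotient.eq] at hr ⊢
    rwa [pow_one] at hr

/-- A map from a finitely presented algebra factors through a neighbourhood. -/
theorem exists_factor {A : Type u} [CommRing A] [Algebra A R] [Algebra A B] [IsScalarTower A R B]
    (hB : Hens2.IsPairHenselization R K B) {T : Type u} [CommRing T] [Algebra A T]
    [Algebra.FinitePresentation A T] (χ : T →ₐ[A] B) :
    ∃ (S : Type u) (_ : CommRing S) (_ : Algebra R S) (_ : Algebra A S) (_ : IsScalarTower A R S)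
      (_ : Algebra.Etale R S) (_ : IsNbhd K S) (φ : S →ₐ[R] B) (ψ : T →ₐ[A] S),
      (φ.restrictScalars A).comp ψ = χ := by
  classical
  obtain ⟨n, π, hπ, hker⟩ := Algebra.FinitePresentation.out (R := A) (A := T)
  obtain ⟨G, hG⟩ := hker
  obtain ⟨S₁, _, _, _, hS₁, φ₁, hφ₁⟩ :=
    exists_isNbhd_range hB (Finset.univ.image fun i => χ (π (MvPolynomial.X i)))
  choose x hx using fun i => hφ₁ (Finset.mem_image_of_mem (fun i => χ (π (MvPolynomial.X i))) (Finset.mem_univ i))
  let : Algebra A S₁ := ((algebraMap R S₁).comp (algebraMap A R)).toAlgebra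
  have : IsScalarTower A R S₁ := IsScalarTower.of_algebraMap_eq fun _ => rfl
  let v : MvPolynomial (Fin n) A →ₐ[A] S₁ := MvPolynomial.aeval x
  have hv : (φ₁.restrictScalars A).comp v = χ.comp π :=
    MvPolynomial.algHom_ext fun i => by simp [v, hx]
  obtain ⟨S, _, _, _, hS, ρ, hρ⟩ := exists_isNbhd_kill hB φ₁ (G.image v) (by
    intro y hy
    obtain ⟨z, hz, rfl⟩ := Finset.mem_image.mp hy
    rw [show φ₁ (v z) = χ (π z) from AlgHom.congr_fun hv z,
      show π z = 0 from RingHom.mem_ker.mp (hG ▸ Ideal.subset_span hz), map_zero])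
  let : Algebra A S := ((algebraMap R S).comp (algebraMap A R)).toAlgebra
  have : IsScalarTower A R S := IsScalarTower.of_algebraMap_eq fun _ => rfl
  let w : MvPolynomial (Fin n) A →ₐ[A] S := (ρ.restrictScalars A).comp v
  have hw : RingHom.ker π.toRingHom ≤ RingHom.ker w.toRingHom := by
    rw [show RingHom.ker π.toRingHom = Ideal.span (G : Set _) from hG.symm, Ideal.span_le]
    exact fun z hz => hρ _ (Finset.mem_image_of_mem v hz)
  obtain ⟨φ⟩ := (nonempty_unique_algHom hB hS).map fun hu => hu.default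
  refine ⟨S, inferInstance, inferInstance, inferInstance, inferInstance, inferInstance, hS, φ,
    AlgHom.liftOfSurjective π hπ w hw, AlgHom.ext fun t => ?_⟩
  obtain ⟨p, rfl⟩ := hπ t
  show φ (AlgHom.liftOfSurjective π hπ w hw (π p)) = χ (π p)
  rw [AlgHom.liftOfSurjective_apply]
  show φ (ρ (v p)) = _
  rw [show φ (ρ (v p)) = φ₁ (v p) from
    AlgHom.congr_fun (subsingleton_algHom hB hS₁ (φ.comp ρ) φ₁) _]
  exact AlgHom.congr_fun hv p

end Groth.Agent.Lib.Henselian.PairUP
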