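import Groth.Agent.Lib.Henselian.Pair
import Groth.Agent.Lib.Henselian.LocalRing
import Mathlib.RingTheory.TensorProduct.Quotient
import Mathlib.FieldTheory.IsSepClosed
import Mathlib.RingTheory.Unramified.Field

/-!
# Homomorphisms out of étale algebras into henselian rings

* `existsUnique_algHom_lift_of_surjective`: lifting along a surjection with henselian kernel
* `bijective_tensorProduct_map`: homomorphisms of finite étale algebras and base change
* `mem_range_of_isSepClosed`: field-valued points of unramified algebras over sep. closed fields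
-/

universe u v w x

open TensorProduct
open Groth.Agent.Lib.Henselian.Basic Groth.Agent.Lib.Henselian.Pair Groth.Agent.Lib.Henselian.Etale

namespace Groth.Agent.Lib.Henselian.EtaleHom

/-- Maps out of an étale algebra lift uniquely along a surjection with henselian kernel. -/
theorem existsUnique_algHom_lift_of_surjective {R : Type w} [CommRing R] {A : Type u} [CommRing A]
    [Algebra R A] {Ω : Type x} [CommRing Ω] [Algebra R Ω] (π : A →ₐ[R] Ω)
    (hπ : Function.Surjective π) [HenselianRing A (RingHom.ker π)]
    {S : Type v} [CommRing S] [Algebra R S] [Algebra.Etale R S] (σ : S →ₐ[R] Ω) :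
    ∃! τ : S →ₐ[R] A, π.comp τ = σ := by
  let e := Ideal.quotientKerAlgEquivOfSurjective hπ
  have key : ∀ τ : S →ₐ[R] A, π.comp τ = e.toAlgHom.comp ((Ideal.Quotient.mkₐ R _).comp τ) :=
    fun τ => AlgHom.ext fun x => rfl
  obtain ⟨τ, hτ, huniq⟩ := existsUnique_algHom_lift (RingHom.ker π) (e.symm.toAlgHom.comp σ)
  refine ⟨τ, ?_, fun τ' hτ' => huniq τ' ?_⟩
  · show π.comp τ = σ
    rw [key, hτ]
    exact AlgHom.ext fun x => e.apply_symm_apply _
  · show (Ideal.Quotient.mkₐ R _).comp τ' = _
    rw [← hτ', key]
    exact AlgHom.ext fun x => (e.symm_apply_apply _).symm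

lemma ker_includeRight {A : Type u} [CommRing A] {K : Type w} [CommRing K] [Algebra A K]
    (hK : Function.Surjective (algebraMap A K)) {B : Type x} [CommRing B] [Algebra A B] :
    RingHom.ker (Algebra.TensorProduct.includeRight : B →ₐ[A] K ⊗[A] B) =
      (RingHom.ker (algebraMap A K)).map (algebraMap A B) := by
  let e := Algebra.TensorProduct.lid A B
  let f := Algebra.TensorProduct.map (Algebra.ofId A K) (AlgHom.id A B)
  have h : (Algebra.TensorProduct.includeRight : B →ₐ[A] K ⊗[A] B) = f.comp e.symm.toAlgHom :=
    AlgHom.ext fun x => by simp [f, e]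
  have hf : RingHom.ker f = (RingHom.ker (algebraMap A K)).map
      (Algebra.TensorProduct.includeLeft : A →ₐ[A] A ⊗[A] B) :=
    Algebra.TensorProduct.rTensor_ker (Algebra.ofId A K) hK
  calc RingHom.ker (Algebra.TensorProduct.includeRight : B →ₐ[A] K ⊗[A] B)
      = (RingHom.ker f).comap e.symm.toRingEquiv := by rw [h]; rfl
    _ = (RingHom.ker f).map e.toRingEquiv :=
      (Ideal.map_comap_of_equiv e.toRingEquiv).symm
    _ = _ := by
      rw [hf]
      show Ideal.map e.toRingEquiv (Ideal.map
        (Algebra.TensorProduct.includeLeft : A →ₐ[A] A ⊗[A] B).toRingHom _) = _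
      rw [← Ideal.map_coe, Ideal.map_map]
      congr 1
      ext a
      simp [e, Algebra.TensorProduct.includeLeft_apply, Algebra.algebraMap_eq_smul_one]

/-- Homomorphisms from an étale algebra to an algebra henselian over `I` are the homomorphisms
after base change along a surjection with kernel `I`. -/
theorem bijective_tensorProduct_map {A : Type u} [CommRing A] (I : Ideal A) [HenselianRing A I]
    {K : Type w} [CommRing K] [Algebra A K] (hK : Function.Surjective (algebraMap A K))
    (hI : RingHom.ker (algebraMap A K) = I)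
    (B₁ : Type v) (B₂ : Type x) [CommRing B₁] [CommRing B₂] [Algebra A B₁] [Algebra A B₂]
    [Algebra.Etale A B₁] [Algebra.IsIntegral A B₂] :
    Function.Bijective (fun φ : B₁ →ₐ[A] B₂ =>
      Algebra.TensorProduct.map (AlgHom.id K K) φ) := by
  let π : B₂ →ₐ[A] K ⊗[A] B₂ := Algebra.TensorProduct.includeRight
  have hπ : Function.Surjective π := Algebra.TensorProduct.includeRight_surjective B₂ hK
  have hker : RingHom.ker π = I.map (algebraMap A B₂) := by
    rw [← hI]
    exact ker_includeRight hK
  have : HenselianRing B₂ (RingHom.ker π) := hker ▸ henselianRing_of_isIntegral I B₂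
  have hmap : ∀ (φ : B₁ →ₐ[A] B₂) (x : B₁),
      Algebra.TensorProduct.map (AlgHom.id K K) φ (1 ⊗ₜ x) = π (φ x) := fun φ x => by simp [π]
  refine (Function.bijective_iff_existsUnique _).mpr fun g => ?_
  obtain ⟨τ, hτ, huniq⟩ := existsUnique_algHom_lift_of_surjective π hπ
    ((g.restrictScalars A).comp Algebra.TensorProduct.includeRight)
  refine ⟨τ, ?_, fun τ' hτ' => huniq τ' ?_⟩
  · refine Algebra.TensorProduct.ext (by ext) (AlgHom.ext fun x => ?_)
    exact (hmap τ x).trans (AlgHom.congr_fun hτ x)
  · refine AlgHom.ext fun x => ?_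
    exact (hmap τ' x).symm.trans (AlgHom.congr_fun hτ' (1 ⊗ₜ x))

/-- A field-valued point of an unramified algebra over a separably closed field is rational. -/
theorem mem_range_of_isSepClosed {k : Type u} [Field k] [IsSepClosed k] {E : Type v} [CommRing E]
    [Algebra k E] [Algebra.FormallyUnramified k E] [Algebra.EssFiniteType k E] {K : Type w}
    [Field K] [Algebra k K] (σ : E →ₐ[k] K) (x : E) : σ x ∈ Set.range (algebraMap k K) := by
  have := Algebra.FormallyUnramified.finite_of_free k E
  have : (RingHom.ker σ).IsPrime := RingHom.ker_isPrime _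
  have : Module.Finite k (E ⧸ RingHom.ker σ) := inferInstance
  have hmax : (RingHom.ker σ).IsMaximal :=
    Ideal.Quotient.maximal_of_isField _
      (isField_of_isIntegral_of_isField' (R := k) (Field.toIsField k))
  let : Field (E ⧸ RingHom.ker σ) := Ideal.Quotient.field _
  have : Algebra.FormallyUnramified k (E ⧸ RingHom.ker σ) :=
    Algebra.FormallyUnramified.of_surjective (Ideal.Quotient.mkₐ k _) Ideal.Quotient.mk_surjective
  have : Algebra.IsSeparable k (E ⧸ RingHom.ker σ) :=
    Algebra.FormallyUnramified.isSeparable k _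
  obtain ⟨c, hc⟩ := IsSepClosed.algebraMap_surjective k (E ⧸ RingHom.ker σ) (Ideal.Quotient.mk _ x)
  refine ⟨c, ?_⟩
  rw [← σ.commutes c]
  rw [← Ideal.Quotient.mk_algebraMap, Ideal.Quotient.eq, RingHom.mem_ker, map_sub] at hc
  exact sub_eq_zero.mp hc

end Groth.Agent.Lib.Henselian.EtaleHom
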