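import Groth.Agent.Lib.Henselian.Finite
import Groth.Agent.Lib.Henselian.EtaleHom
import Mathlib.RingTheory.Etale.QuasiFinite

/-!
# Zariski's main theorem over henselian local rings

* `exists_idempotent_of_quasiFiniteAt`: a quasi-finite point of the closed fibre lies in a finite
  direct factor
* `exists_idempotent_not_quasiFiniteAt`: the maximal finite direct factor
* `toPiLocalization_bijective_of_finite_localizations`: finite algebras with finite localisations
  decompose
-/

universe u v

open IsLocalRing TensorProduct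
open Groth.Agent.Lib.Henselian.Basic

namespace Groth.Agent.Lib.Henselian.QuasiFinite

variable {R : Type u} [CommRing R] {S : Type v} [CommRing S] [Algebra R S]

lemma finite_quotient_iff_fg_range {e : S} (he : IsIdempotentElem e) :
    Module.Finite R (S ⧸ Ideal.span ({1 - e} : Set S)) ↔
      (LinearMap.range (LinearMap.mulLeft R e)).FG := by
  let J := Ideal.span ({1 - e} : Set S)
  have hker : ∀ x, e * x = 0 ↔ x ∈ J := fun x => by
    rw [Ideal.mem_span_singleton]
    refine ⟨fun h => ⟨x, by linear_combination h⟩, ?_⟩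
    rintro ⟨c, rfl⟩
    linear_combination -c * he.eq
  let f : S →ₗ[R] S ⧸ J := (Ideal.Quotient.mkₐ R J).toLinearMap
  constructor
  · intro h
    obtain ⟨t, ht⟩ := h.fg_top
    classical
    choose g hg using fun y : S ⧸ J => Ideal.Quotient.mk_surjective y
    refine ⟨t.image fun y => e * g y, le_antisymm (Submodule.span_le.mpr ?_) ?_⟩
    · intro z hz
      simp only [Finset.coe_image, Set.mem_image] at hz
      obtain ⟨y, -, rfl⟩ := hz
      exact ⟨g y, rfl⟩
    rintro _ ⟨x, rfl⟩
    have hx : f x ∈ Submodule.span R (t : Set (S ⧸ J)) := ht ▸ Submodule.mem_top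
    have hsub : Submodule.span R (t : Set (S ⧸ J)) ≤
        ((Submodule.span R (↑(t.image fun y => e * g y) : Set S)).map f) := by
      rw [Submodule.map_span]
      refine Submodule.span_le.mpr fun y hy => Submodule.subset_span ⟨e * g y, ?_, ?_⟩
      · exact Finset.mem_image_of_mem _ hy
      · show Ideal.Quotient.mk J (e * g y) = y
        conv_rhs => rw [← hg y]
        rw [Ideal.Quotient.eq, ← hker]
        linear_combination (g y) * he.eq
    obtain ⟨z, hz, hzx⟩ := hsub hx
    have hz' : e * z = z := by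
      have : z ∈ LinearMap.range (LinearMap.mulLeft R e) := Submodule.span_le.mpr (by
        intro w hw
        simp only [Finset.coe_image, Set.mem_image] at hw
        obtain ⟨y, -, rfl⟩ := hw
        exact ⟨g y, rfl⟩) hz
      obtain ⟨w, rfl⟩ := this
      show e * (e * w) = e * w
      rw [← mul_assoc, he.eq]
    have : e * z = e * x := by
      rw [← sub_eq_zero, ← mul_sub, hker]
      exact Ideal.Quotient.eq.mp hzx
    show e * x ∈ _
    rwa [← this, hz']
  · intro h
    refine ⟨?_⟩
    convert h.map f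
    refine (eq_top_iff.mpr fun y _ => ?_).symm
    obtain ⟨x, rfl⟩ := Ideal.Quotient.mk_surjective y
    refine ⟨e * x, ⟨x, rfl⟩, ?_⟩
    show Ideal.Quotient.mk J (e * x) = _
    rw [Ideal.Quotient.eq, ← hker]
    linear_combination x * he.eq

/-- A quasi-finite point of the closed fibre over a henselian local ring lies in a finite direct
factor. -/
theorem exists_idempotent_of_quasiFiniteAt {R : Type u} [CommRing R] [HenselianLocalRing R]
    {S : Type v} [CommRing S] [Algebra R S] [Algebra.FiniteType R S] (q : Ideal S) [q.IsPrime]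
    [q.LiesOver (maximalIdeal R)] [Algebra.QuasiFiniteAt R q] :
    ∃ e : S, IsIdempotentElem e ∧ e ∉ q ∧ Module.Finite R (S ⧸ Ideal.span ({1 - e} : Set S)) := by
  have := LocalRing.henselianLocalRing_iff_henselianRing.mp ‹HenselianLocalRing R›
  set m := maximalIdeal R
  obtain ⟨R', _, _, _, P, _, _, e, he, P', _, _, hP'q, heP', hP, hfin, -⟩ :=
    Algebra.exists_etale_isIdempotentElem_forall_liesOver_eq m q
  let χ := Ideal.ResidueField.mapₐ m P (Algebra.ofId R R') (P.over_def m)
  let eχ := AlgEquiv.ofBijective χ hP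
  let eκ : (R ⧸ m) ≃ₐ[R] m.ResidueField :=
    AlgEquiv.ofBijective (IsScalarTower.toAlgHom R (R ⧸ m) m.ResidueField)
      (Ideal.bijective_algebraMap_quotient_residueField m)
  let σ : R' →ₐ[R] R ⧸ m :=
    (eκ.symm.toAlgHom.comp eχ.symm.toAlgHom).comp (IsScalarTower.toAlgHom R R' P.ResidueField)
  obtain ⟨τ, hτ⟩ := Etale.exists_algHom_lift m σ
  have hτP : P = m.comap τ.toRingHom := by
    ext x
    have h1 : Ideal.Quotient.mk m (τ x) = eκ.symm (eχ.symm (algebraMap R' P.ResidueField x)) :=
      AlgHom.congr_fun hτ x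
    rw [Ideal.mem_comap, ← Ideal.algebraMap_residueField_eq_zero (I := P)]
    show _ ↔ τ x ∈ m
    rw [← Ideal.Quotient.eq_zero_iff_mem, h1, map_eq_zero_iff _ eκ.symm.injective,
      map_eq_zero_iff _ eχ.symm.injective]
  let π : R' ⊗[R] S →ₐ[R] S :=
    Algebra.TensorProduct.lift ((Algebra.ofId R S).comp τ) (AlgHom.id R S) fun _ _ => Commute.all _ _
  have hπ : ∀ x, π (1 ⊗ₜ x) = x := fun x => by simp [π]
  have hπ' : ∀ r, π (algebraMap R' (R' ⊗[R] S) r) = algebraMap R S (τ r) := fun r => by
    simp [π, Algebra.TensorProduct.algebraMap_apply]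
  refine ⟨π e, he.map π, ?_, ?_⟩
  · have hlo : (q.comap π.toRingHom).LiesOver P := ⟨by
      ext r
      rw [Ideal.under_def, Ideal.mem_comap, Ideal.mem_comap]
      show r ∈ P ↔ π (algebraMap R' _ r) ∈ q
      rw [hπ', hτP, Ideal.mem_comap, ← Ideal.mem_comap (f := algebraMap R S),
        ← Ideal.under_def, ← q.over_def m]
      rfl⟩
    have heq : P' = q.comap π.toRingHom := by
      refine Ideal.eq_of_comap_eq_comap_of_bijective_residueFieldMap hP P' _ ?_
      rw [hP'q, Ideal.comap_comap]
      ext x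
      show x ∈ q ↔ π (1 ⊗ₜ x) ∈ q
      rw [hπ]
    rw [heq] at heP'
    exact heP'
  · let J := Ideal.span ({1 - π e} : Set S)
    let π' : R' ⊗[R] S →+* S ⧸ J := (Ideal.Quotient.mk J).comp π.toRingHom
    have hu : IsUnit (π' e) := by
      have : π' e = 1 := (Ideal.Quotient.eq.mpr (Ideal.mem_span_singleton_self _)).symm
      rw [this]; exact isUnit_one
    let ψ : Localization.Away e →+* S ⧸ J := IsLocalization.Away.lift e hu
    let : Algebra R' (S ⧸ J) := ((Ideal.Quotient.mk J).comp
      ((algebraMap R S).comp τ.toRingHom)).toAlgebra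
    have : IsScalarTower R R' (S ⧸ J) := IsScalarTower.of_algebraMap_eq fun r => by
      show _ = Ideal.Quotient.mk J (algebraMap R S (τ (algebraMap R R' r)))
      rw [τ.commutes]; rfl
    let ψ' : Localization.Away e →ₐ[R'] S ⧸ J :=
      { toRingHom := ψ
        commutes' := fun r => by
          show ψ (algebraMap R' (Localization.Away e) r) = _
          rw [IsScalarTower.algebraMap_apply R' (R' ⊗[R] S), IsLocalization.Away.lift_eq]
          show Ideal.Quotient.mk J (π (algebraMap R' _ r)) = _
          rw [hπ']; rfl }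
    have : Module.Finite R' (S ⧸ J) := Module.Finite.of_surjective ψ'.toLinearMap fun y => by
      obtain ⟨x, rfl⟩ := Ideal.Quotient.mk_surjective y
      refine ⟨algebraMap (R' ⊗[R] S) (Localization.Away e) (1 ⊗ₜ x), ?_⟩
      show ψ (algebraMap (R' ⊗[R] S) (Localization.Away e) (1 ⊗ₜ x)) = _
      rw [IsLocalization.Away.lift_eq]
      show Ideal.Quotient.mk J (π (1 ⊗ₜ x)) = _
      rw [hπ]
    obtain ⟨t, ht⟩ := this.fg_top
    refine ⟨⟨t, eq_top_iff.mpr fun y hy₀ => ?_⟩⟩
    clear hy₀
    have hy : y ∈ Submodule.span R' (t : Set (S ⧸ J)) := ht ▸ Submodule.mem_top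
    induction hy using Submodule.span_induction with
    | mem x hx => exact Submodule.subset_span hx
    | zero => exact zero_mem _
    | add x y _ _ hx hy => exact add_mem hx hy
    | smul r x _ hx =>
      have : r • x = τ r • x := by
        rw [Algebra.smul_def, Algebra.smul_def]
        rfl
      rw [this]
      exact Submodule.smul_mem _ _ hx

/-- Over a henselian local ring a finite type algebra has a finite direct factor containing all
quasi-finite points of the closed fibre. -/
theorem exists_idempotent_not_quasiFiniteAt (R : Type u) [CommRing R] [HenselianLocalRing R]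
    (S : Type v) [CommRing S] [Algebra R S] [Algebra.FiniteType R S] :
    ∃ e : S, IsIdempotentElem e ∧ Module.Finite R (S ⧸ Ideal.span ({1 - e} : Set S)) ∧
      ∀ (q : Ideal (S ⧸ Ideal.span ({e} : Set S))) [q.IsPrime],
        q.LiesOver (maximalIdeal R) → ¬ Algebra.QuasiFiniteAt R q := by
  set mS := (maximalIdeal R).map (algebraMap R S) with hmS
  have : IsNoetherianRing (S ⧸ mS) := by
    have : IsNoetherianRing (R ⧸ maximalIdeal R) :=
      let := Ideal.Quotient.field (maximalIdeal R)
      inferInstance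
    have : Algebra.FiniteType (R ⧸ maximalIdeal R) (S ⧸ mS) :=
      Algebra.FiniteType.of_restrictScalars_finiteType R _ _
    exact Algebra.FiniteType.isNoetherianRing (R ⧸ maximalIdeal R) _
  let 𝓔 : Set (Ideal (S ⧸ mS)) := {I | ∃ e : S, IsIdempotentElem e ∧
    (LinearMap.range (LinearMap.mulLeft R e)).FG ∧ I = Ideal.span {Ideal.Quotient.mk mS e}}
  have hne : 𝓔.Nonempty := ⟨_, 0, IsIdempotentElem.zero, by
    rw [LinearMap.mulLeft_zero_eq_zero, LinearMap.range_zero]; exact Submodule.fg_bot, rfl⟩
  obtain ⟨_, ⟨e, he, hfg, rfl⟩, hmax⟩ := set_has_maximal_iff_noetherian.mpr inferInstance 𝓔 hne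
  refine ⟨e, he, (finite_quotient_iff_fg_range he).mpr hfg, fun q _ hq hqf => ?_⟩
  let J := Ideal.span ({e} : Set S)
  obtain ⟨ε, hε, hεq, hεfin⟩ := exists_idempotent_of_quasiFiniteAt (R := R) q
  obtain ⟨x, rfl⟩ := Ideal.Quotient.mk_surjective ε
  have hx : x * x - x ∈ J := Ideal.Quotient.eq.mp (by rw [map_mul]; exact hε.eq)
  obtain ⟨c, hc⟩ := Ideal.mem_span_singleton.mp hx
  set e₁ := (1 - e) * x with he₁
  have he₁i : IsIdempotentElem e₁ := by
    show (1 - e) * x * ((1 - e) * x) = (1 - e) * x
    linear_combination ((1 - e) * (1 - e)) * hc + (x - c + c * e) * he.eq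
  have horth : e * e₁ = 0 := by
    rw [he₁, ← mul_assoc, mul_sub, mul_one, he.eq, sub_self, zero_mul]
  have hsum : IsIdempotentElem (e + e₁) := by
    show (e + e₁) * (e + e₁) = e + e₁
    linear_combination he.eq + he₁i.eq + 2 * horth
  let ψ : (S ⧸ J) →ₗ[R] S := Submodule.liftQ (J.restrictScalars R)
    (LinearMap.mulLeft R (1 - e)) (fun y hy => by
      obtain ⟨d, rfl⟩ := Ideal.mem_span_singleton.mp hy
      show (1 - e) * (e * d) = 0
      linear_combination -d * he.eq) ∘ₗ
    (Submodule.Quotient.restrictScalarsEquiv R J).symm.toLinearMap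
  have hψ : ∀ y, ψ (Ideal.Quotient.mk J y) = (1 - e) * y := fun y => rfl
  have hle : LinearMap.range (LinearMap.mulLeft R (e + e₁)) =
      LinearMap.range (LinearMap.mulLeft R e) ⊔
        (LinearMap.range (LinearMap.mulLeft R (Ideal.Quotient.mk J x))).map ψ := by
    refine le_antisymm ?_ (sup_le ?_ ?_)
    · rintro _ ⟨y, rfl⟩
      show (e + e₁) * y ∈ _
      rw [add_mul]
      refine Submodule.add_mem_sup ⟨y, rfl⟩ ⟨Ideal.Quotient.mk J x * Ideal.Quotient.mk J y,
        ⟨Ideal.Quotient.mk J y, rfl⟩, ?_⟩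
      rw [← map_mul, hψ, he₁]; ring
    · rintro _ ⟨y, rfl⟩
      refine ⟨e * y, ?_⟩
      show (e + e₁) * (e * y) = e * y
      linear_combination y * he.eq + y * horth
    · rintro _ ⟨_, ⟨y, rfl⟩, rfl⟩
      obtain ⟨y, rfl⟩ := Ideal.Quotient.mk_surjective y
      refine ⟨e₁ * y, ?_⟩
      rw [LinearMap.mulLeft_apply, LinearMap.mulLeft_apply, ← map_mul, hψ]
      rw [← mul_assoc ((1 : S) - e), ← he₁]
      linear_combination y * he₁i.eq + y * horth
  have hfg' : (LinearMap.range (LinearMap.mulLeft R (e + e₁))).FG := by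
    rw [hle]
    exact hfg.sup (((finite_quotient_iff_fg_range hε).mp hεfin).map ψ)
  have hmem : Ideal.Quotient.mk mS e₁ ∈ Ideal.span {Ideal.Quotient.mk mS e} := by
    have hlt := hmax (Ideal.span {Ideal.Quotient.mk mS (e + e₁)}) ⟨e + e₁, hsum, hfg', rfl⟩
    have hle' : Ideal.span {Ideal.Quotient.mk mS e} ≤
        Ideal.span {Ideal.Quotient.mk mS (e + e₁)} := by
      rw [Ideal.span_singleton_le_span_singleton]
      refine ⟨Ideal.Quotient.mk mS e, ?_⟩
      rw [← map_mul]
      congr 1
      linear_combination -he.eq - horth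
    rw [(hle'.lt_or_eq).resolve_left hlt, Ideal.mem_span_singleton]
    refine ⟨Ideal.Quotient.mk mS e₁, ?_⟩
    rw [← map_mul]
    congr 1
    linear_combination -he₁i.eq - horth
  let q₀ := q.comap (Ideal.Quotient.mk J)
  have hq₀ : mS ≤ q₀ := Ideal.map_le_iff_le_comap.mpr fun r hr => by
    rw [q.over_def (maximalIdeal R), Ideal.under_def, Ideal.mem_comap] at hr
    exact hr
  rw [Ideal.mem_span_singleton] at hmem
  obtain ⟨w, hw⟩ := hmem
  obtain ⟨w, rfl⟩ := Ideal.Quotient.mk_surjective w
  rw [← map_mul, Ideal.Quotient.eq] at hw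
  have : e₁ ∈ q₀ := by
    have h1 : e * w ∈ q₀ := by
      show Ideal.Quotient.mk J (e * w) ∈ q
      rw [Ideal.Quotient.eq_zero_iff_mem.mpr (J.mul_mem_right _ (Ideal.mem_span_singleton_self e))]
      exact zero_mem _
    simpa using q₀.add_mem (hq₀ hw) h1
  refine hεq ?_
  have h2 : Ideal.Quotient.mk J e₁ = Ideal.Quotient.mk J x := by
    rw [Ideal.Quotient.eq, he₁, show (1 - e) * x - x = e * -x by ring]
    exact J.mul_mem_right _ (Ideal.mem_span_singleton_self e)
  exact h2 ▸ this

section

variable [IsLocalRing R] [Module.Finite R S]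

/-- A finite localisation of a finite algebra over a local ring is a quotient. -/
theorem algebraMap_localization_surjective (n : Ideal S) [n.IsMaximal]
    [Module.Finite R (Localization.AtPrime n)] :
    Function.Surjective (algebraMap S (Localization.AtPrime n)) := by
  set mS := (maximalIdeal R).map (algebraMap R S) with hmS
  let L := Localization.AtPrime n
  let f : S →ₐ[R] L := IsScalarTower.toAlgHom R S L
  suffices h : (⊤ : Submodule R L) ≤
      LinearMap.range f.toLinearMap ⊔ maximalIdeal R • (⊤ : Submodule R L) by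
    intro y
    exact Submodule.le_of_le_smul_of_le_jacobson_bot Module.Finite.fg_top
      (IsLocalRing.maximalIdeal_le_jacobson ⊥) h (Submodule.mem_top (x := y))
  have : IsArtinianRing (S ⧸ mS) := Finite.isArtinianRing_quotient
  rintro y -
  obtain ⟨x, ⟨u, hu⟩, rfl⟩ := IsLocalization.exists_mk'_eq n.primeCompl y
  obtain ⟨k, z, hz⟩ := IsArtinian.exists_pow_succ_smul_dvd (Ideal.Quotient.mk mS u)
    (1 : S ⧸ mS)
  obtain ⟨z, rfl⟩ := Ideal.Quotient.mk_surjective z
  rw [smul_eq_mul, smul_eq_mul, mul_one, ← map_pow, ← map_pow, ← map_mul, Ideal.Quotient.eq] at hz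
  rw [show IsLocalization.mk' L x (⟨u, hu⟩ : n.primeCompl) = f (x * z) +
    (IsLocalization.mk' L x (⟨u, hu⟩ : n.primeCompl) - f (x * z)) by ring]
  refine Submodule.add_mem_sup ⟨x * z, rfl⟩ ?_
  rw [Ideal.smul_top_eq_map]
  show _ ∈ Ideal.map (algebraMap R L) (maximalIdeal R)
  rw [IsScalarTower.algebraMap_eq R S L, ← Ideal.map_map, ← hmS]
  have hu' : IsUnit (algebraMap S L (u ^ (k + 1))) :=
    IsLocalization.map_units L (⟨u ^ (k + 1), pow_mem hu _⟩ : n.primeCompl)
  refine (Ideal.mul_unit_mem_iff_mem _ hu').mp ?_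
  have h1 := IsLocalization.mk'_spec L x (⟨u, hu⟩ : n.primeCompl)
  have h2 : (IsLocalization.mk' L x (⟨u, hu⟩ : n.primeCompl) - f (x * z)) *
      algebraMap S L (u ^ (k + 1)) = algebraMap S L (-(x * (u ^ (k + 1) * z - u ^ k))) := by
    simp only [f, IsScalarTower.coe_toAlgHom', map_mul, map_neg, map_sub, map_pow] at h1 ⊢
    linear_combination (algebraMap S L u) ^ k * h1
  rw [h2]
  exact Ideal.mem_map_of_mem _ (mS.neg_mem (mS.mul_mem_left _ hz))

/-- A finite algebra all of whose localisations at maximal ideals are finite is their product. -/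
theorem toPiLocalization_bijective_of_finite_localizations
    (h : ∀ n : MaximalSpectrum S, Module.Finite R (Localization.AtPrime n.asIdeal)) :
    Function.Bijective (MaximalSpectrum.toPiLocalization S) := by
  classical
  refine ⟨MaximalSpectrum.toPiLocalization_injective S, fun x => ?_⟩
  have := Finite.finite_maximalSpectrum R (B := S)
  have hs : ∀ n : MaximalSpectrum S,
      Function.Surjective (algebraMap S (Localization.AtPrime n.asIdeal)) := fun n =>
    have := h n; algebraMap_localization_surjective (R := R) n.asIdeal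
  let K : MaximalSpectrum S → Ideal S := fun n =>
    RingHom.ker (algebraMap S (Localization.AtPrime n.asIdeal))
  have hK : ∀ (n : MaximalSpectrum S) (M : Ideal S), M.IsMaximal → K n ≤ M → M = n.asIdeal := by
    intro n M hM hle
    by_contra hne
    obtain ⟨u, huM, hun⟩ := SetLike.not_le_iff_exists.mp fun hle' =>
      hne (hM.eq_of_le n.isMaximal.ne_top hle')
    obtain ⟨z, hz⟩ := hs n (IsLocalization.mk' (Localization.AtPrime n.asIdeal) 1
      (⟨u, hun⟩ : n.asIdeal.primeCompl))
    have h1 : u * z - 1 ∈ K n := by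
      rw [RingHom.mem_ker, map_sub, map_mul, hz]
      exact sub_eq_zero.mpr (IsLocalization.mk'_spec' _ (1 : S) (⟨u, hun⟩ : n.asIdeal.primeCompl))
    exact hM.ne_top ((Ideal.eq_top_iff_one _).mpr (by
      simpa using M.sub_mem (M.mul_mem_right z huM) (hle h1)))
  have hcop : Pairwise fun n n' => IsCoprime (K n) (K n') := fun n n' hnn' => by
    show IsCoprime (K n) (K n')
    rw [Ideal.isCoprime_iff_sup_eq]
    by_contra hne
    obtain ⟨M, hM, hle⟩ := Ideal.exists_le_maximal _ hne
    exact hnn' (MaximalSpectrum.ext ((hK n M hM (le_sup_left.trans hle)).symm.trans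
      (hK n' M hM (le_sup_right.trans hle))))
  choose y hy using fun n => hs n (x n)
  obtain ⟨b, hb⟩ := Ideal.pi_quotient_surjective hcop fun n => Ideal.Quotient.mk (K n) (y n)
  refine ⟨b, funext fun n => ?_⟩
  rw [MaximalSpectrum.toPiLocalization_apply_apply, ← hy n, ← sub_eq_zero, ← map_sub]
  exact Ideal.Quotient.eq.mp (hb n)

end

end Groth.Agent.Lib.Henselian.QuasiFinite
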