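import Groth.Agent.Lib.Henselian.Roots
import Mathlib.RingTheory.Smooth.Basic
import Mathlib.Algebra.MvPolynomial.PDeriv

/-!
# Lifting maps out of smooth algebras over henselian pairs

* `exists_algHom_lift_smooth`: if `A` is henselian at `I` and `S` is a smooth `R`-algebra, every
  `R`-algebra map `S → A/I` lifts to `A`.

The proof is a Newton iteration done at once: a formally smooth presentation gives an idempotent
(mod `J`) matrix `Pm` with `f ≡ Pm f (mod J²)`, and one solves a square system.
-/

universe u v w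

open MvPolynomial
open Groth.Agent.Lib.Henselian.Basic Groth.Agent.Lib.Henselian.Roots

namespace Groth.Agent.Lib.Henselian.Smooth

variable {A : Type u} [CommRing A]

lemma sub_taylor_mem_sq {n : ℕ} (J : Ideal (MvPolynomial (Fin n) A))
    (g : Fin n → MvPolynomial (Fin n) A) (hg : ∀ j, X j - g j ∈ J) (p : MvPolynomial (Fin n) A) :
    p - aeval g p - ∑ j, pderiv j p * (X j - g j) ∈ J * J := by
  have hJ : ∀ p, p - aeval g p ∈ J := by
    intro p
    induction p using MvPolynomial.induction_on with
    | C a => simp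
    | add p q hp hq => rw [map_add, add_sub_add_comm]; exact J.add_mem hp hq
    | mul_X p k hp =>
      rw [map_mul, aeval_X, show p * X k - aeval g p * g k
        = (p - aeval g p) * X k + aeval g p * (X k - g k) by ring]
      exact J.add_mem (J.mul_mem_right _ hp) (J.mul_mem_left _ (hg k))
  induction p using MvPolynomial.induction_on with
  | C a => simp
  | add p q hp hq =>
    simp only [map_add, add_mul, Finset.sum_add_distrib]
    rw [show p + q - (aeval g p + aeval g q) - (∑ j, pderiv j p * (X j - g j) +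
      ∑ j, pderiv j q * (X j - g j)) = (p - aeval g p - ∑ j, pderiv j p * (X j - g j)) +
      (q - aeval g q - ∑ j, pderiv j q * (X j - g j)) by ring]
    exact (J * J).add_mem hp hq
  | mul_X p k hp =>
    have hsum : ∑ j, pderiv j (p * X k) * (X j - g j) =
        (∑ j, pderiv j p * (X j - g j)) * X k + p * (X k - g k) := by
      simp only [pderiv_mul, pderiv_X, add_mul, Finset.sum_add_distrib, Finset.sum_mul]
      congr 1
      · exact Finset.sum_congr rfl fun j _ => by ring
      · rw [Finset.sum_eq_single k] <;> simp +contextual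
    rw [map_mul, aeval_X, hsum, show p * X k - aeval g p * g k -
        ((∑ j, pderiv j p * (X j - g j)) * X k + p * (X k - g k))
        = (p - aeval g p - ∑ j, pderiv j p * (X j - g j)) * X k
          + (-(p - aeval g p)) * (X k - g k) by ring]
    exact (J * J).add_mem ((J * J).mul_mem_right _ hp)
      (Ideal.mul_mem_mul (J.neg_mem (hJ p)) (hg k))

lemma pderiv_mem_of_mem_sq {σ : Type*} (J : Ideal (MvPolynomial σ A)) (j : σ)
    {p : MvPolynomial σ A} (hp : p ∈ J * J) : pderiv j p ∈ J := by
  refine Submodule.mul_induction_on hp (fun a ha b hb => ?_) (fun a b ha hb => ?_)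
  · rw [pderiv_mul]
    exact J.add_mem (J.mul_mem_left _ hb) (J.mul_mem_right _ ha)
  · rw [map_add]
    exact J.add_mem ha hb

/-- Maps out of smooth `A`-algebras to `A/I` lift to `A` when `A` is henselian at `I`. -/
theorem exists_algHom_lift_smooth_self (I : Ideal A) [HenselianRing A I] {S : Type v} [CommRing S]
    [Algebra A S] [Algebra.Smooth A S] (σ : S →ₐ[A] A ⧸ I) :
    ∃ τ : S →ₐ[A] A, (Ideal.Quotient.mkₐ A I).comp τ = σ := by
  classical
  obtain ⟨n, π, hπ, hker⟩ := Algebra.FinitePresentation.out (R := A) (A := S)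
  set J : Ideal (MvPolynomial (Fin n) A) := RingHom.ker π.toRingHom with hJdef
  obtain ⟨c, f, hf⟩ := Submodule.fg_iff_exists_fin_generating_family.mp hker
  have hfJ : ∀ i, f i ∈ J := fun i => by
    have : f i ∈ Submodule.span (MvPolynomial (Fin n) A) (Set.range f) :=
      Submodule.subset_span (Set.mem_range_self i)
    rwa [hf] at this
  have hπJ : ∀ p, p ∈ J ↔ π p = 0 := fun p => Iff.rfl
  -- a section modulo `J²`
  let q : MvPolynomial (Fin n) A ⧸ J * J →ₐ[A] S :=
    Ideal.Quotient.liftₐ (J * J) π fun p hp => Ideal.mul_le_left hp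
  have hqs : Function.Surjective q := fun s => by
    obtain ⟨p, rfl⟩ := hπ s
    exact ⟨Ideal.Quotient.mk _ p, rfl⟩
  have hqn : IsNilpotent (RingHom.ker (q : MvPolynomial (Fin n) A ⧸ J * J →+* S)) := by
    refine ⟨2, ?_⟩
    have hle : RingHom.ker (q : MvPolynomial (Fin n) A ⧸ J * J →+* S) ≤
        J.map (Ideal.Quotient.mk (J * J)) := by
      intro x hx
      obtain ⟨p, rfl⟩ := Ideal.Quotient.mk_surjective x
      exact Ideal.mem_map_of_mem _ ((hπJ p).mpr hx)
    rw [Ideal.zero_eq_bot, eq_bot_iff]
    refine (Ideal.pow_right_mono hle 2).trans ?_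
    rw [Submodule.pow_succ, Submodule.pow_one, ← Ideal.map_mul, Ideal.map_quotient_self]
  let sec := Algebra.FormallySmooth.liftOfSurjective (AlgHom.id A S) q hqs hqn
  have hsec : ∀ s, q (sec s) = s := fun s =>
    Algebra.FormallySmooth.liftOfSurjective_apply _ _ hqs hqn s
  choose g hg using fun j => Ideal.Quotient.mk_surjective (sec (π (X j)))
  have hgJ : ∀ j, X j - g j ∈ J := fun j => by
    rw [hπJ, map_sub, sub_eq_zero]
    conv_lhs => rw [← hsec (π (X j)), ← hg j]
    rfl
  have hgsq : ∀ p ∈ J, aeval g p ∈ J * J := by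
    intro p hp
    have : (Ideal.Quotient.mkₐ A (J * J)).comp (aeval g) = sec.comp π :=
      MvPolynomial.algHom_ext fun j => by simp [hg]
    have h := AlgHom.congr_fun this p
    rw [AlgHom.comp_apply, AlgHom.comp_apply, (hπJ p).mp hp, map_zero] at h
    exact Ideal.Quotient.eq_zero_iff_mem.mp h
  have hJspan : J = Ideal.span (Set.range f) := hf.symm
  have hN : ∀ j, ∃ N : Fin c → MvPolynomial (Fin n) A, ∑ i, N i * f i = X j - g j := fun j => by
    have := hgJ j
    rw [hJspan] at this
    exact Ideal.mem_span_range_iff_exists_fun.mp this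
  choose N hN using hN
  let M : Matrix (Fin c) (Fin n) (MvPolynomial (Fin n) A) := Matrix.of fun i j => pderiv j (f i)
  let Pm : Matrix (Fin c) (Fin c) (MvPolynomial (Fin n) A) := M * Matrix.of N
  have hPm : ∀ i, f i - ∑ k, Pm i k * f k ∈ J * J := by
    intro i
    have h1 := (J * J).add_mem (sub_taylor_mem_sq J g hgJ (f i)) (hgsq _ (hfJ i))
    have h2 : ∑ j, pderiv j (f i) * (X j - g j) = ∑ k, Pm i k * f k := by
      simp only [Pm, Matrix.mul_apply, M, Matrix.of_apply, Finset.sum_mul, ← hN, Finset.mul_sum]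
      rw [Finset.sum_comm]
      simp only [mul_assoc]
    rw [h2, sub_right_comm, sub_add_cancel] at h1
    exact h1
  have hPmM : ∀ i j, M i j - (Pm * M) i j ∈ J := by
    intro i j
    have h1 := pderiv_mem_of_mem_sq J j (hPm i)
    simp only [map_sub, map_sum, pderiv_mul, Finset.sum_add_distrib] at h1
    have h2 : ∑ k, pderiv j (Pm i k) * f k ∈ J :=
      Ideal.sum_mem _ fun k _ => J.mul_mem_left _ (hfJ k)
    have h3 := J.add_mem h1 h2
    have h4 : M i j - (Pm * M) i j = pderiv j (f i) - ∑ k, Pm i k * pderiv j (f k) := by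
      rw [Matrix.mul_apply]; rfl
    rw [h4]
    convert h3 using 1
    ring
  have hPm2 : ∀ i k, Pm i k - (Pm * Pm) i k ∈ J := by
    intro i k
    have : Pm * Pm = (Pm * M) * Matrix.of N := by simp [Pm, Matrix.mul_assoc]
    rw [this]
    simp only [Pm, Matrix.mul_apply (M := M), Matrix.mul_apply (M := M * Matrix.of N * M),
      ← Finset.sum_sub_distrib, ← sub_mul]
    exact Ideal.sum_mem _ fun j _ => J.mul_mem_right _ (hPmM i j)
  have hL : ∀ i, ∃ L : Fin c → MvPolynomial (Fin n) A,
      (∀ k, L k ∈ J) ∧ ∑ k, L k * f k = f i - ∑ k, Pm i k * f k := by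
    intro i
    have h1 : f i - ∑ k, Pm i k * f k ∈
        J • Submodule.span (MvPolynomial (Fin n) A) (Set.range f) := by
      rw [hf]
      exact hPm i
    obtain ⟨L, hL, hLs⟩ := (Submodule.mem_ideal_smul_span_iff_exists_sum J f _).mp h1
    refine ⟨fun k => L k, hL, ?_⟩
    rw [← hLs, Finsupp.sum_fintype]
    · rfl
    · exact fun _ => zero_smul _ _
  choose L hLJ hL using hL
  -- the approximate solution
  choose a₀ ha₀ using fun j => Ideal.Quotient.mk_surjective (σ (π (X j)))
  have hσ : ∀ p, σ (π p) = Ideal.Quotient.mk I (eval a₀ p) := by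
    have : σ.comp π = (Ideal.Quotient.mkₐ A I).comp (aeval a₀) :=
      MvPolynomial.algHom_ext fun j => by simp [ha₀]
    intro p
    have h := AlgHom.congr_fun this p
    rwa [AlgHom.comp_apply, AlgHom.comp_apply, Ideal.Quotient.mkₐ_eq_mk, aeval_eq_eval] at h
  have ha₀J : ∀ p ∈ J, eval a₀ p ∈ I := fun p hp => by
    rw [← Ideal.Quotient.eq_zero_iff_mem, ← hσ, (hπJ p).mp hp, map_zero]
  -- the square system
  let Na : Fin n → Fin c → A := fun j k => eval a₀ (N j k)
  let pt : Fin n → MvPolynomial (Fin c) A := fun j => C (a₀ j) + ∑ k, C (Na j k) * X k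
  have hev0 : ∀ j, eval (0 : Fin c → A) (pt j) = a₀ j := fun j => by
    simp only [pt, map_add, map_sum, map_mul, eval_C, eval_X, Pi.zero_apply, mul_zero,
      Finset.sum_const_zero, add_zero]
  have hpt0 : ∀ p, eval (0 : Fin c → A) (aeval pt p) = eval a₀ p := by
    intro p
    induction p using MvPolynomial.induction_on with
    | C a => rw [aeval_C, MvPolynomial.algebraMap_eq, eval_C, eval_C]
    | add p q hp hq => rw [map_add, map_add, map_add, hp, hq]
    | mul_X p j hp => rw [map_mul, map_mul, map_mul, aeval_X, eval_X, hp, hev0]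
  have hptd : ∀ p l, eval (0 : Fin c → A) (pderiv l (aeval pt p)) =
      ∑ j, eval a₀ (pderiv j p) * Na j l := by
    intro p l
    induction p using MvPolynomial.induction_on with
    | C a =>
      simp only [aeval_C, MvPolynomial.algebraMap_eq, pderiv_C, map_zero, zero_mul,
        Finset.sum_const_zero]
    | add p q hp hq => simp only [map_add, hp, hq, add_mul, Finset.sum_add_distrib]
    | mul_X p j hp =>
      have h1 : eval (0 : Fin c → A) (pderiv l (pt j)) = Na j l := by
        simp only [pt, map_add, map_sum, pderiv_C, pderiv_mul, pderiv_X, zero_mul, zero_add,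
          eval_C, Pi.single_apply, mul_ite, mul_one, mul_zero, Finset.sum_ite_eq', Finset.mem_univ,
          if_true]
      have h2 : eval (0 : Fin c → A) (pt j) = a₀ j := hev0 j
      rw [map_mul, aeval_X, pderiv_mul, map_add, map_mul, map_mul, hp, h1, h2, hpt0]
      simp only [pderiv_mul, map_add, map_mul, eval_X, add_mul, Finset.sum_add_distrib,
        Finset.sum_mul, pderiv_X]
      congr 1
      · exact Finset.sum_congr rfl fun k _ => by ring
      · rw [Finset.sum_eq_single j] <;> simp +contextual
  let G : Fin c → MvPolynomial (Fin c) A := fun i =>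
    aeval pt (f i) + X i - ∑ k, aeval pt (Pm i k) * X k
  have hG0 : ∀ i, eval (0 : Fin c → A) (G i) = eval a₀ (f i) := fun i => by
    simp only [G, map_sub, map_add, map_sum, map_mul, hpt0, eval_X, Pi.zero_apply, mul_zero,
      Finset.sum_const_zero, add_zero, sub_zero]
  have hG1 : ∀ i l, eval (0 : Fin c → A) (pderiv l (G i)) = (1 : Matrix (Fin c) (Fin c) A) i l := by
    intro i l
    have h1 : ∑ j, eval a₀ (pderiv j (f i)) * Na j l = eval a₀ (Pm i l) := by
      simp [Pm, M, Matrix.mul_apply, Na, map_sum]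
    simp only [G, map_sub, map_add, map_sum, hptd, h1, pderiv_mul, map_mul, eval_X, Pi.zero_apply,
      mul_zero, zero_add, hpt0]
    simp only [pderiv_X, Pi.single_apply, apply_ite (eval (0 : Fin c → A)), map_one, map_zero,
      mul_ite, mul_one, mul_zero, Finset.sum_ite_eq', Finset.mem_univ, if_true, Matrix.one_apply]
    ring
  obtain ⟨z, hz, hzI⟩ := exists_square_system_root I G 0
    (fun i => by rw [hG0]; exact ha₀J _ (hfJ i))
    (by
      have : (Matrix.of fun i j => eval (0 : Fin c → A) (pderiv j (G i))) = 1 := Matrix.ext hG1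
      rw [this, Matrix.det_one, map_one]
      exact isUnit_one)
  let a : Fin n → A := fun j => a₀ j + ∑ k, Na j k * z k
  have hzI' : ∀ k, z k ∈ I := fun k => by simpa using hzI k
  have haa : ∀ j, a j - a₀ j ∈ I := fun j => by
    rw [add_sub_cancel_left]
    exact Ideal.sum_mem _ fun k _ => I.mul_mem_left _ (hzI' k)
  have hevz : ∀ j, eval z (pt j) = a j := fun j => by
    simp only [pt, a, map_add, map_sum, map_mul, eval_C, eval_X]
  have heval : ∀ p, eval z (aeval pt p) = eval a p := by
    intro p
    induction p using MvPolynomial.induction_on with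
    | C r => rw [aeval_C, MvPolynomial.algebraMap_eq, eval_C, eval_C]
    | add p q hp hq => rw [map_add, map_add, map_add, hp, hq]
    | mul_X p j hp => rw [map_mul, map_mul, map_mul, aeval_X, eval_X, hp, hevz]
  have haI : ∀ p, Ideal.Quotient.mk I (eval a p) = Ideal.Quotient.mk I (eval a₀ p) := by
    have h : (Ideal.Quotient.mk I).comp (eval a) = (Ideal.Quotient.mk I).comp (eval a₀) :=
      MvPolynomial.ringHom_ext (fun r => by simp only [RingHom.comp_apply, eval_C]) fun j => by
        simp only [RingHom.comp_apply, eval_X]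
        exact Ideal.Quotient.eq.mpr (haa j)
    exact fun p => RingHom.congr_fun h p
  have hfa : ∀ i, eval a (f i) = ∑ k, eval a (Pm i k) * z k - z i := fun i => by
    have := hz i
    simp only [G, map_sub, map_add, map_sum, map_mul, eval_X, heval] at this
    linear_combination this
  let 𝔞 : Ideal A := Ideal.span (Set.range fun i => eval a (f i))
  have h𝔞 : ∀ p ∈ J, eval a p ∈ 𝔞 := by
    intro p hp
    rw [hJspan] at hp
    have := Ideal.mem_map_of_mem (eval a) hp
    rw [Ideal.map_span, ← Set.range_comp] at this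
    exact this
  have h𝔞0 : 𝔞 = ⊥ := by
    refine Submodule.eq_bot_of_le_smul_of_le_jacobson_bot I 𝔞
      (Submodule.fg_span (Set.finite_range _)) ?_ HenselianRing.jac
    refine Submodule.span_le.mpr ?_
    rintro _ ⟨i, rfl⟩
    have key : eval a (f i) = ∑ k, eval a (L i k) * eval a (f k) +
        ∑ l, z l * eval a ((Pm * Pm) i l - Pm i l) := by
      have h1 := congrArg (eval a) (hL i)
      simp only [map_sum, map_mul, map_sub] at h1
      have h2 : ∑ k, eval a (Pm i k) * eval a (f k) =
          ∑ l, z l * eval a ((Pm * Pm) i l - Pm i l) := by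
        simp only [hfa, mul_sub, Finset.sum_sub_distrib, map_sub, Matrix.mul_apply, map_sum,
          map_mul, Finset.mul_sum]
        congr 1
        · rw [Finset.sum_comm]
          exact Finset.sum_congr rfl fun l _ => Finset.sum_congr rfl fun k _ => by ring
        · exact Finset.sum_congr rfl fun l _ => mul_comm _ _
      linear_combination -h1 + h2
    simp only [SetLike.mem_coe]
    rw [key]
    refine add_mem (sum_mem fun k _ => Submodule.smul_mem_smul ?_ ?_)
      (sum_mem fun l _ => Submodule.smul_mem_smul (hzI' l) ?_)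
    · rw [← Ideal.Quotient.eq_zero_iff_mem, haI, Ideal.Quotient.eq_zero_iff_mem]
      exact ha₀J _ (hLJ i k)
    · exact Ideal.subset_span (Set.mem_range_self k)
    · refine h𝔞 _ ?_
      rw [← neg_sub]
      exact J.neg_mem (hPm2 i l)
  have hJa : ∀ p ∈ J, aeval a p = 0 := fun p hp => by
    rw [aeval_eq_eval]
    simpa [h𝔞0] using h𝔞 p hp
  let e : (MvPolynomial (Fin n) A ⧸ J) ≃ₐ[A] S := Ideal.quotientKerAlgEquivOfSurjective hπ
  refine ⟨(Ideal.Quotient.liftₐ J (aeval a) hJa).comp e.symm.toAlgHom, AlgHom.ext fun s => ?_⟩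
  obtain ⟨p, rfl⟩ := hπ s
  have he : e.symm (π p) = Ideal.Quotient.mk J p := by
    rw [AlgEquiv.symm_apply_eq]
    rfl
  rw [hσ, ← haI, ← aeval_eq_eval]
  change Ideal.Quotient.mk I ((Ideal.Quotient.liftₐ J (aeval a) hJa) (e.symm (π p))) = _
  rw [he]
  rfl

/-- Maps out of smooth `R`-algebras to `A/I` lift to `A` when `A` is henselian at `I`. -/
theorem exists_algHom_lift_smooth (I : Ideal A) [HenselianRing A I] {R : Type w} [CommRing R]
    [Algebra R A] {S : Type v} [CommRing S] [Algebra R S] [Algebra.Smooth R S]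
    (σ : S →ₐ[R] A ⧸ I) : ∃ τ : S →ₐ[R] A, (Ideal.Quotient.mkₐ R I).comp τ = σ := by
  let σA : TensorProduct R A S →ₐ[A] A ⧸ I :=
    Algebra.TensorProduct.lift (Algebra.ofId A _) σ fun _ _ => Commute.all _ _
  obtain ⟨τ, hτ⟩ := exists_algHom_lift_smooth_self I σA
  refine ⟨(τ.restrictScalars R).comp Algebra.TensorProduct.includeRight, AlgHom.ext fun x => ?_⟩
  have := AlgHom.congr_fun hτ (TensorProduct.tmul R 1 x)
  simpa [σA] using this

end Groth.Agent.Lib.Henselian.Smooth
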