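import Mathlib.RingTheory.Henselian
import Mathlib.RingTheory.Ideal.Maps
import Mathlib.RingTheory.Finiteness.Nakayama
import Mathlib.RingTheory.Nakayama
import Mathlib.RingTheory.Finiteness.Cardinality
import Mathlib.RingTheory.Ideal.Quotient.Operations
import Mathlib.RingTheory.IntegralClosure.IsIntegralClosure.Basic
import Mathlib.RingTheory.Ideal.GoingUp
import Mathlib.LinearAlgebra.Matrix.Charpoly.Coeff
import Mathlib.Algebra.Polynomial.Identities
import Mathlib.Algebra.Polynomial.Div
import Mathlib.LinearAlgebra.Matrix.Adjugate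

/-!
# Henselian pairs: elementary facts, Gabber's root criterion, lifting of "cyclic" idempotents

* `root_unique`, `eq_of_isIdempotentElem`, `map_le_jacobson_of_isIntegral`
* `henselianRing_of_le`, `henselianRing_quotient`, `henselianRing_of_quotient`,
  `henselianRing_of_nil`
* `GabberRoot A I`: the polynomials `X^n (X-1) + (terms in I)` have roots congruent to `1`
* `CyclicLift A I`: idempotents of `B/IB` (`B` finite) cutting out a cyclic piece lift to `B`
* `gabberRoot_of_henselianRing`, `cyclicLift_of_gabberRoot`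
-/

universe u v

open Polynomial

namespace Groth.Agent.Lib.Henselian.Basic

variable {A : Type u} [CommRing A]

lemma isUnit_of_isUnit_mk {I : Ideal A} (hI : I ≤ Ideal.jacobson ⊥) {a : A}
    (h : IsUnit (Ideal.Quotient.mk I a)) : IsUnit a :=
  (isLocalHom_of_le_jacobson_bot I hI).map_nonunit a h

lemma isUnit_of_sub_one_mem {I : Ideal A} (hI : I ≤ Ideal.jacobson ⊥) {a : A}
    (h : a - 1 ∈ I) : IsUnit a := by
  refine isUnit_of_isUnit_mk hI ?_
  rw [Ideal.Quotient.eq.mpr h, map_one]
  exact isUnit_one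

lemma isUnit_of_sub_mem {I : Ideal A} (hI : I ≤ Ideal.jacobson ⊥) {a b : A} (hb : IsUnit b)
    (h : a - b ∈ I) : IsUnit a := by
  refine isUnit_of_isUnit_mk hI ?_
  rw [Ideal.Quotient.eq.mpr h]
  exact hb.map _

/-- An ideal all of whose elements `x` make `1 + x` a unit lies in the Jacobson radical. -/
lemma le_jacobson_bot_of_isUnit_add_one {I : Ideal A} (h : ∀ x ∈ I, IsUnit (1 + x)) :
    I ≤ Ideal.jacobson ⊥ := by
  intro x hx
  rw [Ideal.mem_jacobson_bot]
  intro y
  rw [add_comm]
  exact h _ (I.mul_mem_right y hx)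

/-- `f` has at most one simple root in a class modulo an ideal in the Jacobson radical, and in
fact a simple root differs from any `b` by a multiple of `f(b)`. -/
lemma sub_mem_of_isRoot {I J : Ideal A} (hI : I ≤ Ideal.jacobson ⊥) (f : A[X]) {a b : A}
    (ha : f.IsRoot a) (hb : f.eval b ∈ J) (hab : b - a ∈ I)
    (hd : IsUnit (Ideal.Quotient.mk I (f.derivative.eval a))) : b - a ∈ J := by
  obtain ⟨k, hk⟩ := binomExpansion f a (b - a)
  have hu : IsUnit (f.derivative.eval a + k * (b - a)) := by
    refine isUnit_of_isUnit_mk hI ?_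
    rw [map_add, map_mul, Ideal.Quotient.eq_zero_iff_mem.mpr hab, mul_zero, add_zero]
    exact hd
  rw [add_sub_cancel, ha.eq_zero, zero_add] at hk
  have : f.eval b = (f.derivative.eval a + k * (b - a)) * (b - a) := by rw [hk]; ring
  rw [this] at hb
  exact (Ideal.unit_mul_mem_iff_mem J hu).mp hb

lemma root_unique {I : Ideal A} (hI : I ≤ Ideal.jacobson ⊥) (f : A[X]) {a b : A}
    (ha : f.IsRoot a) (hb : f.IsRoot b) (hab : b - a ∈ I)
    (hd : IsUnit (Ideal.Quotient.mk I (f.derivative.eval a))) : b = a := by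
  have := sub_mem_of_isRoot (J := ⊥) hI f ha (by simpa using hb) hab hd
  simpa [sub_eq_zero] using this

/-- Idempotents congruent modulo an ideal in the Jacobson radical are equal. -/
lemma eq_of_isIdempotentElem {J : Ideal A} (hJ : J ≤ Ideal.jacobson ⊥) {e e' : A}
    (he : IsIdempotentElem e) (he' : IsIdempotentElem e') (h : e - e' ∈ J) : e = e' := by
  have h1 : IsUnit (1 - (e - e') ^ 2) := by
    refine isUnit_of_sub_one_mem hJ ?_
    rw [show (1 - (e - e') ^ 2) - 1 = -((e - e') * (e - e')) by ring]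
    exact J.neg_mem (J.mul_mem_left _ h)
  have h2 : (e - e') * (1 - (e - e') ^ 2) = 0 := by
    linear_combination (-e + 3 * e' - 1) * he.eq + (e' - 3 * e + 1) * he'.eq
  exact sub_eq_zero.mp (h1.mul_left_eq_zero.mp h2)

lemma eq_zero_of_isIdempotentElem {J : Ideal A} (hJ : J ≤ Ideal.jacobson ⊥) {e : A}
    (he : IsIdempotentElem e) (h : e ∈ J) : e = 0 :=
  eq_of_isIdempotentElem hJ he IsIdempotentElem.zero (by simpa using h)

/-- The extension to an integral algebra of an ideal in the Jacobson radical lies in the Jacobson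
radical. -/
lemma map_le_jacobson_of_isIntegral {B : Type v} [CommRing B] [Algebra A B] [Algebra.IsIntegral A B]
    {I : Ideal A} (hI : I ≤ Ideal.jacobson ⊥) :
    I.map (algebraMap A B) ≤ Ideal.jacobson ⊥ := by
  refine le_sInf ?_
  rintro M ⟨-, hM⟩
  rw [Ideal.map_le_iff_le_comap]
  have hM' := hM
  exact hI.trans (sInf_le ⟨bot_le, Ideal.isMaximal_comap_of_isIntegral_of_isMaximal M⟩)

/-! ### Changing the ideal -/

theorem henselianRing_of_le {I J : Ideal A} (hIJ : I ≤ J) [HenselianRing A J] :
    HenselianRing A I where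
  jac := hIJ.trans (HenselianRing.jac (I := J))
  is_henselian f hf a₀ h₁ h₂ := by
    have hu : IsUnit (f.derivative.eval a₀) :=
      isUnit_of_isUnit_mk (hIJ.trans (HenselianRing.jac (I := J))) h₂
    obtain ⟨a, ha, haJ⟩ := HenselianRing.is_henselian (I := J) f hf a₀ (hIJ h₁) (hu.map _)
    refine ⟨a, ha, ?_⟩
    have h3 : a₀ - a ∈ J := (Submodule.sub_mem_iff_left J (zero_mem J)).mp (by
      simpa using J.neg_mem haJ)
    have := sub_mem_of_isRoot (J := I) (HenselianRing.jac (I := J)) f ha h₁ h3 (by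
      have : f.derivative.eval a - f.derivative.eval a₀ ∈ J := by
        obtain ⟨c, hc⟩ := sub_dvd_eval_sub a a₀ f.derivative
        rw [hc]
        exact J.mul_mem_right c haJ
      rw [Ideal.Quotient.eq.mpr this]
      exact hu.map _)
    simpa using I.neg_mem this

theorem henselianRing_quotient {I J : Ideal A} (hIJ : I ≤ J) [HenselianRing A J] :
    HenselianRing (A ⧸ I) (J.map (Ideal.Quotient.mk I)) where
  jac := by
    refine le_jacobson_bot_of_isUnit_add_one fun x hx => ?_
    obtain ⟨y, hy, rfl⟩ := (Ideal.mem_map_iff_of_surjective _ Ideal.Quotient.mk_surjective).mp hx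
    rw [← map_one (Ideal.Quotient.mk I), ← map_add]
    exact (isUnit_of_sub_one_mem (HenselianRing.jac (I := J)) (by simpa using hy)).map _
  is_henselian f hf a₀ h₁ h₂ := by
    obtain ⟨a₀, rfl⟩ := Ideal.Quotient.mk_surjective a₀
    obtain ⟨g, rfl, -, hg⟩ := lifts_and_natDegree_eq_and_monic
      (f := Ideal.Quotient.mk I) (p := f)
      ((mem_lifts _).mpr (map_surjective _ Ideal.Quotient.mk_surjective f)) hf
    have hker : RingHom.ker (Ideal.Quotient.mk I) ≤ J := by rwa [Ideal.mk_ker]
    have hJ : (J.map (Ideal.Quotient.mk I)).comap (Ideal.Quotient.mk I) = J := by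
      rw [Ideal.comap_map_of_surjective _ Ideal.Quotient.mk_surjective, ← RingHom.ker_eq_comap_bot]
      exact sup_eq_left.mpr hker
    rw [eval_map, eval₂_at_apply, ← Ideal.mem_comap, hJ] at h₁
    rw [derivative_map, eval_map, eval₂_at_apply] at h₂
    have h₂' : IsUnit (Ideal.Quotient.mk J (g.derivative.eval a₀)) := by
      obtain ⟨b, hb⟩ := isUnit_iff_exists_inv.mp h₂
      obtain ⟨b, rfl⟩ := Ideal.Quotient.mk_surjective b
      obtain ⟨b, rfl⟩ := Ideal.Quotient.mk_surjective b
      rw [← map_mul, ← map_mul, ← map_one (Ideal.Quotient.mk (J.map (Ideal.Quotient.mk I))),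
        Ideal.Quotient.eq, ← map_one (Ideal.Quotient.mk I), ← map_sub, ← Ideal.mem_comap, hJ,
        ← Ideal.Quotient.eq, map_mul, map_one] at hb
      exact IsUnit.of_mul_eq_one _ hb
    obtain ⟨a, ha, haJ⟩ := HenselianRing.is_henselian (I := J) g hg a₀ h₁ h₂'
    refine ⟨Ideal.Quotient.mk I a, ?_, ?_⟩
    · rw [IsRoot, eval_map, eval₂_at_apply, ha.eq_zero, map_zero]
    · rw [← map_sub]
      exact Ideal.mem_map_of_mem _ haJ

theorem henselianRing_of_quotient {I J : Ideal A} (hIJ : I ≤ J) [HenselianRing A I]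
    [HenselianRing (A ⧸ I) (J.map (Ideal.Quotient.mk I))] : HenselianRing A J where
  jac := by
    refine le_jacobson_bot_of_isUnit_add_one fun x hx => ?_
    refine isUnit_of_isUnit_mk (HenselianRing.jac (I := I)) ?_
    refine isUnit_of_sub_one_mem (HenselianRing.jac (I := J.map (Ideal.Quotient.mk I))) ?_
    rw [map_add, map_one, add_sub_cancel_left]
    exact Ideal.mem_map_of_mem _ hx
  is_henselian f hf a₀ h₁ h₂ := by
    have h₂' : IsUnit (Ideal.Quotient.mk (J.map (Ideal.Quotient.mk I))
        (Ideal.Quotient.mk I (f.derivative.eval a₀))) := by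
      obtain ⟨b, hb⟩ := isUnit_iff_exists_inv.mp h₂
      obtain ⟨b, rfl⟩ := Ideal.Quotient.mk_surjective b
      rw [← map_mul, ← map_one (Ideal.Quotient.mk J), Ideal.Quotient.eq] at hb
      refine IsUnit.of_mul_eq_one (Ideal.Quotient.mk _ (Ideal.Quotient.mk I b)) ?_
      rw [← map_mul, ← map_mul, ← map_one (Ideal.Quotient.mk (J.map (Ideal.Quotient.mk I))),
        Ideal.Quotient.eq, ← map_one (Ideal.Quotient.mk I), ← map_sub]
      exact Ideal.mem_map_of_mem _ hb
    obtain ⟨a₁, ha₁, ha₁J⟩ := HenselianRing.is_henselian (I := J.map (Ideal.Quotient.mk I))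
      (f.map (Ideal.Quotient.mk I)) (hf.map _) (Ideal.Quotient.mk I a₀)
      (by rw [eval_map, eval₂_at_apply]; exact Ideal.mem_map_of_mem _ h₁)
      (by rw [derivative_map, eval_map, eval₂_at_apply]; exact h₂')
    obtain ⟨a₁, rfl⟩ := Ideal.Quotient.mk_surjective a₁
    rw [IsRoot, eval_map, eval₂_at_apply, Ideal.Quotient.eq_zero_iff_mem] at ha₁
    have hJ : (J.map (Ideal.Quotient.mk I)).comap (Ideal.Quotient.mk I) = J := by
      rw [Ideal.comap_map_of_surjective _ Ideal.Quotient.mk_surjective, ← RingHom.ker_eq_comap_bot,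
        Ideal.mk_ker]
      exact sup_eq_left.mpr hIJ
    have ha₁J' : a₁ - a₀ ∈ J := by rw [← hJ, Ideal.mem_comap, map_sub]; exact ha₁J
    have hd : IsUnit (Ideal.Quotient.mk I (f.derivative.eval a₁)) := by
      refine isUnit_of_isUnit_mk (HenselianRing.jac (I := J.map (Ideal.Quotient.mk I))) ?_
      convert h₂' using 1
      rw [Ideal.Quotient.eq, ← map_sub]
      obtain ⟨c, hc⟩ := sub_dvd_eval_sub a₁ a₀ f.derivative
      rw [hc]
      exact Ideal.mem_map_of_mem _ (J.mul_mem_right c ha₁J')
    obtain ⟨a, ha, haI⟩ := HenselianRing.is_henselian (I := I) f hf a₁ ha₁ hd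
    exact ⟨a, ha, by simpa using J.add_mem (hIJ haI) ha₁J'⟩

/-- A ring is henselian at any ideal consisting of nilpotent elements. -/
theorem henselianRing_of_nil {I : Ideal A} (hI : ∀ x ∈ I, IsNilpotent x) : HenselianRing A I where
  jac := le_jacobson_bot_of_isUnit_add_one fun x hx => (hI x hx).isUnit_one_add
  is_henselian f hf a₀ h₁ h₂ := by
    have hu : IsUnit (f.derivative.eval a₀) :=
      isUnit_of_isUnit_mk (le_jacobson_bot_of_isUnit_add_one fun x hx => (hI x hx).isUnit_one_add) h₂
    let I' : Ideal A := Ideal.span {f.eval a₀}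
    obtain ⟨n, hn⟩ := hI _ h₁
    have hI' : I' ^ n = ⊥ := by
      rw [Ideal.span_singleton_pow, hn, Ideal.span_singleton_eq_bot]
    have : IsAdicComplete I' A :=
      { haus' := fun x hx => by simpa [hI'] using (SModEq.zero.mp (hx n))
        prec' := fun g hg => ⟨g n, fun m => by
          rcases le_total m n with hmn | hnm
          · exact hg hmn
          · have := hg hnm
            rw [hI', Submodule.bot_smul, SModEq.bot] at this
            rw [this]⟩ }
    obtain ⟨a, ha, haI⟩ := HenselianRing.is_henselian (I := I') f hf a₀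
      (Ideal.mem_span_singleton_self _) (hu.map _)
    exact ⟨a, ha, Ideal.span_le.mpr (Set.singleton_subset_iff.mpr h₁) haI⟩

/-! ### Gabber's criterion -/

/-- Every polynomial `X^n (X-1) + p` with `p` of degree `≤ n` and coefficients in `I` has a root
congruent to `1` modulo `I`. -/
def GabberRoot (A : Type u) [CommRing A] (I : Ideal A) : Prop :=
  ∀ (n : ℕ), 0 < n → ∀ p : A[X], p.natDegree ≤ n → (∀ i, p.coeff i ∈ I) →
    ∃ α : A, α - 1 ∈ I ∧ IsRoot (X ^ n * (X - 1) + p) α

/-- For a finite algebra `B` and an element `b₀` idempotent modulo `IB` cutting out a cyclic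
`A`-module modulo `IB`, there is an idempotent of `B` congruent to `b₀`. -/
def CyclicLift (A : Type u) [CommRing A] (I : Ideal A) : Prop :=
  ∀ (B : Type v) [CommRing B] [Algebra A B], Module.Finite A B → ∀ b₀ : B,
    b₀ * b₀ - b₀ ∈ I.map (algebraMap A B) →
    (∀ x : B, ∃ a : A, b₀ * x - algebraMap A B a * b₀ ∈ I.map (algebraMap A B)) →
    ∃ e : B, IsIdempotentElem e ∧ e - b₀ ∈ I.map (algebraMap A B)

lemma gabber_map_mk {I : Ideal A} (n : ℕ) {p : A[X]} (hp : ∀ i, p.coeff i ∈ I) :
    (X ^ n * (X - 1) + p).map (Ideal.Quotient.mk I) = X ^ n * (X - 1) := by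
  have : p.map (Ideal.Quotient.mk I) = 0 := by
    ext i
    simp [Ideal.Quotient.eq_zero_iff_mem, hp i]
  simp [this]

lemma gabber_monic {n : ℕ} {p : A[X]} (hp : p.natDegree ≤ n) :
    (X ^ n * (X - 1) + p).Monic := by
  rcases subsingleton_or_nontrivial A with h | h
  · exact Subsingleton.elim _ _
  have hm : (X ^ n * (X - 1) : A[X]).Monic := by
    simpa using (monic_X_pow n).mul (monic_X_sub_C (1 : A))
  refine hm.add_of_left ?_
  refine degree_le_natDegree.trans_lt ?_
  have hd : (X ^ n * (X - 1) : A[X]).natDegree = n + 1 := by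
    have := (monic_X_pow (R := A) n).natDegree_mul (monic_X_sub_C (1 : A))
    rwa [natDegree_X_pow, natDegree_X_sub_C, map_one] at this
  rw [degree_eq_natDegree hm.ne_zero, hd]
  exact_mod_cast Nat.lt_succ_of_le hp

theorem gabberRoot_of_henselianRing (I : Ideal A) [HenselianRing A I] : GabberRoot A I := by
  intro n _ p hp hc
  have hmap := gabber_map_mk (I := I) n hc
  obtain ⟨α, hα, hαI⟩ := HenselianRing.is_henselian (I := I) _ (gabber_monic hp) 1
    (by
      rw [← Ideal.Quotient.eq_zero_iff_mem, ← eval₂_at_apply, ← eval_map, hmap]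
      simp)
    (by
      rw [← eval₂_at_apply, ← eval_map, ← derivative_map, hmap]
      simp [derivative_mul])
  exact ⟨α, hαI, hα⟩

/-- Gabber's trick: roots of `X^n (X-1) + ⋯` give lifts of idempotents cutting out cyclic pieces. -/
theorem cyclicLift_of_gabberRoot {I : Ideal A} (hI : I ≤ Ideal.jacobson ⊥) (hG : GabberRoot A I) :
    CyclicLift.{u, v} A I := by
  classical
  intro B _ _ hfin b₀ hb₀ hcyc
  rcases subsingleton_or_nontrivial A with hA | hA
  · have : Subsingleton B := Module.subsingleton A B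
    exact ⟨b₀, Subsingleton.elim _ _, by simp⟩
  set IB := I.map (algebraMap A B) with hIB
  obtain ⟨m, g, hg⟩ := Module.Finite.exists_fin (R := A) (M := B)
  -- generators: `none ↦ b₀`, `some (i+1) ↦ (1-b₀) g i`, `some 0 ↦ 0`
  let w : Option (Fin (m + 1)) → B := fun o => Option.elim o b₀ (fun i => (1 - b₀) * (Fin.cons 0 g : Fin (m + 1) → B) i)
  have hIBtop : ∀ x, x ∈ IB ↔ x ∈ I • (⊤ : Submodule A B) := by
    intro x
    rw [hIB, Ideal.smul_top_eq_map]
    rfl
  have hw : Submodule.span A (Set.range w) = ⊤ := by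
    rw [eq_top_iff]
    refine Submodule.le_of_le_smul_of_le_jacobson_bot Module.Finite.fg_top hI ?_
    intro x _
    obtain ⟨a, ha⟩ := hcyc x
    have key : ∀ y ∈ Submodule.span A (Set.range g), (1 - b₀) * y ∈ Submodule.span A (Set.range w) := by
      intro y hy
      induction hy using Submodule.span_induction with
      | mem z hz =>
        obtain ⟨i, rfl⟩ := hz
        exact Submodule.subset_span ⟨some i.succ, by simp [w]⟩
      | zero => simp
      | add z z' _ _ hz hz' => rw [mul_add]; exact add_mem hz hz'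
      | smul c z _ hz => rw [mul_smul_comm]; exact Submodule.smul_mem _ c hz
    have h1 := key x (hg ▸ Submodule.mem_top)
    have h2 : algebraMap A B a * b₀ ∈ Submodule.span A (Set.range w) := by
      rw [← Algebra.smul_def]
      exact Submodule.smul_mem _ a (Submodule.subset_span ⟨none, rfl⟩)
    rw [show x = (algebraMap A B a * b₀ + (1 - b₀) * x) + (b₀ * x - algebraMap A B a * b₀) by ring]
    exact Submodule.add_mem_sup (add_mem h2 h1) ((hIBtop _).mp ha)
  -- the matrix of multiplication by `b₀`
  let d : Option (Fin (m + 1)) → A := fun o => Option.elim o 1 (fun _ => 0)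
  have herr : ∀ o, ∃ c : Option (Fin (m + 1)) → A,
      (∀ o', c o' ∈ I) ∧ ∑ o', c o' • w o' = b₀ * w o - d o • w o := by
    intro o
    have : b₀ * w o - d o • w o ∈ I • Submodule.span A (Set.range w) := by
      rw [hw, ← hIBtop]
      cases o with
      | none => simpa [w, d] using hb₀
      | some i =>
        simp only [w, d, Option.elim_some, zero_smul, sub_zero]
        rw [show b₀ * ((1 - b₀) * (Fin.cons 0 g : Fin (m + 1) → B) i)
          = (-(Fin.cons 0 g : Fin (m + 1) → B) i) * (b₀ * b₀ - b₀) by ring]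
        exact IB.mul_mem_left _ hb₀
    obtain ⟨c, hc, hcs⟩ := (Submodule.mem_ideal_smul_span_iff_exists_sum I w _).mp this
    exact ⟨fun o' => c o', hc, by
      rw [← hcs, Finsupp.sum_fintype]
      exact fun _ => zero_smul _ _⟩
  choose c hc hcs using herr
  let M : Matrix (Option (Fin (m + 1))) (Option (Fin (m + 1))) A := Matrix.diagonal d + Matrix.of c
  set f := M.charpoly with hf
  have hfb : aeval b₀ f = 0 := by
    let N := (M.map (algebraMap A B))
    have hN : (Matrix.scalar _ b₀ - N).mulVec w = 0 := by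
      funext o
      simp only [Matrix.mulVec, dotProduct, Matrix.sub_apply, Matrix.scalar_apply, N, M,
        Matrix.map_apply, Matrix.add_apply, Matrix.of_apply, Pi.zero_apply, sub_mul, map_add,
        add_mul, Finset.sum_sub_distrib, Finset.sum_add_distrib, ← Algebra.smul_def]
      simp only [Matrix.diagonal_apply, ite_mul, zero_mul, ite_smul, zero_smul, Finset.sum_ite_eq,
        Finset.mem_univ, if_true, hcs]
      ring
    have hdet : ∀ o, (Matrix.scalar _ b₀ - N).det * w o = 0 := by
      intro o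
      have := congrArg ((Matrix.scalar _ b₀ - N).adjugate.mulVec) hN
      rw [Matrix.mulVec_mulVec, Matrix.adjugate_mul, Matrix.mulVec_zero] at this
      simpa [Matrix.smul_mulVec, Matrix.one_mulVec] using congrFun this o
    have hann : ∀ x : B, (Matrix.scalar _ b₀ - N).det * x = 0 := by
      intro x
      have hx : x ∈ Submodule.span A (Set.range w) := hw ▸ Submodule.mem_top
      induction hx using Submodule.span_induction with
      | mem y hy => obtain ⟨o, rfl⟩ := hy; exact hdet o
      | zero => simp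
      | add y z _ _ hy hz => rw [mul_add, hy, hz, add_zero]
      | smul r y _ hy => rw [mul_smul_comm, hy, smul_zero]
    have := hann 1
    rw [mul_one, ← Matrix.eval_charpoly, Matrix.charpoly_map, eval_map] at this
    exact this
  have hmap : f.map (Ideal.Quotient.mk I) = X ^ (m + 1) * (X - 1) := by
    have hM : M.map (Ideal.Quotient.mk I) = Matrix.diagonal (fun o => Ideal.Quotient.mk I (d o)) := by
      ext o o'
      simp [M, Matrix.diagonal_apply, Ideal.Quotient.eq_zero_iff_mem.mpr (hc o o'),
        apply_ite (Ideal.Quotient.mk I)]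
    rw [hf, ← Matrix.charpoly_map, hM, Matrix.charpoly_diagonal, Fintype.prod_option]
    simp [d, mul_comm]
  set p := f - X ^ (m + 1) * (X - 1) with hp
  have hpI : ∀ i, p.coeff i ∈ I := by
    intro i
    rw [← Ideal.Quotient.eq_zero_iff_mem, ← coeff_map]
    simp [p, hmap]
  have hpdeg : p.natDegree ≤ m + 1 := by
    have hfm : f.Monic := M.charpoly_monic
    have hfd : f.natDegree = m + 2 := by simp [f]
    have hgm : (X ^ (m + 1) * (X - 1) : A[X]).Monic := by
      simpa using (monic_X_pow (m + 1)).mul (monic_X_sub_C (1 : A))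
    have hgd : (X ^ (m + 1) * (X - 1) : A[X]).natDegree = m + 2 := by
      have := (monic_X_pow (R := A) (m + 1)).natDegree_mul (monic_X_sub_C (1 : A))
      rwa [natDegree_X_pow, natDegree_X_sub_C, map_one] at this
    by_cases hp0 : p = 0
    · simp [hp0]
    have h := degree_sub_lt_left (p := f) (q := X ^ (m + 1) * (X - 1))
      (by rw [degree_eq_natDegree hfm.ne_zero, degree_eq_natDegree hgm.ne_zero, hfd, hgd])
      hfm.ne_zero (by rw [hfm.leadingCoeff, hgm.leadingCoeff])
    rw [← hp, degree_eq_natDegree hp0, degree_eq_natDegree hfm.ne_zero, hfd] at h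
    exact Nat.lt_succ_iff.mp (by exact_mod_cast h)
  obtain ⟨α, hα1, hα⟩ := hG (m + 1) m.succ_pos p hpdeg hpI
  rw [hp, add_sub_cancel] at hα
  set q := f /ₘ (X - C α) with hq
  have hfq : (X - C α) * q = f := mul_divByMonic_eq_iff_isRoot.mpr hα
  have hqmap : q.map (Ideal.Quotient.mk I) = X ^ (m + 1) := by
    have := congrArg (Polynomial.map (Ideal.Quotient.mk I)) hfq
    rw [hmap, Polynomial.map_mul, Polynomial.map_sub, map_X, map_C,
      Ideal.Quotient.eq.mpr hα1, map_one, map_one, mul_comm (X ^ (m + 1))] at this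
    exact (by simpa using monic_X_sub_C (1 : A ⧸ I) : (X - 1 : (A ⧸ I)[X]).Monic).isRegular.left this
  have hu : q.eval α - 1 ∈ I := by
    rw [← Ideal.Quotient.eq, ← eval₂_at_apply, ← eval_map, hqmap, Ideal.Quotient.eq.mpr hα1,
      map_one]
    simp
  obtain ⟨u, hu'⟩ := isUnit_of_sub_one_mem hI hu
  obtain ⟨r, hr⟩ := sub_dvd_eval_sub b₀ (algebraMap A B α) (q.map (algebraMap A B))
  rw [eval_map, eval_map, eval₂_at_apply] at hr
  change aeval b₀ q - _ = _ at hr
  have h0 : (b₀ - algebraMap A B α) * aeval b₀ q = 0 := by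
    rw [← hfb, ← hfq]
    simp
  refine ⟨algebraMap A B ↑u⁻¹ * aeval b₀ q, ?_, ?_⟩
  · show algebraMap A B ↑u⁻¹ * aeval b₀ q * (algebraMap A B ↑u⁻¹ * aeval b₀ q) = _
    have huu : algebraMap A B ↑u⁻¹ * algebraMap A B (q.eval α) = 1 := by
      rw [← map_mul, ← hu', Units.inv_mul, map_one]
    linear_combination (algebraMap A B ↑u⁻¹ * algebraMap A B ↑u⁻¹ * aeval b₀ q) * hr +
      (algebraMap A B ↑u⁻¹ * algebraMap A B ↑u⁻¹ * r) * h0 +
      (algebraMap A B ↑u⁻¹ * aeval b₀ q) * huu
  · have h1 : Ideal.Quotient.mk IB (algebraMap A B ↑u⁻¹) = 1 := by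
      have h : Ideal.Quotient.mk I ↑u⁻¹ = 1 := by
        have := congrArg (Ideal.Quotient.mk I) u.inv_mul
        rwa [map_mul, map_one, hu', Ideal.Quotient.eq.mpr hu, map_one, mul_one] at this
      rw [← map_one (Ideal.Quotient.mk IB), ← map_one (algebraMap A B), Ideal.Quotient.eq,
        ← map_sub]
      exact Ideal.mem_map_of_mem _ (Ideal.Quotient.eq.mp (h.trans (map_one _).symm))
    have h2 : Ideal.Quotient.mk IB (aeval b₀ q) = Ideal.Quotient.mk IB b₀ := by
      have hz : q - X ^ (m + 1) ∈ I.map (C : A →+* A[X]) := by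
        rw [Ideal.mem_map_C_iff]
        intro i
        rw [← Ideal.Quotient.eq_zero_iff_mem, ← coeff_map]
        simp [hqmap]
      have := Ideal.mem_map_of_mem (aeval b₀ (R := A)).toRingHom hz
      rw [Ideal.map_map, show ((aeval b₀ (R := A)).toRingHom.comp C) = algebraMap A B from
        (aeval b₀ (R := A)).comp_algebraMap] at this
      rw [AlgHom.toRingHom_eq_coe, RingHom.coe_coe, map_sub, map_pow, aeval_X] at this
      rw [Ideal.Quotient.eq.mpr this, map_pow]
      exact (IsIdempotentElem.pow_succ_eq m (by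
        show _ * _ = _
        rw [← map_mul]; exact Ideal.Quotient.eq.mpr hb₀))
    rw [← Ideal.Quotient.eq, map_mul, h1, h2, one_mul]

theorem cyclicLift_of_henselianRing (I : Ideal A) [HenselianRing A I] : CyclicLift.{u, v} A I :=
  cyclicLift_of_gabberRoot HenselianRing.jac (gabberRoot_of_henselianRing I)

end Groth.Agent.Lib.Henselian.Basic
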