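import Groth.Agent.Lib.Henselian.ColimitPair
import Mathlib.RingTheory.FinitePresentation
import Mathlib.RingTheory.Etale.Basic

/-!
# Henselian finitely presented algebras

* `exists_hfp_of_quotient`: quotients of hfp algebras by finitely generated ideals are hfp
* `exists_presentation`: an hfp algebra is such a quotient of a henselized polynomial ring
* `hfp_comp`, `hfp_of_algHom`, `algHom_directLimit`, `hfp_of_retract`, `hfp_of_directLimit`
-/

universe u

open TensorProduct
open Groth.Agent.Lib.Henselian.PairHenselization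

namespace Groth.Agent.Lib.Henselian.Hfp

variable {A : Type u} [CommRing A] (I : Ideal A)

/-- A quotient of an hfp algebra by a finitely generated ideal is hfp. -/
theorem exists_hfp_of_quotient {T : Type u} [CommRing T] [Algebra A T]
    [Algebra.FinitePresentation A T] {P : Type u} [CommRing P] [Algebra T P] [Algebra A P]
    [IsScalarTower A T P] (hP : Hens2.IsPairHenselization T (I.map (algebraMap A T)) P)
    {B : Type u} [CommRing B] [Algebra A B] (φ : P →ₐ[A] B) (hφ : Function.Surjective φ)
    (hker : (RingHom.ker φ).FG) :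
    ∃ (R : Type u) (_ : CommRing R) (_ : Algebra A R) (_ : Algebra R B) (_ : IsScalarTower A R B),
      Algebra.FinitePresentation A R ∧ Hens2.IsPairHenselization R (I.map (algebraMap A R)) B := by
  classical
  obtain ⟨G, hG⟩ := hker
  obtain ⟨T₁, _, _, _, hT₁, ψ, hψ⟩ := exists_isNbhd_range hP G
  choose x hx using fun g : G => hψ g.2
  let : Algebra T₁ P := ψ.toRingHom.toAlgebra
  have : IsScalarTower T T₁ P := IsScalarTower.of_algebraMap_eq fun t => (ψ.commutes t).symm
  have hP₁ := PairUP.of_isNbhd' hT₁ hP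
  let : Algebra A T₁ := ((algebraMap T T₁).comp (algebraMap A T)).toAlgebra
  have : IsScalarTower A T T₁ := IsScalarTower.of_algebraMap_eq fun _ => rfl
  rw [Ideal.map_map, ← IsScalarTower.algebraMap_eq] at hP₁
  have : IsScalarTower A T₁ P := IsScalarTower.of_algebraMap_eq fun a => by
    rw [IsScalarTower.algebraMap_apply A T T₁, ← IsScalarTower.algebraMap_apply T T₁ P,
      ← IsScalarTower.algebraMap_apply]
  have : Algebra.FinitePresentation A T₁ := Algebra.FinitePresentation.trans A T T₁
  let L : Ideal T₁ := Ideal.span (Set.range x)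
  have hL : L.map (algebraMap T₁ P) = RingHom.ker φ := by
    rw [Ideal.map_span, ← hG]
    congr 1
    ext y
    exact ⟨fun ⟨_, ⟨g, rfl⟩, hy⟩ => hy ▸ (hx g).symm ▸ g.2, fun hy => ⟨x ⟨y, hy⟩, ⟨_, rfl⟩, hx ⟨y, hy⟩⟩⟩
  let f : T₁ ⧸ L →ₐ[A] B := Ideal.Quotient.liftₐ L (φ.comp (IsScalarTower.toAlgHom A T₁ P)) fun t ht =>
    RingHom.mem_ker.mp (hL.le (Ideal.mem_map_of_mem _ ht) : algebraMap T₁ P t ∈ RingHom.ker φ)
  let : Algebra (T₁ ⧸ L) B := f.toRingHom.toAlgebra
  have : IsScalarTower A (T₁ ⧸ L) B := IsScalarTower.of_algebraMap_eq fun a => (f.commutes a).symm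
  have : Algebra.FinitePresentation A (T₁ ⧸ L) :=
    Algebra.FinitePresentation.quotient (Submodule.fg_span (Set.finite_range x))
  let : Algebra (T₁ ⧸ L) (P ⧸ L.map (algebraMap T₁ P)) :=
    (Ideal.quotientMap _ (algebraMap T₁ P) Ideal.le_comap_map).toAlgebra
  have hq := PairUP.quotient hP₁ L fun r => rfl
  rw [Ideal.map_map] at hq
  let φ' : P ⧸ L.map (algebraMap T₁ P) →+* B :=
    Ideal.Quotient.lift _ φ.toRingHom fun p hp => RingHom.mem_ker.mp (hL.le hp)
  let e : (P ⧸ L.map (algebraMap T₁ P)) ≃ₐ[T₁ ⧸ L] B := AlgEquiv.ofRingEquiv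
    (f := RingEquiv.ofBijective φ'
      ⟨(injective_iff_map_eq_zero φ').mpr fun p hp => by
        obtain ⟨p, rfl⟩ := Ideal.Quotient.mk_surjective p
        exact Ideal.Quotient.eq_zero_iff_mem.mpr (hL.ge hp),
      fun b => ⟨Ideal.Quotient.mk _ (hφ b).choose, (hφ b).choose_spec⟩⟩)
    fun r => by
      obtain ⟨r, rfl⟩ := Ideal.Quotient.mk_surjective r
      rfl
  exact ⟨T₁ ⧸ L, inferInstance, inferInstance, inferInstance, inferInstance, inferInstance,
    PairUP.of_algEquiv hq e⟩

/-- An hfp algebra is a quotient of a henselized polynomial ring by a finitely generated ideal. -/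
theorem exists_presentation (R : Type u) [CommRing R] [Algebra A R] [Algebra.FinitePresentation A R]
    (B : Type u) [CommRing B] [Algebra R B] [Algebra A B] [IsScalarTower A R B]
    (hB : Hens2.IsPairHenselization R (I.map (algebraMap A R)) B) :
    ∃ (n : ℕ) (P : Type u) (_ : CommRing P) (_ : Algebra (MvPolynomial (Fin n) A) P) (_ : Algebra A P)
        (_ : IsScalarTower A (MvPolynomial (Fin n) A) P),
        Hens2.IsPairHenselization (MvPolynomial (Fin n) A)
          (I.map (algebraMap A (MvPolynomial (Fin n) A))) P ∧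
        ∃ φ : P →ₐ[A] B, Function.Surjective φ ∧ (RingHom.ker φ).FG := by
  obtain ⟨n, π, hπ, hker⟩ := Algebra.FinitePresentation.out (R := A) (A := R)
  let X := MvPolynomial (Fin n) A
  let K := I.map (algebraMap A X)
  let P := PairHenselization K
  let : Algebra A P := ((algebraMap X P).comp (algebraMap A X)).toAlgebra
  have : IsScalarTower A X P := IsScalarTower.of_algebraMap_eq fun _ => rfl
  have hP := isPairHenselization K
  have hHB : HenselianRing B (I.map (algebraMap A B)) := by
    have := hB.1
    rwa [Ideal.map_map, ← IsScalarTower.algebraMap_eq] at this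
  obtain ⟨φ, hφ, -⟩ := PairUP.existsUnique_algHom hP _ hHB ((IsScalarTower.toAlgHom A R B).comp π)
    (PairUP.map_map_le I _)
  set L : Ideal X := RingHom.ker π.toRingHom with hLdef
  have hmk : ∀ x : X, φ (algebraMap X P x) = algebraMap R B (π x) := fun x => AlgHom.congr_fun hφ x
  let Q := P ⧸ L.map (algebraMap X P)
  let q : P →ₐ[A] Q := Ideal.Quotient.mkₐ A _
  have hQ : HenselianRing Q (I.map (algebraMap A Q)) := by
    have := hP.1
    have h := Pair.henselianRing_of_isIntegral (K.map (algebraMap X P)) Q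
    rwa [Ideal.map_map, Ideal.map_map, RingHom.comp_assoc, ← IsScalarTower.algebraMap_eq A X P,
      ← IsScalarTower.algebraMap_eq A P Q] at h
  let θ : R →ₐ[A] Q := AlgHom.liftOfSurjective π hπ (q.comp (IsScalarTower.toAlgHom A X P))
    fun x hx => Ideal.Quotient.eq_zero_iff_mem.mpr (Ideal.mem_map_of_mem _ hx)
  obtain ⟨g, hg, -⟩ := PairUP.existsUnique_algHom hB _ hQ θ (PairUP.map_map_le I _)
  have h1 : g.comp φ = q := PairUP.algHom_ext hP _ hQ (AlgHom.ext fun x => by
    show g (φ (algebraMap X P x)) = q (algebraMap X P x)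
    rw [hmk, show g (algebraMap R B (π x)) = θ (π x) from AlgHom.congr_fun hg _]
    exact AlgHom.liftOfSurjective_apply π hπ _ _ x) (PairUP.map_map_le I _)
  have hker' : RingHom.ker φ = L.map (algebraMap X P) := by
    refine le_antisymm (fun p hp => ?_) (Ideal.map_le_iff_le_comap.mpr fun x hx => ?_)
    · rw [← Ideal.Quotient.eq_zero_iff_mem]
      show q p = 0
      rw [← h1, AlgHom.comp_apply, show φ p = 0 from hp, map_zero]
    · show φ (algebraMap X P x) = 0
      rw [hmk, show π x = 0 from hx, map_zero]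
  refine ⟨n, P, inferInstance, inferInstance, inferInstance, inferInstance, hP, φ, fun b => ?_, ?_⟩
  · let φ' : Q →ₐ[A] B := Ideal.Quotient.liftₐ _ φ fun p hp => RingHom.mem_ker.mp (hker'.ge hp)
    have hθ : ∀ r, φ' (θ r) = algebraMap R B r := fun r => by
      obtain ⟨x, rfl⟩ := hπ r
      rw [show θ (π x) = q (algebraMap X P x) from AlgHom.liftOfSurjective_apply π hπ _ _ x]
      exact hmk x
    have h2 : φ'.comp g = AlgHom.id A B := PairUP.algHom_ext hB _ hHB (AlgHom.ext fun r => by
      show φ' (g (algebraMap R B r)) = algebraMap R B r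
      rw [show g (algebraMap R B r) = θ r from AlgHom.congr_fun hg r, hθ]) (PairUP.map_map_le I _)
    obtain ⟨p, hp⟩ := Ideal.Quotient.mk_surjective (g b)
    refine ⟨p, ?_⟩
    have := AlgHom.congr_fun h2 b
    rw [AlgHom.comp_apply, ← hp] at this
    exact this
  · rw [hker']
    exact hker.map _

/-- Composites of hfp maps are hfp. -/
theorem hfp_comp (R : Type u) [CommRing R] [Algebra A R] [Algebra.FinitePresentation A R]
    (B : Type u) [CommRing B] [Algebra R B] [Algebra A B] [IsScalarTower A R B]
    (hB : Hens2.IsPairHenselization R (I.map (algebraMap A R)) B)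
    (S : Type u) [CommRing S] [Algebra B S] [Algebra A S] [IsScalarTower A B S]
    [Algebra.FinitePresentation B S]
    (C : Type u) [CommRing C] [Algebra S C] [Algebra B C] [Algebra A C] [IsScalarTower B S C]
    [IsScalarTower A B C]
    (hC : Hens2.IsPairHenselization S (I.map (algebraMap A S)) C) :
    ∃ (T : Type u) (_ : CommRing T) (_ : Algebra A T) (_ : Algebra T C) (_ : IsScalarTower A T C),
      Algebra.FinitePresentation A T ∧ Hens2.IsPairHenselization T (I.map (algebraMap A T)) C := by
  classical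
  obtain ⟨m, π, hπ, hker⟩ := Algebra.FinitePresentation.out (R := B) (A := S)
  obtain ⟨G, hG⟩ := hker
  obtain ⟨R₁, _, _, _, hR₁, ψ, hψ⟩ := exists_isNbhd_range hB (G.biUnion fun g => g.support.image g.coeff)
  let : Algebra A R₁ := ((algebraMap R R₁).comp (algebraMap A R)).toAlgebra
  have : IsScalarTower A R R₁ := IsScalarTower.of_algebraMap_eq fun _ => rfl
  have : Algebra.FinitePresentation A R₁ := Algebra.FinitePresentation.trans A R R₁
  let : Algebra R₁ B := ψ.toRingHom.toAlgebra
  have : IsScalarTower R R₁ B := IsScalarTower.of_algebraMap_eq fun r => (ψ.commutes r).symm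
  have : IsScalarTower A R₁ B := IsScalarTower.of_algebraMap_eq fun a => by
    rw [IsScalarTower.algebraMap_apply A R R₁, ← IsScalarTower.algebraMap_apply R R₁ B,
      ← IsScalarTower.algebraMap_apply]
  have hB₁ := PairUP.of_isNbhd' hR₁ hB
  rw [Ideal.map_map, ← IsScalarTower.algebraMap_eq] at hB₁
  let μ : MvPolynomial (Fin m) R₁ →+* MvPolynomial (Fin m) B := MvPolynomial.map (algebraMap R₁ B)
  have hlift : ∀ g ∈ G, ∃ g', μ g' = g := fun g hg => by
    have : g ∈ Set.range (MvPolynomial.map (algebraMap R₁ B) : MvPolynomial (Fin m) R₁ →+* _) := by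
      rw [MvPolynomial.mem_range_map_iff_coeffs_subset]
      intro c hc
      rw [Finset.mem_coe, MvPolynomial.mem_coeffs_iff] at hc
      obtain ⟨n, hn, rfl⟩ := hc
      exact hψ (Finset.mem_biUnion.mpr ⟨g, hg, Finset.mem_image_of_mem _ hn⟩)
    exact this
  choose! g' hg' using hlift
  let L : Ideal (MvPolynomial (Fin m) R₁) := Ideal.span (G.image g' : Finset _)
  let T := MvPolynomial (Fin m) R₁ ⧸ L
  have : Algebra.FinitePresentation R₁ T := Algebra.FinitePresentation.quotient ⟨_, rfl⟩
  have hfpT : Algebra.FinitePresentation A T := Algebra.FinitePresentation.trans A R₁ T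
  let ν : T →+* S := Ideal.Quotient.lift L (π.toRingHom.comp μ) fun z hz => by
    refine (Ideal.span_le.mpr ?_ : L ≤ RingHom.ker (π.toRingHom.comp μ)) hz
    intro w hw
    obtain ⟨g, hg, rfl⟩ := Finset.mem_image.mp hw
    show π (μ (g' g)) = 0
    rw [hg' g hg]
    exact RingHom.mem_ker.mp (hG ▸ Ideal.subset_span hg : g ∈ RingHom.ker π.toRingHom)
  have hν : ∀ z, ν (Ideal.Quotient.mk L z) = π (μ z) := fun z => rfl
  have hνC : ∀ r : R₁, ν (algebraMap R₁ T r) = algebraMap B S (algebraMap R₁ B r) := fun r => by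
    show π (μ (MvPolynomial.C r)) = _
    rw [show μ (MvPolynomial.C r) = MvPolynomial.C (algebraMap R₁ B r) from MvPolynomial.map_C _ _,
      ← MvPolynomial.algebraMap_eq, π.commutes]
  let : Algebra T C := ((algebraMap S C).comp ν).toAlgebra
  have : IsScalarTower A T C := IsScalarTower.of_algebraMap_eq (R := A) (S := T) (A := C) fun a => by
    show algebraMap A C a = algebraMap S C (ν (algebraMap A T a))
    rw [IsScalarTower.algebraMap_apply A R₁ T, hνC, ← IsScalarTower.algebraMap_apply A R₁ B,
      ← IsScalarTower.algebraMap_apply B S C, ← IsScalarTower.algebraMap_apply]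
  refine ⟨T, inferInstance, inferInstance, inferInstance, inferInstance, hfpT, ?_, fun C' _ J f hC' hf => ?_⟩
  · have h := hC.1
    rw [Ideal.map_map] at h ⊢
    rwa [← IsScalarTower.algebraMap_eq A T C,
      show algebraMap A C = (algebraMap S C).comp (algebraMap A S) from by
        rw [IsScalarTower.algebraMap_eq A B S, ← RingHom.comp_assoc, ← IsScalarTower.algebraMap_eq B S C,
          ← IsScalarTower.algebraMap_eq]]
  rw [Ideal.map_map] at hf
  obtain ⟨β, hβ, hβu⟩ := hB₁.2 C' J (f.comp (algebraMap R₁ T)) hC' (by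
    rw [Ideal.map_map, RingHom.comp_assoc, ← IsScalarTower.algebraMap_eq A R₁ T]
    exact hf)
  let Φ : MvPolynomial (Fin m) B →+* C' :=
    MvPolynomial.eval₂Hom β fun i => f (Ideal.Quotient.mk L (MvPolynomial.X i))
  have hΦ : Φ.comp μ = f.comp (Ideal.Quotient.mk L) := MvPolynomial.ringHom_ext
    (fun r => by
      show Φ (μ (MvPolynomial.C r)) = f (algebraMap R₁ T r)
      simp only [μ, Φ, MvPolynomial.map_C, MvPolynomial.eval₂Hom_C]
      exact RingHom.congr_fun hβ r)
    (fun i => by simp [μ, Φ])
  have hkerΦ : RingHom.ker π.toRingHom ≤ RingHom.ker Φ := by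
    rw [show RingHom.ker π.toRingHom = Ideal.span (G : Set _) from hG.symm, Ideal.span_le]
    intro g hg
    show Φ g = 0
    rw [← hg' g hg, ← RingHom.comp_apply, hΦ, RingHom.comp_apply, Ideal.Quotient.eq_zero_iff_mem.mpr
      (Ideal.subset_span (Finset.mem_image_of_mem g' hg)), map_zero]
  let δ : S →+* C' := RingHom.liftOfSurjective π.toRingHom hπ ⟨Φ, hkerΦ⟩
  have hδ : ∀ z, δ (π z) = Φ z := fun z => RingHom.liftOfRightInverse_comp_apply _ _ _ ⟨Φ, hkerΦ⟩ z
  have hδν : δ.comp ν = f := Ideal.Quotient.ringHom_ext (RingHom.ext fun z => by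
    show δ (ν (Ideal.Quotient.mk L z)) = f (Ideal.Quotient.mk L z)
    rw [hν, hδ, ← RingHom.comp_apply, hΦ]
    rfl)
  have hAS : ∀ a, ν (algebraMap A T a) = algebraMap A S a := fun a => by
    rw [IsScalarTower.algebraMap_apply A R₁ T, hνC, ← IsScalarTower.algebraMap_apply A R₁ B,
      ← IsScalarTower.algebraMap_apply]
  obtain ⟨γ, hγ, hγu⟩ := hC.2 C' J δ hC' (by
    rw [Ideal.map_map]
    refine le_of_eq_of_le ?_ hf
    congr 1
    refine RingHom.ext fun a => ?_
    show δ (algebraMap A S a) = f (algebraMap A T a)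
    rw [← hAS, ← RingHom.comp_apply, hδν])
  refine ⟨γ, ?_, fun γ' hγ' => hγu γ' ?_⟩
  · show γ.comp ((algebraMap S C).comp ν) = f
    rw [← RingHom.comp_assoc, show γ.comp (algebraMap S C) = δ from hγ, hδν]
  · show γ'.comp (algebraMap S C) = δ
    have hb : γ'.comp (algebraMap B C) = β := hβu _ (RingHom.ext fun r => by
      show γ' (algebraMap B C (algebraMap R₁ B r)) = f (algebraMap R₁ T r)
      rw [IsScalarTower.algebraMap_apply B S C, ← hνC]
      exact RingHom.congr_fun hγ' _)
    refine (RingHom.cancel_right (show Function.Surjective π.toRingHom from hπ)).mp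
      (MvPolynomial.ringHom_ext (fun b => ?_) fun i => ?_)
    · show γ' (algebraMap S C (π (MvPolynomial.C b))) = δ (π (MvPolynomial.C b))
      rw [hδ, ← MvPolynomial.algebraMap_eq, π.commutes, ← IsScalarTower.algebraMap_apply,
        MvPolynomial.algebraMap_eq, show Φ (MvPolynomial.C b) = β b from MvPolynomial.eval₂Hom_C _ _ _]
      exact RingHom.congr_fun hb b
    · show γ' (algebraMap S C (π (MvPolynomial.X i))) = δ (π (MvPolynomial.X i))
      rw [hδ, show Φ (MvPolynomial.X i) = f (Ideal.Quotient.mk L (MvPolynomial.X i)) from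
        MvPolynomial.eval₂Hom_X' _ _ _]
      have h := RingHom.congr_fun hγ' (Ideal.Quotient.mk L (MvPolynomial.X i))
      rw [← h]
      show _ = γ' (algebraMap S C (ν _))
      rw [hν, show μ (MvPolynomial.X i) = MvPolynomial.X i from MvPolynomial.map_X _ i]

/-- A map between hfp algebras is hfp. -/
theorem hfp_of_algHom (R : Type u) [CommRing R] [Algebra A R] [Algebra.FinitePresentation A R]
    (B : Type u) [CommRing B] [Algebra R B] [Algebra A B] [IsScalarTower A R B]
    (hB : Hens2.IsPairHenselization R (I.map (algebraMap A R)) B)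
    (S : Type u) [CommRing S] [Algebra A S] [Algebra.FinitePresentation A S]
    (C : Type u) [CommRing C] [Algebra S C] [Algebra A C] [IsScalarTower A S C]
    (hC : Hens2.IsPairHenselization S (I.map (algebraMap A S)) C)
    [Algebra B C] [IsScalarTower A B C] :
    ∃ (T : Type u) (_ : CommRing T) (_ : Algebra B T) (_ : Algebra T C) (_ : IsScalarTower B T C),
      Algebra.FinitePresentation B T ∧
      Hens2.IsPairHenselization T ((I.map (algebraMap A B)).map (algebraMap B T)) C := by
  obtain ⟨S', _, _, _, _, _, hS', φ, ψ, hφψ⟩ :=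
    PairUP.exists_factor hC ((IsScalarTower.toAlgHom A B C).comp (IsScalarTower.toAlgHom A R B))
  let : Algebra R S' := ψ.toRingHom.toAlgebra
  have : IsScalarTower A R S' := IsScalarTower.of_algebraMap_eq fun a => (ψ.commutes a).symm
  let : Algebra S' C := φ.toRingHom.toAlgebra
  have : IsScalarTower S S' C := IsScalarTower.of_algebraMap_eq fun s => (φ.commutes s).symm
  have : IsScalarTower A S' C := IsScalarTower.of_algebraMap_eq fun a => by
    rw [IsScalarTower.algebraMap_apply A S S', ← IsScalarTower.algebraMap_apply S S' C,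
      ← IsScalarTower.algebraMap_apply]
  have hC' := PairUP.of_isNbhd' hS' hC
  rw [Ideal.map_map, ← IsScalarTower.algebraMap_eq] at hC'
  have : Algebra.FinitePresentation A S' := Algebra.FinitePresentation.trans A S S'
  have : Algebra.FinitePresentation R S' :=
    Algebra.FinitePresentation.of_restrict_scalars_finitePresentation A R S'
  let : Algebra R C := ((algebraMap B C).comp (algebraMap R B)).toAlgebra
  have : IsScalarTower R B C := IsScalarTower.of_algebraMap_eq fun _ => rfl
  have : IsScalarTower R S' C := IsScalarTower.of_algebraMap_eq fun r => (AlgHom.congr_fun hφψ r).symm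
  let l : B ⊗[R] S' →ₐ[B] C :=
    Algebra.TensorProduct.lift (Algebra.ofId B C) (IsScalarTower.toAlgHom R S' C) fun _ _ => Commute.all _ _
  let : Algebra (B ⊗[R] S') C := l.toRingHom.toAlgebra
  have : IsScalarTower B (B ⊗[R] S') C := IsScalarTower.of_algebraMap_eq fun b => (l.commutes b).symm
  refine ⟨B ⊗[R] S', inferInstance, inferInstance, inferInstance, inferInstance, inferInstance, ?_, ?_⟩
  · have hT : algebraMap A C = (algebraMap (B ⊗[R] S') C).comp ((algebraMap B (B ⊗[R] S')).comp (algebraMap A B)) := by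
      rw [← RingHom.comp_assoc, ← IsScalarTower.algebraMap_eq B, ← IsScalarTower.algebraMap_eq]
    have h := hC'.1
    rw [Ideal.map_map, Ideal.map_map, RingHom.comp_assoc, ← hT]
    rwa [Ideal.map_map, ← IsScalarTower.algebraMap_eq] at h
  intro C'' _ J f hC'' hf
  rw [Ideal.map_map, Ideal.map_map] at hf
  have hl : ∀ s, algebraMap (B ⊗[R] S') C (1 ⊗ₜ s) = algebraMap S' C s := fun s => by
    show l (1 ⊗ₜ s) = _
    simp [l]
  have hA : ∀ a, (1 : B) ⊗ₜ[R] algebraMap A S' a = algebraMap B (B ⊗[R] S') (algebraMap A B a) := fun a => by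
    rw [IsScalarTower.algebraMap_apply A R S', IsScalarTower.algebraMap_apply A R B,
      ← IsScalarTower.algebraMap_apply R B (B ⊗[R] S')]
    exact (Algebra.TensorProduct.algebraMap_apply' _).symm
  let inc : S' →+* B ⊗[R] S' := (Algebra.TensorProduct.includeRight : S' →ₐ[R] B ⊗[R] S').toRingHom
  obtain ⟨g, hg, hgu⟩ := hC'.2 C'' J (f.comp inc) hC'' (by
    rw [Ideal.map_map]
    refine le_of_eq_of_le ?_ hf
    congr 1
    exact RingHom.ext fun a => congrArg f (hA a))
  refine ⟨g, ?_, fun g' hg' => hgu g' ?_⟩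
  · have hb : g.comp (algebraMap B C) = f.comp (algebraMap B (B ⊗[R] S')) := by
      refine PairUP.ringHom_ext hB J hC'' (RingHom.ext fun r => ?_) ?_
      · show g (algebraMap B C (algebraMap R B r)) = f (algebraMap B _ (algebraMap R B r))
        rw [← IsScalarTower.algebraMap_apply R B C, IsScalarTower.algebraMap_apply R S' C,
          ← IsScalarTower.algebraMap_apply R B (B ⊗[R] S')]
        refine (RingHom.congr_fun hg _).trans (congrArg f ?_)
        show (1 : B) ⊗ₜ[R] algebraMap R S' r = algebraMap R (B ⊗[R] S') r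
        exact (Algebra.TensorProduct.algebraMap_apply' r).symm
      · rw [Ideal.map_map]
        refine le_of_eq_of_le ?_ hf
        congr 1
        refine RingHom.ext fun a => ?_
        show g (algebraMap B C (algebraMap R B (algebraMap A R a))) = f (algebraMap B _ (algebraMap A B a))
        rw [← IsScalarTower.algebraMap_apply A R B, ← IsScalarTower.algebraMap_apply A B C, ← hA,
          IsScalarTower.algebraMap_apply A S C, IsScalarTower.algebraMap_apply S S' C,
          ← IsScalarTower.algebraMap_apply A S S']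
        exact RingHom.congr_fun hg _
    refine Algebra.TensorProduct.ringHom_ext ?_ ?_
    · refine RingHom.ext fun b => ?_
      show g (algebraMap (B ⊗[R] S') C (algebraMap B (B ⊗[R] S') b)) = f (algebraMap B (B ⊗[R] S') b)
      rw [← IsScalarTower.algebraMap_apply]
      exact RingHom.congr_fun hb b
    · refine RingHom.ext fun s => ?_
      show g (algebraMap (B ⊗[R] S') C (1 ⊗ₜ s)) = f (1 ⊗ₜ s)
      rw [hl]
      exact RingHom.congr_fun hg s
  · refine RingHom.ext fun s => ?_
    show g' (algebraMap S' C s) = f (1 ⊗ₜ s)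
    rw [← hl]
    exact RingHom.congr_fun hg' _

/-- Maps out of hfp algebras commute with filtered colimits of henselian pairs. -/
theorem algHom_directLimit (R₀ : Type u) [CommRing R₀] [Algebra A R₀] [Algebra.FinitePresentation A R₀]
    (B : Type u) [CommRing B] [Algebra R₀ B] [Algebra A B] [IsScalarTower A R₀ B]
    (hB : Hens2.IsPairHenselization R₀ (I.map (algebraMap A R₀)) B)
    {κ : Type u} [Preorder κ] [IsDirectedOrder κ] [Nonempty κ]
    (Ra : κ → Type u) [∀ a, CommRing (Ra a)] [∀ a, Algebra A (Ra a)]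
    [∀ a, HenselianRing (Ra a) (I.map (algebraMap A (Ra a)))]
    (t : ∀ a b : κ, a ≤ b → (Ra a →+* Ra b)) [DirectedSystem Ra (fun a b h => t a b h)]
    (ht : ∀ (a b : κ) (h : a ≤ b), (t a b h).comp (algebraMap A (Ra a)) = algebraMap A (Ra b))
    [Algebra A (DirectLimit Ra t)]
    (halg : ∀ (a : κ) (x : A), algebraMap A (DirectLimit Ra t) x =
      DirectLimit.Ring.of Ra t a (algebraMap A (Ra a) x)) :
    (∀ χ : B →ₐ[A] DirectLimit Ra t, ∃ (a : κ) (φ : B →ₐ[A] Ra a),
        ∀ x : B, DirectLimit.Ring.of Ra t a (φ x) = χ x) ∧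
    ∀ (a : κ) (φ ψ : B →ₐ[A] Ra a),
      (∀ x : B, DirectLimit.Ring.of Ra t a (φ x) = DirectLimit.Ring.of Ra t a (ψ x)) →
      ∃ (b : κ) (h : a ≤ b), ∀ x : B, t a b h (φ x) = t a b h (ψ x) := by
  classical
  let tA : ∀ (a b : κ) (h : a ≤ b), Ra a →ₐ[A] Ra b := fun a b h => ⟨t a b h, RingHom.congr_fun (ht a b h)⟩
  let ofA : ∀ a, Ra a →ₐ[A] DirectLimit Ra t := fun a =>
    ⟨DirectLimit.Ring.of Ra t a, fun x => (halg a x).symm⟩
  have hof : ∀ (a b : κ) (h : a ≤ b) (x : Ra a), ofA b (tA a b h x) = ofA a x := fun a b h x =>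
    DirectLimit.Ring.of_f h x
  obtain ⟨n, π, hπ, G, hG⟩ := Algebra.FinitePresentation.out (R := A) (A := R₀)
  -- finitely many elements of one stage dying in the colimit die at a stage
  have kill : ∀ (a : κ) (s : Finset (Ra a)), (∀ x ∈ s, ofA a x = 0) →
      ∃ (b : κ) (h : a ≤ b), ∀ x ∈ s, tA a b h x = 0 := by
    intro a s
    induction s using Finset.induction with
    | empty => exact fun _ => ⟨a, le_rfl, by simp⟩
    | insert x s hxs ih =>
      intro hs
      obtain ⟨b, hab, hb⟩ := ih fun y hy => hs y (Finset.mem_insert_of_mem hy)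
      obtain ⟨c, hac, hc⟩ := ColimitPair.exists_map_eq (G := Ra) (f := t) (x := x) (y := (0 : Ra a))
        ((hs x (Finset.mem_insert_self _ _)).trans (map_zero (DirectLimit.Ring.of Ra t a)).symm)
      obtain ⟨d, hbd, hcd⟩ := exists_ge_ge b c
      refine ⟨d, hab.trans hbd, fun y hy => ?_⟩
      rcases Finset.mem_insert.mp hy with rfl | hy
      · show t a d _ y = 0
        rw [← DirectedSystem.map_map (f := fun a b h => t a b h) hac hcd, hc, map_zero, map_zero]
      · show t a d _ y = 0
        rw [← DirectedSystem.map_map (f := fun a b h => t a b h) hab hbd]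
        show t b d hbd (tA a b hab y) = 0
        rw [hb y hy, map_zero]
  constructor
  · intro χ
    let χ₀ : R₀ →ₐ[A] DirectLimit Ra t := χ.comp (IsScalarTower.toAlgHom A R₀ B)
    have hrep : ∀ s : Finset (Fin n), ∃ (a : κ) (y : Fin n → Ra a),
        ∀ i ∈ s, ofA a (y i) = χ₀ (π (MvPolynomial.X i)) := by
      intro s
      induction s using Finset.induction with
      | empty => exact ⟨Classical.arbitrary κ, 0, by simp⟩
      | insert i s his ih =>
        obtain ⟨a, y, hy⟩ := ih
        obtain ⟨b, z, hz⟩ := ColimitPair.exists_of (χ₀ (π (MvPolynomial.X i)))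
        obtain ⟨c, hac, hbc⟩ := exists_ge_ge a b
        refine ⟨c, Function.update (fun j => tA a c hac (y j)) i (tA b c hbc z), fun j hj => ?_⟩
        by_cases hji : j = i
        · subst hji
          rw [Function.update_self, hof]
          exact hz
        · rw [Function.update_of_ne hji, hof]
          exact hy j ((Finset.mem_insert.mp hj).resolve_left hji)
    obtain ⟨a, y, hy⟩ := hrep Finset.univ
    have hay : (ofA a).comp (MvPolynomial.aeval y) = χ₀.comp π :=
      MvPolynomial.algHom_ext fun i => by simpa using hy i (Finset.mem_univ i)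
    obtain ⟨b, hab, hb⟩ := kill a (G.image (MvPolynomial.aeval y)) (by
      intro w hw
      obtain ⟨g, hg, rfl⟩ := Finset.mem_image.mp hw
      rw [← AlgHom.comp_apply, hay, AlgHom.comp_apply,
        show π g = 0 from RingHom.mem_ker.mp (hG ▸ Ideal.subset_span hg), map_zero])
    let v : MvPolynomial (Fin n) A →ₐ[A] Ra b := (tA a b hab).comp (MvPolynomial.aeval y)
    have hv : RingHom.ker π.toRingHom ≤ RingHom.ker v.toRingHom := by
      rw [show RingHom.ker π.toRingHom = Ideal.span (G : Set _) from hG.symm, Ideal.span_le]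
      exact fun g hg => hb _ (Finset.mem_image_of_mem _ hg)
    obtain ⟨φ, hφ, -⟩ := PairUP.existsUnique_algHom hB _ inferInstance
      (AlgHom.liftOfSurjective π hπ v hv) (PairUP.map_map_le I _)
    refine ⟨b, φ, fun x => ?_⟩
    have hL : HenselianRing (DirectLimit Ra t) (⨆ c, (I.map (algebraMap A (Ra c))).map (DirectLimit.Ring.of Ra t c)) :=
      ColimitPair.henselianRing_directLimit (J := fun c => I.map (algebraMap A (Ra c)))
        (fun c d h => by rw [Ideal.map_map, ht]) fun c => inferInstance
    have heq : (ofA b).comp φ = χ := PairUP.algHom_ext hB _ hL (AlgHom.ext fun r => by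
      obtain ⟨p, rfl⟩ := hπ r
      show ofA b (φ (algebraMap R₀ B (π p))) = χ₀ (π p)
      rw [show φ (algebraMap R₀ B (π p)) = _ from AlgHom.congr_fun hφ (π p), AlgHom.liftOfSurjective_apply]
      show ofA b (tA a b hab (MvPolynomial.aeval y p)) = _
      rw [hof]
      exact AlgHom.congr_fun hay p) (by
        refine (PairUP.map_map_le I _).trans ?_
        refine le_iSup_of_le b ?_
        rw [Ideal.map_map]
        exact le_of_eq (congrArg (fun g => I.map g) (RingHom.ext (halg b))))
    exact AlgHom.congr_fun heq x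
  · intro a φ ψ h
    obtain ⟨b, hab, hb⟩ := kill a (Finset.univ.image fun i =>
      φ (algebraMap R₀ B (π (MvPolynomial.X i))) - ψ (algebraMap R₀ B (π (MvPolynomial.X i)))) (by
      intro w hw
      obtain ⟨i, -, rfl⟩ := Finset.mem_image.mp hw
      rw [map_sub, sub_eq_zero]
      exact h _)
    refine ⟨b, hab, fun x => ?_⟩
    have : (tA a b hab).comp φ = (tA a b hab).comp ψ := by
      refine PairUP.algHom_ext hB _ inferInstance ((AlgHom.cancel_right hπ).mp (MvPolynomial.algHom_ext fun i => ?_))
        (PairUP.map_map_le I _)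
      show tA a b hab (φ _) = tA a b hab (ψ _)
      rw [← sub_eq_zero, ← map_sub]
      exact hb _ (Finset.mem_image_of_mem _ (Finset.mem_univ i))
    exact AlgHom.congr_fun this x

/-- Retracts of hfp algebras are hfp. -/
theorem hfp_of_retract {R : Type u} [CommRing R] [Algebra A R] [Algebra.FinitePresentation A R]
    {P : Type u} [CommRing P] [Algebra R P] [Algebra A P] [IsScalarTower A R P]
    (hP : Hens2.IsPairHenselization R (I.map (algebraMap A R)) P)
    {B : Type u} [CommRing B] [Algebra A B] (u : P →ₐ[A] B) (v : B →ₐ[A] P) (huv : ∀ b, u (v b) = b) :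
    ∃ (T : Type u) (_ : CommRing T) (_ : Algebra A T) (_ : Algebra T B) (_ : IsScalarTower A T B),
      Algebra.FinitePresentation A T ∧ Hens2.IsPairHenselization T (I.map (algebraMap A T)) B := by
  obtain ⟨n, π, hπ, -⟩ := Algebra.FinitePresentation.out (R := A) (A := R)
  let d : Fin n → P := fun i => algebraMap R P (π (MvPolynomial.X i)) - v (u (algebraMap R P (π (MvPolynomial.X i))))
  let K : Ideal P := Ideal.span (Set.range d)
  suffices h : RingHom.ker u = K from
    exists_hfp_of_quotient I hP u (fun b => ⟨v b, huv b⟩) (by rw [h]; exact Submodule.fg_span (Set.finite_range d))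
  refine le_antisymm ?_ ?_
  · intro p hp
    have hQ : HenselianRing (P ⧸ K) (I.map (algebraMap A (P ⧸ K))) := by
      have := hP.1
      have h := Pair.henselianRing_of_isIntegral ((I.map (algebraMap A R)).map (algebraMap R P)) (P ⧸ K)
      rwa [Ideal.map_map, Ideal.map_map, RingHom.comp_assoc, ← IsScalarTower.algebraMap_eq A R P,
        ← IsScalarTower.algebraMap_eq A P (P ⧸ K)] at h
    have : (Ideal.Quotient.mkₐ A K).comp (v.comp u) = Ideal.Quotient.mkₐ A K :=
      PairUP.algHom_ext hP _ hQ ((AlgHom.cancel_right hπ).mp (MvPolynomial.algHom_ext fun i =>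
        (Ideal.Quotient.eq.mpr (Ideal.subset_span (Set.mem_range_self (f := d) i))).symm)) (PairUP.map_map_le I _)
    rw [← Ideal.Quotient.eq_zero_iff_mem]
    refine (AlgHom.congr_fun this p).symm.trans ?_
    show Ideal.Quotient.mk K (v (u p)) = 0
    rw [show u p = 0 from hp, map_zero, map_zero]
  · rw [Ideal.span_le]
    rintro _ ⟨i, rfl⟩
    show u (_ - _) = 0
    rw [map_sub, huv, sub_self]

end Groth.Agent.Lib.Henselian.Hfp
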