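import Mathlib.RingTheory.Smooth.Locus
import Mathlib.RingTheory.ZariskisMainTheorem
import Mathlib.RingTheory.Etale.Basic
import Mathlib.RingTheory.RingHom.Etale

/-!
# Shrinking around a closed subset

* `exists_one_sub_mem`: an open set containing `V(J)` contains a `D(g)` with `g ≡ 1` modulo `J`
* `quotientMap_away_bijective`, `exists_etale_of_forall`
* `quasiFinite_away_of_forall`: quasi-finiteness is local
-/

universe u

open PrimeSpectrum

namespace Groth.Agent.Lib.Henselian.Shrink

variable {R : Type u} [CommRing R] (J : Ideal R)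

theorem exists_one_sub_mem {U : Set (PrimeSpectrum R)} (hU : IsOpen U)
    (h : ∀ (p : PrimeSpectrum R), J ≤ p.asIdeal → p ∈ U) :
    ∃ g : R, g - 1 ∈ J ∧ (basicOpen g : Set (PrimeSpectrum R)) ⊆ U := by
  obtain ⟨T, hT⟩ := (isClosed_iff_zeroLocus_ideal _).mp hU.isClosed_compl
  have htop : J ⊔ T = ⊤ := by
    by_contra hne
    obtain ⟨M, hM, hle⟩ := Ideal.exists_le_maximal _ hne
    have h1 : (⟨M, hM.isPrime⟩ : PrimeSpectrum R) ∈ Uᶜ := hT ▸ (le_sup_right.trans hle : T ≤ M)
    exact h1 (h _ (le_sup_left.trans hle))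
  obtain ⟨i, hi, g, hg, hig⟩ := Submodule.mem_sup.mp ((Ideal.eq_top_iff_one _).mp htop)
  refine ⟨g, by rw [show g - 1 = -i by linear_combination hig]; exact neg_mem hi, fun p hp => ?_⟩
  by_contra hpU
  have : p ∈ zeroLocus (T : Set R) := hT ▸ hpU
  exact hp (this hg)

theorem quotientMap_away_bijective {g : R} (hg : g - 1 ∈ J) (S : Type u) [CommRing S] [Algebra R S]
    [IsLocalization.Away g S] :
    Function.Bijective (Ideal.quotientMap (J.map (algebraMap R S)) (algebraMap R S) Ideal.le_comap_map) := by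
  have hpow : ∀ n : ℕ, g ^ n - 1 ∈ J := fun n => J.mem_of_dvd (sub_one_dvd_pow_sub_one g n) hg
  refine ⟨Ideal.quotientMap_injective' fun x hx => ?_, fun q => ?_⟩
  · rw [Ideal.mem_comap, IsLocalization.algebraMap_mem_map_algebraMap_iff (Submonoid.powers g)] at hx
    obtain ⟨_, ⟨n, rfl⟩, hn⟩ := hx
    rw [show x = g ^ n * x - (g ^ n - 1) * x by ring]
    exact sub_mem hn (J.mul_mem_right x (hpow n))
  · obtain ⟨y, rfl⟩ := Ideal.Quotient.mk_surjective q
    obtain ⟨x, ⟨_, n, rfl⟩, rfl⟩ := IsLocalization.exists_mk'_eq (Submonoid.powers g) y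
    refine ⟨Ideal.Quotient.mk J x, ?_⟩
    rw [Ideal.quotientMap_mk, Ideal.Quotient.eq]
    refine (Ideal.mul_unit_mem_iff_mem _
      (IsLocalization.map_units S (⟨g ^ n, n, rfl⟩ : Submonoid.powers g))).mp ?_
    rw [sub_mul, IsLocalization.mk'_spec, ← map_mul, ← map_sub]
    refine Ideal.mem_map_of_mem _ ?_
    rw [show x * g ^ n - x = x * (g ^ n - 1) by ring]
    exact J.mul_mem_left x (hpow n)

/-- A property holding near every prime containing `J` holds on an étale neighbourhood. -/
theorem exists_etale_of_forall {A : Type u} [CommRing A] [Algebra A R]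
    (Q : ∀ (R' : Type u) [CommRing R'] [Algebra A R'], Prop) {U : Set (PrimeSpectrum R)} (hU : IsOpen U)
    (h : ∀ (p : PrimeSpectrum R), J ≤ p.asIdeal → p ∈ U)
    (hQ : ∀ g : R, (basicOpen g : Set (PrimeSpectrum R)) ⊆ U → Q (Localization.Away g)) :
    ∃ (R' : Type u) (_ : CommRing R') (_ : Algebra R R') (_ : Algebra A R') (_ : IsScalarTower A R R'),
      Algebra.Etale R R' ∧
      Function.Bijective (Ideal.quotientMap (J.map (algebraMap R R')) (algebraMap R R') Ideal.le_comap_map) ∧
      Q R' := by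
  obtain ⟨g, hg, hgU⟩ := exists_one_sub_mem J hU h
  exact ⟨Localization.Away g, inferInstance, inferInstance, inferInstance, inferInstance,
    Algebra.Etale.of_isLocalizationAway g, quotientMap_away_bijective J hg _, hQ g hgU⟩

variable (A : Type u) [CommRing A] [Algebra A R]

/-- The locus where `R` is quasi-finite over `A`. -/
def qfLocus : Set (PrimeSpectrum R) :=
  {p | ∃ f : R, f ∉ p.asIdeal ∧ Algebra.QuasiFinite A (Localization.Away f)}

theorem isOpen_qfLocus : IsOpen (qfLocus (R := R) A) := by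
  refine isOpen_iff_forall_mem_open.mpr fun p ⟨f, hf, hq⟩ => ⟨basicOpen f, fun q hq' => ⟨f, hq', hq⟩,
    (basicOpen f).isOpen, hf⟩

theorem mem_qfLocus [Algebra.FiniteType A R] (p : PrimeSpectrum R) [Algebra.QuasiFiniteAt A p.asIdeal] :
    p ∈ qfLocus A := by
  obtain ⟨S', hS', r, hrp, H⟩ :=
    Algebra.QuasiFiniteAt.exists_fg_and_exists_notMem_and_awayMap_bijective (R := A) p.asIdeal
  have : Module.Finite A S' := ⟨(Submodule.fg_top _).mpr hS'⟩
  have : Algebra.QuasiFinite A (Localization.Away r) := .trans _ S' _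
  exact ⟨r.1, hrp, .of_surjective_algHom (Localization.awayMapₐ S'.val r) H.2⟩

theorem quasiFinite_away_of_forall [Algebra.FiniteType A R] (g : R)
    (h : (basicOpen g : Set (PrimeSpectrum R)) ⊆ qfLocus A) :
    Algebra.QuasiFinite A (Localization.Away g) := by
  classical
  have hcov : (basicOpen g : Set (PrimeSpectrum R)) ⊆
      ⋃ f ∈ {f : R | Algebra.QuasiFinite A (Localization.Away f)}, (basicOpen f : Set (PrimeSpectrum R)) :=
    fun p hp => by
      obtain ⟨f, hf, hq⟩ := h hp
      exact Set.mem_biUnion hq hf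
  obtain ⟨t, hts, htf, htcov⟩ := (isCompact_basicOpen g).elim_finite_subcover_image
    (fun f _ => (basicOpen f).isOpen) hcov
  have : Algebra.FinitePresentation R (Localization.Away g) := IsLocalization.Away.finitePresentation g
  have : Algebra.FiniteType A (Localization.Away g) := Algebra.FiniteType.trans (S := R) ‹Algebra.FiniteType A R› inferInstance
  refine Algebra.QuasiFinite.iff_finite_primesOver.mpr fun P hP => ?_
  let F : Ideal (Localization.Away g) → Ideal R := fun Q => Q.comap (algebraMap R _)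
  have hFinj : Set.InjOn F (P.primesOver (Localization.Away g)) := fun Q hQ Q' hQ' e => by
    rw [← IsLocalization.map_under (Submonoid.powers g) _ Q, ← IsLocalization.map_under (Submonoid.powers g) _ Q']
    exact congrArg _ e
  refine Set.Finite.of_finite_image (Set.Finite.subset (htf.biUnion (t := fun f =>
    (fun Q : Ideal (Localization.Away f) => Q.comap (algebraMap R _)) '' P.primesOver (Localization.Away f))
    fun f hf => ?_) ?_) hFinj
  · have : Algebra.QuasiFinite A (Localization.Away f) := hts hf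
    exact (Algebra.QuasiFinite.finite_primesOver P).image _
  · rintro _ ⟨Q, ⟨hQp, hQo⟩, rfl⟩
    let p : PrimeSpectrum R := ⟨Q.comap (algebraMap R _), inferInstance⟩
    have hp : p ∈ (basicOpen g : Set (PrimeSpectrum R)) := fun hg =>
      hQp.ne_top (Ideal.eq_top_of_isUnit_mem _ hg (IsLocalization.Away.algebraMap_isUnit g))
    obtain ⟨f, hf, hpf⟩ := Set.mem_iUnion₂.mp (htcov hp)
    have hdisj : Disjoint (Submonoid.powers f : Set R) p.asIdeal := by
      rw [Set.disjoint_left]
      rintro _ ⟨n, rfl⟩ hn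
      exact hpf (p.isPrime.mem_of_pow_mem n hn)
    refine Set.mem_biUnion hf ⟨p.asIdeal.map (algebraMap R _), ⟨IsLocalization.isPrime_of_isPrime_disjoint _ _ _ p.isPrime hdisj, ⟨?_⟩⟩,
      IsLocalization.under_map_of_isPrime_disjoint _ _ p.isPrime hdisj⟩
    rw [Ideal.under, IsScalarTower.algebraMap_eq A R (Localization.Away f), ← Ideal.comap_comap,
      show Ideal.comap (algebraMap R (Localization.Away f)) (Ideal.map _ p.asIdeal) = p.asIdeal from
        IsLocalization.under_map_of_isPrime_disjoint _ _ p.isPrime hdisj, Ideal.comap_comap,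
      ← IsScalarTower.algebraMap_eq]
    exact hQo.over

end Groth.Agent.Lib.Henselian.Shrink
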