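import Groth.Agent.Lib.Henselian.PairUP
import Mathlib.RingTheory.TensorProduct.Quotient
import Mathlib.RingTheory.Smooth.Flat

/-!
# Truncations of henselizations of pairs

* `truncEquiv`: `R/I^nR = B/I^nB` over `A/I^n`
* `etale_quotient`, `smooth_quotient`
-/

universe u

open TensorProduct

namespace Groth.Agent.Lib.Henselian.Trunc

variable {A : Type u} [CommRing A] (I : Ideal A) {R : Type u} [CommRing R] [Algebra A R]
  {B : Type u} [CommRing B] [Algebra R B] [Algebra A B] [IsScalarTower A R B]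

/-- Truncations of a henselization. -/
noncomputable def truncEquiv (hB : Hens2.IsPairHenselization R (I.map (algebraMap A R)) B) (n : ℕ) :
    (R ⧸ (I ^ n).map (algebraMap A R)) ≃ₐ[A ⧸ I ^ n] (B ⧸ (I ^ n).map (algebraMap A B)) := by
  have e1 : (I.map (algebraMap A R)) ^ n = (I ^ n).map (algebraMap A R) := (Ideal.map_pow _ _ _).symm
  have e2 : ((I ^ n).map (algebraMap A R)).map (algebraMap R B) = (I ^ n).map (algebraMap A B) := by
    rw [Ideal.map_map, ← IsScalarTower.algebraMap_eq]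
  have hle : (I ^ n).map (algebraMap A R) ≤ ((I ^ n).map (algebraMap A B)).comap (algebraMap R B) :=
    Ideal.map_le_iff_le_comap.mp e2.le
  let f : (R ⧸ (I ^ n).map (algebraMap A R)) →ₐ[A] (B ⧸ (I ^ n).map (algebraMap A B)) :=
    Ideal.quotientMapₐ _ (IsScalarTower.toAlgHom A R B) hle
  refine AlgEquiv.extendScalarsOfSurjective Ideal.Quotient.mk_surjective (AlgEquiv.ofBijective f ?_)
  obtain ⟨hi, hs⟩ := PairUP.quotientMap_pow_bijective hB n
  refine ⟨(injective_iff_map_eq_zero f).mpr fun x hx => ?_, fun q => ?_⟩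
  · obtain ⟨x, rfl⟩ := Ideal.Quotient.mk_surjective x
    have hx' : algebraMap R B x ∈ (I ^ n).map (algebraMap A B) := Ideal.Quotient.eq_zero_iff_mem.mp hx
    rw [← e2, ← e1] at hx'
    have := hi (a₁ := Ideal.Quotient.mk _ x) (a₂ := 0) (by
      rw [Ideal.quotientMap_mk, map_zero, Ideal.Quotient.eq_zero_iff_mem]
      exact hx')
    rw [Ideal.Quotient.eq_zero_iff_mem, e1] at this
    exact Ideal.Quotient.eq_zero_iff_mem.mpr this
  · obtain ⟨x, rfl⟩ := Ideal.Quotient.mk_surjective q
    obtain ⟨y, hy⟩ := hs (Ideal.Quotient.mk _ x)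
    obtain ⟨y, rfl⟩ := Ideal.Quotient.mk_surjective y
    rw [Ideal.quotientMap_mk, Ideal.Quotient.eq, e1, e2] at hy
    exact ⟨Ideal.Quotient.mk _ y, Ideal.Quotient.eq.mpr hy⟩

theorem etale_quotient (hB : Hens2.IsPairHenselization R (I.map (algebraMap A R)) B) [Algebra.Etale A R]
    (n : ℕ) : Algebra.Etale (A ⧸ I ^ n) (B ⧸ (I ^ n).map (algebraMap A B)) :=
  Algebra.Etale.of_equiv
    ((Algebra.TensorProduct.quotIdealMapEquivQuotTensor R (I ^ n)).symm.trans (truncEquiv I hB n))

theorem smooth_quotient (hB : Hens2.IsPairHenselization R (I.map (algebraMap A R)) B) [Algebra.Smooth A R]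
    (n : ℕ) : Algebra.Smooth (A ⧸ I ^ n) (B ⧸ (I ^ n).map (algebraMap A B)) :=
  Algebra.Smooth.of_equiv
    ((Algebra.TensorProduct.quotIdealMapEquivQuotTensor R (I ^ n)).symm.trans (truncEquiv I hB n))

theorem flat_of_flat (hB : Hens2.IsPairHenselization R (I.map (algebraMap A R)) B) [Module.Flat A R] :
    Module.Flat A B :=
  have := PairUP.flat hB
  Module.Flat.trans A R B

end Groth.Agent.Lib.Henselian.Trunc
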