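import Groth.Agent.Lib.Henselian.FiniteShrink
import Groth.Agent.Lib.Henselian.Hfp
import Groth.Agent.Lib.Henselian.Shrink
import Groth.Agent.Lib.Henselian.Trunc

/-!
# Finite henselian finitely presented algebras and h-étale algebras

* `quasiFiniteAt_of_finite_quotient`
* `finite_and_finitePresentation`, `surjective_of_quotient_surjective`
* `exists_etale_surjection`, `exists_etale_of_flat`
* `hFormallyEtale_iff`
-/

universe u

open TensorProduct
open Groth.Agent.Lib.Henselian.PairHenselization

namespace Groth.Agent.Lib.Henselian.HfpFinite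

variable {A : Type u} [CommRing A] (I : Ideal A)

/-- An algebra finite modulo `I` is quasi-finite at the primes over `V(I)`. -/
theorem quasiFiniteAt_of_finite_quotient (R : Type u) [CommRing R] [Algebra A R] [Algebra.FiniteType A R]
    [Module.Finite A (R ⧸ I.map (algebraMap A R))] (p : PrimeSpectrum R)
    (hp : I.map (algebraMap A R) ≤ p.asIdeal) : Algebra.QuasiFiniteAt A p.asIdeal := by
  set J := I.map (algebraMap A R)
  have hle : ∀ q : PrimeSpectrum R, q.comap (algebraMap A R) = p.comap (algebraMap A R) → J ≤ q.asIdeal := by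
    intro q hq
    refine Ideal.map_le_iff_le_comap.mpr ?_
    have := congrArg PrimeSpectrum.asIdeal hq
    exact (Ideal.map_le_iff_le_comap.mp hp).trans this.ge
  have : Algebra.IsIntegral A (R ⧸ J) := inferInstance
  have hincomp : ∀ q q' : PrimeSpectrum R, q.comap (algebraMap A R) = p.comap (algebraMap A R) →
      q'.comap (algebraMap A R) = p.comap (algebraMap A R) → q.asIdeal ≤ q'.asIdeal → q = q' := by
    intro q q' hq hq' hle'
    have hker : RingHom.ker (Ideal.Quotient.mk J) ≤ q.asIdeal := by rw [Ideal.mk_ker]; exact hle q hq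
    have hker' : RingHom.ker (Ideal.Quotient.mk J) ≤ q'.asIdeal := by rw [Ideal.mk_ker]; exact hle q' hq'
    have := Ideal.map_isPrime_of_surjective Ideal.Quotient.mk_surjective hker
    have := Ideal.map_isPrime_of_surjective Ideal.Quotient.mk_surjective hker'
    refine PrimeSpectrum.ext ?_
    by_contra hne
    have hlt : q.asIdeal.map (Ideal.Quotient.mk J) < q'.asIdeal.map (Ideal.Quotient.mk J) := by
      refine lt_of_le_of_ne (Ideal.map_mono hle') fun e => hne ?_
      have h1 := congrArg (Ideal.comap (Ideal.Quotient.mk J)) e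
      rwa [Ideal.comap_map_of_surjective _ Ideal.Quotient.mk_surjective, ← RingHom.ker_eq_comap_bot,
        Ideal.comap_map_of_surjective _ Ideal.Quotient.mk_surjective, ← RingHom.ker_eq_comap_bot,
        sup_eq_left.mpr hker, sup_eq_left.mpr hker'] at h1
    have hcomap : ∀ s : Ideal R, RingHom.ker (Ideal.Quotient.mk J) ≤ s →
        (s.map (Ideal.Quotient.mk J)).comap (algebraMap A (R ⧸ J)) = s.comap (algebraMap A R) := fun s hs => by
      rw [IsScalarTower.algebraMap_eq A R (R ⧸ J), ← Ideal.comap_comap, Ideal.Quotient.algebraMap_eq,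
        Ideal.comap_map_of_surjective _ Ideal.Quotient.mk_surjective, ← RingHom.ker_eq_comap_bot,
        sup_eq_left.mpr hs]
    obtain ⟨x, hx, hx'⟩ := SetLike.exists_of_lt hlt
    have := Ideal.comap_lt_comap_of_integral_mem_sdiff hlt.le ⟨hx, hx'⟩
      (Algebra.IsIntegral.isIntegral (R := A) x)
    rw [hcomap _ hker, hcomap _ hker'] at this
    exact this.ne ((congrArg PrimeSpectrum.asIdeal hq).trans (congrArg PrimeSpectrum.asIdeal hq').symm)
  have hfin : {q : PrimeSpectrum R | q.comap (algebraMap A R) = p.comap (algebraMap A R)}.Finite := by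
    refine ((Algebra.QuasiFinite.finite_comap_preimage_singleton (S := R ⧸ J) (p.comap (algebraMap A R))).image
      (PrimeSpectrum.comap (Ideal.Quotient.mk J))).subset fun q hq => ?_
    obtain ⟨q', rfl⟩ : q ∈ Set.range (PrimeSpectrum.comap (Ideal.Quotient.mk J)) := by
      rw [range_comap_of_surjective _ _ Ideal.Quotient.mk_surjective, Ideal.mk_ker]
      exact (PrimeSpectrum.mem_zeroLocus _ _).mpr (hle q hq)
    exact ⟨q', hq, rfl⟩
  refine Algebra.QuasiFiniteAt.of_isOpen_singleton_fiber p ?_
  classical
  let U : Set (PrimeSpectrum R) := ⋂ q ∈ hfin.toFinset.erase p, (PrimeSpectrum.zeroLocus (q.asIdeal : Set R))ᶜ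
  have hU : IsOpen U := isOpen_biInter_finset fun q _ => (PrimeSpectrum.isClosed_zeroLocus _).isOpen_compl
  convert hU.preimage continuous_subtype_val
  ext ⟨q, hq⟩
  simp only [Set.mem_singleton_iff, Subtype.ext_iff, Set.mem_preimage, U, Set.mem_iInter]
  refine ⟨fun h q' hq' hmem => ?_, fun h => ?_⟩
  · subst h
    obtain ⟨hne, hq''⟩ := Finset.mem_erase.mp hq'
    exact hne (hincomp q' q (hfin.mem_toFinset.mp hq'') hq hmem)
  · by_contra hne
    exact h q (Finset.mem_erase.mpr ⟨hne, hfin.mem_toFinset.mpr hq⟩) ((PrimeSpectrum.mem_zeroLocus _ _).mpr subset_rfl)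

variable [HenselianRing A I] (R : Type u) [CommRing R] [Algebra A R] [Algebra.FinitePresentation A R]
  (B : Type u) [CommRing B] [Algebra R B] [Algebra A B] [IsScalarTower A R B]

/-- Hfp algebras which are finite modulo `I` are finite and finitely presented. -/
theorem finite_and_finitePresentation (hB : Hens2.IsPairHenselization R (I.map (algebraMap A R)) B)
    (hfin : Module.Finite A (B ⧸ I.map (algebraMap A B))) :
    Module.Finite A B ∧ Algebra.FinitePresentation A B := by
  set J := I.map (algebraMap A R) with hJ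
  have hJB : J.map (algebraMap R B) = I.map (algebraMap A B) := by
    rw [hJ, Ideal.map_map, ← IsScalarTower.algebraMap_eq]
  have : Module.Finite A (R ⧸ J) := by
    have h0 : J ≤ (I.map (algebraMap A B)).comap (algebraMap R B) := Ideal.map_le_iff_le_comap.mp hJB.le
    let f : (R ⧸ J) →ₐ[A] (B ⧸ I.map (algebraMap A B)) :=
      Ideal.quotientMapₐ _ (IsScalarTower.toAlgHom A R B) h0
    obtain ⟨hi, hs⟩ := PairUP.quotientMap_bijective hB
    have hf : Function.Bijective f := by
      refine ⟨(injective_iff_map_eq_zero f).mpr fun x hx => ?_, fun q => ?_⟩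
      · obtain ⟨x, rfl⟩ := Ideal.Quotient.mk_surjective x
        have hx' : algebraMap R B x ∈ I.map (algebraMap A B) := Ideal.Quotient.eq_zero_iff_mem.mp hx
        rw [← hJB] at hx'
        refine hi ?_
        rw [map_zero, Ideal.quotientMap_mk, Ideal.Quotient.eq_zero_iff_mem]
        exact hx'
      · obtain ⟨x, rfl⟩ := Ideal.Quotient.mk_surjective q
        obtain ⟨y, hy⟩ := hs (Ideal.Quotient.mk _ x)
        obtain ⟨y, rfl⟩ := Ideal.Quotient.mk_surjective y
        rw [Ideal.quotientMap_mk, Ideal.Quotient.eq, hJB] at hy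
        exact ⟨Ideal.Quotient.mk _ y, Ideal.Quotient.eq.mpr hy⟩
    exact Module.Finite.equiv (AlgEquiv.ofBijective f hf).symm.toLinearEquiv
  obtain ⟨g, hg, hgU⟩ := Shrink.exists_one_sub_mem J (Shrink.isOpen_qfLocus (R := R) A) fun p hp =>
    have := quasiFiniteAt_of_finite_quotient I R p hp
    Shrink.mem_qfLocus A p
  have := Shrink.quasiFinite_away_of_forall A g hgU
  let L := Localization.Away g
  have : Algebra.Etale R L := Algebra.Etale.of_isLocalizationAway g
  have : Algebra.FinitePresentation A L := Algebra.FinitePresentation.trans A R L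
  have hJL : J.map (algebraMap R L) = I.map (algebraMap A L) := by
    rw [hJ, Ideal.map_map, ← IsScalarTower.algebraMap_eq]
  have hnb : IsNbhd J L := Shrink.quotientMap_away_bijective J hg L
  have : Module.Finite A (L ⧸ I.map (algebraMap A L)) :=
    Module.Finite.of_surjective (Ideal.quotientMapₐ (I.map (algebraMap A L)) (IsScalarTower.toAlgHom A R L)
      (Ideal.map_le_iff_le_comap.mp hJL.le)).toLinearMap fun q => by
      obtain ⟨x, rfl⟩ := Ideal.Quotient.mk_surjective q
      obtain ⟨r, hr⟩ := exists_sub_mem_of_isNbhd hnb x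
      exact ⟨Ideal.Quotient.mk _ r, (Ideal.Quotient.eq.mpr (hJL ▸ hr)).symm⟩
  obtain ⟨e, he, he1, hfinL⟩ := FiniteShrink.exists_idempotent_finite_quotient I L
  let R' := L ⧸ Ideal.span {1 - e}
  have : IsLocalization.Away e R' := IsLocalization.Away.quotient_of_isIdempotentElem he
  have : Algebra.Etale L R' := Algebra.Etale.of_isLocalizationAway e
  have : Algebra.Etale R R' := Algebra.Etale.comp R L R'
  have : IsScalarTower A R R' := IsScalarTower.of_algebraMap_eq fun a => by
    exact (IsScalarTower.algebraMap_apply A L R' a).trans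
      ((congrArg _ (IsScalarTower.algebraMap_apply A R L a)).trans
        (IsScalarTower.algebraMap_apply R L R' _).symm)
  have hfp : Algebra.FinitePresentation A R' := Algebra.FinitePresentation.trans A R R'
  have hmap : J.map (algebraMap R R') = I.map (algebraMap A R') := by
    rw [hJ, Ideal.map_map, ← IsScalarTower.algebraMap_eq]
  have hcomap : (I.map (algebraMap A R')).comap (algebraMap L R') = I.map (algebraMap A L) := by
    rw [IsScalarTower.algebraMap_eq A L R', ← Ideal.map_map, Ideal.Quotient.algebraMap_eq,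
      Ideal.comap_map_of_surjective _ Ideal.Quotient.mk_surjective, ← RingHom.ker_eq_comap_bot,
      Ideal.mk_ker, sup_eq_left, Ideal.span_singleton_le_iff_mem]
    exact he1
  have hnb' : IsNbhd J R' := by
    refine ⟨Ideal.quotientMap_injective' fun x hx => ?_, fun q => ?_⟩
    · rw [Ideal.mem_comap, hmap, IsScalarTower.algebraMap_apply R L R', ← Ideal.mem_comap, hcomap,
        ← hJL] at hx
      have := hnb.1 (a₁ := Ideal.Quotient.mk J x) (a₂ := 0) (by
        rw [Ideal.quotientMap_mk, map_zero, Ideal.Quotient.eq_zero_iff_mem]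
        exact hx)
      rwa [Ideal.Quotient.eq_zero_iff_mem] at this
    · obtain ⟨y, rfl⟩ := Ideal.Quotient.mk_surjective q
      obtain ⟨x, rfl⟩ := Ideal.Quotient.mk_surjective y
      obtain ⟨r, hr⟩ := exists_sub_mem_of_isNbhd hnb x
      refine ⟨Ideal.Quotient.mk J r, ?_⟩
      rw [Ideal.quotientMap_mk, eq_comm, Ideal.Quotient.eq, hmap, IsScalarTower.algebraMap_apply R L R',
        Ideal.Quotient.algebraMap_eq, ← map_sub]
      rw [← Ideal.mem_comap, ← Ideal.Quotient.algebraMap_eq, hcomap, ← hJL]
      exact hr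
  have := Pair.henselianRing_of_isIntegral I R'
  have hself : Hens2.IsPairHenselization R' (J.map (algebraMap R R')) R' := by
    rw [hmap]
    exact PairUP.isPairHenselization_self _ _
  let ε : R' ≃ₐ[R] B := PairUP.algEquivOf (PairUP.of_isNbhd hnb' hself) hB
  exact ⟨Module.Finite.equiv (ε.restrictScalars A).toLinearEquiv,
    Algebra.FinitePresentation.equiv (ε.restrictScalars A)⟩

/-- Hfp algebras surjective modulo `I` are surjective. -/
theorem surjective_of_quotient_surjective (hB : Hens2.IsPairHenselization R (I.map (algebraMap A R)) B)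
    (h : ∀ b : B, ∃ a : A, b - algebraMap A B a ∈ I.map (algebraMap A B)) :
    Function.Surjective (algebraMap A B) := by
  have hs : Function.Surjective (Algebra.ofId A (B ⧸ I.map (algebraMap A B))) := fun q => by
    obtain ⟨b, rfl⟩ := Ideal.Quotient.mk_surjective q
    obtain ⟨a, ha⟩ := h b
    exact ⟨a, (Ideal.Quotient.eq.mpr ha).symm⟩
  have : Module.Finite A (B ⧸ I.map (algebraMap A B)) := Module.Finite.of_surjective (Algebra.linearMap A _) hs
  obtain ⟨hfin, -⟩ := finite_and_finitePresentation I R B hB this
  have : LinearMap.range (Algebra.linearMap A B) = ⊤ := by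
    refine eq_top_iff.mpr (Submodule.le_of_le_smul_of_le_jacobson_bot Module.Finite.fg_top
      (HenselianRing.jac (I := I)) fun b _ => ?_)
    obtain ⟨a, ha⟩ := h b
    rw [← add_sub_cancel (algebraMap A B a) b]
    refine Submodule.add_mem_sup ⟨a, rfl⟩ ?_
    rw [Ideal.smul_top_eq_map]
    exact ha
  exact LinearMap.range_eq_top.mp this

end Groth.Agent.Lib.Henselian.HfpFinite
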