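import Mathlib.AlgebraicGeometry.Geometrically.Connected
import Mathlib.AlgebraicGeometry.Morphisms.FlatDescent
import Mathlib.AlgebraicGeometry.Morphisms.Etale
import Mathlib.AlgebraicGeometry.Morphisms.QuasiFinite
import Mathlib.AlgebraicGeometry.Morphisms.Separated
import Mathlib.AlgebraicGeometry.Morphisms.FlatMono
import Mathlib.RingTheory.Unramified.LocalStructure

/-!
# Descending sections of étale morphisms along maps with connected fibres
-/

universe u

open CategoryTheory CategoryTheory.Limits AlgebraicGeometry TopologicalSpace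

set_option linter.style.haveILetI false

namespace Groth.Agent.Lib.Henselian.DescendSection

/-- Étale morphisms are locally quasi-finite. -/
theorem locallyQuasiFinite_of_etale {X Y : Scheme.{u}} (f : X ⟶ Y) [Etale f] : LocallyQuasiFinite f := by
  rw [HasRingHomProperty.iff_appLE (P := @LocallyQuasiFinite)]
  intro U V e
  have h1 := HasRingHomProperty.appLE @Etale f inferInstance U V e
  algebraize [(f.appLE U V e).hom]
  exact RingHom.quasiFinite_algebraMap.2 inferInstance

variable {W Z Z' : Scheme.{u}} (h : W ⟶ Z) (g : Z' ⟶ Z)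

/-- Pulling back the restriction of `h` to an open. -/
theorem isPullback_preimage (W₀ : W.Opens) :
    IsPullback ((pullback.fst h g) ∣_ W₀)
      ((pullback.fst h g ⁻¹ᵁ W₀).ι ≫ pullback.snd h g) (W₀.ι ≫ h) g :=
  (isPullback_morphismRestrict (pullback.fst h g) W₀).paste_vert (IsPullback.of_hasPullback h g)

/-- The range of a section of an étale morphism over a map with connected fibres is saturated. -/
theorem mem_range_of_eq [Etale h] [GeometricallyConnected g] (σ' : Z' ⟶ pullback h g)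
    (hσ' : σ' ≫ pullback.snd h g = 𝟙 Z') {x y : ↥(pullback h g)} (hx : x ∈ Set.range σ')
    (hxy : pullback.fst h g y = pullback.fst h g x) : y ∈ Set.range σ' := by
  set k := pullback.fst h g
  set h' := pullback.snd h g
  have hid : ∀ z, h' (σ' z) = z := fun z => by
    rw [← Scheme.Hom.comp_apply, hσ']; rfl
  have : IsOpenImmersion σ' := by
    have : Etale h' := inferInstance
    have : IsOpenImmersion (σ' ≫ h') := by rw [hσ']; infer_instance
    have : Etale (σ' ≫ h') := inferInstance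
    have : Etale σ' := Etale.of_comp σ' h'
    haveI : Mono σ' := mono_of_mono_fac hσ'
    exact IsOpenImmersion.of_flat_of_mono σ'
  let w := k x
  let z := h w
  let F : Set ↥(pullback h g) := k ⁻¹' {w}
  have hF : _root_.IsPreconnected F := (k.isConnected_preimage_singleton w).isPreconnected
  let c : ↥(pullback h g) → W := fun p => k (σ' (h' p))
  have hc : Continuous c := k.continuous.comp (σ'.continuous.comp h'.continuous)
  have hcond : ∀ p, h (k p) = g (h' p) := fun p => by
    rw [← Scheme.Hom.comp_apply, pullback.condition, Scheme.Hom.comp_apply]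
  have hcF : ∀ p ∈ F, c p ∈ h ⁻¹' {z} := fun p hp => by
    change h (k (σ' (h' p))) = h w
    rw [hcond, hid, ← hcond, show k p = w from hp]
  -- an affine neighbourhood of `w`
  obtain ⟨W₀, hW₀, hwW₀, -⟩ :=
    exists_isAffineOpen_mem_and_subset (show w ∈ (⊤ : W.Opens) from trivial)
  haveI : IsAffine (W₀ : Scheme.{u}) := hW₀
  haveI : IsSeparated (W₀.ι ≫ h) := by
    haveI : IsSeparated ((W₀.ι ≫ h) ≫ terminal.from Z) := by
      rw [Subsingleton.elim ((W₀.ι ≫ h) ≫ terminal.from Z) (terminal.from _)]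
      infer_instance
    exact IsSeparated.of_comp _ (terminal.from Z)
  haveI : IsSeparated ((k ⁻¹ᵁ W₀).ι ≫ h') :=
    MorphismProperty.of_isPullback (P := @IsSeparated) (isPullback_preimage h g W₀) ‹_›
  let D : Z'.Opens := σ' ⁻¹ᵁ (k ⁻¹ᵁ W₀)
  let T : (pullback h g).Opens := (k ⁻¹ᵁ W₀) ⊓ (h' ⁻¹ᵁ D)
  haveI : IsSeparated (T.ι ≫ h') := by
    rw [← (pullback h g).homOfLE_ι (inf_le_left : T ≤ k ⁻¹ᵁ W₀), Category.assoc]
    infer_instance
  let t : (T : Scheme.{u}) ⟶ D := IsOpenImmersion.lift D.ι (T.ι ≫ h') (by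
    rintro _ ⟨p, rfl⟩
    rw [Scheme.Opens.range_ι]
    exact p.2.2)
  haveI : IsSeparated (t ≫ D.ι) := by rw [IsOpenImmersion.lift_fac]; infer_instance
  haveI : IsSeparated t := IsSeparated.of_comp t D.ι
  let s₀ : (D : Scheme.{u}) ⟶ T := IsOpenImmersion.lift T.ι (D.ι ≫ σ') (by
    rintro _ ⟨p, rfl⟩
    rw [Scheme.Opens.range_ι]
    refine ⟨p.2, ?_⟩
    change h' (σ' p.1) ∈ D
    rw [hid]
    exact p.2)
  have hst : s₀ ≫ t = 𝟙 _ := by
    rw [← cancel_mono D.ι, Category.assoc, IsOpenImmersion.lift_fac, IsOpenImmersion.lift_fac_assoc,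
      Category.assoc, hσ', Category.comp_id, Category.id_comp]
  haveI : IsClosedImmersion (s₀ ≫ t) := by rw [hst]; infer_instance
  haveI : IsClosedImmersion s₀ := IsClosedImmersion.of_comp s₀ t
  have hcl : IsClosed (Set.range s₀) := s₀.isClosedEmbedding.isClosed_range
  have hiota : ∀ p : (T : Scheme.{u}), T.ι p = p.1 := fun p => rfl
  have hrange : ∀ p : (T : Scheme.{u}), p ∈ Set.range s₀ ↔ p.1 ∈ Set.range σ' := by
    intro p
    constructor
    · rintro ⟨d, rfl⟩
      refine ⟨D.ι d, ?_⟩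
      rw [← hiota, ← Scheme.Hom.comp_apply, ← Scheme.Hom.comp_apply, IsOpenImmersion.lift_fac]
    · rintro ⟨d, hd⟩
      have hdD : d ∈ D := by
        have := p.2.2
        change h' p.1 ∈ D at this
        rwa [← hd, hid] at this
      refine ⟨⟨d, hdD⟩, Subtype.ext ?_⟩
      rw [← hiota, ← Scheme.Hom.comp_apply, IsOpenImmersion.lift_fac, Scheme.Hom.comp_apply]
      exact hd
  obtain ⟨C, hC, hCeq⟩ := Topology.IsInducing.subtypeVal.isClosed_iff.1 hcl
  -- the trace on the connected fibre is clopen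
  haveI := locallyQuasiFinite_of_etale h
  have hz : _root_.IsDiscrete (h ⁻¹' {z}) := h.isDiscrete_preimage_singleton z
  haveI : DiscreteTopology ↥(h ⁻¹' {z}) := hz.to_subtype
  let cF : F → h ⁻¹' {z} := fun p => ⟨c p.1, hcF p.1 p.2⟩
  have hcFcont : Continuous cF := (hc.comp continuous_subtype_val).subtype_mk _
  have hTmem : ∀ p : F, cF p = ⟨w, rfl⟩ → p.1 ∈ T := fun p hp => by
    have hcp : k (σ' (h' p.1)) = w := congrArg Subtype.val hp
    exact ⟨show k p.1 ∈ W₀ by rw [show k p.1 = w from p.2]; exact hwW₀,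
      show k (σ' (h' p.1)) ∈ W₀ by rw [hcp]; exact hwW₀⟩
  have hS : IsClopen ((↑) ⁻¹' Set.range σ' : Set F) := by
    refine ⟨?_, σ'.isOpenEmbedding.isOpen_range.preimage continuous_subtype_val⟩
    have heq : ((↑) ⁻¹' Set.range σ' : Set F) = cF ⁻¹' {⟨w, rfl⟩} ∩ (↑) ⁻¹' C := by
      ext p
      constructor
      · intro hp
        obtain ⟨d, hd⟩ := id hp
        have hpc : cF p = ⟨w, rfl⟩ := Subtype.ext (by
          change k (σ' (h' p.1)) = w
          rw [← hd, hid]; exact hd ▸ p.2)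
        exact ⟨hpc, (Set.ext_iff.1 hCeq ⟨p.1, hTmem p hpc⟩).2 ((hrange ⟨p.1, hTmem p hpc⟩).2 hp)⟩
      · rintro ⟨hp, hpC⟩
        exact (hrange ⟨p.1, hTmem p hp⟩).1 ((Set.ext_iff.1 hCeq ⟨p.1, hTmem p hp⟩).1 hpC)
    rw [heq]
    exact ((isClosed_discrete _).preimage hcFcont).inter (hC.preimage continuous_subtype_val)
  haveI : PreconnectedSpace F := Subtype.preconnectedSpace hF
  rcases isClopen_iff.1 hS with h0 | h1
  · exact absurd (show (⟨x, rfl⟩ : F) ∈ ((↑) ⁻¹' Set.range σ' : Set F) from hx) (by rw [h0]; simp)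
  · exact (Set.ext_iff.1 h1 ⟨y, hxy⟩).2 trivial

/-- Sections of étale morphisms descend along flat quasi-compact maps with connected fibres. -/
theorem exists_descend [Etale h] [Flat g] [QuasiCompact g] [GeometricallyConnected g]
    (σ' : Z' ⟶ pullback h g) (hσ' : σ' ≫ pullback.snd h g = 𝟙 Z') :
    ∃ σ : Z ⟶ W, σ ≫ h = 𝟙 Z ∧ g ≫ σ = σ' ≫ pullback.fst h g := by
  set k := pullback.fst h g
  set h' := pullback.snd h g
  have hid : ∀ z, h' (σ' z) = z := fun z => by
    rw [← Scheme.Hom.comp_apply, hσ']; rfl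
  have : IsOpenImmersion σ' := by
    have : IsOpenImmersion (σ' ≫ h') := by rw [hσ']; infer_instance
    have : Etale (σ' ≫ h') := inferInstance
    have : Etale σ' := Etale.of_comp σ' h'
    haveI : Mono σ' := mono_of_mono_fac hσ'
    exact IsOpenImmersion.of_flat_of_mono σ'
  have hsat : k ⁻¹' (k '' Set.range σ') = Set.range σ' := by
    refine (Set.subset_preimage_image k _).antisymm' fun y hy => ?_
    obtain ⟨x, hx, hxy⟩ := hy
    exact mem_range_of_eq h g σ' hσ' hx hxy.symm
  let U : W.Opens := ⟨k '' Set.range σ', (Flat.isQuotientMap_of_surjective k).isOpen_preimage.1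
    (by rw [hsat]; exact σ'.isOpenEmbedding.isOpen_range)⟩
  let τ : Z' ⟶ (k ⁻¹ᵁ U : Scheme.{u}) := IsOpenImmersion.lift (k ⁻¹ᵁ U).ι σ' (by
    rw [Scheme.Opens.range_ι]; exact hsat.ge)
  haveI : IsIso τ := by
    haveI : IsOpenImmersion (τ ≫ (k ⁻¹ᵁ U).ι) := by rw [IsOpenImmersion.lift_fac]; infer_instance
    haveI : IsOpenImmersion τ := IsOpenImmersion.of_comp τ (k ⁻¹ᵁ U).ι
    haveI : Surjective τ := ⟨fun p => by
      obtain ⟨d, hd⟩ := hsat.le p.2
      refine ⟨d, (k ⁻¹ᵁ U).ι.isOpenEmbedding.injective ?_⟩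
      rw [← Scheme.Hom.comp_apply, IsOpenImmersion.lift_fac]
      exact hd⟩
    haveI : Epi τ.base := (TopCat.epi_iff_surjective _).2 τ.surjective
    exact IsOpenImmersion.isIso τ
  have hpb := isPullback_preimage h g U
  have hiso : IsIso ((k ⁻¹ᵁ U).ι ≫ h') := by
    have e : τ ≫ (k ⁻¹ᵁ U).ι ≫ h' = 𝟙 _ := by rw [IsOpenImmersion.lift_fac_assoc, hσ']
    rw [show (k ⁻¹ᵁ U).ι ≫ h' = inv τ from (IsIso.inv_eq_of_hom_inv_id e).symm]
    infer_instance
  haveI : IsIso (U.ι ≫ h) :=
    MorphismProperty.of_isPullback_of_descendsAlong (P := MorphismProperty.isomorphisms Scheme.{u})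
      (Q := @Surjective ⊓ @Flat ⊓ @QuasiCompact) hpb.flip
      ⟨⟨inferInstance, inferInstance⟩, inferInstance⟩ hiso
  refine ⟨inv (U.ι ≫ h) ≫ U.ι, by rw [Category.assoc, IsIso.inv_hom_id], ?_⟩
  have e : τ ≫ (k ∣_ U) ≫ (U.ι ≫ h) = g := by
    rw [hpb.w, ← Category.assoc]
    simp only [Category.assoc]
    rw [IsOpenImmersion.lift_fac_assoc, ← Category.assoc, hσ', Category.id_comp]
  calc g ≫ inv (U.ι ≫ h) ≫ U.ι = τ ≫ (k ∣_ U) ≫ U.ι := by
        conv_lhs => rw [← e]
        simp only [Category.assoc, IsIso.hom_inv_id_assoc]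
    _ = σ' ≫ k := by rw [morphismRestrict_ι, IsOpenImmersion.lift_fac_assoc]

end Groth.Agent.Lib.Henselian.DescendSection
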