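import Groth.Agent.Lib.Henselian.FiniteEtale

/-!
# Splitting off the finite part of a quasi-finite algebra over a henselian pair

* `exists_idempotent_finite_quotient`
-/

universe u

open TensorProduct Filter
open Groth.Agent.Lib.Henselian.Basic Groth.Agent.Lib.Henselian.Pair
open Groth.Agent.Lib.Henselian.FiniteEtale

namespace Groth.Agent.Lib.Henselian.FiniteShrink

variable {A : Type u} [CommRing A]

/-- A quasi-finite algebra which is finite modulo `I` has a finite direct factor with the same
reduction modulo `I`, when `A` is henselian at `I`. -/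
theorem exists_idempotent_finite_quotient (I : Ideal A) [HenselianRing A I] (L : Type u) [CommRing L]
    [Algebra A L] [Algebra.FinitePresentation A L] [Algebra.QuasiFinite A L]
    [Module.Finite A (L ⧸ I.map (algebraMap A L))] :
    ∃ e : L, IsIdempotentElem e ∧ 1 - e ∈ I.map (algebraMap A L) ∧
      Module.Finite A (L ⧸ Ideal.span {1 - e}) := by
  classical
  let C := L ⧸ I.map (algebraMap A L)
  let ψ : L →ₐ[A] C := Ideal.Quotient.mkₐ A _
  have hψ : Function.Surjective ψ := Ideal.Quotient.mk_surjective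
  have hker : RingHom.ker ψ.toRingHom = I.map (algebraMap A L) := Ideal.mk_ker
  have : Algebra.FinitePresentation (A ⧸ I) C :=
    Algebra.FinitePresentation.equiv (Algebra.TensorProduct.quotIdealMapEquivQuotTensor L I).symm
  obtain ⟨B, t, hBfin, htB, htop, hpow⟩ := exists_finite_subalgebra_span_top A L
  have htopM : ∀ M : ℕ, (1 : L) ∈ Ideal.span ((fun r : L => r ^ M) '' (t : Set L)) := fun M =>
    (Ideal.eq_top_iff_one _).mp (Ideal.span_pow_eq_top _ htop M)
  -- `B` surjects onto `C`
  let φ : B →ₐ[A] C := ψ.comp B.val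
  have hφ : Function.Surjective φ := by
    obtain ⟨g, hg⟩ := Module.Finite.fg_top (R := A) (M := C)
    choose ℓ hℓ using hψ
    obtain ⟨M, hM⟩ : ∃ M : ℕ, ∀ r ∈ t, ∀ x ∈ g, r ^ M * ℓ x ∈ B :=
      ((Finset.eventually_all t).mpr fun r hr => (Finset.eventually_all g).mpr
        fun x _ => hpow r hr (ℓ x)).exists
    have h1 : ∀ r ∈ t, ∀ c : C, ψ (r ^ M) * c ∈ φ.range := by
      intro r hr c
      have hc : c ∈ Submodule.span A (g : Set C) := hg ▸ Submodule.mem_top
      induction hc using Submodule.span_induction with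
      | mem x hx => exact ⟨⟨_, hM r hr x hx⟩, by simp [φ, hℓ]⟩
      | zero => simp
      | add x y _ _ hx hy => rw [mul_add]; exact add_mem hx hy
      | smul a x _ hx => rw [mul_smul_comm]; exact φ.range.smul_mem hx a
    intro c
    show c ∈ φ.range
    have : ∀ z ∈ Ideal.span ((fun r : L => r ^ M) '' (t : Set L)), ∀ c : C, ψ z * c ∈ φ.range := by
      intro z hz
      induction hz using Submodule.span_induction with
      | mem x hx => obtain ⟨r, hr, rfl⟩ := hx; exact h1 r hr
      | zero => simp
      | add x y _ _ hx hy =>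
        intro c
        rw [map_add, add_mul]
        exact add_mem (hx c) (hy c)
      | smul a x _ hx =>
        intro c
        rw [smul_eq_mul, map_mul, mul_comm (ψ a), mul_assoc]
        exact hx _
    simpa using this 1 (htopM M) c
  -- the kernel of `B → C` is finitely generated modulo `IB`
  set IB := I.map (algebraMap A B) with hIB
  have hIBker : ∀ z ∈ IB, φ z = 0 := by
    intro z hz
    refine (Ideal.map_le_iff_le_comap.mpr fun a ha => ?_ : IB ≤ RingHom.ker φ.toRingHom) hz
    show φ (algebraMap A B a) = 0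
    rw [AlgHom.commutes, IsScalarTower.algebraMap_apply A (A ⧸ I) C, Ideal.Quotient.algebraMap_eq,
      Ideal.Quotient.eq_zero_iff_mem.mpr ha, map_zero]
  let φ' : (B ⧸ IB) →ₐ[A] C := Ideal.Quotient.liftₐ IB φ hIBker
  let : Algebra (B ⧸ IB) C := φ'.toRingHom.toAlgebra
  have : IsScalarTower (A ⧸ I) (B ⧸ IB) C := by
    refine IsScalarTower.of_algebraMap_eq fun x => ?_
    obtain ⟨a, rfl⟩ := Ideal.Quotient.mk_surjective x
    exact (φ'.commutes a).symm
  have : Algebra.FiniteType (A ⧸ I) (B ⧸ IB) :=
    Algebra.FiniteType.of_restrictScalars_finiteType A (A ⧸ I) (B ⧸ IB)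
  have : Algebra.FinitePresentation (B ⧸ IB) C :=
    Algebra.FinitePresentation.of_restrict_scalars_finitePresentation (A ⧸ I) (B ⧸ IB) C
  obtain ⟨G, hG⟩ := Algebra.FinitePresentation.ker_fG_of_surjective (Algebra.ofId (B ⧸ IB) C)
    (fun c => ⟨Ideal.Quotient.mk IB (hφ c).choose, (hφ c).choose_spec⟩)
  -- powers of the `r` multiply the kernel into `IB`
  have hev : ∀ r ∈ t, ∀ z ∈ I • (⊤ : Submodule A L),
      ∀ᶠ M : ℕ in atTop, r ^ M * z ∈ I • Subalgebra.toSubmodule B := by
    intro r hr z hz
    refine Submodule.smul_induction_on hz (fun a ha x _ => ?_) (fun x y hx hy => ?_)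
    · filter_upwards [hpow r hr x] with M hM
      rw [mul_smul_comm]
      exact Submodule.smul_mem_smul ha hM
    · filter_upwards [hx, hy] with M h1 h2
      rw [mul_add]
      exact add_mem h1 h2
  let bt : {r // r ∈ t} → B := fun r => ⟨r.1, htB r.1 r.2⟩
  choose σ hσ using fun x : B ⧸ IB => Ideal.Quotient.mk_surjective x
  obtain ⟨M, hM⟩ : ∃ M : ℕ, ∀ r ∈ t, ∀ x ∈ G, r ^ M * (σ x : L) ∈ I • Subalgebra.toSubmodule B := by
    refine ((Finset.eventually_all t).mpr fun r hr => (Finset.eventually_all G).mpr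
      fun x hx => hev r hr _ ?_).exists
    rw [Ideal.smul_top_eq_map, Submodule.restrictScalars_mem, ← hker, RingHom.mem_ker]
    show φ (σ x) = 0
    have : φ' (Ideal.Quotient.mk IB (σ x)) = 0 := by
      rw [hσ]
      exact RingHom.mem_ker.mp (hG ▸ Ideal.subset_span hx : x ∈ RingHom.ker _)
    exact this
  -- the idempotent
  obtain ⟨a, ha1, haK⟩ : ∃ a : B, φ a = 1 ∧ ∀ k, φ k = 0 → a * k ∈ IB := by
    have hann : ∀ r : {r // r ∈ t}, ∀ k, φ k = 0 → bt r ^ M * k ∈ IB := by
      intro r k hk
      have hk' : Ideal.Quotient.mk IB k ∈ Ideal.span (G : Set (B ⧸ IB)) := by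
        rw [hG]
        exact hk
      rw [← Ideal.Quotient.eq_zero_iff_mem, map_mul]
      refine Submodule.span_induction (fun x hx => ?_) (mul_zero _)
        (fun x y _ _ hx hy => by rw [mul_add, hx, hy, add_zero])
        (fun c x _ hx => by rw [smul_eq_mul, mul_left_comm, hx, mul_zero]) hk'
      rw [← hσ x, ← map_mul, Ideal.Quotient.eq_zero_iff_mem]
      exact Groth.Agent.Lib.Henselian.Etale.exists_mem_map_of_mem_smul B I _
        (hM r.1 r.2 x hx)
    obtain ⟨u, hu⟩ : (1 : C) ∈ Ideal.span (Set.range fun r : {r // r ∈ t} => φ (bt r ^ M)) ∧ True :=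
      ⟨by
        have := Ideal.mem_map_of_mem ψ (htopM M)
        rw [map_one, Ideal.map_span] at this
        refine Ideal.span_mono ?_ this
        rintro _ ⟨_, ⟨r, hr, rfl⟩, rfl⟩
        exact ⟨⟨r, hr⟩, rfl⟩, trivial⟩
    have key : ∀ z ∈ Ideal.span (Set.range fun r : {r // r ∈ t} => φ (bt r ^ M)),
        ∃ a : B, φ a = z ∧ ∀ k, φ k = 0 → a * k ∈ IB := by
      intro z hz
      induction hz using Submodule.span_induction with
      | mem x hx => obtain ⟨r, rfl⟩ := hx; exact ⟨_, rfl, hann r⟩
      | zero => exact ⟨0, map_zero _, fun k _ => by simp⟩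
      | add x y _ _ hx hy =>
        obtain ⟨a, ha, ha'⟩ := hx
        obtain ⟨b, hb, hb'⟩ := hy
        exact ⟨a + b, by rw [map_add, ha, hb],
          fun k hk => by rw [add_mul]; exact add_mem (ha' k hk) (hb' k hk)⟩
      | smul c x _ hx =>
        obtain ⟨a, ha, ha'⟩ := hx
        obtain ⟨c', rfl⟩ := hφ c
        exact ⟨c' * a, by rw [map_mul, ha, smul_eq_mul],
          fun k hk => by rw [mul_assoc]; exact Ideal.mul_mem_left _ c' (ha' k hk)⟩
    exact key 1 u
  obtain ⟨e, he, hea⟩ := exists_isIdempotentElem_lift I (b := a) (by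
    have := haK (a - 1) (by rw [map_sub, ha1, map_one, sub_self])
    rwa [mul_sub, mul_one] at this)
  have he1 : φ e = 1 := by
    have := hIBker _ hea
    rwa [map_sub, ha1, sub_eq_zero] at this
  have heK : ∀ k, φ k = 0 → e * k ∈ IB := fun k hk => by
    rw [← sub_add_cancel e a, add_mul]
    exact add_mem (IB.mul_mem_right k hea) (haK k hk)
  -- `t` generates the unit ideal on the component of `e`
  have hgen : Ideal.span (insert (1 - e) (Set.range bt)) = ⊤ := by
    set J := Ideal.span (insert (1 - e) (Set.range bt))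
    obtain ⟨j, hj, hj1⟩ : ∃ j ∈ Ideal.span (Set.range bt), φ j = 1 := by
      have h : (1 : C) ∈ (Ideal.span (Set.range bt)).map φ := by
        have := Ideal.mem_map_of_mem ψ ((Ideal.eq_top_iff_one _).mp htop)
        rw [map_one, Ideal.map_span] at this
        rw [Ideal.map_span]
        refine Ideal.span_mono ?_ this
        rintro _ ⟨r, hr, rfl⟩
        exact ⟨bt ⟨r, hr⟩, ⟨⟨r, hr⟩, rfl⟩, rfl⟩
      exact (Ideal.mem_map_iff_of_surjective φ hφ).mp h
    have hjJ : (1 - e) + e * j ∈ J :=
      add_mem (Ideal.subset_span (Set.mem_insert _ _))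
        (Ideal.mul_mem_left _ e (Ideal.span_mono (Set.subset_insert _ _) hj))
    refine Ideal.eq_top_of_isUnit_mem _ hjJ ?_
    have hmem : e * (j - 1) ∈ (⊥ : Ideal B).jacobson :=
      map_le_jacobson_of_isIntegral HenselianRing.jac
        (heK _ (by rw [map_sub, hj1, map_one, sub_self]))
    simpa [mul_sub, add_comm, sub_add_eq_add_sub, add_sub_assoc] using
      (Ideal.mem_jacobson_bot.mp hmem 1)
  -- the lift
  let J : Ideal L := Ideal.span {1 - (e : L)}
  have heL : IsIdempotentElem (e : L) := congrArg Subtype.val he.eq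
  have hJker : ∀ z ∈ J, ψ z = 0 := by
    intro z hz
    obtain ⟨c, rfl⟩ := Ideal.mem_span_singleton'.mp hz
    rw [map_mul, map_sub, map_one, show ψ (e : L) = 1 from he1, sub_self, mul_zero]
  have hsurj : Function.Surjective ((Ideal.Quotient.mkₐ A J).comp B.val) := by
    intro x
    obtain ⟨y, rfl⟩ := Ideal.Quotient.mk_surjective x
    obtain ⟨N, hN⟩ : ∃ N : ℕ, ∀ r ∈ t, r ^ N * y ∈ B :=
      ((Finset.eventually_all t).mpr fun r hr => hpow r hr y).exists
    have h1 := (Ideal.eq_top_iff_one _).mp (Ideal.span_pow_eq_top _ hgen (N + 1))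
    have key : ∀ b ∈ Ideal.span ((fun b : B => b ^ (N + 1)) '' insert (1 - e) (Set.range bt)),
        Ideal.Quotient.mk J ((b : L) * y) ∈ ((Ideal.Quotient.mkₐ A J).comp B.val).range := by
      intro b hb
      induction hb using Submodule.span_induction with
      | mem x hx =>
        obtain ⟨b, hb | ⟨r, rfl⟩, rfl⟩ := hx
        · have : Ideal.Quotient.mk J (((b ^ (N + 1) : B) : L) * y) = 0 := by
            subst hb
            rw [Ideal.Quotient.eq_zero_iff_mem, he.one_sub.pow_succ_eq]
            exact J.mul_mem_right y (Ideal.subset_span (by simp))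
          rw [this]
          exact zero_mem _
        · refine ⟨⟨(r : L) ^ (N + 1) * y, ?_⟩, by simp [bt]⟩
          rw [pow_succ', mul_assoc]
          exact B.mul_mem (htB r r.2) (hN r r.2)
      | zero => simp
      | add x y _ _ hx hy =>
        rw [Subalgebra.coe_add, add_mul, map_add]
        exact add_mem hx hy
      | smul c x _ hx =>
        rw [smul_eq_mul, Subalgebra.coe_mul, mul_assoc, map_mul]
        exact mul_mem ⟨c, rfl⟩ hx
    obtain ⟨b, hb⟩ := key 1 h1
    exact ⟨b, by simpa using hb⟩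
  refine ⟨(e : L), heL, ?_, Module.Finite.of_surjective
    ((Ideal.Quotient.mkₐ A J).comp B.val).toLinearMap hsurj⟩
  rw [← hker]
  exact RingHom.mem_ker.mpr (hJker _ (Ideal.mem_span_singleton_self _))

end Groth.Agent.Lib.Henselian.FiniteShrink
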