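import Groth.Agent.Lib.Henselian.PairUP
import Groth.Agent.Lib.Henselian.FiniteShrink
import Groth.Agent.Lib.Henselian.Shrink
import Groth.Agent.Lib.Henselian.HfpFinite

/-!
# Finite étale neighbourhoods of a closed subscheme finite over `V(I)`
-/

universe u

open TensorProduct

set_option linter.style.haveILetI false

namespace Groth.Agent.Lib.Henselian.NbhdFinite

open PairHenselization

variable {A : Type u} [CommRing A] {I : Ideal A}

/-- A tensor dying in the henselization dies in a later neighbourhood. -/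
theorem exists_isNbhd_kill_tensor {H : Type u} [CommRing H] [Algebra A H]
    (hH : Hens2.IsPairHenselization A I H) (L : Type u) [AddCommGroup L] [Module A L]
    {A' : Type u} [CommRing A'] [Algebra A A'] [Algebra.Etale A A'] (hA' : IsNbhd I A')
    (φ : A' →ₐ[A] H) (z : A' ⊗[A] L) (hz : LinearMap.rTensor L φ.toLinearMap z = 0) :
    ∃ (A'' : Type u) (_ : CommRing A'') (_ : Algebra A A'') (_ : Algebra.Etale A A'')
      (_ : IsNbhd I A'') (ρ : A' →ₐ[A] A''), LinearMap.rTensor L ρ.toLinearMap z = 0 := by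
  classical
  haveI : Module.Flat A H := PairUP.flat hH
  obtain ⟨n, a, l, hal⟩ : ∃ n, ∃ a : Fin n → A', ∃ l : Fin n → L, z = ∑ i, a i ⊗ₜ l i := by
    obtain ⟨S, hS⟩ := TensorProduct.exists_finset z
    exact ⟨_, fun i => (S.equivFin.symm i).1.1, fun i => (S.equivFin.symm i).1.2, by
      rw [hS, ← Finset.sum_coe_sort, ← Equiv.sum_comp S.equivFin.symm]⟩
  let N := Submodule.span A (Set.range l)
  let m : Fin n → N := fun i => ⟨l i, Submodule.subset_span ⟨i, rfl⟩⟩
  have hm : Submodule.span A (Set.range m) = ⊤ := by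
    refine (Submodule.map_injective_of_injective N.injective_subtype) ?_
    rw [Submodule.map_span, Submodule.map_top, Submodule.range_subtype, ← Set.range_comp]
    rfl
  have h0 : ∑ i, m i ⊗ₜ[A] φ (a i) = 0 := by
    apply (TensorProduct.comm A N H).injective
    rw [map_zero, map_sum]
    apply Module.Flat.lTensor_preserves_injective_linearMap (M := H) N.subtype N.injective_subtype
    rw [map_zero, map_sum, ← hz, hal, map_sum]
    rfl
  obtain ⟨k, c, y, hy, hc⟩ := TensorProduct.vanishesTrivially_of_sum_tmul_eq_zero A hm h0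
  obtain ⟨A₀, _, _, _, hA₀, φ₀, hφ₀⟩ := exists_isNbhd_range hH (Finset.univ.image y)
  choose y₀ hy₀ using fun j => hφ₀ (Finset.mem_coe.2 (Finset.mem_image_of_mem y (Finset.mem_univ j)))
  obtain ⟨A₃, _, _, _, hA₃, ⟨ρ₁⟩, ⟨ρ₀⟩⟩ := exists_isNbhd_pair I A' A₀ hA' hA₀
  obtain ⟨hu⟩ := nonempty_unique_algHom hH hA₃
  let φ₃ : A₃ →ₐ[A] H := hu.default
  have e1 : φ₃.comp ρ₁ = φ := subsingleton_algHom hH hA' _ _
  have e0 : φ₃.comp ρ₀ = φ₀ := subsingleton_algHom hH hA₀ _ _
  obtain ⟨A'', _, _, hE, hA'', ρ₂, hρ₂⟩ := exists_isNbhd_kill hH φ₃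
    (Finset.univ.image fun i => ρ₁ (a i) - ∑ j, c i j • ρ₀ (y₀ j)) (by
      intro s hs
      obtain ⟨i, -, rfl⟩ := Finset.mem_image.1 hs
      rw [map_sub, map_sum, ← AlgHom.comp_apply, e1, sub_eq_zero]
      refine (hy i).trans ?_
      refine Finset.sum_congr rfl fun j _ => ?_
      rw [map_smul, ← AlgHom.comp_apply φ₃ ρ₀, e0, hy₀])
  refine ⟨A'', inferInstance, inferInstance, hE, hA'', ρ₂.comp ρ₁, ?_⟩
  have hρ : ∀ i, ρ₂ (ρ₁ (a i)) = ∑ j, c i j • ρ₂ (ρ₀ (y₀ j)) := fun i => by
    have h := hρ₂ _ (Finset.mem_image_of_mem _ (Finset.mem_univ i))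
    rwa [map_sub, map_sum, sub_eq_zero, Finset.sum_congr rfl fun j _ => map_smul ρ₂ _ _] at h
  rw [hal, map_sum]
  simp only [LinearMap.rTensor_tmul, AlgHom.toLinearMap_apply, AlgHom.comp_apply, hρ, sum_tmul,
    smul_tmul]
  rw [Finset.sum_comm]
  refine Finset.sum_eq_zero fun j _ => ?_
  rw [← tmul_sum]
  have := congrArg Subtype.val (hc j)
  simp only [Submodule.coe_sum, Submodule.coe_smul, ZeroMemClass.coe_zero] at this
  rw [this, tmul_zero]

/-- Finitely many tensors dying in the henselization die in one neighbourhood. -/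
theorem exists_isNbhd_kill_tensors {H : Type u} [CommRing H] [Algebra A H]
    (hH : Hens2.IsPairHenselization A I H) (L : Type u) [AddCommGroup L] [Module A L]
    {A' : Type u} [CommRing A'] [Algebra A A'] [Algebra.Etale A A'] (hA' : IsNbhd I A')
    (φ : A' →ₐ[A] H) (S : Finset (A' ⊗[A] L)) (hS : ∀ z ∈ S, LinearMap.rTensor L φ.toLinearMap z = 0) :
    ∃ (A'' : Type u) (_ : CommRing A'') (_ : Algebra A A'') (_ : Algebra.Etale A A'')
      (_ : IsNbhd I A'') (ρ : A' →ₐ[A] A''), ∀ z ∈ S, LinearMap.rTensor L ρ.toLinearMap z = 0 := by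
  classical
  induction S using Finset.induction with
  | empty => exact ⟨A', inferInstance, inferInstance, inferInstance, hA', AlgHom.id A A', by simp⟩
  | insert a T _ ih =>
    obtain ⟨A₁, _, _, _, hA₁, ρ₁, hρ₁⟩ := ih fun z hz => hS z (Finset.mem_insert_of_mem hz)
    obtain ⟨hu⟩ := nonempty_unique_algHom hH hA₁
    let φ₁ : A₁ →ₐ[A] H := hu.default
    have e1 : φ₁.comp ρ₁ = φ := subsingleton_algHom hH hA' _ _
    obtain ⟨A₂, _, _, hE, hA₂, ρ₂, hρ₂⟩ := exists_isNbhd_kill_tensor hH L hA₁ φ₁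
      (LinearMap.rTensor L ρ₁.toLinearMap a) (by
        rw [← LinearMap.rTensor_comp_apply,
          show φ₁.toLinearMap ∘ₗ ρ₁.toLinearMap = φ.toLinearMap by rw [← e1]; rfl]
        exact hS a (Finset.mem_insert_self a T))
    refine ⟨A₂, inferInstance, inferInstance, hE, hA₂, ρ₂.comp ρ₁, fun z hz => ?_⟩
    rw [show (ρ₂.comp ρ₁).toLinearMap = ρ₂.toLinearMap ∘ₗ ρ₁.toLinearMap from rfl,
      LinearMap.rTensor_comp_apply]
    rcases Finset.mem_insert.1 hz with rfl | hz
    · exact hρ₂
    · rw [hρ₁ z hz, map_zero]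

/-- Polynomials evaluated after mapping the first factor. -/
theorem map_aeval_tensor {A₁ A₂ L : Type u} [CommRing A₁] [Algebra A A₁] [CommRing A₂] [Algebra A A₂]
    [CommRing L] [Algebra A L] (f : A₁ →ₐ[A] A₂) (p : Polynomial A₁) (x : L) :
    Algebra.TensorProduct.map f (AlgHom.id A L) (Polynomial.aeval ((1 : A₁) ⊗ₜ[A] x) p) =
      Polynomial.aeval ((1 : A₂) ⊗ₜ[A] x) (p.map f.toRingHom) := by
  induction p using Polynomial.induction_on' with
  | add p q hp hq => rw [map_add, map_add, hp, hq, Polynomial.map_add, map_add]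
  | monomial n a =>
    rw [Polynomial.aeval_monomial, Polynomial.map_monomial, Polynomial.aeval_monomial, map_mul, map_pow]
    simp [Algebra.TensorProduct.algebraMap_apply]

/-- The idempotent over the henselization. -/
theorem exists_idempotent_henselization {H : Type u} [CommRing H] [Algebra A H]
    (hH : Hens2.IsPairHenselization A I H) (L : Type u) [CommRing L] [Algebra A L]
    [Algebra.FinitePresentation A L] [Algebra.QuasiFinite A L]
    [Module.Finite A (L ⧸ I.map (algebraMap A L))] :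
    ∃ e : H ⊗[A] L, IsIdempotentElem e ∧ 1 - e ∈ I.map (algebraMap A (H ⊗[A] L)) ∧
      ∀ x : L, ∃ q : Polynomial H, q.Monic ∧ e * Polynomial.aeval ((1 : H) ⊗ₜ[A] x) q = 0 := by
  haveI : HenselianRing H (I.map (algebraMap A H)) := hH.1
  let LH := H ⊗[A] L
  have hILH : (I.map (algebraMap A H)).map (algebraMap H LH) = I.map (algebraMap A LH) := by
    rw [Ideal.map_map, ← IsScalarTower.algebraMap_eq]
  haveI : Module.Finite H (LH ⧸ (I.map (algebraMap A H)).map (algebraMap H LH)) := by
    let g₀ : (L ⧸ I.map (algebraMap A L)) →ₐ[A] (LH ⧸ (I.map (algebraMap A H)).map (algebraMap H LH)) :=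
      Ideal.quotientMapₐ _ (Algebra.TensorProduct.includeRight : L →ₐ[A] LH) (by
        rw [← Ideal.map_le_iff_le_comap, hILH]
        refine le_of_eq ?_
        change (I.map (algebraMap A L)).map (Algebra.TensorProduct.includeRight : L →ₐ[A] LH).toRingHom = _
        rw [Ideal.map_map,
          show (Algebra.TensorProduct.includeRight : L →ₐ[A] LH).toRingHom.comp (algebraMap A L) =
            algebraMap A LH from RingHom.ext fun a => (Algebra.TensorProduct.includeRight : L →ₐ[A] LH).commutes a])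
    refine Module.Finite.of_surjective (LinearMap.liftBaseChange H g₀.toLinearMap) fun x => ?_
    obtain ⟨z, rfl⟩ := Ideal.Quotient.mk_surjective x
    induction z using TensorProduct.induction_on with
    | zero => exact ⟨0, by simp⟩
    | tmul h l =>
      refine ⟨h ⊗ₜ Ideal.Quotient.mk _ l, ?_⟩
      rw [LinearMap.liftBaseChange_tmul]
      change h • Ideal.Quotient.mk _ ((1 : H) ⊗ₜ[A] l) = _
      rw [← Ideal.Quotient.mk_eq_mk, ← Submodule.Quotient.mk_smul, TensorProduct.smul_tmul', smul_eq_mul,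
        mul_one]
      rfl
    | add a b ha hb =>
      obtain ⟨a', ha'⟩ := ha
      obtain ⟨b', hb'⟩ := hb
      exact ⟨a' + b', by rw [map_add, ha', hb', map_add]⟩
  obtain ⟨e, he, he1, hefin⟩ :=
    FiniteShrink.exists_idempotent_finite_quotient (I.map (algebraMap A H)) LH
  rw [hILH] at he1
  -- monic equations for generators
  refine ⟨e, he, he1, fun x => ?_⟩
  obtain ⟨q, hq, hq0⟩ := (Algebra.IsIntegral.of_finite H (LH ⧸ Ideal.span {1 - e})).isIntegral
    (Ideal.Quotient.mk _ ((1 : H) ⊗ₜ[A] x))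
  refine ⟨q, hq, ?_⟩
  change Polynomial.aeval (Ideal.Quotient.mkₐ H (Ideal.span {1 - e}) ((1 : H) ⊗ₜ[A] x)) q = 0 at hq0
  rw [Polynomial.aeval_algHom_apply, Ideal.Quotient.mkₐ_eq_mk, Ideal.Quotient.eq_zero_iff_mem,
    Ideal.mem_span_singleton'] at hq0
  obtain ⟨c, hc⟩ := hq0
  rw [← hc]
  linear_combination (-c) * he.eq

/-- The idempotent and the monic equations descend to a neighbourhood. -/
theorem exists_nbhd_idempotent {H : Type u} [CommRing H] [Algebra A H]
    (hH : Hens2.IsPairHenselization A I H) {L : Type u} [CommRing L] [Algebra A L] (s : Finset L)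
    {e : H ⊗[A] L} (he : IsIdempotentElem e) (he1 : 1 - e ∈ I.map (algebraMap A (H ⊗[A] L)))
    (hint : ∀ x : L, ∃ q : Polynomial H, q.Monic ∧ e * Polynomial.aeval ((1 : H) ⊗ₜ[A] x) q = 0) :
    ∃ (A' : Type u) (_ : CommRing A') (_ : Algebra A A') (_ : Algebra.Etale A A') (_ : IsNbhd I A')
      (e' : A' ⊗[A] L), IsIdempotentElem e' ∧ 1 - e' ∈ I.map (algebraMap A (A' ⊗[A] L)) ∧
      ∀ x ∈ s, ∃ q : Polynomial A', q.Monic ∧ e' * Polynomial.aeval ((1 : A') ⊗ₜ[A] x) q = 0 := by
  classical
  let LH := H ⊗[A] L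
  choose q hqm hq using hint
  obtain ⟨n, hh, ll, hel⟩ : ∃ n, ∃ h : Fin n → H, ∃ l : Fin n → L, e = ∑ i, h i ⊗ₜ l i := by
    obtain ⟨S, hS⟩ := TensorProduct.exists_finset e
    exact ⟨_, fun i => (S.equivFin.symm i).1.1, fun i => (S.equivFin.symm i).1.2, by
      rw [hS, ← Finset.sum_coe_sort, ← Equiv.sum_comp S.equivFin.symm]⟩
  obtain ⟨m, ii, hi, zz, hzz⟩ : ∃ m, ∃ i : Fin m → A, (∀ k, i k ∈ I) ∧ ∃ z : Fin m → LH,
      1 - e = ∑ k, i k • z k := by
    rw [← Submodule.restrictScalars_mem A, ← Ideal.smul_top_eq_map] at he1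
    refine Submodule.smul_induction_on he1 ?_ ?_
    · intro a ha z _
      exact ⟨1, fun _ => a, fun _ => ha, fun _ => z, by simp⟩
    · rintro x y ⟨m₁, i₁, h₁, z₁, hz₁⟩ ⟨m₂, i₂, h₂, z₂, hz₂⟩
      exact ⟨m₁ + m₂, Fin.append i₁ i₂, Fin.addCases (by simpa using h₁) (by simpa using h₂),
        Fin.append z₁ z₂, by simp [Fin.sum_univ_add, ← hz₁, ← hz₂]⟩
  choose Z hZ using fun k => TensorProduct.exists_finset (zz k)
  obtain ⟨A₁, _, _, _, hA₁, φ, hφ⟩ := exists_isNbhd_range hH
    (Finset.univ.image hh ∪ s.biUnion (fun x => (Finset.range ((q x).natDegree + 1)).image (q x).coeff) ∪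
      Finset.univ.biUnion fun k => (Z k).image Prod.fst)
  simp only [Finset.coe_union, Set.union_subset_iff] at hφ
  obtain ⟨⟨hφ1, hφ2⟩, hφ3⟩ := hφ
  choose a₁ ha₁ using fun i => hφ1 (Finset.mem_coe.2 (Finset.mem_image_of_mem hh (Finset.mem_univ i)))
  let Φ : A₁ ⊗[A] L →ₐ[A] LH := Algebra.TensorProduct.map φ (AlgHom.id A L)
  have hq' : ∀ x ∈ s, ∃ q₁ : Polynomial A₁, q₁.map φ.toRingHom = q x ∧ q₁.Monic := by
    intro x hx
    have : q x ∈ Polynomial.lifts φ.toRingHom := by
      rw [Polynomial.lifts_iff_coeff_lifts]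
      intro j
      by_cases hj : j ≤ (q x).natDegree
      · exact hφ2 (Finset.mem_coe.2 (Finset.mem_biUnion.2
          ⟨x, hx, Finset.mem_image_of_mem _ (Finset.mem_range.2 (Nat.lt_succ_of_le hj))⟩))
      · exact ⟨0, by rw [map_zero, Polynomial.coeff_eq_zero_of_natDegree_lt (not_le.1 hj)]⟩
    obtain ⟨q₁, h1, -, h3⟩ := Polynomial.lifts_and_natDegree_eq_and_monic this (hqm x)
    exact ⟨q₁, h1, h3⟩
  choose q₁ hq₁ hq₁m using hq'
  let e₁ : A₁ ⊗[A] L := ∑ i, a₁ i ⊗ₜ ll i
  have hΦe : Φ e₁ = e := by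
    rw [hel, map_sum]
    exact Finset.sum_congr rfl fun i _ => by
      rw [← ha₁ i]; exact Algebra.TensorProduct.map_tmul _ _ _ _
  have hz' : ∀ k, ∃ z₁ : A₁ ⊗[A] L, Φ z₁ = zz k := by
    intro k
    have : ∀ x ∈ Z k, ∃ a : A₁, φ a = x.1 := fun x hx => hφ3 (Finset.mem_coe.2
      (Finset.mem_biUnion.2 ⟨k, Finset.mem_univ _, Finset.mem_image_of_mem Prod.fst hx⟩))
    choose! a ha using this
    refine ⟨∑ x ∈ Z k, a x ⊗ₜ x.2, ?_⟩
    rw [hZ k, map_sum]
    exact Finset.sum_congr rfl fun x hx => by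
      rw [← ha x hx]; exact Algebra.TensorProduct.map_tmul _ _ _ _
  choose z₁ hz₁ using hz'
  -- descend the identities
  obtain ⟨A', _, _, hE, hA', ρ, hρ⟩ := exists_isNbhd_kill_tensors hH L hA₁ φ
    ({e₁ * e₁ - e₁, 1 - e₁ - ∑ k, ii k • z₁ k} ∪
      s.attach.image fun x : {x // x ∈ s} => e₁ * Polynomial.aeval ((1 : A₁) ⊗ₜ[A] x.1) (q₁ x.1 x.2)) (by
    intro z hz
    change Φ z = 0
    simp only [Finset.mem_union, Finset.mem_insert, Finset.mem_singleton, Finset.mem_image] at hz
    rcases hz with (rfl | rfl) | ⟨x, -, rfl⟩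
    · rw [map_sub, map_mul, hΦe, he.eq, sub_self]
    · simp only [map_sub, map_one, hΦe, map_sum, map_smul, hz₁, ← hzz, sub_self]
    · rw [map_mul, hΦe, map_aeval_tensor, hq₁]; exact hq x.1)
  let Ψ : A₁ ⊗[A] L →ₐ[A] A' ⊗[A] L := Algebra.TensorProduct.map ρ (AlgHom.id A L)
  let e' := Ψ e₁
  have he' : IsIdempotentElem e' := by
    have h := hρ (e₁ * e₁ - e₁) (by simp)
    change Ψ (e₁ * e₁ - e₁) = 0 at h
    rwa [map_sub, map_mul, sub_eq_zero] at h
  have he'1 : 1 - e' ∈ I.map (algebraMap A (A' ⊗[A] L)) := by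
    have h := hρ (1 - e₁ - ∑ k, ii k • z₁ k) (by simp)
    change Ψ (1 - e₁ - ∑ k, ii k • z₁ k) = 0 at h
    rw [map_sub, map_sub, map_one, sub_eq_zero] at h
    rw [show (1 : A' ⊗[A] L) - e' = _ from h, map_sum]
    refine Ideal.sum_mem _ fun k _ => ?_
    rw [map_smul, ← IsScalarTower.algebraMap_smul (A' ⊗[A] L) (ii k) (Ψ (z₁ k)), smul_eq_mul]
    exact Ideal.mul_mem_right _ _ (Ideal.mem_map_of_mem _ (hi k))
  refine ⟨A', inferInstance, inferInstance, hE, hA', e', he', he'1, fun x hx =>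
    ⟨(q₁ x hx).map ρ.toRingHom, (hq₁m x hx).map _, ?_⟩⟩
  have h := hρ (e₁ * Polynomial.aeval ((1 : A₁) ⊗ₜ[A] x) (q₁ x hx))
    (Finset.mem_union_right _ (Finset.mem_image.2 ⟨⟨x, hx⟩, Finset.mem_attach _ _, rfl⟩))
  change Ψ (e₁ * Polynomial.aeval ((1 : A₁) ⊗ₜ[A] x) (q₁ x hx)) = 0 at h
  rwa [map_mul, map_aeval_tensor] at h

/-- A factor with monic equations for generators is finite. -/
theorem finite_factor {L : Type u} [CommRing L] [Algebra A L] (s : Finset L)
    (hs : Algebra.adjoin A (s : Set L) = ⊤) {A' : Type u} [CommRing A'] [Algebra A A']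
    (e' : A' ⊗[A] L)
    (heq : ∀ x ∈ s, ∃ q : Polynomial A', q.Monic ∧ e' * Polynomial.aeval ((1 : A') ⊗ₜ[A] x) q = 0) :
    Module.Finite A' ((A' ⊗[A] L) ⧸ Ideal.span ({1 - e'} : Set (A' ⊗[A] L))) := by
  let mk' : L →ₐ[A] (A' ⊗[A] L) ⧸ Ideal.span ({1 - e'} : Set (A' ⊗[A] L)) := (Ideal.Quotient.mkₐ A (Ideal.span ({1 - e'} : Set (A' ⊗[A] L)))).comp
    (Algebra.TensorProduct.includeRight : L →ₐ[A] A' ⊗[A] L)
  have hgen : Algebra.adjoin A' (mk' '' (s : Set L)) = ⊤ := by
    refine eq_top_iff.2 fun x _ => ?_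
    obtain ⟨z, rfl⟩ := Ideal.Quotient.mk_surjective x
    induction z using TensorProduct.induction_on with
    | zero => rw [map_zero]; exact zero_mem _
    | tmul a l =>
      have hl : mk' l ∈ Algebra.adjoin A' (mk' '' (s : Set L)) := by
        have h : mk' l ∈ (Algebra.adjoin A (s : Set L)).map mk' := ⟨l, hs ▸ Algebra.mem_top, rfl⟩
        rw [AlgHom.map_adjoin] at h
        exact Algebra.adjoin_le (S := (Algebra.adjoin A' (mk' '' (s : Set L))).restrictScalars A)
          Algebra.subset_adjoin h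
      rw [show Ideal.Quotient.mk (Ideal.span ({1 - e'} : Set (A' ⊗[A] L))) (a ⊗ₜ l) = a • mk' l by
        change _ = a • Ideal.Quotient.mk _ ((1 : A') ⊗ₜ[A] l)
        rw [← Ideal.Quotient.mk_eq_mk, ← Ideal.Quotient.mk_eq_mk, ← Submodule.Quotient.mk_smul,
          TensorProduct.smul_tmul', smul_eq_mul, mul_one]]
      exact Subalgebra.smul_mem _ hl a
    | add a b ha hb => rw [map_add]; exact add_mem (ha Algebra.mem_top) (hb Algebra.mem_top)
  haveI : Module.Finite A' (Algebra.adjoin A' (mk' '' (s : Set L))) :=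
    Algebra.finite_adjoin_of_finite_of_isIntegral ((s.finite_toSet).image _) (by
      rintro _ ⟨x, hx, rfl⟩
      obtain ⟨q, hqm, hq⟩ := heq x hx
      refine ⟨q, hqm, ?_⟩
      change Polynomial.aeval (Ideal.Quotient.mkₐ A' (Ideal.span ({1 - e'} : Set (A' ⊗[A] L)))
        ((1 : A') ⊗ₜ[A] x)) q = 0
      rw [Polynomial.aeval_algHom_apply, Ideal.Quotient.mkₐ_eq_mk, Ideal.Quotient.eq_zero_iff_mem,
        Ideal.mem_span_singleton']
      exact ⟨Polynomial.aeval ((1 : A') ⊗ₜ[A] x) q, by linear_combination -hq⟩)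
  rw [hgen] at this
  exact Module.Finite.equiv Subalgebra.topEquiv.toLinearEquiv

/-- The statement for finitely presented algebras. -/
theorem exists_finite_nbhd_of_finitePresentation (B : Type u) [CommRing B] [Algebra A B]
    [Algebra.FinitePresentation A B] [Module.Finite A (B ⧸ I.map (algebraMap A B))] :
    ∃ (A' : Type u) (_ : CommRing A') (_ : Algebra A A') (_ : Algebra.Etale A A')
      (C : Type u) (_ : CommRing C) (_ : Algebra A C) (_ : Algebra A' C) (_ : Algebra B C)
      (_ : IsScalarTower A A' C) (_ : IsScalarTower A B C),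
      IsNbhd I A' ∧ Algebra.Etale B C ∧ Module.Finite A' C ∧
        IsNbhd (I.map (algebraMap A B)) C := by
  classical
  set J := I.map (algebraMap A B) with hJ
  -- shrink to the quasi-finite locus
  obtain ⟨g, hg, hgU⟩ := Shrink.exists_one_sub_mem J (Shrink.isOpen_qfLocus (R := B) A) fun p hp => by
    haveI := HfpFinite.quasiFiniteAt_of_finite_quotient I B p hp
    exact Shrink.mem_qfLocus A p
  let L := Localization.Away g
  haveI : Algebra.QuasiFinite A L := Shrink.quasiFinite_away_of_forall A g hgU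
  haveI : Algebra.FinitePresentation B L := IsLocalization.Away.finitePresentation g
  haveI : Algebra.FinitePresentation A L := Algebra.FinitePresentation.trans A B L
  haveI : Algebra.Etale B L := Algebra.Etale.of_isLocalizationAway g
  obtain ⟨hinjL, hsurjL⟩ := Shrink.quotientMap_away_bijective J hg L
  have hJL : J.map (algebraMap B L) = I.map (algebraMap A L) := by
    rw [hJ, Ideal.map_map, ← IsScalarTower.algebraMap_eq]
  have hsubL : ∀ l : L, ∃ b : B, l - algebraMap B L b ∈ I.map (algebraMap A L) := fun l => by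
    obtain ⟨q, hq⟩ := hsurjL (Ideal.Quotient.mk _ l)
    obtain ⟨b, rfl⟩ := Ideal.Quotient.mk_surjective q
    refine ⟨b, hJL ▸ Ideal.Quotient.eq.1 hq.symm⟩
  haveI : Module.Finite A (L ⧸ I.map (algebraMap A L)) := by
    let f : (B ⧸ J) →ₐ[A] (L ⧸ I.map (algebraMap A L)) :=
      Ideal.quotientMapₐ _ (IsScalarTower.toAlgHom A B L) (Ideal.map_le_iff_le_comap.1 hJL.le)
    refine Module.Finite.of_surjective f.toLinearMap fun x => ?_
    obtain ⟨l, rfl⟩ := Ideal.Quotient.mk_surjective x
    obtain ⟨b, hb⟩ := hsubL l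
    exact ⟨Ideal.Quotient.mk J b, (Ideal.Quotient.eq.2 hb).symm⟩
  -- over the henselization
  let H := PairHenselization I
  have hH : Hens2.IsPairHenselization A I H := isPairHenselization I
  obtain ⟨eH, heH, heH1, hint⟩ := exists_idempotent_henselization hH L
  obtain ⟨s, hs⟩ := Algebra.FiniteType.out (R := A) (A := L)
  obtain ⟨A', _, _, hE, hA', e', he', he'1, heq⟩ := exists_nbhd_idempotent hH s heH heH1 hint
  let L' := A' ⊗[A] L
  let C := L' ⧸ Ideal.span ({1 - e'} : Set L')
  letI : CommRing C := Ideal.Quotient.commRing _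
  let iB : B →+* C := (Ideal.Quotient.mk _).comp
    ((Algebra.TensorProduct.includeRight : L →ₐ[A] L').toRingHom.comp (algebraMap B L))
  letI algBC : Algebra B C := RingHom.toAlgebra (R := B) (S := C) iB
  haveI : IsScalarTower A B C := IsScalarTower.of_algebraMap_eq fun a => by
    show algebraMap A C a = Ideal.Quotient.mk _
      ((Algebra.TensorProduct.includeRight : L →ₐ[A] L') (algebraMap B L (algebraMap A B a)))
    rw [← IsScalarTower.algebraMap_apply, AlgHom.commutes]
    rfl
  have hEt : Algebra.Etale B C := by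
    rw [← RingHom.etale_algebraMap]
    have h1 : (algebraMap B L).Etale := RingHom.etale_algebraMap.2 inferInstance
    have h2 : (Algebra.TensorProduct.includeRight : L →ₐ[A] L').toRingHom.Etale := by
      letI : Algebra L L' := Algebra.TensorProduct.rightAlgebra
      haveI := hE
      have : Algebra.Etale L L' :=
        Algebra.Etale.of_equiv (Algebra.TensorProduct.commRight A L A')
      exact RingHom.etale_algebraMap.2 this
    have h3 : RingHom.Etale (R := L') (S := C) (Ideal.Quotient.mk (Ideal.span ({1 - e'} : Set L'))) := by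
      haveI : IsLocalization.Away e' C := IsLocalization.Away.quotient_of_isIdempotentElem he'
      exact RingHom.etale_algebraMap.2 (Algebra.Etale.of_isLocalizationAway e' : Algebra.Etale L' C)
    exact RingHom.Etale.stableUnderComposition _ _ (RingHom.Etale.stableUnderComposition _ _ h1 h2) h3
  have hFin : Module.Finite A' C := finite_factor s hs e' heq
  have hJC : J.map (algebraMap B C) = I.map (algebraMap A C) := by
    rw [hJ, Ideal.map_map, ← IsScalarTower.algebraMap_eq]
  refine ⟨A', inferInstance, inferInstance, hE, C, inferInstance, inferInstance, inferInstance, algBC,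
    inferInstance, inferInstance, hA', hEt, hFin, ?_, ?_⟩
  · -- injectivity, by a retraction
    refine Ideal.quotientMap_injective' fun b hb => ?_
    have hgu : IsUnit (IsScalarTower.toAlgHom A B (B ⧸ J) g) := by
      have : (Ideal.Quotient.mk J) g = 1 := by
        rw [← map_one (Ideal.Quotient.mk J)]; exact Ideal.Quotient.eq.2 hg
      change IsUnit (Ideal.Quotient.mk J g)
      rw [this]; exact isUnit_one
    let rL : L →ₐ[A] B ⧸ J := IsLocalization.Away.liftAlgHom g hgu
    let rA : A' →ₐ[A] B ⧸ J := (Ideal.Quotient.liftₐ I (Algebra.ofId A (B ⧸ J)) fun a ha =>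
      Ideal.Quotient.eq_zero_iff_mem.2 (Ideal.mem_map_of_mem _ ha)).comp (point hA')
    let r : L' →ₐ[A] B ⧸ J := Algebra.TensorProduct.productMap rA rL
    have hrI : I.map (algebraMap A L') ≤ RingHom.ker r.toRingHom := Ideal.map_le_iff_le_comap.2
      fun a ha => by
        change r (algebraMap A L' a) = 0
        rw [r.commutes]
        exact Ideal.Quotient.eq_zero_iff_mem.2 (Ideal.mem_map_of_mem _ ha)
    let rC : C →ₐ[A] B ⧸ J := Ideal.Quotient.liftₐ _ r fun z hz => by
      obtain ⟨c, rfl⟩ := Ideal.mem_span_singleton'.1 hz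
      rw [map_mul, show r (1 - e') = 0 from hrI he'1, mul_zero]
    have hb' : rC (algebraMap B C b) = 0 := by
      have hle : I.map (algebraMap A C) ≤ RingHom.ker rC.toRingHom := Ideal.map_le_iff_le_comap.2
        fun a ha => by
          change rC (algebraMap A C a) = 0
          rw [rC.commutes]
          exact Ideal.Quotient.eq_zero_iff_mem.2 (Ideal.mem_map_of_mem _ ha)
      exact hle (hJC ▸ hb)
    have hrb : rC (algebraMap B C b) = Ideal.Quotient.mk J b := by
      change rA 1 * rL (algebraMap B L b) = _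
      rw [map_one, one_mul]
      exact IsLocalization.Away.lift_eq g hgu b
    exact Ideal.Quotient.eq_zero_iff_mem.1 (hrb.symm.trans hb')
  · intro x
    obtain ⟨x, rfl⟩ := Ideal.Quotient.mk_surjective x
    obtain ⟨z, rfl⟩ := Ideal.Quotient.mk_surjective x
    suffices ∃ b, Ideal.Quotient.mk (Ideal.span ({1 - e'} : Set L')) z - algebraMap B C b ∈
        I.map (algebraMap A C) by
      obtain ⟨b, hb⟩ := this
      exact ⟨Ideal.Quotient.mk J b, (Ideal.Quotient.eq.2 (hJC.symm ▸ hb)).symm⟩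
    induction z using TensorProduct.induction_on with
    | zero => exact ⟨0, by simp⟩
    | tmul a l =>
      obtain ⟨a₀, ha₀⟩ := exists_sub_mem_of_isNbhd hA' a
      obtain ⟨b, hb⟩ := hsubL l
      refine ⟨algebraMap A B a₀ * b, ?_⟩
      let iA : A' →ₐ[A] C := IsScalarTower.toAlgHom A A' C
      let iL : L →ₐ[A] C := (Ideal.Quotient.mkₐ A _).comp
        (Algebra.TensorProduct.includeRight : L →ₐ[A] L')
      have h1 : Ideal.Quotient.mk (Ideal.span ({1 - e'} : Set L')) (a ⊗ₜ l) = iA a * iL l := by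
        change _ = Ideal.Quotient.mk _ (a ⊗ₜ[A] (1 : L)) * Ideal.Quotient.mk _ ((1 : A') ⊗ₜ[A] l)
        rw [← map_mul, Algebra.TensorProduct.tmul_mul_tmul, one_mul, mul_one]
      have h2 : algebraMap B C b = iL (algebraMap B L b) := rfl
      rw [h1, map_mul, ← IsScalarTower.algebraMap_apply, h2,
        show iA a * iL l - algebraMap A C a₀ * iL (algebraMap B L b) =
          iA (a - algebraMap A A' a₀) * iL l + algebraMap A C a₀ * iL (l - algebraMap B L b) by
          rw [map_sub, map_sub, iA.commutes]; ring]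
      have hmA : (I.map (algebraMap A A')).map iA.toRingHom ≤ I.map (algebraMap A C) := by
        rw [Ideal.map_map, show iA.toRingHom.comp (algebraMap A A') = algebraMap A C from iA.comp_algebraMap]
      have hmL : (I.map (algebraMap A L)).map iL.toRingHom ≤ I.map (algebraMap A C) := by
        rw [Ideal.map_map, show iL.toRingHom.comp (algebraMap A L) = algebraMap A C from iL.comp_algebraMap]
      exact add_mem (Ideal.mul_mem_right _ _ (hmA (Ideal.mem_map_of_mem _ ha₀)))
        (Ideal.mul_mem_left _ _ (hmL (Ideal.mem_map_of_mem _ hb)))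
    | add a b ha hb =>
      obtain ⟨a', ha'⟩ := ha
      obtain ⟨b', hb'⟩ := hb
      refine ⟨a' + b', ?_⟩
      have := add_mem ha' hb'
      rwa [map_add, map_add, add_sub_add_comm]

/-- An image of a polynomial ring with monic equations for the variables is finite. -/
theorem finite_of_monic_relations {S : Type u} [CommRing S] [Algebra A S] {n : ℕ}
    (μ : MvPolynomial (Fin n) A →ₐ[A] S) (hμ : Function.Surjective μ) (p : Fin n → Polynomial A)
    (hp : ∀ i, (p i).Monic) (h0 : ∀ i, μ (Polynomial.aeval (MvPolynomial.X i) (p i)) = 0) :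
    Module.Finite A S := by
  have htop : Algebra.adjoin A (Set.range fun i => μ (MvPolynomial.X i)) = ⊤ := by
    rw [show (Set.range fun i => μ (MvPolynomial.X i)) = μ '' Set.range MvPolynomial.X from
      Set.range_comp μ MvPolynomial.X, ← AlgHom.map_adjoin, MvPolynomial.adjoin_range_X, Algebra.map_top,
      AlgHom.range_eq_top]
    exact hμ
  haveI : Module.Finite A (Algebra.adjoin A (Set.range fun i => μ (MvPolynomial.X i))) :=
    Algebra.finite_adjoin_of_finite_of_isIntegral (Set.finite_range _) (by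
      rintro _ ⟨i, rfl⟩
      refine ⟨p i, hp i, ?_⟩
      change Polynomial.aeval (μ (MvPolynomial.X i)) (p i) = 0
      rw [Polynomial.aeval_algHom_apply, h0])
  rw [htop] at this
  exact Module.Finite.equiv Subalgebra.topEquiv.toLinearEquiv

/-- The finitely presented approximation is finite modulo `I`. -/
theorem finite_quotient_quotient {n : ℕ} (K : Ideal (MvPolynomial (Fin n) A)) (p : Fin n → Polynomial A)
    (hp : ∀ i, (p i).Monic) (Q : Fin n → MvPolynomial (Fin n) A)
    (hQ : ∀ i, Q i ∈ I.map (algebraMap A (MvPolynomial (Fin n) A)))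
    (hK : ∀ i, Polynomial.aeval (MvPolynomial.X i) (p i) - Q i ∈ K) :
    Module.Finite A ((MvPolynomial (Fin n) A ⧸ K) ⧸
      I.map (algebraMap A (MvPolynomial (Fin n) A ⧸ K))) := by
  let μ : MvPolynomial (Fin n) A →ₐ[A] (MvPolynomial (Fin n) A ⧸ K) ⧸
      I.map (algebraMap A (MvPolynomial (Fin n) A ⧸ K)) :=
    (Ideal.Quotient.mkₐ A _).comp (Ideal.Quotient.mkₐ A K)
  have hμ : Function.Surjective μ := Ideal.Quotient.mk_surjective.comp Ideal.Quotient.mk_surjective
  suffices h0 : ∀ i, μ (Polynomial.aeval (MvPolynomial.X i) (p i)) = 0 by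
    have key := finite_of_monic_relations
      (S := (MvPolynomial (Fin n) A ⧸ K) ⧸ I.map (algebraMap A (MvPolynomial (Fin n) A ⧸ K))) μ hμ p hp h0
    exact key
  intro i
  dsimp only [μ]
  rw [AlgHom.comp_apply, Ideal.Quotient.mkₐ_eq_mk, Ideal.Quotient.mkₐ_eq_mk,
    Ideal.Quotient.eq_zero_iff_mem, Ideal.Quotient.eq.2 (hK i)]
  have : (I.map (algebraMap A (MvPolynomial (Fin n) A))).map (Ideal.Quotient.mk K) ≤
      I.map (algebraMap A (MvPolynomial (Fin n) A ⧸ K)) := by
    rw [Ideal.map_map]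
    exact le_of_eq rfl
  exact this (Ideal.mem_map_of_mem _ (hQ i))

/-- Finite neighbourhoods for finite type algebras. -/
theorem exists_finite_nbhd (B : Type u) [CommRing B] [Algebra A B] [Algebra.FiniteType A B]
    [Module.Finite A (B ⧸ I.map (algebraMap A B))] :
    ∃ (A' : Type u) (_ : CommRing A') (_ : Algebra A A') (_ : Algebra.Etale A A')
      (C : Type u) (_ : CommRing C) (_ : Algebra A C) (_ : Algebra A' C) (_ : Algebra B C)
      (_ : IsScalarTower A A' C) (_ : IsScalarTower A B C),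
      IsNbhd I A' ∧ Algebra.Etale B C ∧ Module.Finite A' C ∧
        IsNbhd (I.map (algebraMap A B)) C := by
  classical
  obtain ⟨n, π, hπ⟩ := Algebra.FiniteType.iff_quotient_mvPolynomial''.1 ‹Algebra.FiniteType A B›
  let P := MvPolynomial (Fin n) A
  have hmap : I.map (algebraMap A B) = (I.map (algebraMap A P)).map π.toRingHom := by
    rw [Ideal.map_map, show π.toRingHom.comp (algebraMap A P) = algebraMap A B from π.comp_algebraMap]
  have hrel : ∀ i, ∃ p : Polynomial A, p.Monic ∧ ∃ Q ∈ I.map (algebraMap A P),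
      π (Polynomial.aeval (MvPolynomial.X i) p - Q) = 0 := by
    intro i
    obtain ⟨p, hp, hp0⟩ := (Algebra.IsIntegral.of_finite A (B ⧸ I.map (algebraMap A B))).isIntegral
      (Ideal.Quotient.mk _ (π (MvPolynomial.X i)))
    change Polynomial.aeval (Ideal.Quotient.mkₐ A _ (π (MvPolynomial.X i))) p = 0 at hp0
    rw [Polynomial.aeval_algHom_apply, Ideal.Quotient.mkₐ_eq_mk, Ideal.Quotient.eq_zero_iff_mem, hmap,
      Polynomial.aeval_algHom_apply, Ideal.mem_map_iff_of_surjective π.toRingHom hπ] at hp0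
    obtain ⟨Q, hQ, hQe⟩ := hp0
    exact ⟨p, hp, Q, hQ, by rw [map_sub, sub_eq_zero]; exact hQe.symm⟩
  choose p hp Q hQ hπQ using hrel
  let K : Ideal P := Ideal.span (Set.range fun i => Polynomial.aeval (MvPolynomial.X i : P) (p i) - Q i)
  have hK : ∀ z ∈ K, π z = 0 := fun z hz => by
    have : K ≤ RingHom.ker π.toRingHom := Ideal.span_le.2 (by rintro _ ⟨i, rfl⟩; exact hπQ i)
    exact this hz
  let B₁ := P ⧸ K
  haveI : Algebra.FinitePresentation A B₁ :=
    Algebra.FinitePresentation.quotient (Submodule.fg_span (Set.finite_range _))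
  let π₁ : B₁ →ₐ[A] B := Ideal.Quotient.liftₐ K π hK
  haveI : Module.Finite A (B₁ ⧸ I.map (algebraMap A B₁)) :=
    finite_quotient_quotient (I := I) K p hp Q hQ fun i => Ideal.subset_span ⟨i, rfl⟩
  obtain ⟨A', _, _, hE, C₁, _, _, _, _, _, _, hA', hEt, hfin, hinj₁, hsurj₁⟩ :=
    exists_finite_nbhd_of_finitePresentation (I := I) B₁
  haveI := hEt
  haveI := hfin
  letI : Algebra B₁ B := π₁.toRingHom.toAlgebra
  haveI : IsScalarTower B₁ B₁ B := ⟨fun x y z => by simp only [Algebra.smul_def, smul_eq_mul, map_mul, mul_assoc]⟩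
  haveI : IsScalarTower A B₁ B := IsScalarTower.of_algebraMap_eq fun a => (π₁.commutes a).symm
  let C := B ⊗[B₁] C₁
  let iR : C₁ →ₐ[A] C := (Algebra.TensorProduct.includeRight : C₁ →ₐ[B₁] C).restrictScalars A
  letI algA'C : Algebra A' C := ((iR : C₁ →+* C).comp (algebraMap A' C₁)).toAlgebra
  haveI : IsScalarTower A A' C := IsScalarTower.of_algebraMap_eq fun a => by
    change algebraMap A C a = iR (algebraMap A' C₁ (algebraMap A A' a))
    rw [← IsScalarTower.algebraMap_apply, iR.commutes]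
  have hJC : (I.map (algebraMap A B)).map (algebraMap B C) = I.map (algebraMap A C) := by
    rw [Ideal.map_map, ← IsScalarTower.algebraMap_eq]
  have hJ₁ : (I.map (algebraMap A B₁)).map (algebraMap B₁ C₁) = I.map (algebraMap A C₁) := by
    rw [Ideal.map_map, ← IsScalarTower.algebraMap_eq]
  have hsurjπ : Function.Surjective (algebraMap B₁ B) :=
    fun b => by obtain ⟨z, rfl⟩ := hπ b; exact ⟨Ideal.Quotient.mk K z, rfl⟩
  have hsurjR : Function.Surjective iR := by
    intro z
    induction z using TensorProduct.induction_on with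
    | zero => exact ⟨0, map_zero _⟩
    | tmul b c =>
      obtain ⟨b₁, rfl⟩ := hsurjπ b
      refine ⟨b₁ • c, ?_⟩
      change (1 : B) ⊗ₜ[B₁] (b₁ • c) = _
      exact (TensorProduct.smul_tmul b₁ (1 : B) c).symm.trans
        (congrArg (fun x : B => x ⊗ₜ[B₁] c) (mul_one _))
    | add x y hx hy =>
      obtain ⟨x', hx'⟩ := hx
      obtain ⟨y', hy'⟩ := hy
      exact ⟨x' + y', by rw [map_add, hx', hy']⟩
  refine ⟨A', inferInstance, inferInstance, hE, C, inferInstance, inferInstance, algA'C, inferInstance,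
    inferInstance, inferInstance, hA', inferInstance, ?_, ?_, ?_⟩
  · let f : C₁ →ₐ[A'] C := { (iR : C₁ →+* C) with commutes' := fun a => rfl }
    exact Module.Finite.of_surjective f.toLinearMap hsurjR
  · refine Ideal.quotientMap_injective' fun b hb => ?_
    rw [Ideal.mem_comap, hJC] at hb
    -- a retraction
    let q₁ : B₁ ⧸ I.map (algebraMap A B₁) →+* C₁ ⧸ (I.map (algebraMap A B₁)).map (algebraMap B₁ C₁) :=
      Ideal.quotientMap _ (algebraMap B₁ C₁) Ideal.le_comap_map
    let σ := (RingEquiv.ofBijective q₁ ⟨hinj₁, hsurj₁⟩).symm.toRingHom.comp (Ideal.Quotient.mk _)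
    let τ : B₁ ⧸ I.map (algebraMap A B₁) →+* B ⧸ I.map (algebraMap A B) :=
      Ideal.quotientMap _ (algebraMap B₁ B) (Ideal.map_le_iff_le_comap.1 (by
        rw [Ideal.map_map, ← IsScalarTower.algebraMap_eq]))
    have hσ : ∀ x, τ (σ (algebraMap B₁ C₁ x)) = algebraMap B₁ (B ⧸ I.map (algebraMap A B)) x := fun x => by
      have : σ (algebraMap B₁ C₁ x) = Ideal.Quotient.mk _ x := by
        change (RingEquiv.ofBijective q₁ ⟨hinj₁, hsurj₁⟩).symm (Ideal.Quotient.mk _ (algebraMap B₁ C₁ x)) = _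
        rw [RingEquiv.symm_apply_eq]
        rfl
      rw [this]; rfl
    let rC : C₁ →ₐ[B₁] B ⧸ I.map (algebraMap A B) := { τ.comp σ with commutes' := hσ }
    let r : C →ₐ[B₁] B ⧸ I.map (algebraMap A B) :=
      Algebra.TensorProduct.lift (IsScalarTower.toAlgHom B₁ B _) rC fun _ _ => Commute.all _ _
    have hle : I.map (algebraMap A C) ≤ RingHom.ker r.toRingHom := Ideal.map_le_iff_le_comap.2 fun a ha => by
      change r (algebraMap A C a) = 0
      rw [IsScalarTower.algebraMap_apply A B C, Algebra.TensorProduct.algebraMap_apply,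
        Algebra.TensorProduct.lift_tmul, map_one, mul_one]
      exact Ideal.Quotient.eq_zero_iff_mem.2 (Ideal.mem_map_of_mem _ ha)
    have h := hle hb
    rw [RingHom.mem_ker] at h
    change r (algebraMap B C b) = 0 at h
    rw [Algebra.TensorProduct.algebraMap_apply, Algebra.TensorProduct.lift_tmul, map_one, mul_one] at h
    exact Ideal.Quotient.eq_zero_iff_mem.1 h
  · intro x
    obtain ⟨x, rfl⟩ := Ideal.Quotient.mk_surjective x
    obtain ⟨c, rfl⟩ := hsurjR x
    obtain ⟨q, hq⟩ := hsurj₁ (Ideal.Quotient.mk _ c)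
    obtain ⟨b₁, rfl⟩ := Ideal.Quotient.mk_surjective q
    rw [Ideal.quotientMap_mk, Ideal.Quotient.eq, hJ₁] at hq
    refine ⟨Ideal.Quotient.mk _ (algebraMap B₁ B b₁), ?_⟩
    rw [Ideal.quotientMap_mk, Ideal.Quotient.eq, hJC]
    have h2 : iR (algebraMap B₁ C₁ b₁ - c) ∈ I.map (algebraMap A C) := by
      have hm : (I.map (algebraMap A C₁)).map iR.toRingHom ≤ I.map (algebraMap A C) := by
        rw [Ideal.map_map, show iR.toRingHom.comp (algebraMap A C₁) = algebraMap A C from iR.comp_algebraMap]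
      exact hm (Ideal.mem_map_of_mem _ hq)
    rw [map_sub] at h2
    convert h2 using 2
    rw [← IsScalarTower.algebraMap_apply]
    exact ((Algebra.TensorProduct.includeRight : C₁ →ₐ[B₁] C).commutes b₁).symm

end Groth.Agent.Lib.Henselian.NbhdFinite
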