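import Groth.Agent.Lib.Henselian.Couple
import Mathlib.AlgebraicGeometry.Limits

/-!
# Henselian couples and disjoint unions

* `lifts_of_cover`: gluing of `Lifts` along a clopen partition
* `isCouple_sigma_iff`
-/

universe u

open CategoryTheory Limits AlgebraicGeometry TopologicalSpace Topology
open Groth.Agent.Lib.Henselian.Couple

namespace Groth.Agent.Lib.Henselian.CoupleSigma

/-- Unique lifting of clopens can be checked on the members of a partition by open subsets. -/
theorem lifts_of_cover {Y : Type u} [TopologicalSpace Y] {ι : Type*} (T : Set Y) {Z : ι → Type u}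
    [∀ j, TopologicalSpace (Z j)] (k : ∀ j, Z j → Y) (hk : ∀ j, IsOpenEmbedding (k j))
    (hcov : ∀ y, ∃ j z, k j z = y) (hdisj : ∀ j j' z z', k j z = k j' z' → j = j')
    (h : ∀ j, Lifts (Subtype.val : k j ⁻¹' T → Z j)) : Lifts (Subtype.val : T → Y) := by
  intro V hV
  let r : ∀ j, k j ⁻¹' T → T := fun j z => ⟨k j z.1, z.2⟩
  have hr : ∀ j, Continuous (r j) := fun j =>
    ((hk j).continuous.comp continuous_subtype_val).subtype_mk _
  choose U hU huniq using fun j => h j (r j ⁻¹' V) (hV.preimage (hr j))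
  have hpre : ∀ j, k j ⁻¹' ⋃ j', k j' '' U j' = U j := fun j => by
    ext z
    simp only [Set.mem_preimage, Set.mem_iUnion, Set.mem_image]
    refine ⟨?_, fun hz => ⟨j, z, hz, rfl⟩⟩
    rintro ⟨j', z', hz', he⟩
    obtain rfl := hdisj _ _ _ _ he
    rwa [← (hk j').injective he]
  have hclopen : IsClopen (⋃ j, k j '' U j) := by
    refine ⟨isOpen_compl_iff.mp ?_, isOpen_iUnion fun j => (hk j).isOpenMap _ (hU j).1.isOpen⟩
    have : (⋃ j, k j '' U j)ᶜ = ⋃ j, k j '' (U j)ᶜ := by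
      ext y
      obtain ⟨j, z, rfl⟩ := hcov y
      have hz : k j z ∈ ⋃ j', k j' '' U j' ↔ z ∈ U j := Set.ext_iff.mp (hpre j) z
      rw [Set.mem_compl_iff, hz, Set.mem_iUnion]
      refine ⟨fun h' => ⟨j, z, h', rfl⟩, ?_⟩
      rintro ⟨j', z', hz', he⟩
      obtain rfl := hdisj _ _ _ _ he
      rwa [← (hk j').injective he]
    rw [this]
    exact isOpen_iUnion fun j => (hk j).isOpenMap _ (hU j).1.compl.isOpen
  refine ⟨⋃ j, k j '' U j, ⟨hclopen, ?_⟩, fun U' hU' => ?_⟩
  · ext ⟨y, hy⟩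
    obtain ⟨j, z, rfl⟩ := hcov y
    exact (Set.ext_iff.mp (hpre j) z).trans (Set.ext_iff.mp (hU j).2 ⟨z, hy⟩)
  · ext y
    obtain ⟨j, z, rfl⟩ := hcov y
    refine Iff.trans ?_ (Set.ext_iff.mp (hpre j) z).symm
    have : k j ⁻¹' U' = U j := huniq j _ ⟨hU'.1.preimage (hk j).continuous, by
      ext w
      exact Set.ext_iff.mp hU'.2 (r j w)⟩
    exact Set.ext_iff.mp this z

variable {ι : Type u} (X X₀ : ι → Scheme.{u}) (i : ∀ j, X₀ j ⟶ X j) [∀ j, IsClosedImmersion (i j)]

omit [∀ j, IsClosedImmersion (i j)] in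
lemma exists_sigmaι_eq (X : ι → Scheme.{u}) (z : ↥(∐ X)) : ∃ j w, (Sigma.ι X j).base w = z :=
  ⟨_, (sigmaOpenCover X).exists_eq z |>.choose_spec⟩

omit [∀ j, IsClosedImmersion (i j)] in
lemma preimage_range_sigmaMap (j : ι) :
    (Sigma.ι X j).base ⁻¹' Set.range (Limits.Sigma.map i).base = Set.range (i j).base := by
  ext x
  constructor
  · rintro ⟨z, hz⟩
    obtain ⟨l, w, rfl⟩ := (exists_sigmaι_eq X₀ z)
    rw [← Scheme.Hom.comp_apply, Limits.Sigma.ι_map, Scheme.Hom.comp_apply] at hz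
    obtain ⟨rfl, he⟩ := Sigma.mk.inj_iff.mp ((sigmaι_eq_iff X l j _ x).mp hz)
    exact ⟨w, eq_of_heq he⟩
  · rintro ⟨w, rfl⟩
    exact ⟨(Sigma.ι X₀ j).base w, by rw [← Scheme.Hom.comp_apply, Limits.Sigma.ι_map, Scheme.Hom.comp_apply]⟩

instance instIsClosedImmersion : IsClosedImmersion (Limits.Sigma.map i) := by
  refine IsZariskiLocalAtTarget.of_openCover (P := @IsClosedImmersion) (sigmaOpenCover X) fun j => ?_
  change ι at j
  have h := IsOpenImmersion.isPullback (i j) (Sigma.ι X₀ j) (Sigma.ι X j) (Limits.Sigma.map i) (Limits.Sigma.ι_map _ _) (by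
    refine Opens.ext (Set.ext fun z => ?_)
    obtain ⟨l, w, rfl⟩ := exists_sigmaι_eq X₀ z
    constructor
    · rintro ⟨x, hx⟩
      rw [← Scheme.Hom.comp_apply, Limits.Sigma.ι_map, Scheme.Hom.comp_apply] at hx
      obtain ⟨rfl, -⟩ := Sigma.mk.inj_iff.mp ((sigmaι_eq_iff X j l x _).mp hx)
      exact ⟨w, rfl⟩
    · rintro ⟨x, hx⟩
      obtain ⟨rfl, -⟩ := Sigma.mk.inj_iff.mp ((sigmaι_eq_iff X₀ j l x _).mp hx)
      exact ⟨(i j).base w, by rw [← Scheme.Hom.comp_apply, ← Limits.Sigma.ι_map, Scheme.Hom.comp_apply]⟩)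
  refine (MorphismProperty.cancel_left_of_respectsIso @IsClosedImmersion h.flip.isoPullback.hom _).mp ?_
  have e : h.flip.isoPullback.hom ≫ Scheme.Cover.pullbackHom (sigmaOpenCover X) (Limits.Sigma.map i) j = i j :=
    h.flip.isoPullback_hom_snd
  rw [e]
  exact ‹∀ j, IsClosedImmersion (i j)› j

instance instIsClosedImmersionι (j : ι) : IsClosedImmersion (Sigma.ι X j) := by
  refine IsClosedImmersion.of_isPreimmersion _ ?_
  rw [← isOpen_compl_iff, show (Set.range (Sigma.ι X j).base)ᶜ =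
    ⋃ l ∈ {l | l ≠ j}, Set.range (Sigma.ι X l).base from ?_]
  · exact isOpen_biUnion fun l _ => (Sigma.ι X l).isOpenEmbedding.isOpen_range
  ext z
  obtain ⟨l, w, rfl⟩ := exists_sigmaι_eq X z
  simp only [Set.mem_compl_iff, Set.mem_range, Set.mem_iUnion, Set.mem_ofPred_eq, exists_prop]
  constructor
  · exact fun h => ⟨l, fun e => h (e ▸ ⟨w, rfl⟩), w, rfl⟩
  · rintro ⟨l', hl', w', hw'⟩ ⟨x, hx⟩
    obtain ⟨rfl, -⟩ := Sigma.mk.inj_iff.mp ((sigmaι_eq_iff X l' l _ _).mp hw')
    obtain ⟨rfl, -⟩ := Sigma.mk.inj_iff.mp ((sigmaι_eq_iff X j l' _ _).mp hx)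
    exact hl' rfl

/-- A disjoint union is a henselian couple iff every component is. -/
theorem isCouple_sigma_iff : IsCouple (Limits.Sigma.map i) ↔ ∀ j, IsCouple (i j) := by
  constructor
  · intro h j Y g hg
    refine (lifts_pullback_iff (i j) g (pullback.fst (g ≫ Sigma.ι X j) (Limits.Sigma.map i)).isClosedEmbedding.isEmbedding ?_).mpr
      (h Y (g ≫ Sigma.ι X j) inferInstance)
    refine (Scheme.Pullback.range_fst _ _).trans ?_
    rw [← preimage_range_sigmaMap X X₀ i j]
    rfl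
  · intro h Y g hg
    refine (lifts_pullback_iff (Limits.Sigma.map i) g (j := (Subtype.val : g.base ⁻¹' Set.range (Limits.Sigma.map i).base → Y))
      IsEmbedding.subtypeVal Subtype.range_coe).mpr ?_
    refine lifts_of_cover _ (fun j => (pullback.fst g (Sigma.ι X j)).base)
      (fun j => (pullback.fst g (Sigma.ι X j)).isOpenEmbedding) (fun y => ?_) (fun j j' z z' e => ?_) fun j => ?_
    · obtain ⟨j, w, hw⟩ := exists_sigmaι_eq X (g.base y)
      have : y ∈ Set.range (pullback.fst g (Sigma.ι X j)).base := by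
        rw [Scheme.Pullback.range_fst]; exact ⟨w, hw⟩
      exact ⟨j, this⟩
    · have e' := congrArg g.base e
      rw [← Scheme.Hom.comp_apply, pullback.condition, Scheme.Hom.comp_apply, ← Scheme.Hom.comp_apply (f := pullback.fst g (Sigma.ι X j')),
        pullback.condition, Scheme.Hom.comp_apply] at e'
      exact (Sigma.mk.inj_iff.mp ((sigmaι_eq_iff X j j' _ _).mp e')).1
    · refine (lifts_pullback_iff (i j) (pullback.snd g (Sigma.ι X j)) IsEmbedding.subtypeVal ?_).mp
        (h j _ (pullback.snd g (Sigma.ι X j)) inferInstance)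
      rw [Subtype.range_coe, ← preimage_range_sigmaMap X X₀ i j, ← Set.preimage_comp, ← Set.preimage_comp]
      have : (g.base ∘ (pullback.fst g (Sigma.ι X j)).base) = (Sigma.ι X j).base ∘ (pullback.snd g (Sigma.ι X j)).base :=
        funext fun z => congrArg (fun m : pullback g (Sigma.ι X j) ⟶ ∐ X => m.base z) pullback.condition
      exact congrArg (· ⁻¹' Set.range (Limits.Sigma.map i).base) this

end Groth.Agent.Lib.Henselian.CoupleSigma
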