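import Groth.Agent.Lib.Henselian.GRingLocal
import Groth.Agent.Lib.Henselian.FormalFibres
import Groth.Agent.Lib.Henselian.PairUP
import Groth.Agent.Lib.IndEtale.Zariski
import Groth.Agent.H48.PairNoeth

/-!
# Formal fibres of henselizations of pairs

* `exists_cplEquiv_of_trunc`: completions agree when all truncations do
* `isRegularHom_cpl_pairHenselization`, `isGRing_pairHenselization_of`, `isGRing_henselization_of`
-/

universe u

open TensorProduct IsLocalRing

set_option linter.style.haveILetI false

namespace Groth.Agent.Lib.Henselian.GRingHens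

open Groth.Agent.Lib.Excellent

/-- If all truncations agree then so do the completions. -/
theorem exists_cplEquiv_of_trunc (R S : Type u) [CommRing R] [CommRing S] [Algebra R S] (J : Ideal R)
    (K : Ideal S) (hK : J.map (algebraMap R S) = K)
    (htr : ∀ k : ℕ, Function.Bijective
      (Ideal.quotientMap ((J ^ k).map (algebraMap R S)) (algebraMap R S) Ideal.le_comap_map)) :
    Nonempty (AdicCompletion J R ≃ₐ[R] AdicCompletion K S) := by
  subst hK
  have hbij : ∀ n, Function.Bijective (Ideal.quotientMapₐ ((J.map (algebraMap R S)) ^ n)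
      (Algebra.ofId R S) (CompletionFinite.pow_map_le J S n)) := fun n => by
    have e : (J ^ n).map (algebraMap R S) = J.map (algebraMap R S) ^ n := Ideal.map_pow _ _ n
    constructor
    · intro x y hxy
      obtain ⟨a, rfl⟩ := Ideal.Quotient.mk_surjective x
      obtain ⟨b, rfl⟩ := Ideal.Quotient.mk_surjective y
      refine (htr n).1 ?_
      rw [Ideal.quotientMap_mk, Ideal.quotientMap_mk, Ideal.Quotient.eq, e]
      exact Ideal.Quotient.eq.mp hxy
    · intro y
      obtain ⟨s, rfl⟩ := Ideal.Quotient.mk_surjective y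
      obtain ⟨x, hx⟩ := (htr n).2 (Ideal.Quotient.mk _ s)
      obtain ⟨a, rfl⟩ := Ideal.Quotient.mk_surjective x
      refine ⟨Ideal.Quotient.mk _ a, Ideal.Quotient.eq.mpr ?_⟩
      rw [← e]
      exact Ideal.Quotient.eq.mp hx
  let t := CompletionFinite.truncMap J S
  let φ := CompletionFinite.mapAlgHom J S
  have hφ : ∀ n x, AdicCompletion.evalₐ (J.map (algebraMap R S)) n (φ x) = t n x := fun n x =>
    AdicCompletion.evalₐ_liftAlgHom _ _ (CompletionFinite.truncMap_compat J S) n x
  have ht : ∀ n x, t n x = Ideal.quotientMapₐ _ (Algebra.ofId R S) (CompletionFinite.pow_map_le J S n)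
      (AdicCompletion.evalₐ J n x) := fun _ _ => rfl
  have hinj : Function.Injective φ := fun x y hxy => AdicCompletion.ext_evalₐ fun n =>
    (hbij n).1 (by rw [← ht, ← ht, ← hφ, ← hφ, hxy])
  refine ⟨AlgEquiv.ofBijective φ ⟨hinj, fun z => ?_⟩⟩
  let ψ : (n : ℕ) → R ⧸ J ^ n := fun n =>
    (Equiv.ofBijective _ (hbij n)).symm (AdicCompletion.evalₐ _ n z)
  choose a ha using fun n => Ideal.Quotient.mk_surjective (ψ n)
  have hψ : ∀ n, Ideal.Quotient.mk (J.map (algebraMap R S) ^ n) (algebraMap R S (a n)) =
      AdicCompletion.evalₐ _ n z := fun n => by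
    rw [← Equiv.apply_symm_apply (Equiv.ofBijective _ (hbij n)) (AdicCompletion.evalₐ _ n z)]
    exact congrArg (Ideal.quotientMapₐ _ (Algebra.ofId R S) (CompletionFinite.pow_map_le J S n)) (ha n)
  have hcauchy : ∀ {m n : ℕ}, m ≤ n → a m ≡ a n [SMOD (J ^ m • ⊤ : Submodule R R)] := by
    intro m n hmn
    rw [SModEq.sub_mem]
    have h1 := congrArg (Ideal.Quotient.factor (Ideal.pow_le_pow_right hmn)) (hψ n)
    rw [Ideal.Quotient.factor_mk, CompletionTopology.factor_evalₐ hmn, ← hψ m] at h1
    have h2 : Ideal.Quotient.mk (J ^ m) (a m) = Ideal.Quotient.mk (J ^ m) (a n) := (hbij m).1 h1.symm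
    simpa using Ideal.Quotient.eq.mp h2
  refine ⟨AdicCompletion.mk J R ⟨a, hcauchy⟩, AdicCompletion.ext_evalₐ fun n => ?_⟩
  rw [hφ, ht, AdicCompletion.evalₐ_mk]
  exact hψ n

/-- A localization is ind-étale. -/
theorem isIndEtale_atPrime {B : Type u} [CommRing B] (n : Ideal B) [n.IsPrime] :
    EtPBC.IsIndEtale B (Localization.AtPrime n) :=
  Groth.Agent.Lib.IndEtale.Basic.of_factors
    (Groth.Agent.Lib.IndEtale.Zariski.factors_localization (Groth.Agent.Lib.IndEtale.Basic.impliesFP B)
      Groth.Agent.Lib.IndEtale.Zariski.stableAway_etale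
      (Groth.Agent.Lib.IndEtale.Basic.factors (Groth.Agent.Lib.IndEtale.Basic.of_etale (A := B) (B := B)))
      n.primeCompl (Localization.AtPrime n))

variable {A : Type u} [CommRing A] [IsNoetherianRing A] {I : Ideal A} {B : Type u} [CommRing B] [Algebra A B]

omit [IsNoetherianRing A] in
/-- A henselization of a pair is ind-étale. -/
theorem isIndEtale (hB : Hens2.IsPairHenselization A I B) : EtPBC.IsIndEtale A B :=
  Groth.Agent.Lib.IndEtale.Basic.of_algEquiv Groth.Agent.Lib.Henselian.IndEtale.isIndEtale_lim
    (PairHenselization.equivOfIsPairHenselization hB)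

omit [IsNoetherianRing A] in
/-- Maximal ideals of a henselization of a pair come from maximal ideals over `I`. -/
theorem maximal_facts (hB : Hens2.IsPairHenselization A I B) (n : Ideal B) [n.IsMaximal] :
    I ≤ n.comap (algebraMap A B) ∧ (n.comap (algebraMap A B)).IsMaximal ∧
      (n.comap (algebraMap A B)).map (algebraMap A B) = n := by
  have := hB.1
  have hjac : I.map (algebraMap A B) ≤ n :=
    (HenselianRing.jac).trans (sInf_le ⟨bot_le, inferInstance⟩)
  have hI : I ≤ n.comap (algebraMap A B) := Ideal.map_le_iff_le_comap.1 hjac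
  obtain ⟨-, hsurj⟩ := PairUP.quotientMap_bijective hB
  have hres : ∀ x : B, ∃ a : A, x - algebraMap A B a ∈ I.map (algebraMap A B) := fun x => by
    obtain ⟨q, hq⟩ := hsurj (Ideal.Quotient.mk _ x)
    obtain ⟨a, rfl⟩ := Ideal.Quotient.mk_surjective q
    exact ⟨a, Ideal.Quotient.eq.1 hq.symm⟩
  refine ⟨hI, ?_, le_antisymm Ideal.map_comap_le fun x hx => ?_⟩
  · let f : A →+* B ⧸ n := (Ideal.Quotient.mk n).comp (algebraMap A B)
    have hf : Function.Surjective f := fun y => by
      obtain ⟨x, rfl⟩ := Ideal.Quotient.mk_surjective y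
      obtain ⟨a, ha⟩ := hres x
      exact ⟨a, (Ideal.Quotient.eq.2 (hjac ha)).symm⟩
    have hfield : IsField (B ⧸ n) := (Ideal.Quotient.maximal_ideal_iff_isField_quotient n).1 inferInstance
    letI := hfield.toField
    have hker : RingHom.ker f = n.comap (algebraMap A B) := by
      rw [← RingHom.comap_ker, Ideal.mk_ker]
    rw [← hker]
    exact RingHom.ker_isMaximal_of_surjective f hf
  · obtain ⟨a, ha⟩ := hres x
    have ha' : a ∈ n.comap (algebraMap A B) := by
      have := n.sub_mem hx (hjac ha)
      rwa [sub_sub_cancel] at this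
    have := add_mem (Ideal.map_mono hI ha) (Ideal.mem_map_of_mem (algebraMap A B) ha')
    rwa [sub_add_cancel] at this

omit [IsNoetherianRing A] in
/-- Powers of an ideal containing `I` have the same quotients in a henselization. -/
theorem quotientMap_pow_bijective_of_le (hB : Hens2.IsPairHenselization A I B) {m : Ideal A}
    (hm : I ≤ m) (k : ℕ) : Function.Bijective
      (Ideal.quotientMap ((m ^ k).map (algebraMap A B)) (algebraMap A B) Ideal.le_comap_map) := by
  obtain ⟨hinj, hsurj⟩ := PairUP.quotientMap_pow_bijective hB k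
  have hle : (I ^ k).map (algebraMap A B) ≤ (m ^ k).map (algebraMap A B) :=
    Ideal.map_mono (Ideal.pow_right_mono hm k)
  have hres : ∀ x : B, ∃ a : A, x - algebraMap A B a ∈ (I ^ k).map (algebraMap A B) := fun x => by
    obtain ⟨q, hq⟩ := hsurj (Ideal.Quotient.mk _ x)
    obtain ⟨a, rfl⟩ := Ideal.Quotient.mk_surjective q
    exact ⟨a, Ideal.Quotient.eq.1 hq.symm⟩
  refine ⟨Ideal.quotientMap_injective' fun a ha => ?_, fun q => ?_⟩
  · -- an element of the extension of `m ^ k`
    have key : ∀ x ∈ (m ^ k).map (algebraMap A B),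
        ∃ c ∈ m ^ k, x - algebraMap A B c ∈ (I ^ k).map (algebraMap A B) := by
      intro x hx
      induction hx using Submodule.span_induction with
      | mem y hy =>
        obtain ⟨c, hc, rfl⟩ := hy
        exact ⟨c, hc, by simp⟩
      | zero => exact ⟨0, zero_mem _, by simp⟩
      | add y z _ _ hy hz =>
        obtain ⟨c, hc, hy⟩ := hy
        obtain ⟨d, hd, hz⟩ := hz
        exact ⟨c + d, add_mem hc hd, by rw [map_add, add_sub_add_comm]; exact add_mem hy hz⟩
      | smul b y _ hy =>
        obtain ⟨c, hc, hy⟩ := hy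
        obtain ⟨d, hd⟩ := hres b
        refine ⟨d * c, Ideal.mul_mem_left _ _ hc, ?_⟩
        have : b • y - algebraMap A B (d * c) =
            (b - algebraMap A B d) * y + algebraMap A B d * (y - algebraMap A B c) := by
          rw [smul_eq_mul, map_mul]; ring
        rw [this]
        exact add_mem (Ideal.mul_mem_right _ _ hd) (Ideal.mul_mem_left _ _ hy)
    obtain ⟨c, hc, hca⟩ := key _ ha
    rw [← map_sub] at hca
    have h0 : a - c ∈ I ^ k := by
      have := hinj (a₁ := Ideal.Quotient.mk (I ^ k) (a - c)) (a₂ := 0) (by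
        rw [Ideal.quotientMap_mk, map_zero, Ideal.Quotient.eq_zero_iff_mem]; exact hca)
      rwa [Ideal.Quotient.eq_zero_iff_mem] at this
    have := add_mem (Ideal.pow_right_mono hm k h0) hc
    rwa [sub_add_cancel] at this
  · obtain ⟨x, rfl⟩ := Ideal.Quotient.mk_surjective q
    obtain ⟨a, ha⟩ := hres x
    refine ⟨Ideal.Quotient.mk _ a, ?_⟩
    rw [Ideal.quotientMap_mk, Ideal.Quotient.eq, ← Ideal.neg_mem_iff, neg_sub]
    exact hle ha

/-- Truncations at a maximal ideal and in the local ring. -/
theorem quotientMap_atPrime_bijective {A : Type u} [CommRing A] (m : Ideal A) [m.IsMaximal] (k : ℕ) :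
    Function.Bijective (Ideal.quotientMap ((m ^ k).map (algebraMap A (Localization.AtPrime m)))
      (algebraMap A (Localization.AtPrime m)) Ideal.le_comap_map) := by
  let e := IsLocalization.AtPrime.equivQuotMaximalIdealPow m (Localization.AtPrime m) k
  have h : (m ^ k).map (algebraMap A (Localization.AtPrime m)) = maximalIdeal (Localization.AtPrime m) ^ k := by
    rw [Ideal.map_pow, Localization.AtPrime.map_eq_maximalIdeal]
  constructor
  · intro x y hxy
    obtain ⟨a, rfl⟩ := Ideal.Quotient.mk_surjective x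
    obtain ⟨b, rfl⟩ := Ideal.Quotient.mk_surjective y
    rw [Ideal.quotientMap_mk, Ideal.quotientMap_mk, Ideal.Quotient.eq, h] at hxy
    exact e.injective (Ideal.Quotient.eq.2 hxy)
  · intro z
    obtain ⟨z, rfl⟩ := Ideal.Quotient.mk_surjective z
    obtain ⟨x, hx⟩ := e.surjective (Ideal.Quotient.mk _ z)
    obtain ⟨a, rfl⟩ := Ideal.Quotient.mk_surjective x
    refine ⟨Ideal.Quotient.mk _ a, ?_⟩
    rw [Ideal.quotientMap_mk, Ideal.Quotient.eq, h]
    exact Ideal.Quotient.eq.1 hx

/-- A henselization of a pair has geometrically regular formal fibres at a maximal ideal if the ring has. -/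
theorem isRegularHom_cpl_pairHenselization (hB : Hens2.IsPairHenselization A I B) (n : Ideal B)
    [n.IsMaximal]
    (h : ∀ (m : Ideal A) [m.IsMaximal],
      CAlg.IsRegularHom (Localization.AtPrime m) (EGA4.Cpl (Localization.AtPrime m))) :
    CAlg.IsRegularHom (Localization.AtPrime n) (EGA4.Cpl (Localization.AtPrime n)) := by
  haveI : IsNoetherianRing B := Groth.Agent.H48.PairNoeth.isNoetherianRing hB
  obtain ⟨hI, hmax, hmn⟩ := maximal_facts hB n
  let m := n.comap (algebraMap A B)
  haveI : m.IsMaximal := hmax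
  let Am := Localization.AtPrime m
  let Bn := Localization.AtPrime n
  haveI : IsNoetherianRing Am := IsLocalization.isNoetherianRing m.primeCompl _ inferInstance
  haveI : IsNoetherianRing Bn := IsLocalization.isNoetherianRing n.primeCompl _ inferInstance
  obtain ⟨e₁⟩ := exists_cplEquiv_of_trunc A Am m (maximalIdeal Am)
    (Localization.AtPrime.map_eq_maximalIdeal) (quotientMap_atPrime_bijective m)
  obtain ⟨e₂⟩ := exists_cplEquiv_of_trunc A Bn m (maximalIdeal Bn)
    (by rw [IsScalarTower.algebraMap_eq A B Bn, ← Ideal.map_map, hmn, Localization.AtPrime.map_eq_maximalIdeal])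
    fun k => by
      have h1 := quotientMap_pow_bijective_of_le hB hI k
      have h2 := quotientMap_atPrime_bijective n k
      have e : (m ^ k).map (algebraMap A B) = n ^ k := by rw [Ideal.map_pow, hmn]
      constructor
      · intro x y hxy
        obtain ⟨a, rfl⟩ := Ideal.Quotient.mk_surjective x
        obtain ⟨b, rfl⟩ := Ideal.Quotient.mk_surjective y
        rw [Ideal.quotientMap_mk, Ideal.quotientMap_mk, Ideal.Quotient.eq] at hxy
        apply h1.1
        rw [Ideal.quotientMap_mk, Ideal.quotientMap_mk, Ideal.Quotient.eq, e]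
        apply Ideal.Quotient.eq.1
        apply h2.1
        rw [Ideal.quotientMap_mk, Ideal.quotientMap_mk, Ideal.Quotient.eq, ← e, Ideal.map_map,
          ← IsScalarTower.algebraMap_eq, ← IsScalarTower.algebraMap_apply, ← IsScalarTower.algebraMap_apply]
        exact hxy
      · intro z
        obtain ⟨z, rfl⟩ := Ideal.Quotient.mk_surjective z
        obtain ⟨x, hx⟩ := h2.2 (Ideal.Quotient.mk _ z)
        obtain ⟨b, rfl⟩ := Ideal.Quotient.mk_surjective x
        obtain ⟨y, hy⟩ := h1.2 (Ideal.Quotient.mk _ b)
        obtain ⟨a, rfl⟩ := Ideal.Quotient.mk_surjective y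
        refine ⟨Ideal.Quotient.mk _ a, ?_⟩
        rw [Ideal.quotientMap_mk, Ideal.Quotient.eq] at hx hy ⊢
        have h3 := Ideal.mem_map_of_mem (algebraMap B Bn) hy
        rw [Ideal.map_map, ← IsScalarTower.algebraMap_eq, map_sub, ← IsScalarTower.algebraMap_apply] at h3
        rw [← e, Ideal.map_map, ← IsScalarTower.algebraMap_eq] at hx
        have := add_mem h3 hx
        rwa [sub_add_sub_cancel] at this
  haveI : IsNoetherianRing (EGA4.Cpl Am) := inferInstance
  haveI : IsNoetherianRing (EGA4.Cpl Bn) := inferInstance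
  haveI : Module.Flat Am (EGA4.Cpl Am) := AdicCompletion.flat_of_isNoetherian _
  haveI : Module.Flat Bn (EGA4.Cpl Bn) := AdicCompletion.flat_of_isNoetherian _
  haveI : Module.Flat B (EGA4.Cpl Bn) := Module.Flat.trans B Bn _
  have hA : CAlg.IsRegularHom A (EGA4.Cpl Am) :=
    (RegularFibres.isRegularHom_iff (R := A) (S := Am) (C := EGA4.Cpl Am) (isIndEtale_atPrime m)).2 (h m)
  have hA' : CAlg.IsRegularHom A (EGA4.Cpl Bn) := FormalFibres.isRegularHom_congr (e₁.symm.trans e₂) hA
  have hB' : CAlg.IsRegularHom B (EGA4.Cpl Bn) :=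
    (RegularFibres.isRegularHom_iff (R := A) (S := B) (C := EGA4.Cpl Bn) (isIndEtale hB)).1 hA'
  exact (RegularFibres.isRegularHom_iff (R := B) (S := Bn) (C := EGA4.Cpl Bn) (isIndEtale_atPrime n)).1 hB'

/-- The henselization of a pair of a G-ring is a G-ring, granted that complete local rings are. -/
theorem isGRing_pairHenselization_of
    (hcompl : ∀ (C : Type u) [CommRing C] [IsLocalRing C] [IsNoetherianRing C]
      [IsAdicComplete (maximalIdeal C) C], CAlg.IsGRing C)
    (hA : CAlg.IsGRing A) (hB : Hens2.IsPairHenselization A I B) : CAlg.IsGRing B :=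
  haveI : IsNoetherianRing B := Groth.Agent.H48.PairNoeth.isNoetherianRing hB
  GRingLocal.isGRing_of_maximal hcompl B fun n _ =>
    isRegularHom_cpl_pairHenselization hB n fun m _ => hA.2 m

/-- A local ring with geometrically regular formal fibres is a G-ring, granted that complete ones are. -/
theorem isGRing_of_isRegularHom_cpl
    (hcompl : ∀ (C : Type u) [CommRing C] [IsLocalRing C] [IsNoetherianRing C]
      [IsAdicComplete (maximalIdeal C) C], CAlg.IsGRing C)
    (R : Type u) [CommRing R] [IsLocalRing R] [IsNoetherianRing R]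
    (h : CAlg.IsRegularHom R (EGA4.Cpl R)) : CAlg.IsGRing R :=
  GRingLocal.isGRing_of_maximal hcompl R fun m hm => by
    obtain rfl := IsLocalRing.eq_maximalIdeal hm
    haveI : IsNoetherianRing (Localization.AtPrime (maximalIdeal R)) :=
      IsLocalization.isNoetherianRing (maximalIdeal R).primeCompl _ inferInstance
    exact Groth.Agent.Lib.Excellent.GRingStability.isRegularHom_cpl_of_ringEquiv R
      (Localization.AtPrime (maximalIdeal R))
      (IsLocalization.atUnits R (maximalIdeal R).primeCompl
        (S := Localization.AtPrime (maximalIdeal R))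
        (fun x hx => of_not_not fun h' => hx ((mem_maximalIdeal x).2 h'))).toRingEquiv h

/-- The formal fibres at the closed point of a local G-ring. -/
theorem isRegularHom_cpl_of_isGRing (R : Type u) [CommRing R] [IsLocalRing R] (h : CAlg.IsGRing R) :
    CAlg.IsRegularHom R (EGA4.Cpl R) :=
  haveI := h.1
  Groth.Agent.Lib.Excellent.GRingStability.isRegularHom_cpl_of_ringEquiv
    (Localization.AtPrime (maximalIdeal R)) R
    (IsLocalization.atUnits R (maximalIdeal R).primeCompl
      (S := Localization.AtPrime (maximalIdeal R))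
      (fun x hx => of_not_not fun h' => hx ((mem_maximalIdeal x).2 h'))).symm.toRingEquiv (h.2 _)

/-- The henselization of a local G-ring is a G-ring, granted that complete local rings are. -/
theorem isGRing_henselization_of
    (hcompl : ∀ (C : Type u) [CommRing C] [IsLocalRing C] [IsNoetherianRing C]
      [IsAdicComplete (maximalIdeal C) C], CAlg.IsGRing C)
    (R S : Type u) [CommRing R] [IsLocalRing R] [CommRing S] [IsLocalRing S] [Algebra R S]
    [IsLocalHom (algebraMap R S)] [Hensel.IsHenselization R S] (hR : CAlg.IsGRing R) : CAlg.IsGRing S :=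
  haveI := hR.1
  haveI := Permanence.isNoetherianRing R S
  isGRing_of_isRegularHom_cpl hcompl S
    ((FormalFibres.isRegularHom_cpl_iff R S).2 (isRegularHom_cpl_of_isGRing R hR))

end Groth.Agent.Lib.Henselian.GRingHens
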