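import Groth.Agent.Lib.Henselian.Sections
import Groth.Agent.Lib.Henselian.QuasiFinite
import Groth.Agent.Lib.Unram.FinitePartNhd
import Mathlib.AlgebraicGeometry.ResidueField
import Mathlib.AlgebraicGeometry.Morphisms.Finite

/-!
# Finite parts of quasi-finite separated schemes over henselian local rings

* `mem_of_finite`: an open subset of a finite scheme containing the closed fibre is everything
* `existsUnique_finitePart`, `finitePart_map`, `finitePart_pullback`
* `existsUnique_section`, `exists_finite_surjective_open`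
-/

universe u

open CategoryTheory Limits AlgebraicGeometry IsLocalRing TopologicalSpace

namespace Groth.Agent.Lib.Henselian.FinitePart

variable {R : Type u} [CommRing R] [HenselianLocalRing R]

/-- An open subset containing the closed fibre of a finite scheme over a local ring is everything. -/
theorem mem_of_finite {Y : Scheme.{u}} (g : Y ⟶ Spec (CommRingCat.of R)) [UniversallyClosed g]
    {U : Set Y} (hU : IsOpen U) (h : ∀ y, g.base y = closedPoint R → y ∈ U) (y : Y) : y ∈ U := by
  by_contra hy
  obtain ⟨z, hz, hzc⟩ : closedPoint R ∈ g.base '' Uᶜ :=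
    (IsLocalRing.specializes_closedPoint (g.base y)).mem_closed
      (g.isClosedMap _ hU.isClosed_compl) ⟨y, hy, rfl⟩
  exact hz (h z hzc)

/-- The finite part exists and is unique. -/
theorem existsUnique_finitePart {X : Scheme.{u}} (f : X ⟶ Spec (CommRingCat.of R))
    [LocallyQuasiFinite f] [LocallyOfFiniteType f] [QuasiCompact f] [IsSeparated f] :
    ∃! W : X.Opens, IsClosed (W : Set X) ∧ IsFinite (W.ι ≫ f) ∧
      ∀ x : X, f.base x = closedPoint R → x ∈ W := by
  obtain ⟨Y', g, y', hg, hgy, hiso, V, W', hVW, hVfin, hV⟩ :=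
    Unram.FinitePartNhd.exists_finite_part f (closedPoint R) (f.finite_preimage_singleton _)
  let ρ : Spec (CommRingCat.of (ResidueField R)) ⟶ Spec (CommRingCat.of R) :=
    Spec.map (CommRingCat.ofHom (residue R))
  have h1 : ρ.base (closedPoint (ResidueField R)) = closedPoint R := PrimeSpectrum.ext (by
    change Ideal.comap (residue R) (maximalIdeal (ResidueField R)) = maximalIdeal R
    rw [Ideal.eq_bot_of_prime (maximalIdeal (ResidueField R)), ← RingHom.ker_eq_comap_bot, ker_residue])
  have hgy' : g.base y' = ρ.base (closedPoint (ResidueField R)) := hgy.trans h1.symm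
  let u₀ : Spec (CommRingCat.of (ResidueField R)) ⟶ Y' :=
    Spec.map (Scheme.descResidueField (Scheme.stalkClosedPointTo ρ)) ≫
      Spec.map ((Spec (CommRingCat.of R)).residueFieldCongr hgy').hom ≫
      inv (Spec.map (g.residueFieldMap y')) ≫ Y'.fromSpecResidueField y'
  have hu₀ : u₀ ≫ g = ρ := by
    simp only [u₀, Category.assoc]
    rw [← Scheme.Hom.SpecMap_residueFieldMap_fromSpecResidueField, IsIso.inv_hom_id_assoc,
      Scheme.residueFieldCongr_fromSpecResidueField]
    exact Scheme.descResidueField_stalkClosedPointTo_fromSpecResidueField _ _ ρ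
  obtain ⟨s, hs, hsu⟩ := Sections.exists_section_of_smooth g u₀ hu₀
  have hsy : s.base (closedPoint R) = y' := by
    refine ((congrArg s.base h1.symm).trans (congrArg (fun m : Spec (CommRingCat.of (ResidueField R)) ⟶ Y' =>
      m.base (closedPoint (ResidueField R))) hsu)).trans ?_
    exact Scheme.fromSpecResidueField_apply y' _
  let s' : X ⟶ pullback f g := pullback.lift (𝟙 X) (f ≫ s) (by simp [hs])
  have hsq : IsPullback s' f (pullback.snd f g) s := by
    refine IsPullback.of_right ?_ (pullback.lift_snd _ _ _) (IsPullback.of_hasPullback f g)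
    rw [show s' ≫ pullback.fst f g = 𝟙 X from pullback.lift_fst _ _ _, hs]
    exact IsPullback.of_horiz_isIso ⟨by simp⟩
  let W : X.Opens := s' ⁻¹ᵁ V
  have hVc : IsClosed (V : Set ↑(pullback f g)) := by
    have hc : (V : Set ↑(pullback f g)) = (W' : Set ↑(pullback f g))ᶜ := by
      have h1 := hVW.disjoint
      have h2 := hVW.codisjoint
      rw [disjoint_iff] at h1
      rw [codisjoint_iff] at h2
      refine (IsCompl.compl_eq (IsCompl.symm ⟨?_, ?_⟩)).symm
      · rw [disjoint_iff]; exact congrArg (fun U : (pullback f g).Opens => (U : Set ↑(pullback f g))) h1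
      · rw [codisjoint_iff]; exact congrArg (fun U : (pullback f g).Opens => (U : Set ↑(pullback f g))) h2
    rw [hc]; exact W'.isOpen.isClosed_compl
  have hfin : IsFinite (W.ι ≫ f) := by
    have h1 : IsPullback (s' ∣_ V) W.ι V.ι s' :=
      (isPullback_morphismRestrict s' V).flip.flip
    have h2 : IsPullback (s' ∣_ V) (W.ι ≫ f) (V.ι ≫ pullback.snd f g) s := h1.paste_vert hsq
    exact MorphismProperty.of_isPullback h2 hVfin
  refine ⟨W, ⟨hVc.preimage s'.continuous, hfin, fun x hx => hV _ ?_⟩, fun W₂ hW₂ => ?_⟩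
  · rw [← Scheme.Hom.comp_apply, pullback.lift_snd, Scheme.Hom.comp_apply, hx, hsy]
  · have hW : ∀ (W₁ W₂ : X.Opens), IsFinite (W₁.ι ≫ f) →
        (∀ x : X, f.base x = closedPoint R → x ∈ W₂) → W₁ ≤ W₂ := by
      intro W₁ W₂ _ h x hx
      exact mem_of_finite (W₁.ι ≫ f) (U := W₁.ι.base ⁻¹' W₂) (W₂.isOpen.preimage W₁.ι.continuous)
        (fun z hz => h _ hz) ⟨x, hx⟩
    exact le_antisymm (hW W₂ W hW₂.2.1 fun x hx => hV _ (by
      rw [← Scheme.Hom.comp_apply, pullback.lift_snd, Scheme.Hom.comp_apply, hx, hsy])) (hW W W₂ hfin hW₂.2.2)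

/-- Morphisms carry finite parts into finite parts. -/
theorem finitePart_map {X Y : Scheme.{u}} (f : X ⟶ Spec (CommRingCat.of R))
    (f' : Y ⟶ Spec (CommRingCat.of R)) (WX : X.Opens) (hX : IsFinite (WX.ι ≫ f)) (WY : Y.Opens)
    (hY : ∀ y : Y, f'.base y = closedPoint R → y ∈ WY) (g : X ⟶ Y) (hg : g ≫ f' = f) (x : X)
    (hx : x ∈ WX) : g.base x ∈ WY := by
  refine mem_of_finite (WX.ι ≫ f) (U := (WX.ι ≫ g).base ⁻¹' WY) (WY.isOpen.preimage (WX.ι ≫ g).continuous)
    (fun z hz => hY _ ?_) ⟨x, hx⟩
  rw [← Scheme.Hom.comp_apply, Category.assoc, hg]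
  exact hz

/-- The finite part of a product is the product of the finite parts. -/
theorem finitePart_pullback {X Y : Scheme.{u}} (f : X ⟶ Spec (CommRingCat.of R))
    (f' : Y ⟶ Spec (CommRingCat.of R)) (WX : X.Opens) (hX : IsFinite (WX.ι ≫ f))
    (hX' : ∀ x : X, f.base x = closedPoint R → x ∈ WX) (WY : Y.Opens) (hY : IsFinite (WY.ι ≫ f'))
    (hY' : ∀ y : Y, f'.base y = closedPoint R → y ∈ WY) (W : (pullback f f').Opens)
    (hW : IsFinite (W.ι ≫ pullback.fst f f' ≫ f))
    (hW' : ∀ z, (pullback.fst f f' ≫ f).base z = closedPoint R → z ∈ W) (z : ↥(pullback f f')) :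
    z ∈ W ↔ ((pullback.fst f f').base z ∈ WX ∧ (pullback.snd f f').base z ∈ WY) := by
  refine ⟨fun hz => ⟨finitePart_map _ f W hW WX hX' (pullback.fst f f') rfl z hz,
    finitePart_map _ f' W hW WY hY' (pullback.snd f f') pullback.condition.symm z hz⟩, fun hz => ?_⟩
  let m : pullback (WX.ι ≫ f) (WY.ι ≫ f') ⟶ pullback f f' :=
    pullback.map _ _ _ _ WX.ι WY.ι (𝟙 _) (Category.comp_id _) (Category.comp_id _)
  have hr : z ∈ Set.range m.base := by
    rw [Scheme.Pullback.range_map, Scheme.Opens.range_ι, Scheme.Opens.range_ι]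
    exact hz
  obtain ⟨w, rfl⟩ := hr
  have : IsFinite (pullback.fst (WX.ι ≫ f) (WY.ι ≫ f') ≫ WX.ι ≫ f) := inferInstance
  refine mem_of_finite (pullback.fst (WX.ι ≫ f) (WY.ι ≫ f') ≫ WX.ι ≫ f) (U := m.base ⁻¹' W)
    (W.isOpen.preimage m.continuous) (fun v hv => hW' _ ?_) w
  rw [← Scheme.Hom.comp_apply, pullback.lift_fst_assoc, Category.assoc]
  exact hv

/-- Points of the closed fibre of a separated étale scheme lift uniquely to sections. -/
theorem existsUnique_section {X : Scheme.{u}} (f : X ⟶ Spec (CommRingCat.of R)) [Etale f] [IsSeparated f]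
    (t : Spec (CommRingCat.of (ResidueField R)) ⟶ X)
    (ht : t ≫ f = Spec.map (CommRingCat.ofHom (residue R))) :
    ∃! s : Spec (CommRingCat.of R) ⟶ X,
      s ≫ f = 𝟙 _ ∧ Spec.map (CommRingCat.ofHom (residue R)) ≫ s = t := by
  obtain ⟨s, hs, hst⟩ := Sections.exists_section_of_smooth f t ht
  refine ⟨s, ⟨hs, hst⟩, fun s' hs' => ?_⟩
  let q : Spec (CommRingCat.of R) ⟶ pullback f f := pullback.lift s' s (hs'.1.trans hs.symm)
  have hq1 : q ≫ pullback.fst f f = s' := pullback.lift_fst _ _ _
  have hq2 : q ≫ pullback.snd f f = s := pullback.lift_snd _ _ _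
  let ρ := Spec.map (CommRingCat.ofHom (residue R))
  have hρ : ρ ≫ q = t ≫ pullback.diagonal f := by
    apply pullback.hom_ext <;> simp [hq1, hq2, ρ, hst, hs'.2]
  have hq : Set.range q.base ⊆ Set.range (pullback.diagonal f).base := by
    rintro _ ⟨y, rfl⟩
    refine mem_of_finite (𝟙 (Spec (CommRingCat.of R))) (U := q.base ⁻¹' Set.range (pullback.diagonal f).base)
      ((pullback.diagonal f).isOpenEmbedding.isOpen_range.preimage q.continuous) (fun y hy => ?_) y
    have : y = ρ.base (closedPoint (ResidueField R)) := by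
      rw [show y = closedPoint R from hy]
      refine PrimeSpectrum.ext ?_
      change maximalIdeal R = Ideal.comap (residue R) (maximalIdeal (ResidueField R))
      rw [Ideal.eq_bot_of_prime (maximalIdeal (ResidueField R)), ← RingHom.ker_eq_comap_bot, ker_residue]
    rw [Set.mem_preimage, this]
    change (ρ ≫ q).base (closedPoint (ResidueField R)) ∈ _
    rw [hρ]
    exact ⟨_, rfl⟩
  have hl := IsOpenImmersion.lift_fac (pullback.diagonal f) q hq
  calc s' = q ≫ pullback.fst f f := hq1.symm
    _ = q ≫ pullback.snd f f := by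
      rw [← hl, Category.assoc, Category.assoc, pullback.diagonal_fst, pullback.diagonal_snd]
    _ = s := hq2

/-- An étale surjective scheme contains a finite étale surjective open subscheme. -/
theorem exists_finite_surjective_open {T : Scheme.{u}} (f : T ⟶ Spec (CommRingCat.of R)) [Etale f]
    [Surjective f] : ∃ U : T.Opens, IsFinite (U.ι ≫ f) ∧ Surjective (U.ι ≫ f) := by
  obtain ⟨x, hx⟩ := f.surjective (closedPoint R)
  obtain ⟨S, φ, j, hj, ⟨q, rfl⟩, hjf⟩ := Sections.exists_chart f x
  let : Algebra R S := φ.hom.toAlgebra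
  have hS : Algebra.Etale R S := by
    have h : Etale (j ≫ f) := inferInstance
    rw [hjf, HasRingHomProperty.Spec_iff (P := @Etale)] at h
    exact h
  have : q.asIdeal.LiesOver (maximalIdeal R) := ⟨by
    have h1 : (Spec.map φ).base q = closedPoint R := by rw [← hjf, Scheme.Hom.comp_apply, hx]
    exact (congrArg PrimeSpectrum.asIdeal h1).symm⟩
  have : q.asIdeal.IsPrime := q.isPrime
  obtain ⟨e, he, heq, hfin⟩ := QuasiFinite.exists_idempotent_of_quasiFiniteAt (R := R) q.asIdeal
  let π := CommRingCat.ofHom (Ideal.Quotient.mk (Ideal.span ({1 - e} : Set S)))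
  have := IsLocalization.Away.quotient_of_isIdempotentElem he
  have : IsOpenImmersion (Spec.map π) := IsOpenImmersion.of_isLocalization e
  let k := Spec.map π ≫ j
  have hk : k ≫ f = Spec.map (φ ≫ π) := by rw [Category.assoc, hjf, ← Spec.map_comp]
  have : IsFinite (k ≫ f) := by
    rw [hk, IsFinite.SpecMap_iff]
    exact RingHom.finite_algebraMap.mpr hfin
  refine ⟨k.opensRange, ?_, ?_⟩
  · rw [show k.opensRange.ι = k.isoOpensRange.inv ≫ k by simp, Category.assoc]
    infer_instance
  · have h1 : Surjective (k ≫ f) := by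
      refine ⟨fun y => ?_⟩
      refine mem_of_finite (𝟙 (Spec (CommRingCat.of R))) (U := Set.range (k ≫ f).base)
        ((k ≫ f).isOpenMap.isOpen_range) (fun y hy => ?_) y
      obtain ⟨n, hn⟩ : q ∈ Set.range (Spec.map π).base := by
        change q ∈ Set.range (PrimeSpectrum.comap (Ideal.Quotient.mk (Ideal.span ({1 - e} : Set S))))
        rw [range_comap_of_surjective _ _ Ideal.Quotient.mk_surjective, Ideal.mk_ker]
        show ((Ideal.span ({1 - e} : Set S) : Ideal S) : Set S) ⊆ (q.asIdeal : Set S)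
        rw [SetLike.coe_subset_coe, Ideal.span_singleton_le_iff_mem]
        refine (q.isPrime.mem_or_mem (x := e) (y := 1 - e) ?_).resolve_left heq
        rw [mul_sub, mul_one, he.eq, sub_self]
        exact zero_mem _
      refine ⟨n, ?_⟩
      rw [Category.assoc, Scheme.Hom.comp_apply, hn, Scheme.Hom.comp_apply, hx]
      exact hy.symm
    rw [show k.opensRange.ι = k.isoOpensRange.inv ≫ k by simp, Category.assoc]
    infer_instance

end Groth.Agent.Lib.Henselian.FinitePart
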