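import Groth.Agent.Lib.Henselian.Basic
import Mathlib.RingTheory.AdjoinRoot
import Mathlib.RingTheory.LocalRing.Module
import Mathlib.RingTheory.Nakayama
import Mathlib.RingTheory.OrzechProperty
import Mathlib.LinearAlgebra.Charpoly.Basic

/-!
# Monic polynomials over local rings

* `isCoprime_of_map_residue`: coprimality can be tested on the residue field
* `eq_of_mul_eq_of_map_eq`: coprime factorisations with given reduction are unique
* `exists_monic_span_mk_eq`: idempotents of `A[X]/(F)` come from monic factors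
* `adjoin_eq_top_and_exists_monic`: monogenicity modulo `m` gives monogenicity
-/

universe u v

open Polynomial IsLocalRing
open Groth.Agent.Lib.Henselian.Basic

namespace Groth.Agent.Lib.Henselian.PolyLocal

variable {A : Type u} [CommRing A] [IsLocalRing A]

/-- A monic polynomial and another one are coprime as soon as they are so modulo the maximal
ideal. -/
theorem isCoprime_of_map_residue {Q R : A[X]} (hQ : Q.Monic)
    (h : IsCoprime (Q.map (residue A)) (R.map (residue A))) : IsCoprime Q R := by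
  have := hQ.finite_adjoinRoot
  obtain ⟨u, v, huv⟩ := h
  obtain ⟨u, rfl⟩ := map_surjective (residue A) residue_surjective u
  obtain ⟨v, rfl⟩ := map_surjective (residue A) residue_surjective v
  rw [← Polynomial.map_mul, ← Polynomial.map_mul, ← Polynomial.map_add, ← sub_eq_zero,
    ← Polynomial.map_one (residue A), ← Polynomial.map_sub, ← coe_mapRingHom, ← RingHom.mem_ker,
    ker_mapRingHom, ker_residue] at huv
  have h1 := Ideal.mem_map_of_mem (AdjoinRoot.mk Q) huv
  rw [Ideal.map_map, map_sub, map_add, map_mul, AdjoinRoot.mk_self, mul_zero, zero_add, map_one] at h1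
  have h2 : IsUnit (AdjoinRoot.mk Q (v * R)) := isUnit_of_sub_one_mem
    (map_le_jacobson_of_isIntegral (B := AdjoinRoot Q) (IsLocalRing.maximalIdeal_le_jacobson ⊥)) h1
  obtain ⟨w, hw⟩ := h2.exists_left_inv
  obtain ⟨w, rfl⟩ := AdjoinRoot.mk_surjective w
  rw [← map_mul, ← map_one (AdjoinRoot.mk Q), AdjoinRoot.mk_eq_mk] at hw
  obtain ⟨c, hc⟩ := hw
  exact ⟨-c, w * v, by linear_combination hc⟩

/-- Coprime factorisations into a monic and another factor are determined by their reductions. -/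
theorem eq_of_mul_eq_of_map_eq {Q R U V : A[X]} (hQ : Q.Monic) (hU : U.Monic)
    (hQU : Q.map (residue A) = U.map (residue A)) (hRV : R.map (residue A) = V.map (residue A))
    (hcop : IsCoprime (Q.map (residue A)) (R.map (residue A))) (h : Q * R = U * V) :
    Q = U ∧ R = V := by
  have hd : Q ∣ U :=
    (isCoprime_of_map_residue hQ (hRV ▸ hcop)).dvd_of_dvd_mul_right ⟨R, h.symm⟩
  have hdeg : U.natDegree ≤ Q.natDegree := by
    rw [← hQ.natDegree_map (residue A), ← hU.natDegree_map (residue A), hQU]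
  have hQeq : Q = U := (eq_of_monic_of_dvd_of_natDegree_le hQ hU hd hdeg).symm
  subst hQeq
  exact ⟨rfl, hQ.isRegular.left h⟩

/-- A quotient of `A[X]/(F)` by an idempotent is `A[X]/(G)` with `G` monic. -/
theorem exists_monic_span_mk_eq {F : A[X]} (hF : F.Monic) {e : A[X] ⧸ Ideal.span {F}}
    (he : IsIdempotentElem e) :
    ∃ G : A[X], G.Monic ∧ G ∣ F ∧
      Ideal.span {Ideal.Quotient.mk (Ideal.span {F}) G} = Ideal.span {e} := by
  let B := A[X] ⧸ Ideal.span {F}
  have : Module.Finite A B := hF.finite_quotient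
  have : Module.Free A B := hF.free_quotient
  let Be := B ⧸ Ideal.span {e}
  let q : B →ₐ[A] Be := Ideal.Quotient.mkₐ A (Ideal.span {e})
  have : Module.Finite A Be := Module.Finite.of_surjective q.toLinearMap Ideal.Quotient.mk_surjective
  have : Module.Projective A Be := by
    let sec : Be →ₗ[A] B := Submodule.liftQ _ (LinearMap.mulRight A (1 - e)) (fun x hx => by
      obtain ⟨c, rfl⟩ := Ideal.mem_span_singleton'.mp hx
      show c * e * (1 - e) = 0
      rw [mul_assoc, he.mul_one_sub_self, mul_zero]) ∘ₗ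
      (Submodule.Quotient.restrictScalarsEquiv A (Ideal.span {e})).symm.toLinearMap
    refine Module.Projective.of_split sec q.toLinearMap (LinearMap.ext fun x => ?_)
    obtain ⟨y, rfl⟩ := Ideal.Quotient.mk_surjective x
    show q (y * (1 - e)) = Ideal.Quotient.mk _ y
    show Ideal.Quotient.mk _ (y * (1 - e)) = _
    rw [Ideal.Quotient.eq]
    exact Ideal.mem_span_singleton'.mpr ⟨-y, by ring⟩
  have : Module.Free A Be := Module.free_of_flat_of_isLocalRing
  let ξ : Be := q (Ideal.Quotient.mk _ X)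
  have hξ : ∀ p, aeval ξ p = q (Ideal.Quotient.mk (Ideal.span {F}) p) := fun p => by
    rw [aeval_algHom_apply, ← Ideal.Quotient.mkₐ_eq_mk A, aeval_algHom_apply, aeval_X_left_apply]
  let G := (Algebra.lmul A Be ξ).charpoly
  have hG : G.Monic := LinearMap.charpoly_monic _
  have hG0 : aeval ξ G = 0 := by
    have := LinearMap.aeval_self_charpoly (Algebra.lmul A Be ξ)
    rw [aeval_algHom_apply] at this
    exact (mul_one _).symm.trans (LinearMap.congr_fun this 1)
  let ψ : AdjoinRoot G →ₐ[A] Be := by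
    refine AdjoinRoot.liftAlgHom G (Algebra.ofId A Be) ξ ?_
    exact hG0
  have hψ : ∀ p, ψ (AdjoinRoot.mk G p) = q (Ideal.Quotient.mk _ p) := hξ
  have hψs : Function.Surjective ψ := fun x => by
    obtain ⟨y, rfl⟩ := Ideal.Quotient.mk_surjective x
    obtain ⟨p, rfl⟩ := Ideal.Quotient.mk_surjective y
    exact ⟨AdjoinRoot.mk G p, hψ p⟩
  have := hG.finite_adjoinRoot
  have := hG.free_adjoinRoot
  have hrank : Module.finrank A Be = Module.finrank A (AdjoinRoot G) := by
    rw [(AdjoinRoot.powerBasis' hG).finrank, AdjoinRoot.powerBasis'_dim,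
      LinearMap.charpoly_natDegree]
  have hψi : Function.Injective ψ := by
    let E := LinearEquiv.ofFinrankEq Be (AdjoinRoot G) hrank
    have := OrzechProperty.injective_of_surjective_endomorphism (E.toLinearMap ∘ₗ ψ.toLinearMap)
      (E.surjective.comp hψs)
    exact Function.Injective.of_comp this
  have hdvd : ∀ p, Ideal.Quotient.mk (Ideal.span {F}) p ∈ Ideal.span {e} → G ∣ p := fun p hp => by
    rw [← AdjoinRoot.mk_eq_zero]
    exact hψi (by rw [hψ, map_zero]; exact Ideal.Quotient.eq_zero_iff_mem.mpr hp)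
  refine ⟨G, hG, hdvd F (by simp [Ideal.Quotient.eq_zero_iff_mem.mpr (Ideal.mem_span_singleton_self F)]),
    le_antisymm ?_ ?_⟩
  · rw [Ideal.span_singleton_le_iff_mem, ← Ideal.Quotient.eq_zero_iff_mem]
    exact (hξ G).symm.trans hG0
  · rw [Ideal.span_singleton_le_iff_mem]
    obtain ⟨p, rfl⟩ := Ideal.Quotient.mk_surjective e
    obtain ⟨c, hc⟩ := hdvd p (Ideal.mem_span_singleton_self _)
    rw [hc, map_mul]
    exact Ideal.mul_mem_right _ _ (Ideal.mem_span_singleton_self _)

/-- Idempotents of `A[X]/(F)` come from coprime monic factorisations of `F`. -/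
theorem exists_monic_factors_of_isIdempotentElem {F : A[X]} (hF : F.Monic)
    {e : A[X] ⧸ Ideal.span {F}} (he : IsIdempotentElem e) :
    ∃ G H : A[X], G.Monic ∧ H.Monic ∧ IsCoprime G H ∧ G * H = F ∧
      Ideal.span {Ideal.Quotient.mk (Ideal.span {F}) G} = Ideal.span {e} ∧
      Ideal.span {Ideal.Quotient.mk (Ideal.span {F}) H} = Ideal.span {1 - e} := by
  obtain ⟨G, hG, hGF, hGe⟩ := exists_monic_span_mk_eq hF he
  obtain ⟨H, hH, hHF, hHe⟩ := exists_monic_span_mk_eq hF he.one_sub
  obtain ⟨a, ha⟩ := Ideal.mem_span_singleton'.mp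
    (hGe.ge (Ideal.mem_span_singleton_self e))
  obtain ⟨b, hb⟩ := Ideal.mem_span_singleton'.mp
    (hHe.ge (Ideal.mem_span_singleton_self (1 - e)))
  obtain ⟨a, rfl⟩ := Ideal.Quotient.mk_surjective a
  obtain ⟨b, rfl⟩ := Ideal.Quotient.mk_surjective b
  have hsum : a * G + b * H - 1 ∈ Ideal.span {F} := by
    rw [← Ideal.Quotient.eq_zero_iff_mem, map_sub, map_add, map_mul, map_mul, ha, hb, map_one]
    ring
  obtain ⟨c, hc⟩ := Ideal.mem_span_singleton'.mp hsum
  obtain ⟨d, hd⟩ := hGF
  have hcop : IsCoprime G H := ⟨a - c * d, b, by linear_combination -hc + c * hd⟩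
  refine ⟨G, H, hG, hH, hcop, ?_, hGe, hHe⟩
  suffices h : F ∣ G * H by
    obtain ⟨k, hk⟩ := h
    have hk0 : k ≠ 0 := fun h0 => (hG.mul hH).ne_zero (by rw [hk, h0, mul_zero])
    refine (eq_of_monic_of_dvd_of_natDegree_le (hG.mul hH) hF (hcop.mul_dvd ⟨d, hd⟩ hHF) ?_).symm
    rw [hk, hF.natDegree_mul' hk0]
    omega
  rw [← Ideal.mem_span_singleton, ← Ideal.Quotient.eq_zero_iff_mem, map_mul]
  obtain ⟨u, hu⟩ := Ideal.mem_span_singleton'.mp
    (hGe.le (Ideal.mem_span_singleton_self (Ideal.Quotient.mk (Ideal.span {F}) G)))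
  obtain ⟨v, hv⟩ := Ideal.mem_span_singleton'.mp
    (hHe.le (Ideal.mem_span_singleton_self (Ideal.Quotient.mk (Ideal.span {F}) H)))
  rw [← hu, ← hv]
  linear_combination u * v * he.mul_one_sub_self

/-- A finite algebra monogenic modulo the maximal ideal is monogenic, with lifted equation. -/
theorem adjoin_eq_top_and_exists_monic {C : Type v} [CommRing C] [Algebra A C] [Module.Finite A C]
    {Q₀ : (ResidueField A)[X]} (hQ₀ : Q₀.Monic)
    (e : (C ⧸ Ideal.map (algebraMap A C) (maximalIdeal A)) ≃ₐ[A] AdjoinRoot Q₀) (x : C)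
    (hx : e (Ideal.Quotient.mk (Ideal.map (algebraMap A C) (maximalIdeal A)) x) = AdjoinRoot.root Q₀) :
    Algebra.adjoin A {x} = ⊤ ∧
      ∃ Q : A[X], Q.Monic ∧ Q.natDegree = Q₀.natDegree ∧
        Q.map (residue A) = Q₀ ∧ aeval x Q = 0 := by
  have haev : ∀ p : A[X],
      e (Ideal.Quotient.mk _ (aeval x p)) = AdjoinRoot.mk Q₀ (p.map (residue A)) := by
    intro p
    rw [← Ideal.Quotient.mkₐ_eq_mk A, ← AlgEquiv.coe_toAlgHom, ← AlgHom.comp_apply,
      ← aeval_algHom_apply, AlgHom.comp_apply, AlgEquiv.coe_toAlgHom, Ideal.Quotient.mkₐ_eq_mk, hx,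
      ← aeval_map_algebraMap (ResidueField A), AdjoinRoot.aeval_eq]
    rfl
  set n := Q₀.natDegree
  let M : Submodule A C := (degreeLT A n).map (aeval x).toLinearMap
  have hM : M = ⊤ := by
    refine eq_top_iff.mpr (Submodule.le_of_le_smul_of_le_jacobson_bot Module.Finite.fg_top
      (IsLocalRing.maximalIdeal_le_jacobson ⊥) ?_)
    intro c _
    obtain ⟨p, hp⟩ := AdjoinRoot.mk_surjective (e (Ideal.Quotient.mk _ c))
    obtain ⟨p', hp', hdeg⟩ := exists_degree_eq_of_mem_lifts
      (map_surjective (residue A) residue_surjective (p %ₘ Q₀) : p %ₘ Q₀ ∈ lifts (residue A))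
    rw [← add_sub_cancel (aeval x p') c]
    refine Submodule.add_mem_sup (Submodule.mem_map_of_mem (mem_degreeLT.mpr ?_)) ?_
    · rw [hdeg]
      exact (degree_modByMonic_lt p hQ₀).trans_le degree_le_natDegree
    · rw [Ideal.smul_top_eq_map, Submodule.restrictScalars_mem, ← Ideal.Quotient.eq]
      refine e.injective ?_
      rw [haev, hp', ← hp, AdjoinRoot.mk_eq_mk]
      exact ⟨p /ₘ Q₀, by linear_combination -(modByMonic_add_div p Q₀)⟩
  refine ⟨eq_top_iff.mpr fun c _ => ?_, ?_⟩
  · obtain ⟨p, -, rfl⟩ := (hM ▸ Submodule.mem_top : c ∈ M)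
    exact aeval_mem_adjoin_singleton A x
  · obtain ⟨p, hp, hpx⟩ := (hM ▸ Submodule.mem_top : x ^ n ∈ M)
    rw [SetLike.mem_coe, mem_degreeLT] at hp
    have hQ : (X ^ n - p).Monic := monic_X_pow_sub hp
    have hdeg : (X ^ n - p).natDegree = n := by
      rw [natDegree_eq_of_degree_eq_some]
      rw [degree_sub_eq_left_of_degree_lt (by rw [degree_X_pow]; exact hp), degree_X_pow]
    have h0 : aeval x (X ^ n - p) = 0 := by
      rw [map_sub, map_pow, aeval_X]
      exact sub_eq_zero.mpr hpx.symm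
    refine ⟨X ^ n - p, hQ, hdeg, ?_, h0⟩
    refine eq_of_monic_of_dvd_of_natDegree_le hQ₀ (hQ.map _) ?_ ?_
    · rw [← AdjoinRoot.mk_eq_zero, ← haev, h0, map_zero, map_zero]
    · rw [hQ.natDegree_map, hdeg]

end Groth.Agent.Lib.Henselian.PolyLocal
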