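import Groth.Agent.Lib.Henselian.Smooth
import Groth.Agent.Lib.Henselian.EtaleHom
import Groth.Agent.Lib.Henselian.PolyLocal
import Groth.Agent.Lib.Henselian.LocalRing
import Mathlib.RingTheory.Etale.StandardEtale
import Mathlib.AlgebraicGeometry.Morphisms.Etale

/-!
# Sections of smooth and étale morphisms over henselian local rings

* `exists_section_of_smooth`: points of the closed fibre lift to sections
* `exists_section_through`: through every closed-fibre point of an étale scheme over a strictly
  henselian ring passes a section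
* `etale_adjoinRoot`: `A[X]/(f)` is étale when `f, f'` are coprime
* `henselian_and_sepClosed_iff`: the characterisation of strict henselianity by sections
-/

universe u

open CategoryTheory AlgebraicGeometry IsLocalRing TensorProduct

namespace Groth.Agent.Lib.Henselian.Sections

variable {A : Type u} [CommRing A]

/-- An affine chart at a point with its ring map. -/
theorem exists_chart {X : Scheme.{u}} (f : X ⟶ Spec (CommRingCat.of A)) (x : X) :
    ∃ (S : CommRingCat.{u}) (φ : CommRingCat.of A ⟶ S) (j : Spec S ⟶ X),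
      IsOpenImmersion j ∧ x ∈ Set.range j.base ∧ j ≫ f = Spec.map φ := by
  obtain ⟨U, hU, hx, -⟩ := exists_isAffineOpen_mem_and_subset (x := x) (U := ⊤) trivial
  refine ⟨Γ(X, U), Spec.preimage (hU.fromSpec ≫ f), hU.fromSpec, inferInstance, ?_, ?_⟩
  · rw [hU.range_fromSpec]
    exact hx
  · rw [Spec.map_preimage]

/-- Points of the closed fibre of a smooth scheme over a henselian local ring lift to sections. -/
theorem exists_section_of_smooth [HenselianLocalRing A] {X : Scheme.{u}}
    (f : X ⟶ Spec (CommRingCat.of A)) [Smooth f]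
    (u₀ : Spec (CommRingCat.of (ResidueField A)) ⟶ X)
    (h₀ : u₀ ≫ f = Spec.map (CommRingCat.ofHom (residue A))) :
    ∃ u : Spec (CommRingCat.of A) ⟶ X, u ≫ f = 𝟙 _ ∧
      Spec.map (CommRingCat.ofHom (residue A)) ≫ u = u₀ := by
  obtain ⟨S, φ, j, hj, hx, hjf⟩ := exists_chart f (u₀.base (closedPoint _))
  let : Algebra A S := φ.hom.toAlgebra
  have hS : Algebra.Smooth A S := by
    have h : Smooth (j ≫ f) := inferInstance
    rw [hjf, HasRingHomProperty.Spec_iff (P := @Smooth)] at h
    exact h
  have hrange : Set.range u₀.base ⊆ Set.range j.base := by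
    rintro _ ⟨z, rfl⟩
    rwa [Subsingleton.elim z (closedPoint _)]
  obtain ⟨ψ, hψ⟩ : ∃ ψ : S ⟶ CommRingCat.of (ResidueField A), Spec.map ψ ≫ j = u₀ :=
    ⟨Spec.preimage (IsOpenImmersion.lift j u₀ hrange), by simp⟩
  have hψφ : φ ≫ ψ = CommRingCat.ofHom (residue A) := Spec.map_injective (by
    rw [Spec.map_comp, ← hjf, ← Category.assoc, hψ, h₀])
  let σ : S →ₐ[A] A ⧸ maximalIdeal A :=
    { (ψ.hom : S →+* A ⧸ maximalIdeal A) with
      commutes' := fun a => congrArg (fun g : CommRingCat.of A ⟶ _ => g.hom a) hψφ }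
  obtain ⟨τ, hτ⟩ := Smooth.exists_algHom_lift_smooth (maximalIdeal A) σ
  have hτ' : CommRingCat.ofHom τ.toRingHom ≫ CommRingCat.ofHom (residue A) = ψ :=
    CommRingCat.hom_ext (RingHom.ext fun x => AlgHom.congr_fun hτ x)
  refine ⟨Spec.map (CommRingCat.ofHom τ.toRingHom) ≫ j, ?_, ?_⟩
  · rw [Category.assoc, hjf, ← Spec.map_comp]
    rw [show φ ≫ CommRingCat.ofHom τ.toRingHom = 𝟙 _ from
      CommRingCat.hom_ext (RingHom.ext fun a => τ.commutes a), Spec.map_id]
  · rw [← Category.assoc, ← Spec.map_comp, hτ', hψ]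

/-- Over a strictly henselian local ring a section passes through every closed-fibre point of an
étale scheme. -/
theorem exists_section_through [HenselianLocalRing A] [IsSepClosed (ResidueField A)]
    {X : Scheme.{u}} (f : X ⟶ Spec (CommRingCat.of A)) [Etale f] (x : X)
    (hx : f.base x = closedPoint A) :
    ∃ u : Spec (CommRingCat.of A) ⟶ X, u ≫ f = 𝟙 _ ∧ u.base (closedPoint A) = x := by
  obtain ⟨S, φ, j, hj, ⟨q, rfl⟩, hjf⟩ := exists_chart f x
  let : Algebra A S := φ.hom.toAlgebra
  have hS : Algebra.Etale A S := by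
    have h : Etale (j ≫ f) := inferInstance
    rw [hjf, HasRingHomProperty.Spec_iff (P := @Etale)] at h
    exact h
  have hq : q.asIdeal.comap (algebraMap A S) = maximalIdeal A := by
    have := congrArg PrimeSpectrum.asIdeal hx
    rwa [← Scheme.Hom.comp_apply, hjf] at this
  have : q.asIdeal.IsPrime := (show PrimeSpectrum S from q).isPrime
  let k := ResidueField A
  let K := q.asIdeal.ResidueField
  have hker : ∀ a ∈ maximalIdeal A, algebraMap A K a = 0 := fun a ha => by
    rw [IsScalarTower.algebraMap_apply A S K, Ideal.algebraMap_residueField_eq_zero]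
    exact Ideal.mem_comap.mp (hq.ge ha)
  let : Algebra k K := (Ideal.Quotient.lift (maximalIdeal A) (algebraMap A K) hker).toAlgebra
  have : IsScalarTower A k K := IsScalarTower.of_algebraMap_eq fun _ => rfl
  let σ₀ : k ⊗[A] S →ₐ[k] K :=
    Algebra.TensorProduct.lift (Algebra.ofId k K) (IsScalarTower.toAlgHom A S K) fun _ _ => .all _ _
  have hsurj : Function.Surjective (algebraMap k K) := by
    intro z
    obtain ⟨a, b, hb, rfl⟩ := IsFractionRing.div_surjective (A := S ⧸ q.asIdeal) z
    obtain ⟨a, rfl⟩ := Ideal.Quotient.mk_surjective a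
    obtain ⟨b, rfl⟩ := Ideal.Quotient.mk_surjective b
    obtain ⟨c, hc⟩ := EtaleHom.mem_range_of_isSepClosed σ₀ (1 ⊗ₜ a)
    obtain ⟨d, hd⟩ := EtaleHom.mem_range_of_isSepClosed σ₀ (1 ⊗ₜ b)
    refine ⟨c / d, ?_⟩
    rw [map_div₀, hc, hd]
    simp [σ₀]
    rfl
  let e : k ≃ₐ[A] K := AlgEquiv.ofBijective (IsScalarTower.toAlgHom A k K)
    ⟨(algebraMap k K).injective, hsurj⟩
  let σ : S →ₐ[A] k := e.symm.toAlgHom.comp (IsScalarTower.toAlgHom A S K)
  have hσ : ∀ s, σ s = 0 ↔ s ∈ q.asIdeal := fun s => by
    rw [← Ideal.algebraMap_residueField_eq_zero]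
    exact e.symm.map_eq_zero_iff
  obtain ⟨u, hu, hu'⟩ := exists_section_of_smooth f
    (Spec.map (CommRingCat.ofHom σ.toRingHom) ≫ j) (by
      rw [Category.assoc, hjf, ← Spec.map_comp]
      congr 1
      exact CommRingCat.hom_ext (RingHom.ext σ.commutes))
  refine ⟨u, hu, ?_⟩
  have h := congrArg (fun g : Spec (CommRingCat.of k) ⟶ X => g.base (closedPoint k)) hu'
  replace h : u.base ((Spec.map (CommRingCat.ofHom (residue A))).base (closedPoint k)) =
      j.base ((Spec.map (CommRingCat.ofHom σ.toRingHom)).base (closedPoint k)) := h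
  have hcl : (Spec.map (CommRingCat.ofHom (residue A))).base (closedPoint k) = closedPoint A :=
    PrimeSpectrum.ext (by
      show (maximalIdeal k).comap (residue A) = maximalIdeal A
      rw [IsLocalRing.maximalIdeal_eq_bot, ← RingHom.ker_eq_comap_bot, ker_residue])
  rw [hcl] at h
  rw [h]
  congr 1
  exact PrimeSpectrum.ext (by
    ext s
    show σ s ∈ maximalIdeal k ↔ _
    rw [IsLocalRing.maximalIdeal_eq_bot, Ideal.mem_bot, hσ])

/-- `A[X]/(f)` is étale when `f` is monic and coprime to its derivative. -/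
theorem etale_adjoinRoot {f : Polynomial A} (hf : f.Monic)
    (h : IsCoprime f (Polynomial.derivative f)) : Algebra.Etale A (AdjoinRoot f) := by
  obtain ⟨a, b, hab⟩ := h
  let P : StandardEtalePair A := ⟨f, hf, 1, b, a, 1, by linear_combination hab⟩
  have : IsLocalization.Away (AdjoinRoot.mk P.f P.g) (AdjoinRoot P.f) :=
    IsLocalization.away_of_isUnit_of_bijective (AdjoinRoot P.f) (by simp [P]) Function.bijective_id
  exact Algebra.Etale.of_equiv (P.equivAwayAdjoinRoot.trans
    ((IsLocalization.algEquiv (Submonoid.powers (AdjoinRoot.mk P.f P.g)) _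
      (AdjoinRoot P.f)).restrictScalars A))

/-- A local ring is strictly henselian iff sections pass through all closed-fibre points of étale
schemes over it. -/
theorem henselian_and_sepClosed_iff [IsLocalRing A] :
    (HenselianLocalRing A ∧ IsSepClosed (ResidueField A)) ↔
      ∀ (X : Scheme.{u}) (f : X ⟶ Spec (CommRingCat.of A)), Etale f →
        ∀ x : X, f.base x = closedPoint A →
          ∃ u : Spec (CommRingCat.of A) ⟶ X, u ≫ f = 𝟙 _ ∧ u.base (closedPoint A) = x := by
  refine ⟨fun ⟨_, _⟩ X f _ x hx => exists_section_through f x hx, fun h => ?_⟩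
  have key : ∀ (B : Type u) [CommRing B] [Algebra A B] [Algebra.Etale A B] (q : Ideal B)
      [q.IsPrime], q.comap (algebraMap A B) = maximalIdeal A →
      ∃ τ : B →ₐ[A] A, ∀ b, τ b ∈ maximalIdeal A ↔ b ∈ q := by
    intro B _ _ _ q hqp hq
    obtain ⟨u, hu, hu'⟩ := h (Spec (CommRingCat.of B))
      (Spec.map (CommRingCat.ofHom (algebraMap A B)))
      ((HasRingHomProperty.Spec_iff (P := @Etale)).mpr
        (RingHom.etale_algebraMap.mpr ‹_›))
      ⟨q, hqp⟩ (PrimeSpectrum.ext hq)
    obtain ⟨ψ, rfl⟩ := Spec.map_surjective u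
    rw [← Spec.map_comp, ← Spec.map_id] at hu
    have hc := Spec.map_injective hu
    exact ⟨{ ψ.hom with commutes' := fun a => congrArg (fun g : CommRingCat.of A ⟶ _ => g.hom a) hc },
      fun b => SetLike.ext_iff.mp (congrArg PrimeSpectrum.asIdeal hu') b⟩
  have hH : HenselianRing A (maximalIdeal A) :=
    Etale.henselianRing_of_algHom_lift (maximalIdeal A) fun B _ _ _ σ => by
      have hσA : ∀ a, σ (algebraMap A B a) = Ideal.Quotient.mk _ a := σ.commutes
      have hq : (RingHom.ker σ.toRingHom).comap (algebraMap A B) = maximalIdeal A := by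
        ext a
        show σ (algebraMap A B a) = 0 ↔ _
        rw [hσA, Ideal.Quotient.eq_zero_iff_mem]
      have : IsDomain (A ⧸ maximalIdeal A) := inferInstance
      have : (RingHom.ker σ.toRingHom).IsPrime := RingHom.ker_isPrime _
      obtain ⟨τ, hτ⟩ := key B _ hq
      refine ⟨τ, AlgHom.ext fun b => ?_⟩
      obtain ⟨c, hc⟩ := Ideal.Quotient.mk_surjective (σ b)
      have hb : b - algebraMap A B c ∈ RingHom.ker σ.toRingHom := by
        show σ (b - algebraMap A B c) = 0
        rw [map_sub, hσA, hc, sub_self]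
      have := (hτ _).mpr hb
      rw [map_sub, τ.commutes, Algebra.algebraMap_self, RingHom.id_apply, ← Ideal.Quotient.eq] at this
      exact this.trans hc
  refine ⟨LocalRing.henselianLocalRing_of_henselianRing, IsSepClosed.of_exists_root _ fun p hp hirr hsep => ?_⟩
  obtain ⟨f, hfmap, -, hf⟩ := Polynomial.lifts_and_degree_eq_and_monic
    (Polynomial.map_surjective _ residue_surjective p : p ∈ Polynomial.lifts (residue A)) hp
  have hcop : IsCoprime f (Polynomial.derivative f) := PolyLocal.isCoprime_of_map_residue hf (by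
    rw [← Polynomial.derivative_map, hfmap]
    exact hsep)
  have := etale_adjoinRoot hf hcop
  have := hf.finite_adjoinRoot
  have : Nontrivial (AdjoinRoot f) := by
    refine ⟨1, 0, fun h1 => ?_⟩
    rw [← map_one (AdjoinRoot.mk f), AdjoinRoot.mk_eq_zero] at h1
    refine hf.not_dvd_of_degree_lt one_ne_zero ?_ h1
    rw [Polynomial.degree_one, ← hf.degree_map (residue A), hfmap]
    exact hirr.degree_pos
  obtain ⟨M, hM⟩ := Ideal.exists_maximal (AdjoinRoot f)
  have hMA : M.comap (algebraMap A (AdjoinRoot f)) = maximalIdeal A :=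
    eq_maximalIdeal (Ideal.isMaximal_comap_of_isIntegral_of_isMaximal M)
  obtain ⟨τ, -⟩ := key (AdjoinRoot f) M hMA
  refine ⟨residue A (τ (AdjoinRoot.root f)), ?_⟩
  rw [← hfmap, Polynomial.eval_map, Polynomial.eval₂_at_apply]
  have := Polynomial.aeval_algHom_apply τ (AdjoinRoot.root f) f
  rw [AdjoinRoot.aeval_eq, AdjoinRoot.mk_self, map_zero] at this
  rw [← Polynomial.coe_aeval_eq_eval, this, map_zero]

end Groth.Agent.Lib.Henselian.Sections
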