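import Mathlib
import Groth.Agent.Lib.Henselian.Roots
import Groth.Agent.Lib.Henselian.LocalRing

/-!
# Isomorphism of integral closures is detected modulo a high power of the uniformizer
-/

universe u

open Polynomial IsLocalRing

set_option linter.style.haveILetI false

namespace Groth.Agent.Lib.Henselian.KrasnerDVR

/-- A surjection of finite free modules modulo a nilpotent-direction ideal lifts. -/
theorem finrank_le {A : Type u} [CommRing A] [IsLocalRing A] [IsDomain A]
    {B C : Type u} [CommRing B] [Algebra A B] [CommRing C] [Algebra A C]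
    [Module.Finite A B] [Module.Free A B] [Module.Finite A C] [Module.Free A C]
    (a : A) (ha : a ∈ maximalIdeal A)
    (e : (B ⧸ Ideal.span {algebraMap A B a}) →ₐ[A] (C ⧸ Ideal.span {algebraMap A C a}))
    (he : Function.Surjective e) : Module.finrank A C ≤ Module.finrank A B := by
  let q := (Ideal.Quotient.mkₐ A (Ideal.span {algebraMap A C a})).toLinearMap
  have hq : Function.Surjective q := Ideal.Quotient.mk_surjective
  obtain ⟨ψ, hψ⟩ := Module.projective_lifting_property q
    (e.toLinearMap ∘ₗ (Ideal.Quotient.mkₐ A (Ideal.span {algebraMap A B a})).toLinearMap) hq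
  refine LinearMap.finrank_le_finrank_of_surjective (f := ψ) ?_
  rw [← LinearMap.range_eq_top]
  refine top_le_iff.1 (Submodule.le_of_le_smul_of_le_jacobson_bot Module.Finite.fg_top
    (maximalIdeal_le_jacobson ⊥) ?_)
  intro c _
  obtain ⟨x, hx⟩ := he (Ideal.Quotient.mk _ c)
  obtain ⟨b, rfl⟩ := Ideal.Quotient.mk_surjective x
  refine Submodule.mem_sup.2 ⟨ψ b, ⟨b, rfl⟩, c - ψ b, ?_, add_sub_cancel _ _⟩
  have h : Ideal.Quotient.mk (Ideal.span {algebraMap A C a}) (c - ψ b) = 0 := by
    rw [map_sub, sub_eq_zero, ← hx]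
    exact (LinearMap.congr_fun hψ b).symm
  obtain ⟨z, hz⟩ := Ideal.mem_span_singleton'.1 (Ideal.Quotient.eq_zero_iff_mem.1 h)
  rw [← hz, mul_comm, ← Algebra.smul_def]
  exact Submodule.smul_mem_smul ha trivial

/-- A Newton approximation lemma. -/
theorem exists_root_near {C : Type u} [CommRing C] [HenselianLocalRing C] (f : C[X]) (c ε : C)
    (hε : ε ∈ maximalIdeal C)
    (hc : f.eval c = f.derivative.eval c ^ 2 * ε) : ∃ r, f.eval r = 0 := by
  set e := f.derivative.eval c
  set q := taylor c f with hq
  let G := q.divX.divX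
  let h : C[X] := Polynomial.C ε + X + X ^ 2 * G.comp (Polynomial.C e * X)
  have hq0 : q.coeff 0 = e ^ 2 * ε := by rw [hq, taylor_coeff_zero, hc]
  have hq1 : q.coeff 1 = e := by rw [hq, taylor_coeff_one]
  have hsplit : q = Polynomial.C (q.coeff 0) + X * Polynomial.C (q.coeff 1) + X ^ 2 * G := by
    conv_lhs => rw [← X_mul_divX_add q, ← X_mul_divX_add q.divX, coeff_divX]
    simp only [G]
    ring
  haveI : HenselianRing C (maximalIdeal C) := inferInstance
  obtain ⟨y, hy, -⟩ := Roots.exists_root_lift (maximalIdeal C) h (a₀ := 0)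
    (by simp only [h, eval_add, eval_C, eval_X, eval_mul, eval_pow]; simpa using hε)
    (by simp [h])
  refine ⟨c + e * y, ?_⟩
  have hy' : ε + y + y ^ 2 * G.eval (e * y) = 0 := by
    simpa only [h, IsRoot, eval_add, eval_C, eval_X, eval_mul, eval_pow, eval_comp] using hy
  have : q.eval (e * y) = f.eval (c + e * y) := by
    rw [hq, taylor_eval, add_comm]
  rw [← this, hsplit, hq0, hq1]
  simp only [eval_add, eval_mul, eval_pow, eval_X, eval_C]
  linear_combination e ^ 2 * hy'

variable (A : Type u) [CommRing A] [IsDomain A] [IsDiscreteValuationRing A]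
    [IsAdicComplete (IsLocalRing.maximalIdeal A) A] (ϖ : A) (hϖ : Irreducible ϖ)
    (K : Type u) [Field K] [Algebra A K] [IsFractionRing A K]
    (L : Type u) [Field L] [Algebra K L] [Algebra A L] [IsScalarTower A K L]
    [FiniteDimensional K L] [Algebra.IsSeparable K L]
    (B : Type u) [CommRing B] [Algebra A B] [Algebra B L] [IsScalarTower A B L]
    [IsIntegralClosure B A L]

include ϖ hϖ K L in
theorem exists_bound : ∃ d : ℕ, ∀ (C : Type u) [CommRing C] [IsDomain C] [IsDiscreteValuationRing C]
    [Algebra A C] [Module.Finite A C] (m : ℕ), 2 * d + 1 < m →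
    Nonempty ((B ⧸ Ideal.span {algebraMap A B (ϖ ^ m)}) ≃ₐ[A]
      (C ⧸ Ideal.span {algebraMap A C (ϖ ^ m)})) → Nonempty (B ≃ₐ[A] C) := by
  classical
  have hinjBL : Function.Injective (algebraMap B L) := IsIntegralClosure.algebraMap_injective B A L
  haveI : IsDomain B := hinjBL.isDomain _
  have hinjAB : Function.Injective (algebraMap A B) := fun x y h => IsFractionRing.injective A K
    ((algebraMap K L).injective (by
      rw [← IsScalarTower.algebraMap_apply, ← IsScalarTower.algebraMap_apply,
        IsScalarTower.algebraMap_apply A B L, h, ← IsScalarTower.algebraMap_apply A B L]))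
  haveI : Module.Finite A B := IsIntegralClosure.finite A K L B
  haveI : FaithfulSMul A B := (faithfulSMul_iff_algebraMap_injective A B).2 hinjAB
  haveI : Module.Free A B := Module.free_of_finite_type_torsion_free'
  -- an integral primitive element
  obtain ⟨α, hα⟩ := Field.exists_primitive_element K L
  haveI : Algebra.IsAlgebraic A L := (IsFractionRing.comap_isAlgebraic_iff (A := A) (K := K)).2 inferInstance
  obtain ⟨y, hy0, hy⟩ := (Algebra.IsAlgebraic.isAlgebraic (R := A) α).exists_integral_multiple
  obtain ⟨θ, hθ⟩ := (IsIntegralClosure.isIntegral_iff (A := B)).1 hy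
  have htop : IntermediateField.adjoin K {algebraMap B L θ} = ⊤ := by
    rw [eq_top_iff, ← hα, IntermediateField.adjoin_simple_le_iff]
    have hy' : algebraMap A K y ≠ 0 := fun h => hy0 (IsFractionRing.injective A K (h.trans (map_zero _).symm))
    have : α = (algebraMap A K y)⁻¹ • algebraMap B L θ := by
      rw [hθ, ← IsScalarTower.algebraMap_smul K y α, smul_smul, inv_mul_cancel₀ hy', one_smul]
    rw [this]
    exact IntermediateField.smul_mem _ (IntermediateField.mem_adjoin_simple_self K _)
  have hθint : IsIntegral A θ := Algebra.IsIntegral.isIntegral θ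
  set f := minpoly A θ
  have hfK : minpoly K (algebraMap B L θ) = f.map (algebraMap A K) :=
    minpoly.isIntegrallyClosed_eq_field_fractions K L hθint
  have hder : aeval θ (derivative f) ≠ 0 := by
    intro h
    apply (Algebra.IsSeparable.isSeparable K (algebraMap B L θ)).aeval_derivative_ne_zero
      (minpoly.aeval (A := K) (algebraMap B L θ))
    rw [hfK, derivative_map, aeval_map_algebraMap, aeval_algebraMap_apply, h, map_zero]
  obtain ⟨a, ha0, hadvd⟩ := (Algebra.IsAlgebraic.isAlgebraic (R := A) (aeval θ (derivative f))).exists_nonzero_dvd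
    (mem_nonZeroDivisors_of_ne_zero hder)
  obtain ⟨d, v, hv⟩ := IsDiscreteValuationRing.eq_unit_mul_pow_irreducible ha0 hϖ
  have hdvd : aeval θ (derivative f) ∣ algebraMap A B (ϖ ^ d) := by
    rw [hv, map_mul] at hadvd
    exact ((v.map (algebraMap A B : A →* B)).isUnit.dvd_mul_left).1 hadvd
  obtain ⟨b, hb⟩ := hdvd
  refine ⟨d, fun C _ _ _ _ _ m hm ⟨e⟩ => ?_⟩
  -- basic facts on `C`
  have hinjAC : Function.Injective (algebraMap A C) := by
    rw [RingHom.injective_iff_ker_eq_bot]
    by_contra hne
    have hmax : (RingHom.ker (algebraMap A C)).IsMaximal :=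
      Ideal.IsPrime.isMaximal (RingHom.ker_isPrime _) hne
    haveI := hmax
    let k := A ⧸ RingHom.ker (algebraMap A C)
    letI : Field k := Ideal.Quotient.field _
    letI : Algebra k C := (RingHom.kerLift (algebraMap A C)).toAlgebra
    haveI : IsScalarTower A k C := IsScalarTower.of_algebraMap_eq fun x => rfl
    haveI : Module.Finite k C := Module.Finite.of_restrictScalars_finite A k C
    exact IsDiscreteValuationRing.not_isField C
      (isField_of_isIntegral_of_isField' (R := k) (Field.toIsField k))
  haveI : FaithfulSMul A C := (faithfulSMul_iff_algebraMap_injective A C).2 hinjAC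
  haveI : Module.Free A C := Module.free_of_finite_type_torsion_free'
  haveI : HenselianLocalRing A := LocalRing.henselianLocalRing_of_henselianRing
  haveI : HenselianLocalRing C := LocalRing.henselianLocalRing_of_isIntegral A C
  have hϖC : algebraMap A C ϖ ∈ maximalIdeal C := by
    rw [mem_maximalIdeal, mem_nonunits_iff]
    intro hu
    exact hϖ.not_isUnit (Algebra.IsIntegral.isLocalHom (R := A) (S := C) |>.map_nonunit _ hu)
  -- a root of `f` in `C`
  obtain ⟨c, hc⟩ := Ideal.Quotient.mk_surjective (e (Ideal.Quotient.mk _ θ))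
  obtain ⟨b', hb'⟩ := Ideal.Quotient.mk_surjective (e (Ideal.Quotient.mk _ b))
  have hmk : ∀ (p : A[X]), Ideal.Quotient.mk (Ideal.span {algebraMap A C (ϖ ^ m)}) (aeval c p) =
      e (Ideal.Quotient.mk _ (aeval θ p)) := fun p => by
    rw [← Ideal.Quotient.mkₐ_eq_mk A, ← aeval_algHom_apply, Ideal.Quotient.mkₐ_eq_mk, hc,
      ← Ideal.Quotient.mkₐ_eq_mk A, ← aeval_algHom_apply, Ideal.Quotient.mkₐ_eq_mk,
      ← aeval_algHom_apply]
  obtain ⟨z, hz⟩ := Ideal.mem_span_singleton'.1 (Ideal.Quotient.eq_zero_iff_mem.1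
    (show Ideal.Quotient.mk (Ideal.span {algebraMap A C (ϖ ^ m)}) (aeval c f) = 0 by
      rw [hmk, minpoly.aeval, map_zero, map_zero]))
  obtain ⟨z', hz'⟩ := Ideal.mem_span_singleton'.1 (Ideal.Quotient.eq_zero_iff_mem.1
    (show Ideal.Quotient.mk (Ideal.span {algebraMap A C (ϖ ^ m)})
        (aeval c (derivative f) * b' - algebraMap A C (ϖ ^ d)) = 0 by
      rw [map_sub, map_mul, hmk, hb', ← map_mul, ← map_mul, ← hb, Ideal.Quotient.mk_algebraMap,
        AlgEquiv.commutes, Ideal.Quotient.mk_algebraMap, sub_self]))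
  set P := algebraMap A C ϖ with hP
  obtain ⟨k, rfl⟩ : ∃ k, m = 2 * d + 2 + k := ⟨m - (2 * d + 2), by omega⟩
  obtain ⟨w, hw⟩ : ∃ w, P ^ d = aeval c (derivative f) * w := by
    obtain ⟨U, hU⟩ : IsUnit (1 + z' * P ^ (d + 2 + k)) := by
      by_contra h
      exact Ideal.IsMaximal.ne_top (maximalIdeal.isMaximal C) ((Ideal.eq_top_iff_one _).2 (by
        simpa using sub_mem ((mem_maximalIdeal _).2 h)
          (Ideal.mul_mem_left _ z' (Ideal.pow_mem_of_mem _ hϖC (d + 2 + k) (by omega)))))
    refine ⟨b' * ↑U⁻¹, ?_⟩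
    rw [map_pow, map_pow, ← hP] at hz'
    rw [← mul_assoc, Units.eq_mul_inv_iff_mul_eq, hU]
    linear_combination hz'
  obtain ⟨r, hr⟩ := exists_root_near (f.map (algebraMap A C)) c (z * w ^ 2 * P ^ (k + 2))
    (Ideal.mul_mem_left _ _ (Ideal.pow_mem_of_mem _ hϖC _ (by omega))) (by
      rw [eval_map_algebraMap, derivative_map, eval_map_algebraMap, ← hz, map_pow, ← hP]
      calc z * P ^ (2 * d + 2 + k) = z * P ^ (k + 2) * (P ^ d) ^ 2 := by ring
        _ = _ := by rw [hw]; ring)
  rw [eval_map_algebraMap] at hr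
  -- the induced field extension
  let Ω := FractionRing C
  have hinjAΩ : Function.Injective (algebraMap A Ω) := by
    rw [IsScalarTower.algebraMap_eq A C Ω]
    exact (IsFractionRing.injective C Ω).comp hinjAC
  letI : Algebra K Ω := (IsFractionRing.lift (K := K) hinjAΩ).toAlgebra
  haveI : IsScalarTower A K Ω :=
    IsScalarTower.of_algebraMap_eq fun x => (IsFractionRing.lift_algebraMap hinjAΩ x).symm
  let pb : PowerBasis K L := (IntermediateField.adjoin.powerBasis
    (Algebra.IsIntegral.isIntegral (R := K) (algebraMap B L θ))).map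
      ((IntermediateField.equivOfEq htop).trans IntermediateField.topEquiv)
  have hgen : pb.gen = algebraMap B L θ := rfl
  let φK : L →ₐ[K] Ω := pb.lift (algebraMap C Ω r) (by
    rw [hgen, hfK, aeval_map_algebraMap, aeval_algebraMap_apply, hr, map_zero])
  let φ : L →ₐ[A] Ω := φK.restrictScalars A
  haveI : IsIntegrallyClosed C := inferInstance
  haveI : IsIntegralClosure C A Ω := inferInstance
  let ψ : B →ₐ[A] C := (IsIntegralClosure.equiv A (integralClosure A Ω) Ω C).toAlgHom.comp
    ((φ.mapIntegralClosure).comp (IsIntegralClosure.equiv A B L (integralClosure A L)).toAlgHom)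
  have hψ : ∀ x, algebraMap C Ω (ψ x) = φ (algebraMap B L x) := fun x => by
    refine (IsIntegralClosure.algebraMap_equiv A (integralClosure A Ω) Ω C _).trans ?_
    exact congrArg φ (IsIntegralClosure.algebraMap_equiv A B L (integralClosure A L) x)
  have hψinj : Function.Injective ψ := fun x y h => hinjBL (φ.toRingHom.injective
    (((hψ x).symm.trans (congrArg (algebraMap C Ω) h)).trans (hψ y)))
  have hrank : Module.finrank A C ≤ Module.finrank A B :=
    finrank_le (ϖ ^ (2 * d + 2 + k))
      (Ideal.pow_mem_of_mem _ ((mem_maximalIdeal _).2 hϖ.not_isUnit) _ (by omega)) e.toAlgHom e.surjective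
  have hφsurj : Function.Surjective φ := by
    have hc : ∀ x : C, algebraMap C Ω x ∈ Set.range φ := by
      intro x
      have hR : Module.finrank A (LinearMap.range ψ.toLinearMap) = Module.finrank A B :=
        (LinearEquiv.ofInjective ψ.toLinearMap hψinj).symm.finrank_eq
      have htors : Module.IsTorsion A (C ⧸ LinearMap.range ψ.toLinearMap) := by
        rw [← Module.finrank_eq_zero_iff_isTorsion]
        have := Submodule.finrank_quotient_add_finrank (LinearMap.range ψ.toLinearMap)
        omega
      obtain ⟨⟨a, ha⟩, hax⟩ := @htors (Submodule.Quotient.mk x)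
      rw [Submonoid.mk_smul, ← Submodule.Quotient.mk_smul, Submodule.Quotient.mk_eq_zero] at hax
      obtain ⟨b, hb⟩ := hax
      refine ⟨(algebraMap A L a)⁻¹ * algebraMap B L b, ?_⟩
      rw [map_mul, map_inv₀, AlgHom.commutes, ← hψ]
      change _ * algebraMap C Ω (ψ.toLinearMap b) = _
      rw [hb, Algebra.smul_def, map_mul, ← IsScalarTower.algebraMap_apply, ← mul_assoc,
        inv_mul_cancel₀, one_mul]
      exact fun h => nonZeroDivisors.ne_zero ha (hinjAΩ (h.trans (map_zero _).symm))
    intro x
    obtain ⟨p, q, -, rfl⟩ := IsFractionRing.div_surjective (A := C) x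
    obtain ⟨p', hp'⟩ := hc p
    obtain ⟨q', hq'⟩ := hc q
    exact ⟨p' / q', by rw [map_div₀, hp', hq']⟩
  exact ⟨(IsIntegralClosure.equiv A B L (integralClosure A L)).trans
    ((AlgEquiv.ofBijective φ ⟨φ.toRingHom.injective, hφsurj⟩).mapIntegralClosure.trans
      (IsIntegralClosure.equiv A (integralClosure A Ω) Ω C))⟩

end Groth.Agent.Lib.Henselian.KrasnerDVR
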