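import Groth.Agent.Lib.IndEtale.Basic
import Groth.Agent.Lib.Henselian.IndEtale
import Groth.Prelude.Def_Found
import Groth.Agent.H18.Catenary
import Mathlib.RingTheory.Flat.FaithfullyFlat.Algebra
import Mathlib.RingTheory.Ideal.GoingDown
import Mathlib.RingTheory.QuasiFinite.Basic
import Mathlib.RingTheory.Polynomial.Basic
import Mathlib.RingTheory.TensorProduct.MvPolynomial

/-!
# Catenarity along ind-étale maps

* `eq_of_le_of_comap_eq`: fibres of ind-étale maps are discrete
* `isCatenary_of_isIndEtale`, `isUniversallyCatenary_of_isIndEtale`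
-/

universe u

open TensorProduct

namespace Groth.Agent.Lib.Henselian.Catenary

open Groth.Agent.Lib.IndEtale.Basic

variable {A B : Type u} [CommRing A] [CommRing B] [Algebra A B]

theorem eq_of_le_of_comap_eq (h : EtPBC.IsIndEtale A B) {P Q : Ideal B} [P.IsPrime] [Q.IsPrime]
    (hle : P ≤ Q) (hPQ : P.comap (algebraMap A B) = Q.comap (algebraMap A B)) : P = Q := by
  refine le_antisymm hle fun x hx => ?_
  obtain ⟨E, _, _, hE, v, hv⟩ := exists_lift (factors h) {x}
  obtain ⟨z, rfl⟩ := hv (Finset.mem_singleton_self x)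
  have := hE
  have h' := Algebra.QuasiFinite.eq_of_le_of_under_eq (R := A) (P.comap v.toRingHom)
    (Q.comap v.toRingHom) (Ideal.comap_mono hle) (by
      simp only [Ideal.comap_comap, AlgHom.toRingHom_eq_coe, AlgHom.comp_algebraMap]
      exact hPQ)
  exact (h'.ge hx :)

/-- Contraction along an ind-étale map, as a strictly monotone map on spectra. -/
theorem strictMono_comap (h : EtPBC.IsIndEtale A B) :
    StrictMono (PrimeSpectrum.comap (algebraMap A B)) := by
  intro P Q hPQ
  refine lt_of_le_of_ne (Ideal.comap_mono hPQ.le) fun he => hPQ.ne (PrimeSpectrum.ext ?_)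
  exact eq_of_le_of_comap_eq h hPQ.le (congrArg PrimeSpectrum.asIdeal he)

/-- An ind-étale Noetherian algebra over a ring all of whose étale algebras are catenary is catenary. -/
theorem isCatenary_of_isIndEtale [IsNoetherianRing B] (h : EtPBC.IsIndEtale A B)
    (hA : ∀ (E : Type u) [CommRing E] [Algebra A E], Algebra.Etale A E → CAlg.IsCatenary E) :
    CAlg.IsCatenary B := by
  classical
  refine ⟨fun p q hpq => ?_, fun s t hhead hlast hs ht => ?_⟩
  · obtain ⟨n, hn⟩ := (hA A inferInstance).1 (PrimeSpectrum.comap (algebraMap A B) p)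
      (PrimeSpectrum.comap (algebraMap A B) q) (Ideal.comap_mono hpq)
    refine ⟨n, fun c hc hc' => ?_⟩
    have := hn (c.map _ (strictMono_comap h)) (congrArg (PrimeSpectrum.comap (algebraMap A B)) hc)
      (congrArg (PrimeSpectrum.comap (algebraMap A B)) hc')
    exact this
  · choose g hg using fun P : PrimeSpectrum B => IsNoetherian.noetherian P.asIdeal
    obtain ⟨E, _, _, hE, v, hv⟩ := exists_lift (factors h)
      ((Finset.univ.biUnion fun i => g (s i)) ∪ Finset.univ.biUnion fun i => g (t i))
    let : Algebra E B := v.toRingHom.toAlgebra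
    have : IsScalarTower A E B := IsScalarTower.of_algebraMap_eq' v.comp_algebraMap.symm
    have hEB : EtPBC.IsIndEtale E B := cancel (B := E) (C := B) (of_etale (A := A) (B := E)) h
    have : Module.Flat E B := flat (factors hEB)
    have hgen : ∀ P : PrimeSpectrum B, (↑(g P) : Set B) ⊆ Set.range v →
        P.asIdeal = (P.asIdeal.comap (algebraMap E B)).map (algebraMap E B) := by
      intro P hP
      refine le_antisymm ?_ Ideal.map_comap_le
      conv_lhs => rw [← hg P]
      refine Ideal.span_le.mpr ?_
      intro x hx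
      obtain ⟨e, rfl⟩ := hP hx
      exact Ideal.mem_map_of_mem (algebraMap E B)
        (Ideal.mem_comap.mpr (hg P ▸ Ideal.subset_span hx : v e ∈ P.asIdeal))
    have hcov : ∀ P P' : PrimeSpectrum B, (↑(g P) : Set B) ⊆ Set.range v → P ⋖ P' →
        PrimeSpectrum.comap (algebraMap E B) P ⋖ PrimeSpectrum.comap (algebraMap E B) P' := by
      intro P P' hP hPP'
      refine ⟨strictMono_comap hEB hPP'.lt, fun r hr hr' => ?_⟩
      obtain ⟨Q, hQle, hQ, hQr⟩ := Ideal.exists_ideal_le_liesOver_of_le (p := r.asIdeal)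
        (q := P'.asIdeal.comap (algebraMap E B)) P'.asIdeal hr'.le
      have hPQ : P.asIdeal ≤ Q := by
        rw [hgen P hP, Ideal.map_le_iff_le_comap]
        exact (show P.asIdeal.comap (algebraMap E B) ≤ r.asIdeal from hr.le).trans hQr.over.le
      have h1 : P < (⟨Q, hQ⟩ : PrimeSpectrum B) := lt_of_le_of_ne hPQ fun he => hr.ne
        (PrimeSpectrum.ext ((congrArg (fun x : PrimeSpectrum B => x.asIdeal.comap (algebraMap E B)) he).trans hQr.over.symm))
      have h2 : (⟨Q, hQ⟩ : PrimeSpectrum B) < P' := lt_of_le_of_ne hQle fun he => hr'.ne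
        (PrimeSpectrum.ext (hQr.over.trans (congrArg (fun x : PrimeSpectrum B => x.asIdeal.comap (algebraMap E B)) he)))
      exact hPP'.2 h1 h2
    have hmap : ∀ c : LTSeries (PrimeSpectrum B), (∀ i, (↑(g (c i)) : Set B) ⊆ Set.range v) →
        (∀ i : Fin c.length, c (Fin.castSucc i) ⋖ c (Fin.succ i)) →
        ∀ i : Fin c.length, (c.map _ (strictMono_comap hEB)) (Fin.castSucc i) ⋖
          (c.map _ (strictMono_comap hEB)) (Fin.succ i) :=
      fun c hc hcv i => hcov _ _ (hc _) (hcv i)
    exact (hA E hE).2 (s.map _ (strictMono_comap hEB)) (t.map _ (strictMono_comap hEB))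
      (congrArg (PrimeSpectrum.comap (algebraMap E B)) hhead)
      (congrArg (PrimeSpectrum.comap (algebraMap E B)) hlast)
      (hmap s (fun i x hx => hv (Finset.mem_union_left _ (Finset.mem_biUnion.mpr ⟨i, Finset.mem_univ _, hx⟩))) hs)
      (hmap t (fun i x hx => hv (Finset.mem_union_right _ (Finset.mem_biUnion.mpr ⟨i, Finset.mem_univ _, hx⟩))) ht)

/-- Universal catenarity passes to Noetherian ind-étale algebras. -/
theorem isUniversallyCatenary_of_isIndEtale [IsNoetherianRing B] (h : EtPBC.IsIndEtale A B)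
    (hA : CAlg.IsUniversallyCatenary A) : CAlg.IsUniversallyCatenary B := by
  refine ⟨inferInstance, fun C _ _ hC => ?_⟩
  obtain ⟨n, π, hπ⟩ := Algebra.FiniteType.iff_quotient_mvPolynomial''.mp hC
  refine Groth.Agent.H18.Catenary.isCatenary_of_emb
    (Groth.Agent.H18.Catenary.isConvexEmb_of_surjective π.toRingHom hπ) ?_
  let : Algebra (MvPolynomial (Fin n) A) (MvPolynomial (Fin n) B) :=
    (MvPolynomial.map (algebraMap A B)).toAlgebra
  have hAB : EtPBC.IsIndEtale (MvPolynomial (Fin n) A) (MvPolynomial (Fin n) B) := by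
    have h2 := baseChange (MvPolynomial (Fin n) A) h
    refine of_algEquiv h2 (AlgEquiv.ofRingEquiv (f := ((Algebra.TensorProduct.comm A _ B).toRingEquiv.trans
      (MvPolynomial.algebraTensorAlgEquiv A B).toRingEquiv)) fun p => ?_)
    simp [RingHom.algebraMap_toAlgebra]
  refine isCatenary_of_isIndEtale hAB fun E _ _ _ => ?_
  let : Algebra A E := ((algebraMap (MvPolynomial (Fin n) A) E).comp (algebraMap A _)).toAlgebra
  have : IsScalarTower A (MvPolynomial (Fin n) A) E := IsScalarTower.of_algebraMap_eq' rfl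
  have : Algebra.FiniteType A E := Algebra.FiniteType.trans (R := A) (S := MvPolynomial (Fin n) A) (A := E) inferInstance inferInstance
  exact hA.2 E this

end Groth.Agent.Lib.Henselian.Catenary
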