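import Groth.Agent.Lib.Henselian.WeakAssEtale
import Groth.Agent.Lib.Henselian.Catenary
import Groth.Agent.Lib.IndEtale.Basic

/-!
# Weakly associated primes and finite flat, étale and ind-étale base change
-/

universe u

open IsLocalRing TensorProduct

set_option linter.style.haveILetI false

namespace Groth.Agent.Lib.Henselian.WeakAssBaseChange

open WeakAssEtale

attribute [local instance] Algebra.TensorProduct.rightAlgebra

variable {A B : Type u} [CommRing A] [CommRing B] [Algebra A B]

theorem annihilator_one_tmul_le [Module.Flat A B] {M : Type u} [AddCommGroup M] [Module A M] (x : M) :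
    (Submodule.span B {(1 : B) ⊗ₜ[A] x}).annihilator ≤
      (Submodule.span A {x}).annihilator.map (algebraMap A B) := by
  intro b hb
  rw [Submodule.mem_annihilator_span_singleton, TensorProduct.smul_tmul', smul_eq_mul, mul_one] at hb
  set I := (Submodule.span A {x}).annihilator with hI
  have hker : LinearMap.ker (LinearMap.toSpanSingleton A M x) = I := by
    ext a
    rw [LinearMap.mem_ker, hI, Submodule.mem_annihilator_span_singleton]
    rfl
  let l : (A ⧸ I) →ₗ[A] M := Submodule.liftQ I (LinearMap.toSpanSingleton A M x) hker.ge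
  have hl : Function.Injective l := LinearMap.ker_eq_bot.mp (Submodule.ker_liftQ_eq_bot _ _ _ hker.le)
  have hl1 : l (Ideal.Quotient.mk I 1) = x := by
    change LinearMap.toSpanSingleton A M x 1 = x
    exact one_smul A x
  have h0 : b ⊗ₜ[A] (Ideal.Quotient.mk I 1) = 0 :=
    Module.Flat.lTensor_preserves_injective_linearMap (M := B) l hl (by
      rw [LinearMap.lTensor_tmul, hl1, map_zero, hb])
  have h2 : (Ideal.Quotient.mk I 1) ⊗ₜ[A] b = 0 := by
    have := congrArg (TensorProduct.comm A B (A ⧸ I)) h0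
    simpa using this
  have h1 := congrArg (TensorProduct.quotTensorEquivQuotSMul B I) h2
  rw [map_zero, TensorProduct.quotTensorEquivQuotSMul_mk_tmul, one_smul, Submodule.Quotient.mk_eq_zero,
    Ideal.smul_top_eq_map] at h1
  exact h1

/-- Weakly associated primes go up along flat maps at primes incomparable in their fibre. -/
theorem mem_weakAss_of_base [Module.Flat A B] (M : Type u) [AddCommGroup M] [Module A M] (p : Ideal A)
    (t : Ideal B) [t.IsPrime] (htp : t.comap (algebraMap A B) = p)
    (hinc : ∀ q : Ideal B, q.IsPrime → q ≤ t → q.comap (algebraMap A B) = p → q = t)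
    (h : p ∈ FlatCA.weakAss A M) : t ∈ FlatCA.weakAss B (B ⊗[A] M) := by
  obtain ⟨x, hx⟩ := h
  refine ⟨(1 : B) ⊗ₜ x, ⟨inferInstance, (annihilator_one_tmul_le x).trans ?_⟩, fun q hq hqt => ?_⟩
  · exact Ideal.map_le_iff_le_comap.mpr (htp.symm ▸ hx.1.2)
  · haveI := hq.1
    have hle : q.comap (algebraMap A B) ≤ p := htp ▸ Ideal.comap_mono hqt
    refine (hinc q hq.1 hqt (le_antisymm hle (hx.2 ⟨Ideal.comap_isPrime _ _, fun a ha => ?_⟩ hle))).ge
    refine hq.2 ((Submodule.mem_annihilator_span_singleton _ _).2 ?_)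
    rw [algebraMap_smul, ← TensorProduct.tmul_smul,
      (Submodule.mem_annihilator_span_singleton _ _).1 ha, TensorProduct.tmul_zero]

/-- An element of a prime minimal over `J` is nilpotent modulo `J` in the localisation. -/
theorem exists_mul_pow_mem {t J : Ideal B} [t.IsPrime] (h : t ∈ J.minimalPrimes) {r : B} (hr : r ∈ t) :
    ∃ n : ℕ, ∃ s ∉ t, s * r ^ n ∈ J := by
  by_contra hc
  push Not at hc
  let S : Submonoid B := t.primeCompl ⊔ Submonoid.powers r
  have hdisj : Disjoint (J : Set B) S := by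
    rw [Set.disjoint_left]
    intro z hz hzS
    obtain ⟨s, hs, w, ⟨n, rfl⟩, rfl⟩ := Submonoid.mem_sup.1 hzS
    exact hc n s hs hz
  obtain ⟨q, hq, hJq, hdq⟩ := Ideal.exists_le_prime_disjoint J S hdisj
  have hqt : q ≤ t := fun z hz => by
    by_contra hzt
    exact Set.disjoint_left.1 hdq hz (Submonoid.mem_sup_left hzt)
  exact Set.disjoint_left.1 hdq (h.2 ⟨hq, hJq⟩ hqt hr) (Submonoid.mem_sup_right (Submonoid.mem_powers r))

/-- Weakly associated primes go down, if all stages over the local ring are `Good`. -/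
theorem mem_weakAss_of_baseChange (M : Type u) [AddCommGroup M] [Module A M] (p : Ideal A) [p.IsPrime]
    (t : Ideal B) [t.IsPrime] (htp : t.comap (algebraMap A B) = p)
    (hgood : ∀ (Q : Ideal (Localization.AtPrime p ⊗[A] B)) [Q.IsPrime],
      Q.comap (algebraMap (Localization.AtPrime p) _) = maximalIdeal (Localization.AtPrime p) →
      Good (Localization.AtPrime p) (Localization.AtPrime Q))
    (h : t ∈ FlatCA.weakAss B (B ⊗[A] M)) : p ∈ FlatCA.weakAss A M := by
  obtain ⟨z, hz⟩ := h
  let Ap := Localization.AtPrime p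
  let E := Ap ⊗[A] B
  haveI hloc : IsLocalization (Algebra.algebraMapSubmonoid B p.primeCompl) E :=
    (Algebra.isLocalization_iff_isPushout p.primeCompl Ap).mpr inferInstance
  have hdisj : Disjoint (Algebra.algebraMapSubmonoid B p.primeCompl : Set B) (t : Set B) := by
    rw [Set.disjoint_left]
    rintro _ ⟨a, ha, rfl⟩ hat
    exact ha (htp ▸ hat : a ∈ p)
  let Q : Ideal E := t.map (algebraMap B E)
  haveI : Q.IsPrime := IsLocalization.isPrime_of_isPrime_disjoint _ E t ‹_› hdisj
  have hQ : Q.comap (algebraMap B E) = t :=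
    IsLocalization.under_map_of_isPrime_disjoint _ E ‹_› hdisj
  have hQp : Q.comap (algebraMap Ap E) = maximalIdeal Ap := by
    have h1 : (Q.comap (algebraMap Ap E)).comap (algebraMap A Ap) = p := by
      rw [Ideal.comap_comap, ← IsScalarTower.algebraMap_eq A Ap E, IsScalarTower.algebraMap_eq A B E,
        ← Ideal.comap_comap, hQ, htp]
    rw [← IsLocalization.map_under p.primeCompl Ap (Q.comap (algebraMap Ap E)), Ideal.under, h1]
    exact Localization.AtPrime.map_eq_maximalIdeal
  let L := Localization.AtPrime Q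
  haveI : IsLocalization t.primeCompl L := by
    have h := IsLocalization.isLocalization_isLocalization_atPrime_isLocalization
      (Algebra.algebraMapSubmonoid B p.primeCompl) L Q
    simpa only [hQ] using h
  let g : B ⊗[A] M →ₗ[B] L ⊗[A] M := AlgebraTensorModule.rTensor A M (Algebra.linearMap B L)
  haveI : IsLocalizedModule t.primeCompl g := inferInstance
  let c := AlgebraTensorModule.cancelBaseChange A Ap Ap L M
  have hy0 : g z ≠ 0 := by
    intro h0
    obtain ⟨s, hs⟩ := (IsLocalizedModule.eq_zero_iff t.primeCompl g).mp h0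
    exact s.2 (hz.1.2 ((Submodule.mem_annihilator_span_singleton _ _).2 hs))
  have hk : ∀ a ∈ p, ∃ n : ℕ, a ^ n • g z = 0 := by
    intro a ha
    obtain ⟨n, s, hs, hsJ⟩ := exists_mul_pow_mem hz (show algebraMap A B a ∈ t from (htp ▸ ha : a ∈ t.comap _))
    refine ⟨n, ?_⟩
    rw [← algebraMap_smul B (a ^ n) (g z), map_pow, ← map_smul, IsLocalizedModule.eq_zero_iff t.primeCompl g]
    refine ⟨⟨s, hs⟩, ?_⟩
    rw [Submonoid.smul_def, smul_smul]
    exact (Submodule.mem_annihilator_span_singleton _ _).1 hsJ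
  obtain ⟨x', hx', hxk⟩ := hgood Q hQp (Ap ⊗[A] M) (c.symm (g z))
    (fun h0 => hy0 (by simpa using congrArg c h0)) (fun α hα => by
      obtain ⟨a, s, rfl⟩ := IsLocalization.exists_mk'_eq p.primeCompl α
      have ha : a ∈ p := (IsLocalization.AtPrime.mk'_mem_maximal_iff Ap p a s).mp hα
      obtain ⟨n, hn⟩ := hk a ha
      refine ⟨n, ?_⟩
      rw [← map_smul, IsLocalization.mk'_eq_mul_mk'_one, mul_pow, mul_comm, mul_smul, ← map_pow,
        algebraMap_smul, hn, smul_zero, map_zero])
  let ι : M →ₗ[A] Ap ⊗[A] M := TensorProduct.mk A Ap M 1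
  obtain ⟨⟨x, s⟩, hxs⟩ := IsLocalizedModule.surj p.primeCompl ι x'
  change (s : A) • x' = ι x at hxs
  have hsx : ι x ≠ 0 := by
    intro h0
    rw [h0] at hxs
    exact hx' (((Module.End.isUnit_iff _).mp (IsLocalizedModule.map_units ι s)).1
      (hxs.trans (map_zero _).symm))
  refine ⟨x, ⟨‹_›, fun a ha => ?_⟩, fun q hq hqp => ?_⟩
  · by_contra hap
    exact hsx ((IsLocalizedModule.eq_zero_iff p.primeCompl ι).mpr
      ⟨⟨a, hap⟩, (Submodule.mem_annihilator_span_singleton _ _).1 ha⟩)
  · intro a ha
    obtain ⟨n, hn⟩ := hxk (algebraMap A Ap a)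
      ((IsLocalization.AtPrime.to_map_mem_maximal_iff Ap p a).mpr ha)
    have h0 : ι (a ^ n • x) = 0 := by
      rw [map_smul, ← hxs, smul_comm, ← algebraMap_smul Ap (a ^ n) x', map_pow, hn, smul_zero]
    obtain ⟨u, hu⟩ := (IsLocalizedModule.eq_zero_iff p.primeCompl ι).mp h0
    have hua : (u : A) * a ^ n ∈ q := hq.2 ((Submodule.mem_annihilator_span_singleton _ _).2 (by
      rw [mul_smul]; exact hu))
    exact hq.1.mem_of_pow_mem n ((hq.1.mem_or_mem hua).resolve_left fun h => u.2 (hqp h))

theorem mem_weakAss_iff_of_finite_flat [Module.Finite A B] [Module.Flat A B] (M : Type u)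
    [AddCommGroup M] [Module A M] (p : Ideal A) [p.IsPrime] (t : Ideal B) [t.IsPrime] [t.LiesOver p] :
    t ∈ FlatCA.weakAss B (B ⊗[A] M) ↔ p ∈ FlatCA.weakAss A M := by
  have htp : t.comap (algebraMap A B) = p := (t.over_def p).symm
  refine ⟨mem_weakAss_of_baseChange M p t htp fun Q _ hQ => ?_,
    mem_weakAss_of_base M p t htp fun q hq hqt hqp => ?_⟩
  · haveI : Module.Free (Localization.AtPrime p) (Localization.AtPrime p ⊗[A] B) :=
      Module.free_of_flat_of_isLocalRing
    exact good_atPrime_finite_free _ Q hQ _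
  · exact Algebra.QuasiFinite.eq_of_le_of_under_eq (R := A) q t hqt (hqp.trans htp.symm)

theorem mem_weakAss_iff_of_etale [Algebra.Etale A B] (M : Type u) [AddCommGroup M] [Module A M]
    (p : Ideal A) [p.IsPrime] (t : Ideal B) [t.IsPrime] [t.LiesOver p] :
    t ∈ FlatCA.weakAss B (B ⊗[A] M) ↔ p ∈ FlatCA.weakAss A M := by
  have htp : t.comap (algebraMap A B) = p := (t.over_def p).symm
  refine ⟨mem_weakAss_of_baseChange M p t htp fun Q _ hQ => ?_,
    mem_weakAss_of_base M p t htp fun q hq hqt hqp => ?_⟩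
  · exact good_atPrime_etale _ Q hQ
  · exact Algebra.QuasiFinite.eq_of_le_of_under_eq (R := A) q t hqt (hqp.trans htp.symm)

theorem good_of_isIndEtale [IsLocalRing A] [IsLocalRing B] [IsLocalHom (algebraMap A B)]
    (h : EtPBC.IsIndEtale A B) : Good A B := by
  classical
  intro M _ _ y hy hk
  obtain ⟨n, bs, xs, hbx⟩ : ∃ n, ∃ bs : Fin n → B, ∃ xs : Fin n → M, y = ∑ i, bs i ⊗ₜ xs i := by
    obtain ⟨S, hS⟩ := TensorProduct.exists_finset y
    exact ⟨_, fun i => (S.equivFin.symm i).1.1, fun i => (S.equivFin.symm i).1.2, by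
      rw [hS, ← Finset.sum_coe_sort, ← Equiv.sum_comp S.equivFin.symm]⟩
  obtain ⟨E, _, _, hE, v, hv⟩ :=
    IndEtale.Basic.exists_lift (IndEtale.Basic.factors h) (Finset.univ.image bs)
  haveI := hE
  letI : Algebra E B := v.toRingHom.toAlgebra
  haveI : IsScalarTower A E B := IsScalarTower.of_algebraMap_eq fun a => (v.commutes a).symm
  haveI : Module.Flat E B := IndEtale.Basic.flat (IndEtale.Basic.factors
    (IndEtale.Basic.cancel (B := E) (C := B) IndEtale.Basic.of_etale h))
  let q : Ideal E := (maximalIdeal B).comap (algebraMap E B)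
  have hq : q.comap (algebraMap A E) = maximalIdeal A := by
    rw [Ideal.comap_comap, ← IsScalarTower.algebraMap_eq, IsLocalRing.maximalIdeal_comap]
  let L := Localization.AtPrime q
  have hu : ∀ s : q.primeCompl, IsUnit (algebraMap E B s) := fun s => by
    by_contra hs
    exact s.2 hs
  letI : Algebra L B := (IsLocalization.lift hu).toAlgebra
  haveI : IsScalarTower E L B :=
    IsScalarTower.of_algebraMap_eq fun e => (IsLocalization.lift_eq (S := L) hu e).symm
  haveI : IsScalarTower A L B := IsScalarTower.of_algebraMap_eq fun a => by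
    rw [IsScalarTower.algebraMap_apply A E B, IsScalarTower.algebraMap_apply A E L,
      ← IsScalarTower.algebraMap_apply E L B]
  haveI : Module.Flat L B := (Module.flat_iff_of_isLocalization L q.primeCompl B).mpr inferInstance
  haveI : IsLocalHom (algebraMap L B) := ⟨fun z hz => by
    obtain ⟨e, s, rfl⟩ := IsLocalization.exists_mk'_eq q.primeCompl z
    rw [IsLocalization.AtPrime.isUnit_mk'_iff L q e s]
    intro he
    refine (mem_nonunits_iff.mp (he : algebraMap E B e ∈ maximalIdeal B)) ?_
    rw [IsScalarTower.algebraMap_apply E L B, ← IsLocalization.mk'_spec L e s, map_mul]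
    exact hz.mul (((IsLocalization.map_units L s)).map (algebraMap L B))⟩
  haveI : Module.FaithfullyFlat L B := Module.FaithfullyFlat.of_flat_of_isLocalHom
  let φ : L →ₐ[A] B := IsScalarTower.toAlgHom A L B
  have hinj : Function.Injective (LinearMap.rTensor M φ.toLinearMap) := by
    let c := AlgebraTensorModule.cancelBaseChange A L B B M
    have heq : ⇑(LinearMap.rTensor M φ.toLinearMap) =
        fun w : L ⊗[A] M => c ((1 : B) ⊗ₜ[L] w) := by
      funext w
      induction w using TensorProduct.induction_on with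
      | zero => simp
      | tmul l m => simp [c, φ, Algebra.smul_def]
      | add a b ha hb => rw [map_add, ha, hb, tmul_add, map_add]
    rw [heq]
    exact c.injective.comp (Module.FaithfullyFlat.tensorProduct_mk_injective (L ⊗[A] M))
  choose es hes using fun i => hv (Finset.mem_coe.2 (Finset.mem_image_of_mem bs (Finset.mem_univ i)))
  let w : L ⊗[A] M := ∑ i, algebraMap E L (es i) ⊗ₜ xs i
  have hw : LinearMap.rTensor M φ.toLinearMap w = y := by
    rw [hbx, map_sum]
    refine Finset.sum_congr rfl fun i _ => ?_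
    rw [LinearMap.rTensor_tmul]
    change algebraMap L B (algebraMap E L (es i)) ⊗ₜ xs i = _
    rw [← IsScalarTower.algebraMap_apply]
    exact congrArg (· ⊗ₜ xs i) (hes i)
  refine good_atPrime_etale E q hq M w (fun h0 => hy (by rw [← hw, h0, map_zero])) fun a ha => ?_
  obtain ⟨k, hk⟩ := hk a ha
  exact ⟨k, hinj (by rw [map_smul, hw, hk, map_zero])⟩

theorem mem_weakAss_iff_maximal [IsLocalRing A] (M : Type u) [AddCommGroup M] [Module A M] :
    maximalIdeal A ∈ FlatCA.weakAss A M ↔
      ∃ x : M, x ≠ 0 ∧ ∀ a ∈ maximalIdeal A, ∃ n : ℕ, a ^ n • x = 0 := by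
  constructor
  · rintro ⟨x, hx⟩
    refine ⟨x, ?_, fun a ha => ?_⟩
    · rintro rfl
      exact (maximalIdeal.isMaximal A).ne_top ((Ideal.eq_top_iff_one _).2 (hx.1.2
        ((Submodule.mem_annihilator_span_singleton _ _).2 (smul_zero _))))
    · obtain ⟨n, s, hs, hsJ⟩ := exists_mul_pow_mem (B := A) hx ha
      refine ⟨n, (IsUnit.smul_eq_zero (of_not_not hs : IsUnit s)).mp ?_⟩
      rw [smul_smul]
      exact (Submodule.mem_annihilator_span_singleton _ _).1 hsJ
  · rintro ⟨x, hx, hk⟩
    refine ⟨x, ⟨inferInstance, fun a ha => ?_⟩, fun q hq _ a ha => ?_⟩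
    · by_contra h
      exact hx ((IsUnit.smul_eq_zero (of_not_not h : IsUnit a)).mp
        ((Submodule.mem_annihilator_span_singleton _ _).1 ha))
    · obtain ⟨n, hn⟩ := hk a ha
      exact hq.1.mem_of_pow_mem n (hq.2 ((Submodule.mem_annihilator_span_singleton _ _).2 hn))

theorem maximal_mem_weakAss_iff [IsLocalRing A] [IsLocalRing B] [IsLocalHom (algebraMap A B)]
    (h : EtPBC.IsIndEtale A B) (M : Type u) [AddCommGroup M] [Module A M] :
    maximalIdeal B ∈ FlatCA.weakAss B (B ⊗[A] M) ↔ maximalIdeal A ∈ FlatCA.weakAss A M := by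
  constructor
  · rw [mem_weakAss_iff_maximal, mem_weakAss_iff_maximal]
    rintro ⟨y, hy, hk⟩
    refine good_of_isIndEtale h M y hy fun a ha => ?_
    obtain ⟨n, hn⟩ := hk (algebraMap A B a) (map_nonunit (algebraMap A B) a ha)
    exact ⟨n, by rw [← algebraMap_smul B, map_pow, hn]⟩
  · haveI : Module.Flat A B := IndEtale.Basic.flat (IndEtale.Basic.factors h)
    exact mem_weakAss_of_base M _ _ (IsLocalRing.maximalIdeal_comap _) fun q hq hle hqp =>
      Catenary.eq_of_le_of_comap_eq h hle (hqp.trans (IsLocalRing.maximalIdeal_comap _).symm)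

end Groth.Agent.Lib.Henselian.WeakAssBaseChange
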