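import Mathlib.FieldTheory.PurelyInseparable.Basic
import Mathlib.FieldTheory.IsAlgClosed.AlgebraicClosure
import Mathlib.RingTheory.TensorProduct.Basic
import Mathlib.RingTheory.LocalRing.ResidueField.Basic
import Mathlib.RingTheory.LocalRing.RingHom.Basic
import Mathlib.RingTheory.Ideal.GoingUp

/-!
# Integral local algebras with purely inseparable residue field stay local after base change

* `exists_isLocalRing_tensor`
-/

universe u

open IsLocalRing TensorProduct

namespace Groth.Agent.Lib.Henselian.PurInsepTensor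

variable (R A B : Type u) [CommRing R] [IsLocalRing R]
    [CommRing A] [IsLocalRing A] [Algebra R A] [IsLocalHom (algebraMap R A)] [Algebra.IsIntegral R A]
    [IsPurelyInseparable (ResidueField R) (ResidueField A)]
    [CommRing B] [IsLocalRing B] [Algebra R B] [IsLocalHom (algebraMap R B)]

theorem exists_isLocalRing_tensor :
    ∃ _ : IsLocalRing (A ⊗[R] B),
      IsLocalHom (Algebra.TensorProduct.includeRight : B →ₐ[R] A ⊗[R] B).toRingHom ∧
      ∀ x : A ⊗[R] B, ∃ (n : ℕ) (b : B),
        x ^ (ringExpChar (ResidueField B)) ^ n - (1 : A) ⊗ₜ[R] b ∈ maximalIdeal (A ⊗[R] B) := by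
  set q := ringExpChar (ResidueField B) with hqdef
  have hqA : ExpChar (ResidueField R) q := by
    have : ExpChar (ResidueField B) (ringExpChar (ResidueField R)) :=
      expChar_of_injective_ringHom (algebraMap (ResidueField R) (ResidueField B)).injective _
    rw [hqdef, ringExpChar.eq (ResidueField B) (ringExpChar (ResidueField R))]
    infer_instance
  -- a point
  let Ω := AlgebraicClosure (ResidueField B)
  let : Algebra (ResidueField R) Ω :=
    ((algebraMap (ResidueField B) Ω).comp (algebraMap (ResidueField R) (ResidueField B))).toAlgebra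
  have : Algebra.IsAlgebraic (ResidueField R) (ResidueField A) := inferInstance
  let σ : ResidueField A →ₐ[ResidueField R] Ω := IsAlgClosed.lift
  let : Algebra R Ω := ((algebraMap (ResidueField R) Ω).comp (residue R)).toAlgebra
  let fA : A →ₐ[R] Ω := ⟨σ.toRingHom.comp (residue A), fun r => σ.commutes (residue R r)⟩
  let fB : B →ₐ[R] Ω := ⟨(algebraMap (ResidueField B) Ω).comp (residue B), fun _ => rfl⟩
  let ψ : A ⊗[R] B →ₐ[R] Ω := Algebra.TensorProduct.lift fA fB fun _ _ => Commute.all _ _
  let P₀ : Ideal (A ⊗[R] B) := RingHom.ker ψ.toRingHom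
  have hP₀ : P₀.IsPrime := RingHom.ker_isPrime _
  let iA := (Algebra.TensorProduct.includeLeft : A →ₐ[R] A ⊗[R] B).toRingHom
  let iB := (Algebra.TensorProduct.includeRight : B →ₐ[R] A ⊗[R] B).toRingHom
  let J := (maximalIdeal A).map iA ⊔ (maximalIdeal B).map iB
  have hJP₀ : J ≤ P₀ := by
    refine sup_le (Ideal.map_le_iff_le_comap.mpr fun a ha => ?_) (Ideal.map_le_iff_le_comap.mpr fun b hb => ?_)
    · simp [P₀, iA, ψ, fA, (residue_eq_zero_iff a).mpr ha]
    · rw [Ideal.mem_comap, RingHom.mem_ker]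
      show ψ ((1 : A) ⊗ₜ[R] b) = 0
      rw [Algebra.TensorProduct.lift_tmul, map_one, one_mul]
      exact (map_eq_zero (algebraMap (ResidueField B) Ω)).mpr ((residue_eq_zero_iff b).mpr hb)
  have hiB : iB.comp (algebraMap R B) = iA.comp (algebraMap R A) := RingHom.ext fun r => by
    simp [iA, iB]
  have : Nontrivial ((A ⊗[R] B) ⧸ J) :=
    Ideal.Quotient.nontrivial_iff.mpr fun h => hP₀.ne_top (top_le_iff.mp (h ▸ hJP₀))
  let κJ : ResidueField B →+* (A ⊗[R] B) ⧸ J :=
    Ideal.Quotient.lift (maximalIdeal B) ((Ideal.Quotient.mk J).comp iB) fun b hb =>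
      Ideal.Quotient.eq_zero_iff_mem.mpr (Ideal.mem_sup_right (Ideal.mem_map_of_mem _ hb))
  have hqB : ExpChar (ResidueField B) q := inferInstance
  have : ExpChar ((A ⊗[R] B) ⧸ J) q := expChar_of_injective_ringHom κJ.injective q
  have key : ∀ x : A ⊗[R] B, ∃ (n : ℕ) (b : B), x ^ q ^ n - (1 : A) ⊗ₜ[R] b ∈ J := by
    have hmono : ∀ (x : A ⊗[R] B) (n m : ℕ) (b : B), x ^ q ^ n - (1 : A) ⊗ₜ[R] b ∈ J →
        n ≤ m → x ^ q ^ m - (1 : A) ⊗ₜ[R] (b ^ q ^ (m - n)) ∈ J := by
      intro x n m b h hnm
      have e : ∀ k, (1 : A) ⊗ₜ[R] (b ^ k) = ((1 : A) ⊗ₜ[R] b) ^ k := fun k => by simp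
      rw [e, ← Ideal.Quotient.eq, map_pow, map_pow, ← Ideal.Quotient.eq.mpr h, map_pow, ← pow_mul,
        ← pow_add, Nat.add_sub_cancel' hnm]
    intro x
    induction x using TensorProduct.induction_on with
    | zero => exact ⟨0, 0, by simp⟩
    | tmul a b =>
      obtain ⟨n, r', hr⟩ := IsPurelyInseparable.pow_mem (ResidueField R) q (residue A a)
      obtain ⟨r, rfl⟩ := residue_surjective r'
      refine ⟨n, algebraMap R B r * b ^ q ^ n, ?_⟩
      have hmem : a ^ q ^ n - algebraMap R A r ∈ maximalIdeal A := by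
        rw [← residue_eq_zero_iff, map_sub, map_pow, ← hr, sub_eq_zero]
        rfl
      have e : (a ⊗ₜ[R] b) ^ q ^ n - (1 : A) ⊗ₜ[R] (algebraMap R B r * b ^ q ^ n) =
          iA (a ^ q ^ n - algebraMap R A r) * iB (b ^ q ^ n) := by
        rw [map_sub, sub_mul]
        simp only [iA, iB, AlgHom.toRingHom_eq_coe, RingHom.coe_coe,
          Algebra.TensorProduct.includeLeft_apply, Algebra.TensorProduct.includeRight_apply,
          Algebra.TensorProduct.tmul_pow, Algebra.TensorProduct.tmul_mul_tmul, mul_one, one_mul]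
        congr 1
        rw [← Algebra.smul_def, TensorProduct.tmul_smul, TensorProduct.smul_tmul',
          Algebra.algebraMap_eq_smul_one r]
      rw [e]
      exact J.mul_mem_right _ (Ideal.mem_sup_left (Ideal.mem_map_of_mem _ hmem))
    | add x y hx hy =>
      obtain ⟨n, b, hx⟩ := hx
      obtain ⟨m, c, hy⟩ := hy
      refine ⟨max n m, b ^ q ^ (max n m - n) + c ^ q ^ (max n m - m), ?_⟩
      have h1 := hmono x n _ b hx (le_max_left n m)
      have h2 := hmono y m _ c hy (le_max_right n m)
      rw [← Ideal.Quotient.eq] at h1 h2 ⊢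
      rw [map_pow, map_add, add_pow_expChar_pow, ← map_pow, ← map_pow, h1, h2, TensorProduct.tmul_add,
        map_add]
  have hpos : ∀ n, 0 < q ^ n := fun n => pow_pos (expChar_pos (ResidueField B) q) n
  have hle : ∀ (P Q : Ideal (A ⊗[R] B)), P.IsPrime → Q.IsPrime → J ≤ P → J ≤ Q → P ≤ Q := by
    intro P Q hP hQ hJP hJQ x hx
    obtain ⟨n, b, hb⟩ := key x
    have hbm : b ∈ maximalIdeal B := by
      intro hu
      have h1 : iB b ∈ P := by
        have := sub_mem (P.pow_mem_of_mem hx _ (hpos n)) (hJP hb)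
        rwa [sub_sub_cancel] at this
      exact hP.ne_top (Ideal.eq_top_of_isUnit_mem _ h1 (hu.map iB))
    have : x ^ q ^ n ∈ Q := by
      have := add_mem (hJQ hb) (hJQ (Ideal.mem_sup_right (Ideal.mem_map_of_mem iB hbm) : iB b ∈ J))
      rwa [show iB b = (1 : A) ⊗ₜ[R] b from rfl, sub_add_cancel] at this
    exact hQ.mem_of_pow_mem _ this
  have hint : iB.IsIntegral := by
    have := Algebra.IsIntegral.tensorProduct R B A
    intro x
    have h1 := Algebra.IsIntegral.isIntegral (R := B) (Algebra.TensorProduct.comm R A B x)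
    obtain ⟨f, hf, hfx⟩ := h1
    refine ⟨f, hf, (Algebra.TensorProduct.comm R A B).injective ?_⟩
    have h2 := Polynomial.hom_eval₂ f iB (Algebra.TensorProduct.comm R A B).toAlgHom.toRingHom x
    rw [map_zero]
    refine h2.trans ?_
    rw [show (Algebra.TensorProduct.comm R A B).toAlgHom.toRingHom.comp iB = algebraMap B (B ⊗[R] A) from
      RingHom.ext fun b => by simp [iB]]
    exact hfx
  have hJmax : ∀ P : Ideal (A ⊗[R] B), P.IsMaximal → J ≤ P := by
    intro P hP
    have hB : P.comap iB = maximalIdeal B := eq_maximalIdeal (by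
      let : Algebra B (A ⊗[R] B) := iB.toAlgebra
      have : Algebra.IsIntegral B (A ⊗[R] B) := ⟨hint⟩
      exact Ideal.isMaximal_comap_of_isIntegral_of_isMaximal (R := B) P)
    have hA : P.comap iA = maximalIdeal A := by
      have hp : (P.comap iA).IsPrime := Ideal.comap_isPrime _ _
      refine eq_maximalIdeal (Ideal.isMaximal_of_isIntegral_of_isMaximal_comap (R := R) _ ?_)
      have h1 : maximalIdeal R ≤ (P.comap iA).comap (algebraMap R A) := by
        intro r hr
        rw [Ideal.comap_comap, ← hiB, ← Ideal.comap_comap, hB, Ideal.mem_comap]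
        exact fun hu => hr (isUnit_of_map_unit (algebraMap R B) r hu)
      have : maximalIdeal R = (P.comap iA).comap (algebraMap R A) :=
        (maximalIdeal.isMaximal R).eq_of_le (Ideal.IsPrime.ne_top inferInstance) h1
      exact this ▸ maximalIdeal.isMaximal R
    exact sup_le (Ideal.map_le_iff_le_comap.mpr hA.ge) (Ideal.map_le_iff_le_comap.mpr hB.ge)
  obtain ⟨M, hM, hPM⟩ := Ideal.exists_le_maximal _ hP₀.ne_top
  have hloc : IsLocalRing (A ⊗[R] B) := IsLocalRing.of_unique_max_ideal ⟨M, hM, fun N hN =>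
    hN.eq_of_le hM.ne_top (hle N M hN.isPrime hM.isPrime (hJmax N hN) (hJmax M hM))⟩
  have hJm := hJmax _ (maximalIdeal.isMaximal (A ⊗[R] B))
  exact ⟨hloc, ((local_hom_TFAE iB).out 0 2 rfl rfl).mpr (le_sup_right.trans hJm), fun x =>
    let ⟨n, b, h⟩ := key x
    ⟨n, b, hJm h⟩⟩

end Groth.Agent.Lib.Henselian.PurInsepTensor
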