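import Groth.Agent.Lib.Henselian.StrictData
import Groth.Agent.Lib.Henselian.QFLocalization
import Groth.Agent.Lib.Henselian.PurInsepTensor
import Mathlib.RingTheory.QuasiFinite.Basic
import Mathlib.RingTheory.TensorProduct.Maps
import Mathlib.RingTheory.Adjoin.FG

/-!
# Strict henselizations and base change

* `exists_ringEquiv_localization`: a strict henselization of an algebra is a localisation of the
  base change to the strict henselization of the base
* `isIntegral_of_cond`, `finite_of_quasiFiniteAt`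
* `tensor_bijective`: compatibility with tensor products
-/

universe u

open IsLocalRing TensorProduct

namespace Groth.Agent.Lib.Henselian.StrictBaseChange

open StrictData

lemma residue_apply {R S : Type u} [CommRing R] [IsLocalRing R] [CommRing S] [IsLocalRing S]
    (f : R →+* S) [IsLocalHom f] (x : R) :
    ResidueField.map f (residue R x) = residue S (f x) :=
  ResidueField.map_residue f x

lemma ringHom_ext_of_data {A Ash T : Type u} [CommRing A] [CommRing Ash] [IsLocalRing Ash]
    [Algebra A Ash] [CommRing T] [HenselianLocalRing T] (hA : Data A Ash) (g g' : Ash →+* T)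
    [IsLocalHom g] (hg : g'.comp (algebraMap A Ash) = g.comp (algebraMap A Ash))
    (hres : ∀ x, residue T (g' x) = residue T (g x)) : g' = g :=
  (hA.lift T (g.comp (algebraMap A Ash)) (ResidueField.map g) fun _ => residue_apply g _).unique
    ⟨hg, fun x => (hres x).trans (residue_apply g x).symm⟩ ⟨rfl, fun x => (residue_apply g x).symm⟩

section Core

variable {A B Ash Bsh C : Type u} [CommRing A] [CommRing B] [CommRing Ash] [IsLocalRing Ash]
  [CommRing Bsh] [IsLocalRing Bsh] [CommRing C]
  [Algebra A Ash] [Algebra B Bsh] [Algebra Ash Bsh] [Algebra Ash C]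
  [IsLocalHom (algebraMap Ash Bsh)]

/-- The preimage of the maximal ideal lies over the maximal ideal. -/
lemma liesOver_comap (φ : C →ₐ[Ash] Bsh) :
    ((maximalIdeal Bsh).comap φ.toRingHom).LiesOver (maximalIdeal Ash) := ⟨by
  rw [Ideal.under_def, Ideal.comap_comap,
    show φ.toRingHom.comp (algebraMap Ash C) = algebraMap Ash Bsh from φ.comp_algebraMap]
  exact (((local_hom_TFAE (algebraMap Ash Bsh)).out 0 4 rfl rfl).mp inferInstance).symm⟩

/-- The strict henselization of an algebra is a localisation of any algebra generated over the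
strict henselization of the base by that algebra, provided the latter localisation is integral. -/
theorem exists_ringEquiv_localization (hA : Data A Ash) (hB : Data B Bsh) (jAB : A →+* B) (jB : B →+* C)
    (hsq : (algebraMap Ash C).comp (algebraMap A Ash) = jB.comp jAB)
    (hgen : Algebra.adjoin Ash (Set.range jB) = ⊤)
    (φ : C →ₐ[Ash] Bsh) (hφ : φ.toRingHom.comp jB = algebraMap B Bsh)
    (h : ∀ s : Finset C, ∃ C₀ : Subalgebra Ash C, (↑s : Set C) ⊆ ↑C₀ ∧ Algebra.FiniteType Ash C₀ ∧
      Algebra.QuasiFiniteAt Ash (((maximalIdeal Bsh).comap φ.toRingHom).comap C₀.val.toRingHom)) :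
    Algebra.IsIntegral Ash (Localization.AtPrime ((maximalIdeal Bsh).comap φ.toRingHom)) ∧
    ∃ e : Localization.AtPrime ((maximalIdeal Bsh).comap φ.toRingHom) ≃ₐ[Ash] Bsh,
      ∀ c, e (algebraMap C _ c) = φ c := by
  have := hA.henselian
  have := hA.sepClosed
  let Q := (maximalIdeal Bsh).comap φ.toRingHom
  have : Q.LiesOver (maximalIdeal Ash) := liesOver_comap φ
  let L := Localization.AtPrime Q
  obtain ⟨hint, -⟩ := QFLocalization.isIntegral_localization Q h
  obtain ⟨_, _⟩ := QFLocalization.henselian_and_sepClosed (A := Ash) L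
  have hu : ∀ y : Q.primeCompl, IsUnit (φ y) := fun y => not_not.mp fun hy => y.2 hy
  let π : L →ₐ[Ash] Bsh := IsLocalization.liftAlgHom (M := Q.primeCompl) (f := φ) hu
  have hπ : ∀ c, π (algebraMap C L c) = φ c := fun c => IsLocalization.lift_eq _ c
  have : IsLocalHom π.toRingHom := ⟨fun x hx => by
    obtain ⟨c, t, rfl⟩ := IsLocalization.exists_mk'_eq Q.primeCompl x
    refine (IsLocalization.AtPrime.isUnit_mk'_iff (S := L) Q c t).mpr fun hc => hc ?_
    show IsUnit (φ c)
    rw [← hπ, ← IsLocalization.mk'_spec L c t, map_mul]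
    exact hx.mul ((hπ t).symm ▸ hu t)⟩
  let θ : B →+* L := (algebraMap C L).comp jB
  have hθ : π.toRingHom.comp θ = algebraMap B Bsh := by
    rw [← hφ]
    exact RingHom.ext fun b => hπ (jB b)
  refine ⟨hint, AlgEquiv.ofBijective π (StrictData.bijective (M := L) hB π.toRingHom θ hθ fun g hg hres => ?_), hπ⟩
  have hAsh : g.comp (algebraMap Ash L) = algebraMap Ash L := by
    refine ringHom_ext_of_data hA _ _ (RingHom.ext fun a => ?_) fun x => hres _
    have e : algebraMap Ash L (algebraMap A Ash a) = θ (jAB a) := by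
      rw [IsScalarTower.algebraMap_apply Ash C L]
      exact congrArg _ (RingHom.congr_fun hsq a)
    simp only [RingHom.comp_apply, e]
    exact RingHom.congr_fun hg (jAB a)
  have hC : g.comp (algebraMap C L) = algebraMap C L := by
    let ga : C →ₐ[Ash] L := ⟨g.comp (algebraMap C L), fun x => by
      show g (algebraMap C L (algebraMap Ash C x)) = _
      rw [← IsScalarTower.algebraMap_apply Ash C L]
      exact RingHom.congr_fun hAsh x⟩
    have : ga = IsScalarTower.toAlgHom Ash C L := by
      refine AlgHom.ext_of_adjoin_eq_top hgen ?_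
      rintro _ ⟨b, rfl⟩
      exact RingHom.congr_fun hg b
    exact congrArg AlgHom.toRingHom this
  exact IsLocalization.ringHom_ext Q.primeCompl (by rw [hC, RingHom.id_comp])

theorem isIntegral_of_cond (hA : Data A Ash) (hB : Data B Bsh) (jAB : A →+* B) (jB : B →+* C)
    (hsq : (algebraMap Ash C).comp (algebraMap A Ash) = jB.comp jAB)
    (hgen : Algebra.adjoin Ash (Set.range jB) = ⊤)
    (φ : C →ₐ[Ash] Bsh) (hφ : φ.toRingHom.comp jB = algebraMap B Bsh)
    (h : ∀ s : Finset C, ∃ C₀ : Subalgebra Ash C, (↑s : Set C) ⊆ ↑C₀ ∧ Algebra.FiniteType Ash C₀ ∧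
      Algebra.QuasiFiniteAt Ash (((maximalIdeal Bsh).comap φ.toRingHom).comap C₀.val.toRingHom)) :
    Algebra.IsIntegral Ash Bsh := by
  obtain ⟨h1, e, -⟩ := exists_ringEquiv_localization hA hB jAB jB hsq hgen φ hφ h
  refine ⟨fun y => ?_⟩
  obtain ⟨x, rfl⟩ := e.surjective y
  exact (h1.isIntegral x).map e.toAlgHom

end Core

section Tensor

variable (A B Ash Bsh : Type u) [CommRing A] [CommRing B] [Algebra A B]
  [CommRing Ash] [IsLocalRing Ash] [Algebra A Ash]
  [CommRing Bsh] [IsLocalRing Bsh] [Algebra B Bsh] [Algebra A Bsh] [IsScalarTower A B Bsh]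
  [Algebra Ash Bsh] [IsScalarTower A Ash Bsh] [IsLocalHom (algebraMap Ash Bsh)]

omit [IsLocalRing Ash] in
lemma adjoin_range_includeRight :
    Algebra.adjoin Ash (Set.range (Algebra.TensorProduct.includeRight : B →ₐ[A] Ash ⊗[A] B).toRingHom) = ⊤ := by
  rw [eq_top_iff]
  rintro x -
  induction x using TensorProduct.induction_on with
  | zero => exact zero_mem _
  | tmul a b =>
    have : a ⊗ₜ[A] b = a • ((1 : Ash) ⊗ₜ[A] b) := by rw [TensorProduct.smul_tmul', smul_eq_mul, mul_one]
    rw [this]
    exact Subalgebra.smul_mem _ (Algebra.subset_adjoin (Set.mem_range_self b)) a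
  | add x y hx hy => exact add_mem hx hy

omit [IsLocalRing Ash] in
lemma includeRight_comp_algebraMap :
    (algebraMap Ash (Ash ⊗[A] B)).comp (algebraMap A Ash) =
      (Algebra.TensorProduct.includeRight : B →ₐ[A] Ash ⊗[A] B).toRingHom.comp (algebraMap A B) :=
  RingHom.ext fun a => by
    show algebraMap Ash (Ash ⊗[A] B) (algebraMap A Ash a) =
      (Algebra.TensorProduct.includeRight : B →ₐ[A] Ash ⊗[A] B) (algebraMap A B a)
    rw [AlgHom.commutes, ← IsScalarTower.algebraMap_apply]

/-- The comparison map. -/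
noncomputable abbrev lift : Ash ⊗[A] B →ₐ[Ash] Bsh :=
  Algebra.TensorProduct.lift (Algebra.ofId Ash Bsh) (IsScalarTower.toAlgHom A B Bsh) fun _ _ => .all _ _

omit [IsLocalRing Ash] [IsLocalRing Bsh] [IsLocalHom (algebraMap Ash Bsh)] in
lemma lift_comp_includeRight : (lift A B Ash Bsh).toRingHom.comp
    (Algebra.TensorProduct.includeRight : B →ₐ[A] Ash ⊗[A] B).toRingHom = algebraMap B Bsh :=
  RingHom.ext fun b => by simp

theorem isIntegral_of_quasiFinite_subalgebras (hA : Data A Ash) (hB : Data B Bsh)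
    (h : ∀ s : Finset B, ∃ B₀ : Subalgebra A B, (↑s : Set B) ⊆ ↑B₀ ∧
      Algebra.FiniteType A ↥B₀ ∧ Algebra.QuasiFinite A ↥B₀) :
    Algebra.IsIntegral Ash Bsh := by
  classical
  refine isIntegral_of_cond hA hB (algebraMap A B) _ (includeRight_comp_algebraMap A B Ash)
    (adjoin_range_includeRight A B Ash) (lift A B Ash Bsh) (lift_comp_includeRight A B Ash Bsh) fun s => ?_
  have key : ∀ x : Ash ⊗[A] B, ∃ t : Finset B, ∀ B₀ : Subalgebra A B, (↑t : Set B) ⊆ ↑B₀ →
      x ∈ (Algebra.TensorProduct.map (AlgHom.id Ash Ash) B₀.val).range := by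
    intro x
    induction x using TensorProduct.induction_on with
    | zero => exact ⟨∅, fun _ _ => zero_mem _⟩
    | tmul a b => exact ⟨{b}, fun B₀ hB₀ => ⟨a ⊗ₜ ⟨b, hB₀ (by simp)⟩, by simp⟩⟩
    | add x y hx hy =>
      obtain ⟨t, ht⟩ := hx
      obtain ⟨t', ht'⟩ := hy
      refine ⟨t ∪ t', fun B₀ hB₀ => ?_⟩
      rw [Finset.coe_union, Set.union_subset_iff] at hB₀
      exact add_mem (ht B₀ hB₀.1) (ht' B₀ hB₀.2)
  choose t ht using key
  obtain ⟨B₀, hs, _, _⟩ := h (s.biUnion t)
  let f := Algebra.TensorProduct.map (AlgHom.id Ash Ash) B₀.val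
  refine ⟨f.range, fun x hx => ht x B₀ fun b hb => hs (Finset.mem_biUnion.mpr ⟨x, hx, hb⟩), ?_, ?_⟩
  · exact Algebra.FiniteType.of_surjective f.rangeRestrict f.rangeRestrict_surjective
  · have : Algebra.QuasiFinite Ash ↥f.range :=
      Algebra.QuasiFinite.of_surjective_algHom f.rangeRestrict f.rangeRestrict_surjective
    infer_instance

theorem isIntegral_of_isIntegral [Algebra.IsIntegral A B] (hA : Data A Ash) (hB : Data B Bsh) :
    Algebra.IsIntegral Ash Bsh := by
  refine isIntegral_of_quasiFinite_subalgebras A B Ash Bsh hA hB fun s => ⟨Algebra.adjoin A ↑s, Algebra.subset_adjoin, ?_, ?_⟩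
  · exact (Subalgebra.fg_iff_finiteType _).mp ⟨s, rfl⟩
  · have : Module.Finite A ↥(Algebra.adjoin A (↑s : Set B)) :=
      Algebra.finite_adjoin_of_finite_of_isIntegral s.finite_toSet fun x _ => Algebra.IsIntegral.isIntegral x
    infer_instance

theorem finite_of_quasiFiniteAt [Algebra.FiniteType A B] (q : Ideal B) [q.IsPrime] [Algebra.QuasiFiniteAt A q]
    (hq : q = (maximalIdeal Bsh).comap (algebraMap B Bsh)) (hA : Data A Ash) (hB : Data B Bsh) :
    Module.Finite Ash Bsh := by
  have := hA.henselian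
  let φ := lift A B Ash Bsh
  have : ((maximalIdeal Bsh).comap φ.toRingHom).LiesOver (maximalIdeal Ash) := liesOver_comap φ
  have hQ : Algebra.QuasiFiniteAt Ash ((maximalIdeal Bsh).comap φ.toRingHom) :=
    Algebra.QuasiFiniteAt.baseChange q _ (by rw [Ideal.comap_comap, lift_comp_includeRight, hq])
  obtain ⟨-, e, -⟩ := exists_ringEquiv_localization hA hB (algebraMap A B) _
    (includeRight_comp_algebraMap A B Ash) (adjoin_range_includeRight A B Ash) φ
    (lift_comp_includeRight A B Ash Bsh) fun s => ⟨⊤, by simp, Algebra.FiniteType.equiv inferInstance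
      Subalgebra.topEquiv.symm, by
      exact Algebra.QuasiFiniteAt.comap_algEquiv ((maximalIdeal Bsh).comap φ.toRingHom) Subalgebra.topEquiv⟩
  have := QFLocalization.finite_localization (A := Ash) ((maximalIdeal Bsh).comap φ.toRingHom)
  exact Module.Finite.equiv e.toLinearEquiv

end Tensor

section Bijective

variable {A B C D Ash Bsh Csh Dsh : Type u} [CommRing A] [CommRing B] [CommRing C] [CommRing D]
  [CommRing Ash] [IsLocalRing Ash] [Algebra A Ash]
  [CommRing Bsh] [IsLocalRing Bsh] [Algebra B Bsh] [Algebra Ash Bsh] [IsLocalHom (algebraMap Ash Bsh)]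
  [CommRing Csh] [IsLocalRing Csh] [Algebra C Csh] [Algebra Ash Csh] [IsLocalHom (algebraMap Ash Csh)]
  [CommRing Dsh] [IsLocalRing Dsh] [Algebra D Dsh]
  [Algebra Ash Dsh] [Algebra Bsh Dsh] [Algebra Csh Dsh]
  [IsLocalHom (algebraMap Bsh Dsh)] [IsLocalHom (algebraMap Csh Dsh)]
  [IsScalarTower Ash Bsh Dsh] [IsScalarTower Ash Csh Dsh]

attribute [local instance] Algebra.TensorProduct.rightAlgebra in
/-- Strict henselizations commute with tensor products, when one factor is integral. -/
theorem tensor_bijective (hA : Data A Ash) (hB : Data B Bsh) (hC : Data C Csh) (hD : Data D Dsh)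
    [Algebra.IsIntegral Ash Bsh] (θ : D →+* Bsh ⊗[Ash] Csh) (jB : B →+* D) (jC : C →+* D)
    (hθ : (Algebra.TensorProduct.lift (IsScalarTower.toAlgHom Ash Bsh Dsh)
      (IsScalarTower.toAlgHom Ash Csh Dsh) (fun _ _ => Commute.all _ _)).toRingHom.comp θ = algebraMap D Dsh)
    (hjB : θ.comp jB = (algebraMap Bsh (Bsh ⊗[Ash] Csh)).comp (algebraMap B Bsh))
    (hjC : θ.comp jC = (algebraMap Csh (Bsh ⊗[Ash] Csh)).comp (algebraMap C Csh)) :
    Function.Bijective (Algebra.TensorProduct.lift (IsScalarTower.toAlgHom Ash Bsh Dsh)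
      (IsScalarTower.toAlgHom Ash Csh Dsh) (fun _ _ => Commute.all _ _)) := by
  have := hA.sepClosed
  have := hC.sepClosed
  have := hC.henselian
  have : Algebra.IsIntegral (ResidueField Ash) (ResidueField Bsh) := ⟨fun y => by
    obtain ⟨x, rfl⟩ := residue_surjective y
    exact ((Algebra.IsIntegral.isIntegral (R := Ash) x).map
      (IsScalarTower.toAlgHom Ash Bsh (ResidueField Bsh))).tower_top⟩
  have : Algebra.IsAlgebraic (ResidueField Ash) (ResidueField Bsh) := Algebra.IsIntegral.isAlgebraic
  obtain ⟨_, hloc, -⟩ := PurInsepTensor.exists_isLocalRing_tensor Ash Bsh Csh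
  let M := Bsh ⊗[Ash] Csh
  have : IsLocalHom (algebraMap Csh M) := hloc
  have : Algebra.IsIntegral Csh M := ⟨fun x => by
    have h := (Algebra.IsIntegral.isIntegral (R := Csh)
      ((Algebra.TensorProduct.commRight Ash Csh Bsh).symm x)).map (Algebra.TensorProduct.commRight Ash Csh Bsh).toAlgHom
    simpa using h⟩
  obtain ⟨_, _⟩ := QFLocalization.henselian_and_sepClosed (A := Csh) M
  let π := Algebra.TensorProduct.lift (IsScalarTower.toAlgHom Ash Bsh Dsh)
    (IsScalarTower.toAlgHom Ash Csh Dsh) (fun _ _ => Commute.all _ _)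
  have hπB : π.toRingHom.comp (algebraMap Bsh M) = algebraMap Bsh Dsh := RingHom.ext fun b => by simp [π, M]
  have hπC : π.toRingHom.comp (algebraMap Csh M) = algebraMap Csh Dsh :=
    RingHom.ext fun c => by simp [π, M, RingHom.algebraMap_toAlgebra]
  have : IsLocalHom π.toRingHom := by
    refine ((local_hom_TFAE _).out 0 4 rfl rfl).mpr (eq_maximalIdeal ?_)
    have : ((maximalIdeal Dsh).comap π.toRingHom).IsPrime := Ideal.comap_isPrime _ _
    refine Ideal.isMaximal_of_isIntegral_of_isMaximal_comap (R := Csh) _ ?_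
    rw [Ideal.comap_comap, hπC, ((local_hom_TFAE (algebraMap Csh Dsh)).out 0 4 rfl rfl).mp inferInstance]
    exact maximalIdeal.isMaximal Csh
  have : IsLocalHom (algebraMap Bsh M) := ⟨fun b hb => isUnit_of_map_unit (algebraMap Bsh Dsh) b
    (by rw [← hπB]; exact hb.map π.toRingHom)⟩
  refine StrictData.bijective (M := M) hD π.toRingHom θ hθ fun g hg hres => ?_
  have hgB : g.comp (algebraMap Bsh M) = algebraMap Bsh M := by
    refine ringHom_ext_of_data hB _ _ ?_ fun x => hres _
    rw [RingHom.comp_assoc, ← hjB, ← RingHom.comp_assoc, hg]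
  have hgC : g.comp (algebraMap Csh M) = algebraMap Csh M := by
    refine ringHom_ext_of_data hC _ _ ?_ fun x => hres _
    rw [RingHom.comp_assoc, ← hjC, ← RingHom.comp_assoc, hg]
  refine RingHom.ext fun x => ?_
  induction x using TensorProduct.induction_on with
  | zero => simp
  | tmul b c =>
    have e : b ⊗ₜ[Ash] c = algebraMap Bsh M b * algebraMap Csh M c := by
      simp [M, RingHom.algebraMap_toAlgebra]
    rw [RingHom.id_apply, e, map_mul]
    exact congrArg₂ (· * ·) (RingHom.congr_fun hgB b) (RingHom.congr_fun hgC c)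
  | add x y hx hy => rw [map_add, hx, hy]; rfl

end Bijective

end Groth.Agent.Lib.Henselian.StrictBaseChange
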