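import Groth.Agent.Lib.Henselian.LocalRing
import Groth.Agent.Lib.Henselian.Etale
import Groth.Prelude.Def_EssEt
import Mathlib.RingTheory.Unramified.LocalRing

/-!
# Essentially étale local algebras

* `existsUnique_lift`: unique lifting into henselian local rings along a residue map
* `isLocalHom_algHom`, `algHom_ext`: rigidity
-/

universe u v

open IsLocalRing

namespace Groth.Agent.Lib.Henselian.EssEtale

variable {A : Type u} [CommRing A] [IsLocalRing A]

lemma formallyEtale {B : Type u} [CommRing B] [Algebra A B]
    (h : EGA4loc.IsEssentiallyEtale A B) :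
    Algebra.FormallyEtale A B ∧ Algebra.EssFiniteType A B := by
  obtain ⟨C, _, _, q, _, _, -, ⟨e⟩⟩ := h
  have : Algebra.FormallyEtale C (Localization.AtPrime q) :=
    Algebra.FormallyEtale.of_isLocalization q.primeCompl
  have : Algebra.FormallyEtale A (Localization.AtPrime q) :=
    Algebra.FormallyEtale.comp A C _
  have : Algebra.EssFiniteType C (Localization.AtPrime q) :=
    Algebra.EssFiniteType.of_isLocalization (Localization.AtPrime q) q.primeCompl
  have : Algebra.EssFiniteType A (Localization.AtPrime q) := Algebra.EssFiniteType.comp A C _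
  exact ⟨Algebra.FormallyEtale.of_equiv e.symm,
    Algebra.EssFiniteType.of_surjective e.symm.toAlgHom e.symm.surjective⟩

variable {A' : Type u} [CommRing A'] [IsLocalRing A'] [Algebra A A'] [IsLocalHom (algebraMap A A')]

lemma map_maximalIdeal (h : EGA4loc.IsEssentiallyEtale A A') :
    (maximalIdeal A).map (algebraMap A A') = maximalIdeal A' :=
  have := (formallyEtale h).1
  have := (formallyEtale h).2
  Algebra.FormallyUnramified.map_maximalIdeal

/-- Algebra maps out of an essentially étale local algebra are local. -/
theorem isLocalHom_algHom (h : EGA4loc.IsEssentiallyEtale A A') {B : Type v} [CommRing B]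
    [IsLocalRing B] [Algebra A B] [IsLocalHom (algebraMap A B)] (f : A' →ₐ[A] B) :
    IsLocalHom f.toRingHom := by
  refine ((local_hom_TFAE f.toRingHom).out 0 2).mpr ?_
  rw [← map_maximalIdeal h, Ideal.map_map, AlgHom.toRingHom_eq_coe, AlgHom.comp_algebraMap]
  exact ((local_hom_TFAE (algebraMap A B)).out 0 2).mp ‹IsLocalHom (algebraMap A B)›

omit [IsLocalRing A'] [IsLocalHom (algebraMap A A')] in
/-- Maps out of an essentially étale local algebra are determined on residue fields. -/
theorem algHom_ext (h : EGA4loc.IsEssentiallyEtale A A') {B : Type v} [CommRing B]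
    [IsLocalRing B] [Algebra A B] {f g : A' →ₐ[A] B}
    (hfg : ∀ x, residue B (f x) = residue B (g x)) : f = g :=
  have := (formallyEtale h).1
  have := (formallyEtale h).2
  Etale.algHom_ext_of_isLocalHom (residue B) f g hfg

/-- Two algebra maps from a strictly essentially étale local algebra are equal. -/
theorem algHom_subsingleton (h : EGA4loc.IsStrictlyEssentiallyEtale A A') {B : Type v} [CommRing B]
    [IsLocalRing B] [Algebra A B] [IsLocalHom (algebraMap A B)] :
    Subsingleton (A' →ₐ[A] B) := by
  refine ⟨fun f g => algHom_ext h.1 fun x => ?_⟩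
  obtain ⟨a, ha⟩ := h.2.2 (residue A' x)
  obtain ⟨a, rfl⟩ := residue_surjective a
  rw [ResidueField.map_residue] at ha
  have key : ∀ f : A' →ₐ[A] B, residue B (f x) = residue B (algebraMap A B a) := fun f => by
    have := isLocalHom_algHom h.1 f
    rw [← f.commutes a]
    exact (congrArg (ResidueField.map f.toRingHom) ha).symm
  rw [key f, key g]

/-- Essentially étale local algebras lift uniquely into henselian local rings along a residue map. -/
theorem existsUnique_lift (h : EGA4loc.IsEssentiallyEtale A A') (B : Type v) [CommRing B]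
    [HenselianLocalRing B] (ψ : A →+* B) [IsLocalHom ψ]
    (α : ResidueField A' →+* ResidueField B)
    (hα : α.comp (ResidueField.map (algebraMap A A')) = ResidueField.map ψ) :
    ∃! ψ' : A' →+* B, IsLocalHom ψ' ∧ ψ'.comp (algebraMap A A') = ψ ∧
      ∀ x : A', residue B (ψ' x) = α (residue A' x) := by
  let : Algebra A B := ψ.toAlgebra
  have : HenselianRing B (maximalIdeal B) :=
    LocalRing.henselianLocalRing_iff_henselianRing.mp inferInstance
  have hext : ∀ f g : A' →+* B, f.comp (algebraMap A A') = ψ → g.comp (algebraMap A A') = ψ →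
      (∀ x, residue B (f x) = residue B (g x)) → f = g := fun f g hf hg hfg =>
    congrArg AlgHom.toRingHom (algHom_ext h
      (f := ⟨f, RingHom.congr_fun hf⟩) (g := ⟨g, RingHom.congr_fun hg⟩) hfg)
  obtain ⟨C, _, _, q, _, hC, hq, ⟨e⟩⟩ := id h
  let κ : A' →+* ResidueField B := α.comp (residue A')
  have hκ : ∀ a, κ (algebraMap A A' a) = residue B (ψ a) := fun a => by
    have := RingHom.congr_fun hα (residue A a)
    rwa [RingHom.comp_apply, ResidueField.map_residue, ResidueField.map_residue] at this
  let σ : C →ₐ[A] B ⧸ maximalIdeal B :=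
    ⟨κ.comp ((e.symm.toAlgHom.comp (IsScalarTower.toAlgHom A C (Localization.AtPrime q))).toRingHom),
      fun a => by
        show κ (e.symm (algebraMap C _ (algebraMap A C a))) = _
        rw [← IsScalarTower.algebraMap_apply, e.symm.commutes, hκ]
        rfl⟩
  obtain ⟨τ, hτ⟩ := Etale.exists_algHom_lift (maximalIdeal B) σ
  have hu : ∀ y : q.primeCompl, IsUnit (τ y) := fun y => by
    refine IsUnit.of_map (residue B) _ ?_
    rw [show residue B (τ y) = σ y from AlgHom.congr_fun hτ y]
    exact RingHom.isUnit_map κ
      ((IsLocalization.map_units (Localization.AtPrime q) y).map e.symm.toAlgHom)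
  let g : Localization.AtPrime q →ₐ[A] B :=
    IsLocalization.liftAlgHom (M := q.primeCompl) (S := Localization.AtPrime q) hu
  let ψ' : A' →+* B := (g.comp e.toAlgHom).toRingHom
  have hψ' : ψ'.comp (algebraMap A A') = ψ := (g.comp e.toAlgHom).comp_algebraMap
  have hres : ∀ x : A', residue B (ψ' x) = κ x := by
    intro x
    obtain ⟨y, rfl⟩ := e.symm.surjective x
    show residue B (g (e (e.symm y))) = _
    rw [e.apply_symm_apply]
    have : (residue B).comp g.toRingHom = κ.comp (e.symm : Localization.AtPrime q →+* A') := by
      refine IsLocalization.ringHom_ext q.primeCompl (RingHom.ext fun c => ?_)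
      show residue B (IsLocalization.lift hu (algebraMap C _ c)) = _
      rw [IsLocalization.lift_eq]
      exact AlgHom.congr_fun hτ c
    exact RingHom.congr_fun this y
  have hloc : IsLocalHom ψ' := ⟨fun x hx => by
    by_contra hne
    have h0 : residue A' x = 0 := (residue_eq_zero_iff x).mpr ((mem_maximalIdeal x).mpr hne)
    have h1 := hx.map (residue B)
    rw [hres, RingHom.comp_apply, h0, map_zero] at h1
    exact h1.ne_zero rfl⟩
  refine ⟨ψ', ⟨hloc, hψ', hres⟩, fun f hf => hext f ψ' hf.2.1 hψ' fun x => ?_⟩
  rw [hf.2.2, hres]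
  rfl

end Groth.Agent.Lib.Henselian.EssEtale
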