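import Groth.Agent.Lib.Henselian.GRingHens
import Groth.Agent.Lib.GRing.Complete
import Groth.Agent.S0600
import Groth.Agent.H21.PopescuApprox
import Groth.Agent.H48.PairNoeth
import Groth.Agent.Lib.Henselian.PairUP

/-!
# Approximating maps of completions by étale neighbourhoods

* `exists_sub_mem_pow`: neighbourhoods are surjective modulo powers
* `exists_nbhd_approx`
-/

universe u

open TensorProduct

set_option linter.style.haveILetI false

namespace Groth.Agent.Lib.Henselian.ApproxCompletion

/-- A neighbourhood agrees with the ring modulo all powers. -/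
theorem exists_sub_mem_pow {C S : Type u} [CommRing C] [CommRing S] [Algebra C S] (J : Ideal C)
    (h : ∀ s : S, ∃ c, s - algebraMap C S c ∈ J.map (algebraMap C S)) :
    ∀ (k : ℕ) (s : S), ∃ c, s - algebraMap C S c ∈ (J ^ k).map (algebraMap C S) := by
  intro k
  induction k with
  | zero => exact fun s => ⟨0, by rw [pow_zero, Ideal.one_eq_top, Ideal.map_top]; trivial⟩
  | succ k ih =>
    have key : ∀ x ∈ (J ^ k).map (algebraMap C S),
        ∃ c, x - algebraMap C S c ∈ (J ^ (k + 1)).map (algebraMap C S) := by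
      intro x hx
      induction hx using Submodule.span_induction with
      | mem y hy => obtain ⟨c, -, rfl⟩ := hy; exact ⟨c, by simp⟩
      | zero => exact ⟨0, by simp⟩
      | add y z _ _ hy hz =>
        obtain ⟨c, hc⟩ := hy
        obtain ⟨d, hd⟩ := hz
        exact ⟨c + d, by rw [map_add, add_sub_add_comm]; exact add_mem hc hd⟩
      | smul r y hy' hy =>
        obtain ⟨c, hc⟩ := hy
        obtain ⟨d, hd⟩ := h r
        refine ⟨d * c, ?_⟩
        rw [show r • y - algebraMap C S (d * c) =
          (r - algebraMap C S d) * y + algebraMap C S d * (y - algebraMap C S c) by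
            rw [smul_eq_mul, map_mul]; ring]
        refine add_mem ?_ (Ideal.mul_mem_left _ _ hc)
        rw [pow_succ', Ideal.map_mul]
        exact Ideal.mul_mem_mul hd hy'
    intro s
    obtain ⟨c, hc⟩ := ih s
    obtain ⟨d, hd⟩ := key _ hc
    exact ⟨c + d, by rwa [map_add, ← sub_sub]⟩

/-- A map to the completion of a G-ring is congruent to one to an étale neighbourhood. -/
theorem exists_nbhd_approx {A C : Type u} [CommRing A] [IsNoetherianRing A] [CommRing C] [Algebra A C]
    (hC : CAlg.IsGRing C) (J : Ideal C) (B : Type u) [CommRing B] [Algebra A B] [Algebra.FiniteType A B]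
    (σ : B →ₐ[A] AdicCompletion J C) (N : ℕ) :
    ∃ (S : Type u) (_ : CommRing S) (_ : Algebra C S) (_ : Algebra A S) (_ : IsScalarTower A C S)
      (_ : Algebra.Etale C S) (_ : PairHenselization.IsNbhd J S) (ψ : B →ₐ[A] S),
      ∀ (b : B) (c : C), AdicCompletion.evalₐ J N (σ b) = Ideal.Quotient.mk _ c →
        ψ b - algebraMap C S c ∈ (J ^ N).map (algebraMap C S) := by
  classical
  haveI := hC.1
  haveI : Algebra.FinitePresentation A B := Algebra.FinitePresentation.of_finiteType.1 inferInstance
  let H := PairHenselization.PairHenselization J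
  have hH : Hens2.IsPairHenselization C J H := PairHenselization.isPairHenselization J
  haveI : IsNoetherianRing H := Groth.Agent.H48.PairNoeth.isNoetherianRing hH
  haveI : HenselianRing H (J.map (algebraMap C H)) := hH.1
  have hG : CAlg.IsGRing H := GRingHens.isGRing_pairHenselization_of
    (fun C _ _ _ _ => Groth.Agent.Lib.GRing.Complete.isGRing C) hC hH
  let JH := J.map (algebraMap C H)
  letI : Algebra A H := ((algebraMap C H).comp (algebraMap A C)).toAlgebra
  haveI : IsScalarTower A C H := IsScalarTower.of_algebraMap_eq fun _ => rfl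
  have hle : ∀ k, J ^ k ≤ (JH ^ k).comap (IsScalarTower.toAlgHom A C H).toRingHom := fun k =>
    Ideal.map_le_iff_le_comap.1 (le_of_eq (Ideal.map_pow _ _ _))
  let tr : ∀ k, B →ₐ[A] H ⧸ JH ^ k := fun k =>
    (Ideal.quotientMapₐ _ (IsScalarTower.toAlgHom A C H) (hle k)).comp
      (((AdicCompletion.evalₐ J k).restrictScalars A).comp σ)
  let trH : ∀ k, H ⊗[A] B →ₐ[H] H ⧸ JH ^ k := fun k =>
    Algebra.TensorProduct.lift (Algebra.ofId H _) (tr k) fun _ _ => Commute.all _ _
  have htrH : ∀ k b, trH k ((1 : H) ⊗ₜ b) = tr k b := fun k b => by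
    simp only [trH, Algebra.TensorProduct.lift_tmul, map_one, one_mul]
  have htr : ∀ (k : ℕ) (b : B) (c : C), AdicCompletion.evalₐ J k (σ b) = Ideal.Quotient.mk _ c →
      tr k b = Ideal.Quotient.mk _ (algebraMap C H c) := fun k b c hc => by
    show Ideal.quotientMapₐ _ (IsScalarTower.toAlgHom A C H) (hle k) (AdicCompletion.evalₐ J k (σ b)) = _
    rw [hc]
    rfl
  have hcompat : ∀ {k l : ℕ} (h : k ≤ l),
      (Ideal.Quotient.factorₐ H (Ideal.pow_le_pow_right h)).comp (trH l) = trH k := fun {k l} h => by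
    refine Algebra.TensorProduct.ext (Subsingleton.elim _ _) (AlgHom.ext fun b => ?_)
    show Ideal.Quotient.factor (Ideal.pow_le_pow_right h) (trH l ((1 : H) ⊗ₜ b)) = trH k ((1 : H) ⊗ₜ b)
    obtain ⟨s, hs⟩ := AdicCompletion.mk_surjective J C (σ b)
    rw [htrH, htrH, htr l b (s l) (by rw [← hs, AdicCompletion.evalₐ_mk]),
      htr k b (s k) (by rw [← hs, AdicCompletion.evalₐ_mk]), Ideal.Quotient.factor_mk, Ideal.Quotient.eq,
      ← map_sub]
    refine hle k ?_
    have := s.property h
    rw [SModEq.sub_mem] at this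
    rw [← Ideal.neg_mem_iff, neg_sub]
    simpa using this
  let φ : H ⊗[A] B →ₐ[H] AdicCompletion JH H := AdicCompletion.liftAlgHom _ trH hcompat
  obtain ⟨τ, hτ⟩ := Groth.Agent.H21.PopescuApprox.exists_algHom JH (Groth.Agent.S0600.result H hG JH)
    (H ⊗[A] B) φ N
  let τ₀ : B →ₐ[A] H := (τ.restrictScalars A).comp Algebra.TensorProduct.includeRight
  obtain ⟨S, _, _, _, _, hE, hS, π, ψ, hψ⟩ := PairUP.exists_factor hH τ₀
  refine ⟨S, inferInstance, inferInstance, inferInstance, inferInstance, hE, hS, ψ, fun b c hc => ?_⟩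
  obtain ⟨c', hc'⟩ := exists_sub_mem_pow J (PairHenselization.exists_sub_mem_of_isNbhd hS) N (ψ b)
  have h1 : Ideal.Quotient.mk (JH ^ N) (π (ψ b)) = Ideal.Quotient.mk _ (algebraMap C H c) := by
    rw [show π (ψ b) = τ₀ b from AlgHom.congr_fun hψ b]
    show Ideal.Quotient.mk (JH ^ N) (τ ((1 : H) ⊗ₜ b)) = _
    rw [hτ, AdicCompletion.evalₐ_liftAlgHom _ _ hcompat, htrH, htr N b c hc]
  have h2 : π (ψ b) - algebraMap C H c' ∈ (J ^ N).map (algebraMap C H) := by
    have h := Ideal.mem_map_of_mem π.toRingHom hc'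
    rw [Ideal.map_map, show π.toRingHom.comp (algebraMap C S) = algebraMap C H from π.comp_algebraMap] at h
    change π (ψ b - algebraMap C S c') ∈ _ at h
    rwa [map_sub, π.commutes] at h
  have h3 : c' - c ∈ J ^ N := by
    rw [Ideal.Quotient.eq, ← Ideal.map_pow] at h1
    have h4 := sub_mem h1 h2
    rw [sub_sub_sub_cancel_left, ← map_sub] at h4
    have h5 := (PairUP.quotientMap_pow_bijective hH N).1 (a₁ := Ideal.Quotient.mk (J ^ N) (c' - c)) (a₂ := 0)
      (by rw [Ideal.quotientMap_mk, map_zero, Ideal.Quotient.eq_zero_iff_mem]; exact h4)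
    rwa [Ideal.Quotient.eq_zero_iff_mem] at h5
  have h6 := add_mem hc' (Ideal.mem_map_of_mem (algebraMap C S) h3)
  rwa [map_sub, sub_add_sub_cancel] at h6

end Groth.Agent.Lib.Henselian.ApproxCompletion
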