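import Groth.Agent.Lib.Henselian.PairUP
import Mathlib.Algebra.Colimit.DirectLimit

/-!
# Filtered colimits of henselian pairs

* `mem_iSup_map`, `henselianRing_directLimit`
* `isPairHenselization_directLimit`: henselization of pairs commutes with filtered colimits
-/

universe u

namespace Groth.Agent.Lib.Henselian.ColimitPair

variable {ι : Type u} [Preorder ι] [IsDirectedOrder ι] [Nonempty ι] {G : ι → Type u}
  [∀ i, CommRing (G i)] {f : ∀ i j : ι, i ≤ j → (G i →+* G j)}
  [DirectedSystem G (fun i j h => f i j h)] {J : ∀ i, Ideal (G i)}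

local notation "of" => DirectLimit.Ring.of G f

theorem exists_of (x : DirectLimit G f) : ∃ i y, of i y = x := by
  induction x using DirectLimit.induction with | _ i y
  exact ⟨i, y, rfl⟩

theorem exists_map_eq {i : ι} {x y : G i} (h : of i x = of i y) :
    ∃ (j : ι) (hij : i ≤ j), f i j hij x = f i j hij y := by
  obtain ⟨k, hi, hi', e⟩ := Quotient.exact h
  exact ⟨k, hi, e⟩

theorem of_f {i j : ι} (h : i ≤ j) (x : G i) : of j (f i j h x) = of i x :=
  DirectLimit.Ring.of_f h x

theorem mem_iSup_map (hJ : ∀ (i j : ι) (h : i ≤ j), (J i).map (f i j h) ≤ J j) {x : DirectLimit G f}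
    (hx : x ∈ ⨆ i, (J i).map (of i)) : ∃ i, ∃ y ∈ J i, of i y = x := by
  induction hx using Submodule.iSup_induction' with
  | mem i x hx =>
    induction hx using Submodule.span_induction with
    | mem z hz =>
      obtain ⟨y, hy, rfl⟩ := hz
      exact ⟨i, y, hy, rfl⟩
    | zero => exact ⟨i, 0, zero_mem _, map_zero _⟩
    | add a b _ _ ha hb =>
      obtain ⟨i₁, y₁, h₁, rfl⟩ := ha
      obtain ⟨i₂, y₂, h₂, rfl⟩ := hb
      obtain ⟨k, k₁, k₂⟩ := exists_ge_ge i₁ i₂
      exact ⟨k, f i₁ k k₁ y₁ + f i₂ k k₂ y₂, add_mem (hJ _ _ k₁ (Ideal.mem_map_of_mem _ h₁))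
        (hJ _ _ k₂ (Ideal.mem_map_of_mem _ h₂)), by rw [map_add, of_f, of_f]⟩
    | smul c a _ ha =>
      obtain ⟨i₁, y₁, h₁, rfl⟩ := ha
      obtain ⟨i₂, d, rfl⟩ := exists_of c
      obtain ⟨k, k₁, k₂⟩ := exists_ge_ge i₁ i₂
      exact ⟨k, f i₂ k k₂ d * f i₁ k k₁ y₁, Ideal.mul_mem_left _ _ (hJ _ _ k₁ (Ideal.mem_map_of_mem _ h₁)),
        by rw [map_mul, of_f, of_f]; rfl⟩
  | zero => exact ⟨Classical.arbitrary ι, 0, zero_mem _, map_zero _⟩
  | add a b _ _ ha hb =>
    obtain ⟨i₁, y₁, h₁, rfl⟩ := ha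
    obtain ⟨i₂, y₂, h₂, rfl⟩ := hb
    obtain ⟨k, k₁, k₂⟩ := exists_ge_ge i₁ i₂
    exact ⟨k, f i₁ k k₁ y₁ + f i₂ k k₂ y₂, add_mem (hJ _ _ k₁ (Ideal.mem_map_of_mem _ h₁))
      (hJ _ _ k₂ (Ideal.mem_map_of_mem _ h₂)), by rw [map_add, of_f, of_f]⟩

/-- An element of the extended ideal at a stage lies in the stage ideal further on. -/
theorem exists_map_mem (hJ : ∀ (i j : ι) (h : i ≤ j), (J i).map (f i j h) ≤ J j) {i : ι} {y : G i}
    (hy : of i y ∈ ⨆ i, (J i).map (of i)) : ∃ (j : ι) (h : i ≤ j), f i j h y ∈ J j := by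
  obtain ⟨i', y', hy', he⟩ := mem_iSup_map hJ hy
  obtain ⟨k, k₁, k₂⟩ := exists_ge_ge i i'
  obtain ⟨l, hkl, hl⟩ := exists_map_eq (x := f i k k₁ y) (y := f i' k k₂ y') (by rw [of_f, of_f, he])
  refine ⟨l, k₁.trans hkl, ?_⟩
  rw [DirectedSystem.map_map (f := fun i j h => f i j h), DirectedSystem.map_map (f := fun i j h => f i j h)] at hl
  rw [hl]
  exact hJ _ _ _ (Ideal.mem_map_of_mem _ hy')

/-- Filtered colimits of henselian pairs are henselian. -/
theorem henselianRing_directLimit (hJ : ∀ (i j : ι) (h : i ≤ j), (J i).map (f i j h) ≤ J j)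
    (hH : ∀ i, HenselianRing (G i) (J i)) :
    HenselianRing (DirectLimit G f) (⨆ i, (J i).map (of i)) where
  jac := Basic.le_jacobson_bot_of_isUnit_add_one fun x hx => by
    obtain ⟨i, y, hy, rfl⟩ := mem_iSup_map hJ hx
    rw [← map_one (of i), ← map_add]
    exact (Basic.isUnit_of_sub_one_mem (hH i).jac (by simpa using hy)).map _
  is_henselian p hp a₀ h₁ h₂ := by
    classical
    obtain ⟨v, hv⟩ := isUnit_iff_exists_inv.mp h₂
    obtain ⟨v, rfl⟩ := Ideal.Quotient.mk_surjective v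
    rw [← map_mul, ← map_one (Ideal.Quotient.mk _), Ideal.Quotient.eq] at hv
    have hlift : ∀ s : Finset (DirectLimit G f), ∃ i, ∀ x ∈ s, ∃ y, of i y = x := by
      intro s
      induction s using Finset.induction with
      | empty => exact ⟨Classical.arbitrary ι, by simp⟩
      | insert a s ha ih =>
        obtain ⟨i, hi⟩ := ih
        obtain ⟨j, y, rfl⟩ := exists_of a
        obtain ⟨k, k₁, k₂⟩ := exists_ge_ge i j
        refine ⟨k, fun x hx => ?_⟩
        rcases Finset.mem_insert.mp hx with rfl | hx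
        · exact ⟨f j k k₂ y, of_f k₂ y⟩
        · obtain ⟨y', rfl⟩ := hi x hx
          exact ⟨f i k k₁ y', of_f k₁ y'⟩
    obtain ⟨i, hi⟩ := hlift (insert a₀ (insert v p.coeffs))
    have hl : p ∈ Polynomial.lifts (of i) := by
      rw [Polynomial.lifts_iff_coeff_lifts]
      intro k
      by_cases hk : p.coeff k = 0
      · exact ⟨0, by rw [hk, map_zero]⟩
      · exact hi _ (Finset.mem_insert_of_mem (Finset.mem_insert_of_mem (Polynomial.coeff_mem_coeffs hk)))
    obtain ⟨q, hq, -, hqm⟩ := Polynomial.lifts_and_natDegree_eq_and_monic hl hp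
    obtain ⟨b, hb⟩ := hi a₀ (Finset.mem_insert_self _ _)
    obtain ⟨w, hw⟩ := hi v (Finset.mem_insert_of_mem (Finset.mem_insert_self _ _))
    have hev : ∀ (r : Polynomial (G i)), (r.map (of i)).eval a₀ = of i (r.eval b) := fun r => by
      rw [← hb, Polynomial.eval_map, Polynomial.eval₂_at_apply]
    rw [← hq, hev] at h₁
    rw [← hq, Polynomial.derivative_map, hev, ← hw, ← map_mul, ← map_one (of i), ← map_sub] at hv
    obtain ⟨j₁, hij₁, hj₁⟩ := exists_map_mem hJ h₁
    obtain ⟨j₂, hij₂, hj₂⟩ := exists_map_mem hJ hv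
    obtain ⟨k, k₁, k₂⟩ := exists_ge_ge j₁ j₂
    have e1 : (q.map (f i k (hij₁.trans k₁))).eval (f i k (hij₁.trans k₁) b) ∈ J k := by
      rw [Polynomial.eval_map, Polynomial.eval₂_at_apply, ← DirectedSystem.map_map (f := fun i j h => f i j h) hij₁ k₁]
      exact hJ _ _ k₁ (Ideal.mem_map_of_mem _ hj₁)
    have e2 : IsUnit (Ideal.Quotient.mk (J k)
        ((q.map (f i k (hij₁.trans k₁))).derivative.eval (f i k (hij₁.trans k₁) b))) := by
      refine IsUnit.of_mul_eq_one (Ideal.Quotient.mk (J k) (f i k (hij₁.trans k₁) w)) ?_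
      rw [Polynomial.derivative_map, Polynomial.eval_map, Polynomial.eval₂_at_apply, ← map_mul,
        ← map_mul, ← map_one (Ideal.Quotient.mk (J k)), Ideal.Quotient.eq,
        ← map_one (f i k (hij₁.trans k₁)), ← map_sub]
      rw [← DirectedSystem.map_map (f := fun i j h => f i j h) hij₂ k₂]
      exact hJ _ _ k₂ (Ideal.mem_map_of_mem _ hj₂)
    obtain ⟨r, hr, hr'⟩ := (hH k).is_henselian _ (hqm.map _) _ e1 e2
    refine ⟨of k r, ?_, ?_⟩
    · have hqk : p = (q.map (f i k (hij₁.trans k₁))).map (of k) := by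
        rw [Polynomial.map_map, ← hq]
        congr 1
        exact RingHom.ext fun y => (of_f _ y).symm
      rw [Polynomial.IsRoot, hqk, Polynomial.eval_map, Polynomial.eval₂_at_apply, hr, map_zero]
    · rw [← hb, ← of_f (hij₁.trans k₁) b, ← map_sub]
      exact Ideal.mem_iSup_of_mem k (Ideal.mem_map_of_mem _ hr')

/-- Henselization of pairs commutes with filtered colimits. -/
theorem isPairHenselization_directLimit {B : ι → Type u} [∀ i, CommRing (B i)] [∀ i, Algebra (G i) (B i)]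
    (hJ : ∀ (i j : ι) (h : i ≤ j), (J i).map (f i j h) ≤ J j)
    (hB : ∀ i, Hens2.IsPairHenselization (G i) (J i) (B i))
    (g : ∀ i j : ι, i ≤ j → (B i →+* B j)) [DirectedSystem B (fun i j h => g i j h)]
    (hg : ∀ (i j : ι) (h : i ≤ j), (g i j h).comp (algebraMap (G i) (B i)) =
      (algebraMap (G j) (B j)).comp (f i j h))
    [Algebra (DirectLimit G f) (DirectLimit B g)]
    (halg : ∀ (i : ι) (x : G i), algebraMap (DirectLimit G f) (DirectLimit B g) (of i x) =
      DirectLimit.Ring.of B g i (algebraMap (G i) (B i) x)) :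
    Hens2.IsPairHenselization (DirectLimit G f) (⨆ i, (J i).map (of i)) (DirectLimit B g) := by
  have hc : ∀ i, (algebraMap (DirectLimit G f) (DirectLimit B g)).comp (of i) =
      (DirectLimit.Ring.of B g i).comp (algebraMap (G i) (B i)) := fun i => RingHom.ext (halg i)
  have hmap : (⨆ i, (J i).map (of i)).map (algebraMap (DirectLimit G f) (DirectLimit B g)) =
      ⨆ i, ((J i).map (algebraMap (G i) (B i))).map (DirectLimit.Ring.of B g i) := by
    rw [Ideal.map_iSup]
    exact iSup_congr fun i => by rw [Ideal.map_map, hc, ← Ideal.map_map]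
  refine ⟨?_, fun C _ K φ hC hφ => ?_⟩
  · rw [hmap]
    refine henselianRing_directLimit (G := B) (f := g) (fun i j h => ?_) fun i => (hB i).1
    rw [Ideal.map_map, hg i j h, ← Ideal.map_map]
    exact Ideal.map_mono (hJ i j h)
  have hφi : ∀ i, (J i).map (φ.comp (of i)) ≤ K := fun i => by
    rw [← Ideal.map_map]
    exact (Ideal.map_mono (le_iSup (fun i => (J i).map (of i)) i)).trans hφ
  choose γ hγ using fun i => (hB i).2 C K (φ.comp (of i)) hC (hφi i)
  have hcompat : ∀ i j h x, γ j (g i j h x) = γ i x := by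
    intro i j h
    refine RingHom.congr_fun ((hγ i).2 ((γ j).comp (g i j h)) ?_)
    show ((γ j).comp (g i j h)).comp (algebraMap (G i) (B i)) = φ.comp (of i)
    rw [RingHom.comp_assoc, hg i j h, ← RingHom.comp_assoc, show (γ j).comp (algebraMap (G j) (B j)) =
      φ.comp (of j) from (hγ j).1]
    exact RingHom.ext fun x => congrArg φ (of_f h x)
  refine ⟨DirectLimit.Ring.lift B g C γ hcompat, DirectLimit.Ring.hom_ext C fun i => ?_,
    fun γ' hγ' => DirectLimit.Ring.hom_ext C fun i => ?_⟩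
  · rw [RingHom.comp_assoc, hc, ← RingHom.comp_assoc, DirectLimit.Ring.lift_comp_of]
    exact (hγ i).1
  · rw [DirectLimit.Ring.lift_comp_of]
    refine (hγ i).2 _ ?_
    show (γ'.comp (DirectLimit.Ring.of B g i)).comp (algebraMap (G i) (B i)) = φ.comp (of i)
    rw [RingHom.comp_assoc, ← hc, ← RingHom.comp_assoc, show γ'.comp _ = φ from hγ']

end Groth.Agent.Lib.Henselian.ColimitPair
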