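import Groth.Agent.Lib.Henselian.Pair
import Mathlib.AlgebraicGeometry.PullbackCarrier
import Mathlib.AlgebraicGeometry.Morphisms.ClosedImmersion
import Mathlib.AlgebraicGeometry.Morphisms.Finite
import Mathlib.RingTheory.Spectrum.Prime.Topology

/-!
# Henselian couples of schemes

* `Lifts`: clopen subsets lift uniquely along a map
* `lifts_congr`: this depends only on the image of an embedding
* `isCouple`, `isCouple_spec_iff`: henselian pairs give henselian couples
* `isCouple_pullback`, `eq_univ_of_isOpen`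
-/

universe u v w

open CategoryTheory Limits AlgebraicGeometry TopologicalSpace Topology PrimeSpectrum
open Groth.Agent.Lib.Henselian.Pair

namespace Groth.Agent.Lib.Henselian.Couple

variable {P : Type u} {P' : Type v} {Y : Type w} [TopologicalSpace P] [TopologicalSpace P']
  [TopologicalSpace Y]

/-- Clopen subsets lift uniquely along `j`. -/
def Lifts (j : P → Y) : Prop :=
  ∀ V : Set P, IsClopen V → ∃! U : Set Y, IsClopen U ∧ j ⁻¹' U = V

theorem lifts_congr {j : P → Y} {j' : P' → Y} (hj : IsEmbedding j) (hj' : IsEmbedding j')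
    (hr : Set.range j = Set.range j') : Lifts j ↔ Lifts j' := by
  let e : P ≃ₜ P' := hj.toHomeomorph.trans ((Homeomorph.setCongr hr).trans hj'.toHomeomorph.symm)
  have he : j' ∘ e = j := funext fun x => by
    change j' (hj'.toHomeomorph.symm (Homeomorph.setCongr hr (hj.toHomeomorph x))) = j x
    exact congrArg Subtype.val (hj'.toHomeomorph.apply_symm_apply (Homeomorph.setCongr hr (hj.toHomeomorph x)))
  have hiff : ∀ (U : Set Y) (V : Set P'), j ⁻¹' U = e ⁻¹' V ↔ j' ⁻¹' U = V := fun U V => by
    rw [← he, Set.preimage_comp, (Set.preimage_injective.mpr e.surjective).eq_iff]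
  constructor
  · intro h V hV
    simpa only [hiff] using h (e ⁻¹' V) (hV.preimage e.continuous)
  · intro h V hV
    have := h (e.symm ⁻¹' V) (hV.preimage e.symm.continuous)
    simp only [← hiff] at this
    simpa only [← Set.preimage_comp, e.symm_comp_self, Set.preimage_id] using this

/-- If clopens lift uniquely and the image is empty, so is the space. -/
theorem isEmpty_of_lifts {j : P → Y} (h : Lifts j) [IsEmpty P] : IsEmpty Y := by
  refine ⟨fun y => ?_⟩
  have := (h ∅ isClopen_empty).unique (y₁ := ∅) (y₂ := Set.univ) ⟨isClopen_empty, rfl⟩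
    ⟨isClopen_univ, Subsingleton.elim _ _⟩
  exact (this.symm ▸ Set.mem_univ y : y ∈ (∅ : Set Y))

/-- Invariance under a homeomorphism of the target. -/
theorem lifts_comp_homeomorph {Z : Type*} [TopologicalSpace Z] {j : P → Y} (h : Lifts j) (e : Y ≃ₜ Z) :
    Lifts (e ∘ j) := by
  intro V hV
  obtain ⟨U, ⟨hU, hUV⟩, huniq⟩ := h V hV
  refine ⟨e.symm ⁻¹' U, ⟨hU.preimage e.symm.continuous, ?_⟩, fun U' hU' => ?_⟩
  · rw [← Set.preimage_comp, ← Function.comp_assoc, e.symm_comp_self, Function.id_comp, hUV]
  · rw [← huniq (e ⁻¹' U') ⟨hU'.1.preimage e.continuous, hU'.2⟩, ← Set.preimage_comp, e.self_comp_symm,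
      Set.preimage_id]

variable {X X₀ : Scheme.{u}}

/-- A henselian couple of schemes. -/
def IsCouple (i : X₀ ⟶ X) : Prop :=
  ∀ (Y : Scheme.{u}) (g : Y ⟶ X), IsFinite g → Lifts (pullback.fst g i).base

/-- The lifting condition only sees the preimage of the closed subset. -/
theorem lifts_pullback_iff (i : X₀ ⟶ X) [IsClosedImmersion i] {Y : Scheme.{u}} (g : Y ⟶ X)
    {P : Type u} [TopologicalSpace P] {j : P → Y} (hj : IsEmbedding j)
    (hr : Set.range j = g.base ⁻¹' Set.range i.base) : Lifts (pullback.fst g i).base ↔ Lifts j :=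
  lifts_congr (pullback.fst g i).isClosedEmbedding.isEmbedding hj (by rw [hr]; exact Scheme.Pullback.range_fst g i)

/-- Henselian couples are stable under finite base change. -/
theorem isCouple_pullback (i : X₀ ⟶ X) [IsClosedImmersion i] (hi : IsCouple i) {Y : Scheme.{u}}
    (h : Y ⟶ X) [IsFinite h] : IsCouple (pullback.fst h i) := by
  intro Z g hg
  refine (lifts_pullback_iff (pullback.fst h i) g (pullback.fst (g ≫ h) i).isClosedEmbedding.isEmbedding ?_).mpr
    (hi Z (g ≫ h) inferInstance)
  refine (Scheme.Pullback.range_fst (g ≫ h) i).trans ?_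
  rw [Scheme.Pullback.range_fst h i]
  rfl

/-- An open subset containing the closed subset of a henselian couple is everything. -/
theorem eq_univ_of_isOpen (i : X₀ ⟶ X) [IsClosedImmersion i] (hi : IsCouple i) {Y : Scheme.{u}}
    (g : Y ⟶ X) [IsFinite g] (U : Set Y) (hU : IsOpen U)
    (hU₀ : Set.range (pullback.fst g i).base ⊆ U) : U = Set.univ := by
  let K := Scheme.IdealSheafData.vanishingIdeal ⟨Uᶜ, hU.isClosed_compl⟩
  have hK : Set.range K.subschemeι.base = Uᶜ := by
    simp [K, Scheme.IdealSheafData.range_subschemeι, Scheme.IdealSheafData.coe_support_vanishingIdeal]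
  have h := hi K.subscheme (K.subschemeι ≫ g) inferInstance
  have : IsEmpty ↥(pullback (K.subschemeι ≫ g) i) := ⟨fun z => by
    have h1 : (pullback.fst (K.subschemeι ≫ g) i).base z ∈
        Set.range (pullback.fst (K.subschemeι ≫ g) i).base := ⟨z, rfl⟩
    rw [show Set.range (pullback.fst (K.subschemeι ≫ g) i).base = _ from
      Scheme.Pullback.range_fst (K.subschemeι ≫ g) i] at h1
    have h2 : K.subschemeι.base ((pullback.fst (K.subschemeι ≫ g) i).base z) ∈
        Set.range (pullback.fst g i).base := by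
      rw [show Set.range (pullback.fst g i).base = _ from Scheme.Pullback.range_fst g i]
      exact h1
    have h3 : K.subschemeι.base ((pullback.fst (K.subschemeι ≫ g) i).base z) ∈ Uᶜ :=
      hK ▸ Set.mem_range_self _
    exact h3 (hU₀ h2)⟩
  have := isEmpty_of_lifts h
  rw [← Set.compl_empty_iff, ← hK]
  exact Set.range_eq_empty _

variable {A : Type u} [CommRing A] (I : Ideal A)

lemma range_spec_quotient :
    Set.range (Spec.map (CommRingCat.ofHom (Ideal.Quotient.mk I))).base = PrimeSpectrum.zeroLocus (I : Set A) := by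
  change Set.range (PrimeSpectrum.comap (Ideal.Quotient.mk I)) = _
  rw [range_comap_of_surjective _ _ Ideal.Quotient.mk_surjective, Ideal.mk_ker]

/-- Clopens lift along `Spec (B/IB) → Spec B` iff idempotents lift. -/
theorem lifts_comap_iff (B : Type u) [CommRing B] [Algebra A B] :
    Lifts (PrimeSpectrum.comap (Ideal.Quotient.mk (I.map (algebraMap A B)))) ↔
      Set.BijOn (Ideal.Quotient.mk (I.map (algebraMap A B)))
        {e : B | IsIdempotentElem e} {e | IsIdempotentElem e} := by
  set q := Ideal.Quotient.mk (I.map (algebraMap A B))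
  have key : ∀ e : B, PrimeSpectrum.comap q ⁻¹' (PrimeSpectrum.basicOpen e : Set (PrimeSpectrum B)) =
      (PrimeSpectrum.basicOpen (q e) : Set (PrimeSpectrum (B ⧸ I.map (algebraMap A B)))) := fun _ => rfl
  have hinj : ∀ {R : Type u} [CommRing R] (e e' : R), IsIdempotentElem e → IsIdempotentElem e' →
      (PrimeSpectrum.basicOpen e : Set (PrimeSpectrum R)) = PrimeSpectrum.basicOpen e' → e = e' :=
    fun e e' he he' h => PrimeSpectrum.basicOpen_injOn_isIdempotentElem he he' (Opens.ext h)
  constructor
  · intro h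
    refine ⟨fun e he => IsIdempotentElem.map he _, fun e he e' he' hee => ?_, fun ε hε => ?_⟩
    · refine hinj e e' he he' ?_
      exact (h _ ((PrimeSpectrum.isClopen_iff.mpr ⟨_, hε' e he, rfl⟩))).unique
        ⟨PrimeSpectrum.isClopen_iff.mpr ⟨e, he, rfl⟩, key e⟩
        ⟨PrimeSpectrum.isClopen_iff.mpr ⟨e', he', rfl⟩, by rw [key, hee]⟩
    · obtain ⟨U, ⟨hU, hUV⟩, -⟩ := h _ (PrimeSpectrum.isClopen_iff.mpr ⟨ε, hε, rfl⟩)
      obtain ⟨e, he, rfl⟩ := PrimeSpectrum.isClopen_iff.mp hU
      exact ⟨e, he, hinj _ _ (IsIdempotentElem.map he _) hε ((key e).symm.trans hUV)⟩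
  · intro h V hV
    obtain ⟨ε, hε, rfl⟩ := PrimeSpectrum.isClopen_iff.mp hV
    obtain ⟨e, he, rfl⟩ := h.surjOn hε
    refine ⟨_, ⟨PrimeSpectrum.isClopen_iff.mpr ⟨e, he, rfl⟩, key e⟩, ?_⟩
    rintro U ⟨hU, hUV⟩
    obtain ⟨e', he', rfl⟩ := PrimeSpectrum.isClopen_iff.mp hU
    rw [key] at hUV
    rw [h.injOn he' he (hinj _ _ (IsIdempotentElem.map he' _) (IsIdempotentElem.map he _) hUV)]
where
  hε' {B : Type u} [CommRing B] [Algebra A B] (e : B) (he : IsIdempotentElem e) :
      IsIdempotentElem (Ideal.Quotient.mk (I.map (algebraMap A B)) e) := IsIdempotentElem.map he _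

lemma range_comap_quotient_map (B : Type u) [CommRing B] [Algebra A B] :
    Set.range (comap (Ideal.Quotient.mk (I.map (algebraMap A B)))) =
      comap (algebraMap A B) ⁻¹' zeroLocus (I : Set A) := by
  rw [range_comap_of_surjective _ _ Ideal.Quotient.mk_surjective, Ideal.mk_ker,
    preimage_comap_zeroLocus, Ideal.map, zeroLocus_span]

/-- Henselian pairs are the henselian affine couples. -/
theorem isCouple_spec_iff :
    IsCouple (Spec.map (CommRingCat.ofHom (Ideal.Quotient.mk I))) ↔ HenselianRing A I := by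
  have : IsClosedImmersion (Spec.map (CommRingCat.ofHom (Ideal.Quotient.mk I))) :=
    IsClosedImmersion.spec_of_surjective _ Ideal.Quotient.mk_surjective
  have key : ∀ (B : Type u) [CommRing B] [Algebra A B],
      Lifts (pullback.fst (Spec.map (CommRingCat.ofHom (algebraMap A B)))
        (Spec.map (CommRingCat.ofHom (Ideal.Quotient.mk I)))).base ↔
      Lifts (PrimeSpectrum.comap (Ideal.Quotient.mk (I.map (algebraMap A B)))) := fun B _ _ => by
    refine lifts_pullback_iff _ _
      (PrimeSpectrum.isClosedEmbedding_comap_of_surjective _ _ Ideal.Quotient.mk_surjective).isEmbedding ?_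
    rw [range_spec_quotient]
    exact range_comap_quotient_map I B
  constructor
  · intro h
    refine henselianRing_of_finite_idempotents I fun B _ _ hB => ?_
    refine (lifts_comap_iff I B).mp ((key B).mp (h _ _ ?_))
    exact (IsFinite.SpecMap_iff _).mpr (RingHom.finite_algebraMap.mpr hB)
  · intro _ Y g hg
    have : IsAffine Y := isAffine_of_isAffineHom g
    obtain ⟨φ, hφ⟩ := Spec.map_surjective (Y.isoSpec.inv ≫ g)
    let : Algebra A Γ(Y, ⊤) := φ.hom.toAlgebra
    have hfin : Module.Finite A Γ(Y, ⊤) := by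
      have : IsFinite (Spec.map φ) := hφ ▸ inferInstance
      exact RingHom.finite_algebraMap.mp ((IsFinite.SpecMap_iff φ).mp this)
    let eY : Y ≃ₜ PrimeSpectrum Γ(Y, ⊤) := Y.isoSpec.schemeIsoToHomeo
    have h := lifts_comp_homeomorph ((lifts_comap_iff I Γ(Y, ⊤)).mpr (idempotents_bijOn I Γ(Y, ⊤))) eY.symm
    refine (lifts_pullback_iff _ g (eY.symm.isEmbedding.comp
      (PrimeSpectrum.isClosedEmbedding_comap_of_surjective _ _ Ideal.Quotient.mk_surjective).isEmbedding) ?_).mpr h
    have hg' : (g.base : Y → PrimeSpectrum A) = PrimeSpectrum.comap (algebraMap A Γ(Y, ⊤)) ∘ eY := by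
      have : g = Y.isoSpec.hom ≫ Spec.map φ := by simp [hφ]
      rw [this]
      rfl
    rw [range_spec_quotient, Set.range_comp, range_comap_quotient_map, eY.symm.image_eq_preimage_symm]
    exact (congrArg (fun F : Y → PrimeSpectrum A => F ⁻¹' zeroLocus (I : Set A)) hg').symm

end Groth.Agent.Lib.Henselian.Couple
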