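import Groth.Agent.Lib.Henselian.CoupleSections
import Mathlib.RingTheory.Etale.StandardEtale
import Mathlib.RingTheory.AdjoinRoot

/-!
# Global functions of a henselian couple

* `henselianRing_globalSections`
-/

universe u

open CategoryTheory Limits AlgebraicGeometry TopologicalSpace Topology Polynomial
open Groth.Agent.Lib.Henselian.Couple Groth.Agent.Lib.Henselian.CoupleSections

namespace Groth.Agent.Lib.Henselian.CoupleGlobal

lemma toSpecΓ_comp_injective {X : Scheme.{u}} {R : CommRingCat.{u}} (φ ψ : R ⟶ Γ(X, ⊤))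
    (h : X.toSpecΓ ≫ Spec.map φ = X.toSpecΓ ≫ Spec.map ψ) : φ = ψ := by
  have := congrArg (fun m => (Scheme.ΓSpecIso R).inv ≫ m.appTop) h
  simpa using this

variable {X X₀ : Scheme.{u}} (i : X₀ ⟶ X) [IsClosedImmersion i]

theorem henselianRing_globalSections (hi : IsCouple i) :
    HenselianRing (Γ(X, ⊤) : Type u) (RingHom.ker i.appTop.hom) where
  jac := Basic.le_jacobson_bot_of_isUnit_add_one fun x hx => by
    apply RingedSpace.isUnit_of_isUnit_germ X.toLocallyRingedSpace.toRingedSpace ⊤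
    intro y hy
    have hu := eq_univ_of_isOpen i hi (𝟙 X) (X.basicOpen (1 + x) : Set X) (X.basicOpen (1 + x)).isOpen ?_
    · exact (X.mem_basicOpen _ y hy).mp (Set.eq_univ_iff_forall.mp hu y)
    rintro _ ⟨z, rfl⟩
    have hc : pullback.fst (𝟙 X) i = pullback.snd (𝟙 X) i ≫ i := by
      simpa using pullback.condition (f := 𝟙 X) (g := i)
    rw [hc, Scheme.Hom.comp_apply]
    have h1 : i ⁻¹ᵁ X.basicOpen (1 + x) = ⊤ := by
      rw [Scheme.preimage_basicOpen]
      rw [show i.app ⊤ (1 + x) = 1 by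
        rw [map_add, map_one, show i.app ⊤ x = 0 from RingHom.mem_ker.mp hx, add_zero]]
      exact Scheme.basicOpen_of_isUnit _ isUnit_one
    exact (Set.ext_iff.mp (congrArg (fun U : X₀.Opens => (U : Set X₀)) h1) _).mpr trivial
  is_henselian f hf a₀ h₀ h₁ := by
    let SP : StandardEtalePair Γ(X, ⊤) := ⟨f, hf, derivative f, ⟨1, 0, 1, by simp⟩⟩
    let C := AdjoinRoot f
    let E := Localization.Away (AdjoinRoot.mk f (derivative f))
    have : Algebra.Etale Γ(X, ⊤) E := Algebra.Etale.of_equiv SP.equivAwayAdjoinRoot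
    have : Module.Finite Γ(X, ⊤) C := hf.finite_adjoinRoot
    let : Algebra Γ(X, ⊤) Γ(X₀, ⊤) := i.appTop.hom.toAlgebra
    have hx0 : SP.HasMap (algebraMap Γ(X, ⊤) Γ(X₀, ⊤) a₀) := by
      constructor
      · rw [Polynomial.aeval_algebraMap_apply_eq_algebraMap_eval]
        exact h₀
      · rw [Polynomial.aeval_algebraMap_apply_eq_algebraMap_eval]
        exact IsUnit.map (Ideal.Quotient.lift (RingHom.ker i.appTop.hom) (algebraMap Γ(X, ⊤) Γ(X₀, ⊤)) fun _ h => h) h₁
    let ψ₀ : E →ₐ[Γ(X, ⊤)] Γ(X₀, ⊤) := (SP.lift _ hx0).comp SP.equivAwayAdjoinRoot.symm.toAlgHom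
    let aE := CommRingCat.ofHom (algebraMap Γ(X, ⊤) E)
    let aC := CommRingCat.ofHom (algebraMap Γ(X, ⊤) C)
    let o := CommRingCat.ofHom (algebraMap C E)
    have : Etale (Spec.map aE) := (HasRingHomProperty.Spec_iff (P := @Etale)).mpr
      (RingHom.etale_algebraMap.mpr inferInstance)
    have : IsFinite (Spec.map aC) := (IsFinite.SpecMap_iff _).mpr (RingHom.finite_algebraMap.mpr inferInstance)
    have : IsOpenImmersion (Spec.map o) := IsOpenImmersion.of_isLocalization (AdjoinRoot.mk f (derivative f))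
    have hoc : Spec.map o ≫ Spec.map aC = Spec.map aE := by
      rw [← Spec.map_comp]
      exact congrArg Spec.map (CommRingCat.hom_ext (IsScalarTower.algebraMap_eq Γ(X, ⊤) C E).symm)
    let g := pullback.fst X.toSpecΓ (Spec.map aE)
    let g' := pullback.fst X.toSpecΓ (Spec.map aC)
    let j : pullback X.toSpecΓ (Spec.map aE) ⟶ pullback X.toSpecΓ (Spec.map aC) :=
      pullback.map _ _ _ _ (𝟙 X) (Spec.map o) (𝟙 _) (by simp) (by simp [hoc])
    have hj : j ≫ g' = g := (pullback.lift_fst _ _ _).trans (Category.comp_id _)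
    let v : X₀ ⟶ Spec (CommRingCat.of E) := X₀.toSpecΓ ≫ Spec.map (CommRingCat.ofHom ψ₀.toRingHom)
    have hv : i ≫ X.toSpecΓ = v ≫ Spec.map aE := by
      rw [Scheme.toSpecΓ_naturality, Category.assoc, ← Spec.map_comp]
      exact congrArg (X₀.toSpecΓ ≫ Spec.map ·) (CommRingCat.hom_ext ψ₀.comp_algebraMap.symm)
    let u₀ : X₀ ⟶ pullback g i := pullback.lift (pullback.lift i v hv) (𝟙 X₀)
      ((pullback.lift_fst _ _ _).trans (Category.id_comp _).symm)
    obtain ⟨u, ⟨hu, hiu⟩, -⟩ := existsUnique_section_of_openImmersion_finite i hi g j g' hj u₀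
      (pullback.lift_snd _ _ _)
    let w : X ⟶ Spec (CommRingCat.of E) := u ≫ pullback.snd _ _
    obtain ⟨φ, hφ⟩ : ∃ φ : CommRingCat.of E ⟶ Γ(X, ⊤), w = X.toSpecΓ ≫ Spec.map φ := by
      refine ⟨(Scheme.ΓSpecIso _).inv ≫ w.appTop, ?_⟩
      rw [Spec.map_comp, ← Category.assoc, ← Scheme.toSpecΓ_naturality, Category.assoc]
      simp [← SpecMap_ΓSpecIso_hom, ← Spec.map_comp]
    have hφB : aE ≫ φ = 𝟙 _ := by
      apply toSpecΓ_comp_injective
      rw [Spec.map_comp, ← Category.assoc, ← hφ, Category.assoc, ← pullback.condition, ← Category.assoc, hu]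
      simp only [Category.id_comp, Spec.map_id]
      exact (Category.comp_id _).symm
    have hφ₀ : φ ≫ i.appTop = CommRingCat.ofHom ψ₀.toRingHom := by
      apply toSpecΓ_comp_injective
      rw [Spec.map_comp, ← Category.assoc, ← Scheme.toSpecΓ_naturality, Category.assoc, ← hφ,
        ← Category.assoc, hiu, Category.assoc]
      rw [show u₀ ≫ pullback.fst g i ≫ pullback.snd _ _ = v by
        rw [← Category.assoc, pullback.lift_fst, pullback.lift_snd]]
    let Φ : E →ₐ[Γ(X, ⊤)] Γ(X, ⊤) := ⟨φ.hom, fun b => congrArg (fun m => m.hom b) hφB⟩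
    let r : SP.Ring →ₐ[Γ(X, ⊤)] Γ(X, ⊤) := Φ.comp SP.equivAwayAdjoinRoot.toAlgHom
    refine ⟨r SP.X, ?_, ?_⟩
    · have := congrArg r (SP.hasMap_X.1 : Polynomial.aeval SP.X f = 0)
      rw [map_zero, ← Polynomial.aeval_algHom_apply] at this
      exact (Polynomial.coe_aeval_eq_eval (r SP.X) ▸ this :)
    · rw [RingHom.mem_ker, map_sub, sub_eq_zero]
      change (φ ≫ i.appTop).hom (SP.equivAwayAdjoinRoot SP.X) = algebraMap Γ(X, ⊤) Γ(X₀, ⊤) a₀
      rw [hφ₀]
      change SP.lift _ hx0 (SP.equivAwayAdjoinRoot.symm (SP.equivAwayAdjoinRoot SP.X)) = _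
      rw [AlgEquiv.symm_apply_apply, StandardEtalePair.lift_X]

end Groth.Agent.Lib.Henselian.CoupleGlobal
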