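import Groth.Agent.Lib.Henselian.Couple
import Mathlib.AlgebraicGeometry.Morphisms.Etale
import Mathlib.AlgebraicGeometry.Morphisms.FlatMono
import Mathlib.AlgebraicGeometry.ZariskisMainTheorem

/-!
# Lifting sections over henselian couples

* `isIso_of_finite_etale`
* `section_unique`
* `existsUnique_section_of_openImmersion_finite`
-/

universe u

open CategoryTheory Limits AlgebraicGeometry TopologicalSpace Topology
open Groth.Agent.Lib.Henselian.Couple

namespace Groth.Agent.Lib.Henselian.CoupleSections

variable {X X₀ : Scheme.{u}} (i : X₀ ⟶ X) [IsClosedImmersion i] (hi : IsCouple i)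

include hi

/-- A finite étale morphism which is an isomorphism over the closed subscheme is one. -/
theorem isIso_of_finite_etale {U : Scheme.{u}} (h : U ⟶ X) [IsFinite h] [Etale h]
    [IsIso (pullback.snd h i)] : IsIso h := by
  have hsurj : Set.range h.base = Set.univ := by
    refine eq_univ_of_isOpen i hi (𝟙 X) _ h.isOpenMap.isOpen_range ?_
    rintro _ ⟨z, rfl⟩
    obtain ⟨w, hw⟩ := (pullback.snd h i).surjective ((pullback.snd (𝟙 X) i).base z)
    refine ⟨(pullback.fst h i).base w, ?_⟩
    rw [← Scheme.Hom.comp_apply, pullback.condition, Scheme.Hom.comp_apply, hw, ← Scheme.Hom.comp_apply,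
      ← pullback.condition, Category.comp_id]
  have : Surjective h := ⟨Set.range_eq_univ.mp hsurj⟩
  let p := pullback.fst h h ≫ h
  have hd : Set.range (pullback.diagonal h).base = Set.univ := by
    refine eq_univ_of_isOpen i hi p _ (pullback.diagonal h).isOpenEmbedding.isOpen_range ?_
    let T := pullback p i
    let a := pullback.lift (pullback.fst p i ≫ pullback.fst h h) (pullback.snd p i)
      (by rw [Category.assoc]; exact pullback.condition)
    let b := pullback.lift (pullback.fst p i ≫ pullback.snd h h) (pullback.snd p i)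
      (by rw [Category.assoc, ← pullback.condition]; exact pullback.condition)
    have hab : a = b := by
      rw [← cancel_mono (pullback.snd h i)]
      exact (pullback.lift_snd _ _ _).trans (pullback.lift_snd _ _ _).symm
    have h1 : pullback.fst p i ≫ pullback.fst h h = pullback.fst p i ≫ pullback.snd h h := by
      exact (pullback.lift_fst _ _ _).symm.trans ((congrArg (· ≫ pullback.fst h i) hab).trans (pullback.lift_fst _ _ _))
    have h2 : pullback.fst p i = (pullback.fst p i ≫ pullback.fst h h) ≫ pullback.diagonal h := by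
      apply pullback.hom_ext <;> simp [h1]
    rintro _ ⟨z, rfl⟩
    rw [h2, Scheme.Hom.comp_apply]
    exact Set.mem_range_self _
  have : Surjective (pullback.diagonal h) := ⟨Set.range_eq_univ.mp hd⟩
  have : IsIso (pullback.diagonal h) :=
    (isIso_iff_isOpenImmersion_and_surjective _).mpr ⟨inferInstance, inferInstance⟩
  have : Mono h := (pullback.isIso_diagonal_iff h).mp this
  have : IsOpenImmersion h := IsOpenImmersion.of_flat_of_mono h
  exact (isIso_iff_isOpenImmersion_and_surjective _).mpr ⟨inferInstance, inferInstance⟩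

/-- Sections of an étale separated morphism agreeing on the closed subscheme are equal. -/
theorem section_unique {S' : Scheme.{u}} (g : S' ⟶ X) [Etale g] (u u' : X ⟶ S')
    (hu : u ≫ g = 𝟙 X) (hu' : u' ≫ g = 𝟙 X) (h : i ≫ u = i ≫ u') : u = u' := by
  let q : X ⟶ pullback g g := pullback.lift u u' (hu.trans hu'.symm)
  have hq1 : q ≫ pullback.fst g g = u := pullback.lift_fst _ _ _
  have hq2 : q ≫ pullback.snd g g = u' := pullback.lift_snd _ _ _
  have hq : Set.range q.base ⊆ Set.range (pullback.diagonal g).base := by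
    rw [Set.range_subset_iff]
    have := eq_univ_of_isOpen i hi (𝟙 X) (q.base ⁻¹' Set.range (pullback.diagonal g).base)
      ((pullback.diagonal g).isOpenEmbedding.isOpen_range.preimage q.continuous) ?_
    · exact Set.eq_univ_iff_forall.mp this
    rintro _ ⟨z, rfl⟩
    have h1 : pullback.fst (𝟙 X) i ≫ q = (pullback.snd (𝟙 X) i ≫ i ≫ u) ≫ pullback.diagonal g := by
      have hc : pullback.fst (𝟙 X) i = pullback.snd (𝟙 X) i ≫ i := by simpa using pullback.condition (f := 𝟙 X) (g := i)
      apply pullback.hom_ext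
      · simp [hq1, hc]
      · simp [hq2, hc, h]
    rw [Set.mem_preimage, ← Scheme.Hom.comp_apply, h1, Scheme.Hom.comp_apply]
    exact Set.mem_range_self _
  let l := IsOpenImmersion.lift (pullback.diagonal g) q hq
  have hl : l ≫ pullback.diagonal g = q := IsOpenImmersion.lift_fac _ _ _
  calc u = q ≫ pullback.fst g g := hq1.symm
    _ = q ≫ pullback.snd g g := by simp [← hl]
    _ = u' := hq2

/-- Sections lift for étale separated morphisms which are open in a finite one. -/
theorem existsUnique_section_of_openImmersion_finite {S' S'' : Scheme.{u}} (g : S' ⟶ X) [Etale g]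
    [IsSeparated g] (j : S' ⟶ S'') [IsOpenImmersion j] (g' : S'' ⟶ X) [IsFinite g'] (hj : j ≫ g' = g)
    (u₀ : X₀ ⟶ pullback g i) (hu₀ : u₀ ≫ pullback.snd g i = 𝟙 X₀) :
    ∃! u : X ⟶ S', u ≫ g = 𝟙 X ∧ i ≫ u = u₀ ≫ pullback.fst g i := by
  suffices h : ∃ u : X ⟶ S', u ≫ g = 𝟙 X ∧ i ≫ u = u₀ ≫ pullback.fst g i by
    obtain ⟨u, hu⟩ := h
    exact ⟨u, hu, fun u' hu' => section_unique i hi g u' u hu'.1 hu.1 (hu'.2.trans hu.2.symm)⟩
  let m : pullback g i ⟶ pullback g' i :=
    pullback.map g i g' i j (𝟙 _) (𝟙 _) (by simp [hj]) (by simp)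
  have hm1 : m ≫ pullback.fst g' i = pullback.fst g i ≫ j := pullback.lift_fst _ _ _
  have hm2 : m ≫ pullback.snd g' i = pullback.snd g i :=
    (pullback.lift_snd _ _ _).trans (Category.comp_id _)
  let s := u₀ ≫ m
  have hs : s ≫ pullback.snd g' i = 𝟙 X₀ := by simp [s, hm2, hu₀]
  have : IsClosedImmersion (s ≫ pullback.snd g' i) := by rw [hs]; infer_instance
  have : IsClosedImmersion s := IsClosedImmersion.of_comp s (pullback.snd g' i)
  have : Etale (u₀ ≫ pullback.snd g i) := by rw [hu₀]; infer_instance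
  have : Etale u₀ := Etale.of_comp u₀ (pullback.snd g i)
  have : Mono (u₀ ≫ pullback.snd g i) := by rw [hu₀]; infer_instance
  have : Mono u₀ := mono_of_mono u₀ (pullback.snd g i)
  have : IsOpenImmersion u₀ := IsOpenImmersion.of_flat_of_mono u₀
  have hV : IsClopen (Set.range s.base) := ⟨s.isClosedEmbedding.isClosed_range, by
    exact (u₀ ≫ m).isOpenEmbedding.isOpen_range⟩
  obtain ⟨U, ⟨hU, hUV⟩, -⟩ := hi S'' g' inferInstance (Set.range s.base) hV
  have hUj : U ⊆ Set.range j.base := by
    have := eq_univ_of_isOpen i hi g' (Uᶜ ∪ Set.range j.base)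
      (hU.1.isOpen_compl.union j.isOpenEmbedding.isOpen_range) ?_
    · intro x hx
      exact (Set.eq_univ_iff_forall.mp this x).resolve_left (not_not_intro hx)
    rintro _ ⟨z, rfl⟩
    by_cases hz : (pullback.fst g' i).base z ∈ U
    · obtain ⟨x, rfl⟩ : z ∈ Set.range s.base := hUV ▸ hz
      refine Or.inr ⟨(pullback.fst g i).base (u₀.base x), ?_⟩
      rw [← Scheme.Hom.comp_apply, ← Scheme.Hom.comp_apply, ← Scheme.Hom.comp_apply]
      simp only [s, Category.assoc, hm1]
    · exact Or.inl hz
  let U' : S'.Opens := ⟨j.base ⁻¹' U, hU.isOpen.preimage j.continuous⟩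
  have hr : Set.range (U'.ι ≫ j).base = U := by
    rw [show ((U'.ι ≫ j).base : _ → _) = j.base ∘ U'.ι.base from rfl, Set.range_comp, Scheme.Opens.range_ι]
    exact Set.image_preimage_eq_of_subset hUj
  have : IsClosedImmersion (U'.ι ≫ j) := IsClosedImmersion.of_isPreimmersion _ (hr.symm ▸ hU.isClosed)
  let h := U'.ι ≫ g
  have : IsFinite h := by
    rw [show h = (U'.ι ≫ j) ≫ g' by simp [h, hj]]
    infer_instance
  have hsU : ∀ x, (u₀ ≫ pullback.fst g i).base x ∈ U' := fun x => by
    have : s.base x ∈ (pullback.fst g' i).base ⁻¹' U := hUV.symm ▸ Set.mem_range_self x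
    rw [Set.mem_preimage, ← Scheme.Hom.comp_apply] at this
    change j.base ((u₀ ≫ pullback.fst g i).base x) ∈ U
    rw [← Scheme.Hom.comp_apply]
    simpa only [s, Category.assoc, hm1] using this
  let t := IsOpenImmersion.lift U'.ι (u₀ ≫ pullback.fst g i)
    (by rw [Scheme.Opens.range_ι]; exact Set.range_subset_iff.mpr hsU)
  have ht : t ≫ U'.ι = u₀ ≫ pullback.fst g i := IsOpenImmersion.lift_fac _ _ _
  let s₁ : X₀ ⟶ pullback h i := pullback.lift t (𝟙 X₀) (by
    simp only [h, ← Category.assoc, ht, Category.id_comp]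
    rw [Category.assoc, pullback.condition, ← Category.assoc, hu₀, Category.id_comp])
  have hs₁ : s₁ ≫ pullback.snd h i = 𝟙 X₀ := pullback.lift_snd _ _ _
  have : Etale (s₁ ≫ pullback.snd h i) := by rw [hs₁]; infer_instance
  have : Etale s₁ := Etale.of_comp s₁ (pullback.snd h i)
  have : Mono (s₁ ≫ pullback.snd h i) := by rw [hs₁]; infer_instance
  have : Mono s₁ := mono_of_mono s₁ (pullback.snd h i)
  have : IsOpenImmersion s₁ := IsOpenImmersion.of_flat_of_mono s₁
  let m₁ : pullback h i ⟶ pullback g' i :=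
    pullback.map h i g' i (U'.ι ≫ j) (𝟙 _) (𝟙 _) (by simp [h, hj]) (by simp)
  have : Surjective s₁ := ⟨fun z => by
    have h1 : m₁.base z ∈ (pullback.fst g' i).base ⁻¹' U := by
      rw [Set.mem_preimage, ← Scheme.Hom.comp_apply, show m₁ ≫ pullback.fst g' i = pullback.fst h i ≫ U'.ι ≫ j
        from pullback.lift_fst _ _ _, Scheme.Hom.comp_apply, ← hr]
      exact Set.mem_range_self _
    rw [hUV] at h1
    obtain ⟨x, hx⟩ := h1
    have hm₁1 : m₁ ≫ pullback.fst g' i = pullback.fst h i ≫ U'.ι ≫ j := pullback.lift_fst _ _ _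
    have hm₁2 : m₁ ≫ pullback.snd g' i = pullback.snd h i :=
      (pullback.lift_snd _ _ _).trans (Category.comp_id _)
    have hsm : s₁ ≫ m₁ = s := by
      apply pullback.hom_ext
      · have e : s₁ ≫ pullback.fst h i = t := pullback.lift_fst _ _ _
        simp only [s, Category.assoc, hm₁1, hm1]
        rw [reassoc_of% e, reassoc_of% ht]
      · simp only [Category.assoc, hm₁2, hs₁, hs]
    refine ⟨x, m₁.isOpenEmbedding.injective ?_⟩
    rw [← Scheme.Hom.comp_apply, hsm, hx]⟩
  have : IsIso s₁ := (isIso_iff_isOpenImmersion_and_surjective _).mpr ⟨inferInstance, inferInstance⟩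
  have : IsIso (pullback.snd h i) := by
    have : IsIso (s₁ ≫ pullback.snd h i) := by rw [hs₁]; infer_instance
    exact IsIso.of_isIso_comp_left s₁ _
  have : IsIso h := isIso_of_finite_etale i hi h
  refine ⟨inv h ≫ U'.ι, by simp [h], ?_⟩
  have hti : t ≫ h = i := by
    rw [show t = s₁ ≫ pullback.fst h i from (pullback.lift_fst _ _ _).symm, Category.assoc, pullback.condition, ← Category.assoc,
      hs₁, Category.id_comp]
  rw [← ht]
  conv_lhs => rw [← hti]
  simp

end Groth.Agent.Lib.Henselian.CoupleSections
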