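import Groth.Agent.H21.ElkikEq
import Groth.Agent.Lib.Henselian.Pair
import Mathlib.RingTheory.AdicCompletion.Algebra
import Mathlib.RingTheory.FiniteType
import Mathlib.RingTheory.Etale.Basic
import Mathlib.RingTheory.Smooth.Basic
import Mathlib.RingTheory.Noetherian.Basic

/-!
# Elkik approximation for Noetherian henselian pairs

* `exists_step`: one element
* `exists_approx`: algebras smooth outside the closed subset
-/

universe u

open MvPolynomial

set_option linter.style.haveILetI false

namespace Groth.Agent.Lib.Henselian.ElkikPair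

variable {A : Type u} [CommRing A] [IsNoetherianRing A]

/-- In a Noetherian ring the torsion at an element is bounded. -/
theorem exists_torsion_bound {R : Type u} [CommRing R] [IsNoetherianRing R] (t : R) :
    ∃ N : ℕ, ∀ a : R, (∃ e : ℕ, t ^ e * a = 0) → t ^ N * a = 0 := by
  let T : ℕ →o Ideal R :=
    ⟨fun e => Submodule.torsionBy R R (t ^ e),
      fun e e' h x hx => by
        obtain ⟨d, rfl⟩ := Nat.exists_eq_add_of_le h
        rw [Submodule.mem_torsionBy_iff, smul_eq_mul] at hx ⊢
        rw [pow_add, mul_comm (t ^ e), mul_assoc, hx, mul_zero]⟩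
  obtain ⟨N, hN⟩ := monotone_stabilizes_iff_noetherian.2 (inferInstance : IsNoetherian R R) T
  refine ⟨N, fun a ⟨e, he⟩ => ?_⟩
  have ha : a ∈ T (max e N) := T.mono (le_max_left e N) (by
    change a ∈ Submodule.torsionBy R R (t ^ e)
    rw [Submodule.mem_torsionBy_iff, smul_eq_mul]; exact he)
  rw [← hN _ (le_max_right e N)] at ha
  change a ∈ Submodule.torsionBy R R (t ^ N) at ha
  rwa [Submodule.mem_torsionBy_iff, smul_eq_mul] at ha

/-- Approximation along one element, modulo an ideal. -/
theorem exists_step (t : A) [HenselianRing A (Ideal.span {t})] (B : Type u) [CommRing B] [Algebra A B]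
    [Algebra.FiniteType A B]
    (hsm : Algebra.Smooth (Localization.Away t)
      (Localization (Algebra.algebraMapSubmonoid B (Submonoid.powers t))))
    (L : Ideal A) (n : ℕ) :
    ∃ M : ℕ, n ≤ M ∧ ∀ ρ : B →ₐ[A] A ⧸ (L ⊔ Ideal.span {t ^ M}),
      ∃ τ : B →ₐ[A] A ⧸ L, ∀ (b : B) (a a' : A), τ b = Ideal.Quotient.mk L a →
        ρ b = Ideal.Quotient.mk _ a' → a - a' ∈ L ⊔ Ideal.span {t ^ n} := by
  classical
  obtain ⟨nv, π, hπ⟩ := Algebra.FiniteType.iff_quotient_mvPolynomial''.mp (inferInstance : Algebra.FiniteType A B)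
  haveI := hsm
  obtain ⟨Φ, hΦ, m, f, hf0, hker, hJ⟩ := Groth.Agent.H21.ElkikEq.exists_relations (At := Localization.Away t)
    (K' := Localization (Algebra.algebraMapSubmonoid B (Submonoid.powers t))) t π hπ
  obtain ⟨a₀, ha₀, ha₀'⟩ := Groth.Agent.H21.ElkikEq.exists_section Φ hΦ
  obtain ⟨c, H, E, hEf, hDH⟩ := Groth.Agent.H21.ElkikEq.exists_matrices (At := Localization.Away t)
    (K' := Localization (Algebra.algebraMapSubmonoid B (Submonoid.powers t))) t f Φ hker a₀ ha₀ ha₀'
  let Q := A ⧸ L
  let mk : A →+* Q := Ideal.Quotient.mk L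
  let t' : Q := mk t
  haveI : HenselianRing Q (Ideal.span {t'}) := by
    have h := Groth.Agent.Lib.Henselian.Pair.henselianRing_of_isIntegral (Ideal.span {t}) Q
    rwa [Ideal.map_span, Set.image_singleton] at h
  obtain ⟨N, hN⟩ := exists_torsion_bound t'
  let q := n + N + c + 1
  let M := q + c + 1
  refine ⟨M, by omega, fun ρ => ?_⟩
  choose y hy using fun i => Ideal.Quotient.mk_surjective (ρ (π (X i)))
  let x₀ : Fin nv → Q := fun i => mk (y i)
  have hev : ∀ g, ρ (π g) = Ideal.Quotient.mk (L ⊔ Ideal.span {t ^ M}) (eval y g) := fun g =>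
    (AlgHom.congr_fun (MvPolynomial.algHom_ext (f := ρ.comp π)
      (g := (Ideal.Quotient.mkₐ A _).comp (aeval y)) fun i => by simp [hy]) g)
  have hmk : ∀ g, eval x₀ (map mk g) = mk (eval y g) := fun g => by
    rw [eval_map]; exact (eval₂_comp mk y g).symm
  have hdvd : ∀ g, π g = 0 → t' ^ M ∣ eval x₀ (map mk g) := fun g hg => by
    have h := hev g
    rw [hg, map_zero, eq_comm, Ideal.Quotient.eq_zero_iff_mem, Submodule.mem_sup] at h
    obtain ⟨l, hl, z, hz, hlz⟩ := h
    rw [hmk, ← hlz, map_add, show mk l = 0 from Ideal.Quotient.eq_zero_iff_mem.2 hl, zero_add]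
    obtain ⟨w, rfl⟩ := Ideal.mem_span_singleton'.1 hz
    exact ⟨mk w, by rw [map_mul, map_pow, mul_comm]⟩
  let f' : Fin m → MvPolynomial (Fin nv) Q := fun k => map mk (f k)
  have hspan : ∀ g ∈ Ideal.span (Set.range f), map mk g ∈ Ideal.span (Set.range f') := fun g hg => by
    have h := Ideal.mem_map_of_mem (map mk) hg
    rwa [Ideal.map_span, ← Set.range_comp] at h
  obtain ⟨x, hx, hxx₀⟩ := Groth.Agent.H21.Elkik.approximate t' hN f' (fun i j => map mk (H i j))
    (fun k j => map mk (E k j)) (fun k => by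
      have h := congrArg (map mk) (hEf k)
      simpa [map_sum] using h)
    (fun k j => by
      have h := hspan _ (hDH k j)
      rw [map_sub, map_add, map_sum, apply_ite (map mk), map_pow, map_C, map_zero] at h
      simp only [map_mul, ← pderiv_map] at h
      exact h) q (by omega) (by omega) x₀ fun k => hdvd _ (hf0 k)
  have hclose : ∀ g, t' ^ q ∣ eval x g - eval x₀ g := by
    intro g
    have h := Groth.Agent.H21.Elkik.taylor₀ (R := Q) (Ideal.span {t' ^ q}) x₀ (fun i => x i - x₀ i)
      (fun i => Ideal.mem_span_singleton.mpr (hxx₀ i)) g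
    simp only [add_sub_cancel] at h
    exact Ideal.mem_span_singleton.mp h
  have hzero : ∀ g ∈ RingHom.ker π, aeval x g = 0 := by
    intro g hg
    rw [aeval_def, ← eval_map]
    change eval x (map mk g) = 0
    obtain ⟨e, he⟩ := hJ g hg
    have he' := hspan _ he
    rw [map_mul, map_pow, map_C] at he'
    obtain ⟨w, hw⟩ := Ideal.mem_span_range_iff_exists_fun.mp he'
    have h1 : t' ^ e * eval x (map mk g) = 0 := by
      have h := congrArg (eval x) hw
      simp only [map_sum, map_mul, map_pow, eval_C, f', hx, mul_zero, Finset.sum_const_zero] at h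
      exact h.symm
    obtain ⟨b, hb⟩ : t' ^ q ∣ eval x (map mk g) := by
      have h := dvd_add (hclose (map mk g)) ((pow_dvd_pow t' (by omega : q ≤ M)).trans (hdvd g hg))
      rwa [sub_add_cancel] at h
    rw [hb] at h1 ⊢
    have hb' : t' ^ N * b = 0 := hN b ⟨e + q, by rw [pow_add, mul_assoc]; exact h1⟩
    rw [show q = (n + c + 1) + N by omega, pow_add, mul_assoc, hb', mul_zero]
  let τ : B →ₐ[A] Q := (Ideal.Quotient.liftₐ (RingHom.ker π) (aeval x) hzero).comp
    (Ideal.quotientKerAlgEquivOfSurjective hπ).symm.toAlgHom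
  have hτ : ∀ g, τ (π g) = eval x (map mk g) := fun g => by
    have hsym : (Ideal.quotientKerAlgEquivOfSurjective hπ).symm (π g) = Ideal.Quotient.mk _ g :=
      (Ideal.quotientKerAlgEquivOfSurjective hπ).symm_apply_eq.mpr rfl
    show Ideal.Quotient.liftₐ (RingHom.ker π) (aeval x) hzero ((Ideal.quotientKerAlgEquivOfSurjective hπ).symm (π g)) = _
    rw [hsym]
    exact (aeval_def x g).trans (eval_map _ _ _).symm
  refine ⟨τ, fun b a a' ha ha' => ?_⟩
  obtain ⟨g, rfl⟩ := hπ b
  rw [hτ] at ha
  rw [hev, eq_comm, Ideal.Quotient.eq] at ha'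
  obtain ⟨w, hw⟩ := hclose (map mk g)
  rw [hmk, ha, ← map_sub] at hw
  obtain ⟨w', rfl⟩ := Ideal.Quotient.mk_surjective w
  rw [← map_pow, ← map_mul, Ideal.Quotient.eq] at hw
  have h1 : a - eval y g ∈ L ⊔ Ideal.span {t ^ n} := by
    rw [show a - eval y g = (a - eval y g - t ^ q * w') + t ^ q * w' by ring]
    refine Submodule.add_mem_sup hw (Ideal.mem_span_singleton.2 ?_)
    exact (pow_dvd_pow t (by omega : n ≤ q)).trans (Dvd.intro _ rfl)
  have h2 : L ⊔ Ideal.span {t ^ M} ≤ L ⊔ Ideal.span {t ^ n} :=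
    sup_le_sup_left (Ideal.span_singleton_le_span_singleton.2 (pow_dvd_pow t (by omega))) L
  have h3 : eval y g - a' ∈ L ⊔ Ideal.span {t ^ n} := by
    rw [← Ideal.neg_mem_iff, neg_sub]; exact h2 ha'
  have := add_mem h1 h3
  rwa [sub_add_sub_cancel] at this

omit [IsNoetherianRing A] in
/-- A smooth-at-`t` algebra is smooth over `A[1/t]` after inverting `t`. -/
theorem smooth_localization (t : A) (B : Type u) [CommRing B] [Algebra A B]
    [Algebra.Smooth A (Localization.Away (algebraMap A B t))] :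
    Algebra.Smooth (Localization.Away t) (Localization (Algebra.algebraMapSubmonoid B (Submonoid.powers t))) := by
  let K' := Localization (Algebra.algebraMapSubmonoid B (Submonoid.powers t))
  have hM : Algebra.algebraMapSubmonoid B (Submonoid.powers t) = Submonoid.powers (algebraMap A B t) :=
    Submonoid.map_powers _ t
  haveI : IsLocalization.Away (algebraMap A B t) K' := by
    show IsLocalization (Submonoid.powers (algebraMap A B t)) K'
    rw [← hM]; infer_instance
  haveI : Algebra.Smooth A K' := Algebra.Smooth.of_equiv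
    ((IsLocalization.algEquiv (Submonoid.powers (algebraMap A B t)) (Localization.Away (algebraMap A B t)) K').restrictScalars A)
  haveI : Algebra.FormallySmooth (Localization.Away t) K' := Algebra.FormallySmooth.localization_base (Submonoid.powers t)
  haveI : Algebra.FinitePresentation (Localization.Away t) K' :=
    Algebra.FinitePresentation.of_restrict_scalars_finitePresentation A (Localization.Away t) K'
  exact {}

/-- Elkik approximation, modulo an ideal, for an ideal with `r` generators. -/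
theorem exists_approx_fin (B : Type u) [CommRing B] [Algebra A B] [Algebra.FiniteType A B] :
    ∀ (r : ℕ) (a : Fin r → A), HenselianRing A (Ideal.span (Set.range a)) →
      (∀ i, Algebra.Smooth A (Localization.Away (algebraMap A B (a i)))) →
      ∀ (L : Ideal A) (σ : ∀ k, B →ₐ[A] A ⧸ (L ⊔ Ideal.span (Set.range a) ^ k)),
        (∀ (k l : ℕ) (h : k ≤ l) (b : B),
          Ideal.Quotient.factor (sup_le_sup_left (Ideal.pow_le_pow_right h) L) (σ l b) = σ k b) →
        ∀ n, ∃ τ : B →ₐ[A] A ⧸ L, ∀ (b : B) (x x' : A), τ b = Ideal.Quotient.mk L x →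
          σ n b = Ideal.Quotient.mk _ x' → x - x' ∈ L ⊔ Ideal.span (Set.range a) ^ n := by
  intro r
  induction r with
  | zero =>
    intro a _ _ L σ hσ n
    have h1 : ∀ k, 1 ≤ k → L ⊔ Ideal.span (Set.range a) ^ k = L := fun k hk => by
      rw [Set.range_eq_empty a, Ideal.span_empty, ← Ideal.zero_eq_bot, zero_pow (by omega),
        Ideal.zero_eq_bot, sup_bot_eq]
    refine ⟨(Ideal.Quotient.factorₐ A (h1 1 le_rfl).le).comp (σ 1), fun b x x' hx hx' => ?_⟩
    rcases Nat.eq_zero_or_pos n with rfl | hn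
    · rw [pow_zero, Ideal.one_eq_top, sup_top_eq]; trivial
    · obtain ⟨z, hz⟩ := Ideal.Quotient.mk_surjective (σ n b)
      have h2 := hσ 1 n hn b
      rw [← hz, Ideal.Quotient.factor_mk] at h2
      rw [AlgHom.comp_apply, ← h2] at hx
      change Ideal.Quotient.mk L z = Ideal.Quotient.mk L x at hx
      rw [hx', Ideal.Quotient.eq] at hz
      rw [Ideal.Quotient.eq] at hx
      have h3 := sub_mem hz (Ideal.mem_sup_left (T := Ideal.span (Set.range a) ^ n) hx)
      rwa [sub_sub_sub_cancel_left] at h3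
  | succ r ih =>
    intro a hhens hsm L σ hσ n
    let t := a 0
    let a' : Fin r → A := fun i => a i.succ
    generalize hJ : Ideal.span (Set.range a) = J at hhens σ hσ ⊢
    let J' := Ideal.span (Set.range a')
    have htJ : t ∈ J := hJ ▸ Ideal.subset_span ⟨0, rfl⟩
    have hJJ : J = J' ⊔ Ideal.span {t} := by
      rw [← hJ, ← Ideal.span_union]
      congr 1
      ext z
      simp only [Set.mem_range, Fin.exists_fin_succ, Set.mem_union, Set.mem_singleton_iff, a', t]
      tauto
    haveI := hhens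
    haveI : HenselianRing A (Ideal.span {t}) :=
      Groth.Agent.Lib.Henselian.Basic.henselianRing_of_le ((Ideal.span_singleton_le_iff_mem J).2 htJ)
    have hJ'J : J' ≤ J := hJJ ▸ le_sup_left
    haveI := hsm 0
    obtain ⟨M, hnM, hM⟩ := exists_step t B (smooth_localization t B) L n
    let L' := L ⊔ Ideal.span {t ^ M}
    have hle : ∀ k, L ⊔ J ^ (k + M) ≤ L' ⊔ J' ^ k := fun k => by
      rw [hJJ]
      refine sup_le (le_sup_left.trans le_sup_left) (Ideal.sup_pow_add_le_pow_sup_pow.trans ?_)
      rw [Ideal.span_singleton_pow]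
      exact sup_le le_sup_right (le_sup_right.trans le_sup_left)
    obtain ⟨ρ, hρ⟩ := ih a' (Groth.Agent.Lib.Henselian.Basic.henselianRing_of_le hJ'J) (fun i => hsm i.succ)
      L' (fun k => (Ideal.Quotient.factorₐ A (hle k)).comp (σ (k + M))) (fun k l h b => by
        obtain ⟨z, hz⟩ := Ideal.Quotient.mk_surjective (σ (l + M) b)
        have h2 := hσ (k + M) (l + M) (by omega) b
        rw [← hz, Ideal.Quotient.factor_mk] at h2
        rw [AlgHom.comp_apply, AlgHom.comp_apply, ← hz, ← h2]
        rfl) n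
    obtain ⟨τ, hτ⟩ := hM ρ
    refine ⟨τ, fun b x x' hx hx' => ?_⟩
    obtain ⟨z, hz⟩ := Ideal.Quotient.mk_surjective (ρ b)
    obtain ⟨w, hw⟩ := Ideal.Quotient.mk_surjective (σ (n + M) b)
    have h1 : x - z ∈ L ⊔ J ^ n :=
      sup_le_sup_left (by rw [← Ideal.span_singleton_pow]; exact Ideal.pow_right_mono ((Ideal.span_singleton_le_iff_mem J).2 htJ) n) L
        (hτ b x z hx hz.symm)
    have h2 : z - w ∈ L ⊔ J ^ n := by
      refine (sup_le (sup_le le_sup_left ?_) ((Ideal.pow_right_mono hJ'J n).trans le_sup_right) :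
        L' ⊔ J' ^ n ≤ L ⊔ J ^ n) (hρ b z w hz.symm ?_)
      · rw [← Ideal.span_singleton_pow]
        exact ((Ideal.pow_right_mono ((Ideal.span_singleton_le_iff_mem J).2 htJ) M).trans
          (Ideal.pow_le_pow_right hnM)).trans le_sup_right
      · rw [AlgHom.comp_apply, ← hw]; rfl
    have h3 : w - x' ∈ L ⊔ J ^ n := by
      have h4 := hσ n (n + M) (by omega) b
      rw [← hw, Ideal.Quotient.factor_mk, hx', Ideal.Quotient.eq] at h4
      exact h4
    have := add_mem (add_mem h1 h2) h3
    rwa [sub_add_sub_cancel, sub_add_sub_cancel] at this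

/-- Elkik approximation for a Noetherian henselian pair. -/
theorem exists_approx (I : Ideal A) [HenselianRing A I] (B : Type u) [CommRing B] [Algebra A B]
    [Algebra.FiniteType A B] (hB : ∀ a ∈ I, Algebra.Smooth A (Localization.Away (algebraMap A B a)))
    (σ : B →ₐ[A] AdicCompletion I A) (n : ℕ) :
    ∃ τ : B →ₐ[A] A, ∀ b, Ideal.Quotient.mk (I ^ n) (τ b) = AdicCompletion.evalₐ I n (σ b) := by
  obtain ⟨r, a, ha⟩ := Submodule.fg_iff_exists_fin_generating_family.1 (IsNoetherian.noetherian I)
  subst ha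
  obtain ⟨τ, hτ⟩ := exists_approx_fin B r a inferInstance (fun i => hB _ (Ideal.subset_span ⟨i, rfl⟩)) ⊥
    (fun k => (Ideal.Quotient.factorₐ A (le_sup_right : Ideal.span (Set.range a) ^ k ≤ ⊥ ⊔ _)).comp
      ((AdicCompletion.evalₐ _ k).comp σ))
    (fun k l h b => by
      obtain ⟨z, hz⟩ := AdicCompletion.mk_surjective _ A (σ b)
      simp only [AlgHom.comp_apply, ← hz, AdicCompletion.evalₐ_mk]
      change Ideal.Quotient.mk _ (z l) = Ideal.Quotient.mk _ (z k)
      rw [Ideal.Quotient.eq, ← Ideal.neg_mem_iff, neg_sub]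
      have := z.property h
      rw [SModEq.sub_mem] at this
      exact Ideal.mem_sup_right (by simpa using this)) n
  let e := AlgEquiv.quotientBot A A
  refine ⟨e.toAlgHom.comp τ, fun b => ?_⟩
  obtain ⟨x, hx⟩ := Ideal.Quotient.mk_surjective (τ b)
  obtain ⟨x', hx'⟩ := Ideal.Quotient.mk_surjective (AdicCompletion.evalₐ _ n (σ b))
  have h := hτ b x x' hx.symm (by simp only [AlgHom.comp_apply, ← hx']; rfl)
  rw [bot_sup_eq] at h
  rw [AlgHom.comp_apply, ← hx, ← hx', show e.toAlgHom (Ideal.Quotient.mk ⊥ x) = x from rfl]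
  exact Ideal.Quotient.eq.2 h

end Groth.Agent.Lib.Henselian.ElkikPair
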