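import Mathlib

/-!
# Étale-local splitting of a finite type algebra into finite parts and a non quasi-finite rest
-/

universe u

open TensorProduct

set_option linter.style.haveILetI false

namespace Groth.Agent.Lib.Henselian.EtaleDecomp

variable {T : Type u} [CommRing T]

/-- The product decomposition of an idempotent. -/
theorem bijective_prod {R' : Type u} [CommRing R'] [Algebra R' T] {e : T} (he : IsIdempotentElem e) :
    Function.Bijective ((Ideal.Quotient.mkₐ R' (Ideal.span {1 - e})).prod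
      (Ideal.Quotient.mkₐ R' (Ideal.span {e}))) := by
  refine ⟨(injective_iff_map_eq_zero _).2 fun x hx => ?_, fun ⟨y, z⟩ => ?_⟩
  · have h1 : Ideal.Quotient.mk (Ideal.span {1 - e}) x = 0 := congrArg Prod.fst hx
    have h2 : Ideal.Quotient.mk (Ideal.span {e}) x = 0 := congrArg Prod.snd hx
    obtain ⟨a, ha⟩ := Ideal.mem_span_singleton'.1 (Ideal.Quotient.eq_zero_iff_mem.1 h1)
    obtain ⟨b, hb⟩ := Ideal.mem_span_singleton'.1 (Ideal.Quotient.eq_zero_iff_mem.1 h2)
    have h3 : e * x = 0 := by linear_combination (-e) * ha + (-a) * he.eq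
    linear_combination h3 + (e - 1) * hb + (-b) * he.eq
  · obtain ⟨a, rfl⟩ := Ideal.Quotient.mk_surjective y
    obtain ⟨b, rfl⟩ := Ideal.Quotient.mk_surjective z
    refine ⟨e * a + (1 - e) * b, Prod.ext ?_ ?_⟩
    · exact Ideal.Quotient.eq.2 (Ideal.mem_span_singleton'.2 ⟨b - a, by ring⟩)
    · exact Ideal.Quotient.eq.2 (Ideal.mem_span_singleton'.2 ⟨a - b, by ring⟩)

/-- A product over `Fin (n + 1)`. -/
def consEquiv {R' : Type u} [CommRing R'] {n : ℕ} (C : Fin (n + 1) → Type u) [∀ i, CommRing (C i)]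
    [∀ i, Algebra R' (C i)] (B : Type u) [CommRing B] [Algebra R' B] :
    (C 0 × ((∀ i : Fin n, C i.succ) × B)) ≃ₐ[R'] ((∀ i, C i) × B) where
  toFun x := (Fin.cons x.1 x.2.1, x.2.2)
  invFun y := (y.1 0, (fun i => y.1 i.succ, y.2))
  left_inv x := by simp
  right_inv y := by
    refine Prod.ext (funext fun i => ?_) rfl
    induction i using Fin.cases <;> simp
  map_mul' x y := by
    refine Prod.ext (funext fun i => ?_) rfl
    induction i using Fin.cases <;> simp
  map_add' x y := by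
    refine Prod.ext (funext fun i => ?_) rfl
    induction i using Fin.cases <;> simp
  commutes' r := by
    refine Prod.ext (funext fun i => ?_) rfl
    induction i using Fin.cases <;> simp

variable {R : Type u} [CommRing R] (S : Type u) [CommRing S] [Algebra R S]

/-- The minimal primes of the fibre. -/
def minOver (p : Ideal R) : Set (Ideal S) := {q | Minimal (· ∈ p.primesOver S) q}

theorem finite_minOver [Algebra.FiniteType R S] (p : Ideal R) [p.IsPrime] : (minOver S p).Finite := by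
  haveI : IsNoetherianRing (p.Fiber S) := Algebra.FiniteType.isNoetherianRing p.ResidueField _
  let e := PrimeSpectrum.primesOverOrderIsoFiber R S p
  let f : minimalPrimes (p.Fiber S) → Ideal S := fun P => (e.symm ⟨P.1, P.2.1.1⟩).1
  haveI := (minimalPrimes.finite_of_isNoetherianRing (p.Fiber S)).to_subtype
  refine (Set.finite_range f).subset fun q hq => ?_
  have hmin : ((e ⟨q, hq.1⟩).asIdeal) ∈ minimalPrimes (p.Fiber S) := by
    refine ⟨⟨(e ⟨q, hq.1⟩).isPrime, bot_le⟩, fun Q hQ hle => ?_⟩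
    have hle' : e.symm ⟨Q, hQ.1⟩ ≤ ⟨q, hq.1⟩ := by
      rw [← e.le_iff_le, e.apply_symm_apply]
      exact hle
    have hge : (⟨q, hq.1⟩ : p.primesOver S) ≤ e.symm ⟨Q, hQ.1⟩ :=
      hq.2 (e.symm ⟨Q, hQ.1⟩).2 hle'
    have := e.monotone hge
    rwa [e.apply_symm_apply] at this
  exact ⟨⟨_, hmin⟩, congrArg Subtype.val (e.symm_apply_apply ⟨q, hq.1⟩)⟩

/-- The statement for `R`, `S` and `p`. -/
def Decomp (p : Ideal R) [p.IsPrime] : Prop :=
  ∃ (R' : Type u) (_ : CommRing R') (_ : Algebra R R') (_ : Algebra.Etale R R') (P : Ideal R')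
    (_ : P.IsPrime) (_ : P.LiesOver p) (n : ℕ) (A : Fin n → Type u) (_ : ∀ i, CommRing (A i))
    (_ : ∀ i, Algebra R' (A i)) (B : Type u) (_ : CommRing B) (_ : Algebra R' B),
    Function.Bijective (Ideal.ResidueField.mapₐ p P (Algebra.ofId _ _) (P.over_def p)) ∧
    Nonempty ((R' ⊗[R] S) ≃ₐ[R'] ((∀ i, A i) × B)) ∧
      (∀ i, Module.Finite R' (A i) ∧ ∃! r : Ideal (A i), r.IsPrime ∧ r.comap (algebraMap R' (A i)) = P) ∧
      ∀ (q : Ideal B) [q.IsPrime], q.comap (algebraMap R' B) = P → ¬ Algebra.QuasiFiniteAt R' q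

theorem decomp_aux : ∀ (n : ℕ) (R : Type u) [CommRing R] (S : Type u) [CommRing S] [Algebra R S]
    [Algebra.FiniteType R S] (p : Ideal R) [p.IsPrime], (minOver S p).ncard = n → Decomp S p := by
  classical
  intro n
  induction n using Nat.strong_induction_on with
  | _ n IH =>
  intro R _ S _ _ _ p _ hn
  by_cases hq : ∃ q : Ideal S, ∃ _ : q.IsPrime, q.comap (algebraMap R S) = p ∧ Algebra.QuasiFiniteAt R q
  swap
  · push Not at hq
    refine ⟨R, inferInstance, inferInstance, inferInstance, p, inferInstance, ⟨rfl⟩, 0,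
      fun _ => PUnit, fun i => i.elim0, fun i => i.elim0, S, inferInstance, inferInstance, ?_, ⟨?_⟩,
      fun i => i.elim0, fun q _ h => hq q inferInstance h⟩
    · rw! [Algebra.ofId_self, Ideal.ResidueField.mapₐ_id]; exact Function.bijective_id
    · refine (Algebra.TensorProduct.lid R S).trans ?_
      exact
        { toFun := fun s => (fun i => i.elim0, s)
          invFun := fun x => x.2
          left_inv := fun _ => rfl
          right_inv := fun x => Prod.ext (funext fun i => i.elim0) rfl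
          map_mul' := fun _ _ => Prod.ext (funext fun i => i.elim0) rfl
          map_add' := fun _ _ => Prod.ext (funext fun i => i.elim0) rfl
          commutes' := fun _ => Prod.ext (funext fun i => i.elim0) rfl }
  obtain ⟨q, hqp, hqc, hqf⟩ := hq
  haveI : q.LiesOver p := ⟨hqc.symm⟩
  obtain ⟨R₁, _, _, _, P, _, _, e, he, P', _, _, -, heP', hpP, hfin, H⟩ :=
    Algebra.exists_etale_isIdempotentElem_forall_liesOver_eq p q
  let T := R₁ ⊗[R] S
  let A₁ := T ⧸ Ideal.span ({1 - e} : Set T)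
  let B₁ := T ⧸ Ideal.span ({e} : Set T)
  haveI : Algebra.FiniteType R₁ B₁ := inferInstance
  haveI hA₁ : Module.Finite R₁ A₁ := by
    have hu : IsUnit (Ideal.Quotient.mkₐ R₁ (Ideal.span ({1 - e} : Set T)) e) := by
      have : Ideal.Quotient.mkₐ R₁ (Ideal.span ({1 - e} : Set T)) e = 1 := by
        refine Eq.symm ?_
        rw [← map_one (Ideal.Quotient.mkₐ R₁ (Ideal.span ({1 - e} : Set T)))]
        exact Ideal.Quotient.eq.2 (Ideal.mem_span_singleton_self _)
      rw [this]; exact isUnit_one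
    let l : Localization.Away e →ₐ[R₁] A₁ :=
      IsLocalization.Away.liftAlgHom e (f := Ideal.Quotient.mkₐ R₁ (Ideal.span ({1 - e} : Set T))) hu
    haveI := hfin
    refine Module.Finite.of_surjective l.toLinearMap fun x => ?_
    obtain ⟨x, rfl⟩ := Ideal.Quotient.mk_surjective x
    exact ⟨algebraMap T _ x, IsLocalization.Away.lift_eq _ hu x⟩
  let F := Ideal.fiberIsoOfBijectiveResidueField hpP (S := S)
  -- primes of `B₁` over `P`
  have hP'min : P' ∈ minOver T P := by
    refine ⟨⟨inferInstance, inferInstance⟩, fun Q hQ hle => ?_⟩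
    haveI := hQ.1; haveI := hQ.2
    exact (H Q inferInstance inferInstance fun h => heP' (hle h)).ge
  have hcount : (minOver B₁ P).ncard < n := by
    let c : Ideal B₁ → Ideal T := Ideal.comap (Ideal.Quotient.mk (Ideal.span ({e} : Set T)))
    have hfinT := finite_minOver T P (R := R₁)
    have hsub : c '' minOver B₁ P ⊆ minOver T P \ {P'} := by
      rintro _ ⟨Q, hQ, rfl⟩
      haveI := hQ.1.1; haveI := hQ.1.2
      have heQ : e ∈ c Q := by
        simp only [c, Ideal.mem_comap]
        rw [Ideal.Quotient.eq_zero_iff_mem.2 (Ideal.mem_span_singleton_self e)]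
        exact Q.zero_mem
      refine ⟨⟨⟨Ideal.comap_isPrime _ _, ⟨hQ.1.2.over⟩⟩, fun Z hZ hle => ?_⟩, fun h => heP' (h ▸ heQ)⟩
      haveI := hZ.1; haveI := hZ.2
      have heZ : e ∈ Z := by
        rcases hZ.1.mem_or_mem (show e * (1 - e) ∈ Z by
          rw [mul_sub, mul_one, he.eq, sub_self]; exact Z.zero_mem) with h | h
        · exact h
        · exact absurd ((c Q).eq_top_iff_one.2 (by simpa using (c Q).add_mem heQ (hle h)))
            (Ideal.comap_isPrime _ Q).ne_top
      have hker : RingHom.ker (Ideal.Quotient.mk (Ideal.span ({e} : Set T))) ≤ Z := by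
        rw [Ideal.mk_ker, Ideal.span_le, Set.singleton_subset_iff]; exact heZ
      have hZp : (Z.map (Ideal.Quotient.mk (Ideal.span ({e} : Set T)))).IsPrime :=
        Ideal.map_isPrime_of_surjective Ideal.Quotient.mk_surjective hker
      have hcm : c (Z.map (Ideal.Quotient.mk (Ideal.span ({e} : Set T)))) = Z := by
        simp only [c]
        rw [Ideal.comap_map_of_surjective _ Ideal.Quotient.mk_surjective, ← RingHom.ker_eq_comap_bot,
          sup_eq_left.2 hker]
      have hle' : Z.map (Ideal.Quotient.mk (Ideal.span ({e} : Set T))) ≤ Q :=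
        Ideal.map_le_iff_le_comap.2 hle
      have := hQ.2 ⟨hZp, ⟨(show P = (c (Z.map (Ideal.Quotient.mk _))).under R₁ by
        rw [hcm]; exact hZ.2.over)⟩⟩ hle'
      exact (Ideal.comap_mono this).trans hcm.le
    have hinj : Function.Injective c := Ideal.comap_injective_of_surjective _ Ideal.Quotient.mk_surjective
    have hST : (minOver T P).ncard = n := by
      rw [← hn]
      refine Set.ncard_congr (fun Q hQ => (F ⟨Q, hQ.1⟩).1) (fun Q hQ => ?_) (fun Q Q' hQ hQ' h => ?_)
        fun q hq => ?_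
      · refine ⟨(F ⟨Q, hQ.1⟩).2, fun Z hZ hle => ?_⟩
        have h1 : F.symm ⟨Z, hZ⟩ ≤ ⟨Q, hQ.1⟩ := by
          rw [← F.le_iff_le, F.apply_symm_apply]; exact hle
        have h2 : (⟨Q, hQ.1⟩ : P.primesOver T) ≤ F.symm ⟨Z, hZ⟩ := hQ.2 (F.symm ⟨Z, hZ⟩).2 h1
        have := F.monotone h2
        rwa [F.apply_symm_apply] at this
      · exact congrArg Subtype.val (F.injective (Subtype.ext h))
      · refine ⟨(F.symm ⟨q, hq.1⟩).1, ⟨(F.symm ⟨q, hq.1⟩).2, fun Z hZ hle => ?_⟩, by simp⟩
        have h1 : F ⟨Z, hZ⟩ ≤ ⟨q, hq.1⟩ := by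
          have := F.monotone (show (⟨Z, hZ⟩ : P.primesOver T) ≤ F.symm ⟨q, hq.1⟩ from hle)
          rwa [F.apply_symm_apply] at this
        have h2 : (⟨q, hq.1⟩ : p.primesOver S) ≤ F ⟨Z, hZ⟩ := hq.2 (F ⟨Z, hZ⟩).2 h1
        have := F.symm.monotone h2
        rwa [F.symm_apply_apply] at this
    calc (minOver B₁ P).ncard = (c '' minOver B₁ P).ncard := (Set.ncard_image_of_injective _ hinj).symm
      _ ≤ (minOver T P \ {P'}).ncard := Set.ncard_le_ncard hsub hfinT.sdiff
      _ < (minOver T P).ncard := Set.ncard_sdiff_singleton_lt_of_mem hP'min hfinT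
      _ = n := hST
  obtain ⟨R₂, _, _, _, P₂, _, _, k, A, _, _, B, _, _, hPQ, ⟨eqv⟩, hA, hB⟩ :=
    IH _ hcount R₁ B₁ P rfl
  letI : Algebra R R₂ := .compHom _ (algebraMap R R₁)
  haveI : IsScalarTower R R₁ R₂ := .of_algebraMap_eq' rfl
  haveI : Algebra.Etale R R₂ := .comp R R₁ R₂
  haveI : P₂.LiesOver p := .trans _ P _
  have hpQ : Function.Bijective (Ideal.ResidueField.mapₐ p P₂ (Algebra.ofId _ _) (P₂.over_def p)) := by
    convert hPQ.comp hpP
    rw [← @AlgHom.coe_restrictScalars' R R₁, ← AlgHom.coe_comp]; congr 1; ext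
  let C : Fin (k + 1) → Type u := Fin.cons (R₂ ⊗[R₁] A₁) A
  letI : ∀ i, CommRing (C i) :=
    Fin.cases (show CommRing (C 0) from (inferInstance : CommRing (R₂ ⊗[R₁] A₁))) fun i => (inferInstance : CommRing (A i))
  letI : ∀ i, Algebra R₂ (C i) :=
    Fin.cases (show Algebra R₂ (C 0) from (inferInstance : Algebra R₂ (R₂ ⊗[R₁] A₁))) fun i => (inferInstance : Algebra R₂ (A i))
  let eT : T ≃ₐ[R₁] A₁ × B₁ := AlgEquiv.ofBijective _ (bijective_prod he)
  refine ⟨R₂, inferInstance, inferInstance, inferInstance, P₂, inferInstance, inferInstance, k + 1, C,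
    inferInstance, inferInstance, B, inferInstance, inferInstance, hpQ, ⟨?_⟩, ?_, hB⟩
  · let s1 : R₂ ⊗[R] S ≃ₐ[R₂] R₂ ⊗[R₁] T := (Algebra.TensorProduct.cancelBaseChange R R₁ R₂ R₂ S).symm
    let s2 : R₂ ⊗[R₁] T ≃ₐ[R₂] R₂ ⊗[R₁] (A₁ × B₁) :=
      Algebra.TensorProduct.congr (AlgEquiv.refl (R := R₂) (A₁ := R₂)) eT
    let s3 : R₂ ⊗[R₁] (A₁ × B₁) ≃ₐ[R₂] (R₂ ⊗[R₁] A₁) × (R₂ ⊗[R₁] B₁) :=
      Algebra.TensorProduct.prodRight ..
    exact ((s1.trans s2).trans s3).trans ((AlgEquiv.prodCongr AlgEquiv.refl eqv).trans (consEquiv C B))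
  · refine Fin.cases ?_ (fun i => hA i)
    change Module.Finite R₂ (R₂ ⊗[R₁] A₁) ∧ ∃! r : Ideal (R₂ ⊗[R₁] A₁), r.IsPrime ∧
      r.comap (algebraMap R₂ (R₂ ⊗[R₁] A₁)) = P₂
    refine ⟨inferInstance, ?_⟩
    let G := Ideal.fiberIsoOfBijectiveResidueField hPQ (S := A₁)
    have hsub : ∀ X Y : P.primesOver A₁, X = Y := by
      have key : ∀ X : P.primesOver A₁,
          X.1.comap (Ideal.Quotient.mk (Ideal.span ({1 - e} : Set T))) = P' := by
        rintro ⟨X, hX1, hX2⟩
        refine H _ inferInstance ⟨hX2.over⟩ fun h => hX1.ne_top ((Ideal.eq_top_iff_one X).2 ?_)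
        have h1 : Ideal.Quotient.mk (Ideal.span ({1 - e} : Set T)) e = 1 := by
          refine Eq.symm ?_
          rw [← map_one (Ideal.Quotient.mk (Ideal.span ({1 - e} : Set T)))]
          exact Ideal.Quotient.eq.2 (Ideal.mem_span_singleton_self _)
        rw [← h1]; exact h
      intro X Y
      exact Subtype.ext (Ideal.comap_injective_of_surjective _ Ideal.Quotient.mk_surjective
        ((key X).trans (key Y).symm))
    have hker : RingHom.ker (Ideal.Quotient.mk (Ideal.span ({1 - e} : Set T))) ≤ P' := by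
      rw [Ideal.mk_ker, Ideal.span_le, Set.singleton_subset_iff, SetLike.mem_coe]
      exact ((inferInstance : P'.IsPrime).mem_or_mem (show e * (1 - e) ∈ P' by
        rw [mul_sub, mul_one, he.eq, sub_self]; exact P'.zero_mem)).resolve_left heP'
    have hX₀ : P'.map (Ideal.Quotient.mk (Ideal.span ({1 - e} : Set T))) ∈ P.primesOver A₁ := by
      refine ⟨Ideal.map_isPrime_of_surjective Ideal.Quotient.mk_surjective hker, ⟨?_⟩⟩
      rw [Ideal.under, show algebraMap R₁ A₁ = (Ideal.Quotient.mk _).comp (algebraMap R₁ T) from rfl,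
        ← Ideal.comap_comap, Ideal.comap_map_of_surjective _ Ideal.Quotient.mk_surjective,
        ← RingHom.ker_eq_comap_bot, sup_eq_left.2 hker]
      exact P'.over_def P
    refine ⟨(G.symm ⟨_, hX₀⟩).1, ⟨(G.symm ⟨_, hX₀⟩).2.1, ((G.symm ⟨_, hX₀⟩).2.2.over).symm⟩,
      fun r hr => ?_⟩
    exact congrArg Subtype.val
      (G.injective (hsub (G ⟨r, hr.1, ⟨hr.2.symm⟩⟩) (G (G.symm ⟨_, hX₀⟩))))

theorem decomp [Algebra.FiniteType R S] (p : Ideal R) [p.IsPrime] : Decomp S p :=
  decomp_aux _ R S p rfl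

/-- The residue field is generated by the image of the ring. -/
theorem subfield_closure_eq_top {p : Ideal R} [p.IsPrime] {R' : Type u} [CommRing R'] [Algebra R R']
    (P : Ideal R') [P.IsPrime] [P.LiesOver p]
    (h : Function.Bijective (Ideal.ResidueField.mapₐ p P (Algebra.ofId _ _) (P.over_def p))) :
    Subfield.closure (Set.range (algebraMap R P.ResidueField)) = ⊤ := by
  refine eq_top_iff.2 fun y _ => ?_
  obtain ⟨x, rfl⟩ := h.2 y
  obtain ⟨a, b, -, rfl⟩ := IsFractionRing.div_surjective (A := R ⧸ p) x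
  obtain ⟨a, rfl⟩ := Ideal.Quotient.mk_surjective a
  obtain ⟨b, rfl⟩ := Ideal.Quotient.mk_surjective b
  have key : ∀ c : R, Ideal.ResidueField.mapₐ p P (Algebra.ofId R R') (P.over_def p)
      (algebraMap (R ⧸ p) p.ResidueField (Ideal.Quotient.mk p c)) = algebraMap R P.ResidueField c := fun c => by
    rw [show algebraMap (R ⧸ p) p.ResidueField (Ideal.Quotient.mk p c) = algebraMap R p.ResidueField c from
      (IsScalarTower.algebraMap_apply R (R ⧸ p) p.ResidueField c).symm, AlgHom.commutes]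
  rw [map_div₀, key, key]
  exact div_mem (Subfield.subset_closure ⟨a, rfl⟩) (Subfield.subset_closure ⟨b, rfl⟩)

end Groth.Agent.Lib.Henselian.EtaleDecomp
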