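import Groth.Agent.Lib.Henselian.Roots
import Groth.Agent.Lib.Henselian.LocalRing
import Mathlib.Algebra.Polynomial.Div
import Mathlib.RingTheory.Polynomial.Basic
import Mathlib.LinearAlgebra.Matrix.ToLinearEquiv

/-!
# Lifting factorisations of not necessarily monic polynomials
-/

universe u

open Polynomial IsLocalRing

namespace Groth.Agent.Lib.Henselian.Factor

variable {A : Type u} [CommRing A]

/-- A derivation applied to the coefficients of a polynomial. -/
noncomputable def coeffPderiv {d : ℕ} (j : Fin d) (p : (MvPolynomial (Fin d) A)[X]) :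
    (MvPolynomial (Fin d) A)[X] :=
  p.sum fun n a => monomial n (MvPolynomial.pderiv j a)

lemma coeff_coeffPderiv {d : ℕ} (j : Fin d) (p : (MvPolynomial (Fin d) A)[X]) (n : ℕ) :
    (coeffPderiv j p).coeff n = MvPolynomial.pderiv j (p.coeff n) := by
  rw [coeffPderiv, Polynomial.sum_def, finsetSum_coeff]
  simp only [coeff_monomial]
  rw [Finset.sum_ite_eq' p.support n]
  split_ifs with h
  · rfl
  · rw [notMem_support_iff.mp h, map_zero]

lemma coeffPderiv_mul {d : ℕ} (j : Fin d) (p q : (MvPolynomial (Fin d) A)[X]) :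
    coeffPderiv j (p * q) = coeffPderiv j p * q + p * coeffPderiv j q := by
  ext1 n
  simp only [coeff_coeffPderiv, coeff_add, coeff_mul, map_sum, ← Finset.sum_add_distrib]
  refine Finset.sum_congr rfl fun x _ => ?_
  rw [MvPolynomial.pderiv_mul]

/-- A factorisation of the reduction of a polynomial into coprime factors, one of them monic,
lifts over a henselian local ring. -/
theorem exists_factor_lift [HenselianLocalRing A] (f : A[X]) (g₀ h₀ : (ResidueField A)[X])
    (hg : g₀.Monic) (hc : IsCoprime g₀ h₀) (hf : f.map (residue A) = g₀ * h₀) :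
    ∃ g h : A[X], f = g * h ∧ g.Monic ∧ g.map (residue A) = g₀ ∧ h.map (residue A) = h₀ := by
  classical
  have := LocalRing.henselianLocalRing_iff_henselianRing.mp ‹HenselianLocalRing A›
  set d := g₀.natDegree with hd
  let G : (MvPolynomial (Fin d) A)[X] := X ^ d + ∑ i : Fin d, C (MvPolynomial.X i) * X ^ (i : ℕ)
  have hGdeg : (∑ i : Fin d, C (MvPolynomial.X i : MvPolynomial (Fin d) A) * X ^ (i : ℕ)).degree < (d : WithBot ℕ) :=
    Polynomial.degree_sum_fin_lt _
  have hG : G.Monic := monic_X_pow_add hGdeg
  let F : (MvPolynomial (Fin d) A)[X] := f.map MvPolynomial.C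
  let P : Fin d → (MvPolynomial (Fin d) A) := fun i => (F %ₘ G).coeff i
  choose a₀ ha₀ using fun i : Fin d => residue_surjective (R := A) (g₀.coeff i)
  let e : (MvPolynomial (Fin d) A) →+* ResidueField A := (residue A).comp (MvPolynomial.eval a₀)
  have heF : F.map e = f.map (residue A) := by
    rw [Polynomial.map_map]
    congr 1
    ext r
    simp [e]
  have heG : G.map e = g₀ := by
    conv_rhs => rw [hg.as_sum]
    simp only [G, Polynomial.map_add, Polynomial.map_pow, map_X, Polynomial.map_sum,
      Polynomial.map_mul, map_C, ← hd]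
    congr 1
    rw [← Fin.sum_univ_eq_sum_range (fun i => C (g₀.coeff i) * X ^ i)]
    refine Finset.sum_congr rfl fun i _ => ?_
    simp [e, ha₀]
  have heR : (F %ₘ G).map e = 0 := by
    rw [Polynomial.map_modByMonic _ hG, heF, heG, hf, (modByMonic_eq_zero_iff_dvd hg).mpr ⟨h₀, rfl⟩]
  have heQ : (F /ₘ G).map e = h₀ := by
    rw [Polynomial.map_divByMonic _ hG, heF, heG, hf]
    exact mul_divByMonic_cancel_left h₀ hg
  have h0 : ∀ i, MvPolynomial.eval a₀ (P i) ∈ maximalIdeal A := fun i => by
    rw [← residue_eq_zero_iff]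
    show e (P i) = 0
    rw [← coeff_map, heR, coeff_zero]
  -- the derivatives of the remainder
  have hδ : ∀ j : Fin d, g₀ ∣ (coeffPderiv j (F %ₘ G)).map e + X ^ (j : ℕ) * h₀ := by
    intro j
    refine ⟨-(coeffPderiv j (F /ₘ G)).map e, ?_⟩
    have h1 : coeffPderiv j F = 0 := by
      ext1 n; simp [coeff_coeffPderiv, F]
    have h2 : coeffPderiv j G = X ^ (j : ℕ) := by
      ext1 n
      simp only [coeff_coeffPderiv, G, coeff_add, coeff_X_pow, finsetSum_coeff, coeff_C_mul,
        map_add, map_sum, mul_ite, mul_one, mul_zero]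
      rw [show MvPolynomial.pderiv j (if n = d then (1 : MvPolynomial (Fin d) A) else 0) = 0 by split_ifs <;> simp,
        zero_add, Finset.sum_eq_single j]
      · split_ifs <;> simp
      · intro b _ hb
        split_ifs <;> simp [MvPolynomial.pderiv_X_of_ne hb]
      · simp
    have h3 : coeffPderiv j F = coeffPderiv j (F %ₘ G) + coeffPderiv j (G * (F /ₘ G)) := by
      conv_lhs => rw [← modByMonic_add_div F G]
      ext1 n; simp [coeff_coeffPderiv]
    rw [h1, coeffPderiv_mul, h2] at h3
    have h4 := congrArg (Polynomial.map e) h3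
    simp only [Polynomial.map_zero, Polynomial.map_add, Polynomial.map_mul, Polynomial.map_pow,
      map_X, heG, heQ] at h4
    linear_combination -h4
  have hdeg : ∀ (j : Fin d) n, d ≤ n → ((coeffPderiv j (F %ₘ G)).map e).coeff n = 0 := by
    intro j n hn
    rcases subsingleton_or_nontrivial (MvPolynomial (Fin d) A) with hU | hU
    · rw [Subsingleton.elim (coeffPderiv j (F %ₘ G)) 0, Polynomial.map_zero, coeff_zero]
    rw [coeff_map, coeff_coeffPderiv, coeff_eq_zero_of_degree_lt, map_zero, map_zero]
    calc (F %ₘ G).degree < G.degree := degree_modByMonic_lt _ hG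
      _ = d := by rw [show G = X ^ d + _ from rfl, degree_add_eq_left_of_degree_lt] <;>
            rw [degree_X_pow]; exact hGdeg
      _ ≤ n := by exact_mod_cast hn
  let M : Matrix (Fin d) (Fin d) (ResidueField A) :=
    Matrix.of fun i j => e (MvPolynomial.pderiv j (P i))
  have hM : M.det ≠ 0 := by
    intro hdet
    obtain ⟨v, hv, hMv⟩ := Matrix.exists_mulVec_eq_zero_iff.mpr hdet
    let V : (ResidueField A)[X] := ∑ j : Fin d, C (v j) * X ^ (j : ℕ)
    have hsum : ∑ j : Fin d, C (v j) * (coeffPderiv j (F %ₘ G)).map e = 0 := by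
      ext1 n
      rw [finsetSum_coeff, coeff_zero]
      simp only [coeff_C_mul]
      rcases lt_or_ge n d with hn | hn
      · have := congrFun hMv ⟨n, hn⟩
        simp only [Matrix.mulVec, dotProduct, M, Matrix.of_apply, Pi.zero_apply] at this
        rw [← this]
        exact Finset.sum_congr rfl fun j _ => by
          rw [coeff_map, coeff_coeffPderiv, mul_comm]
      · exact Finset.sum_eq_zero fun j _ => by rw [hdeg j n hn, mul_zero]
    have hdvd : g₀ ∣ V * h₀ := by
      have := Finset.dvd_sum fun j (_ : j ∈ Finset.univ) => (hδ j).mul_left (C (v j))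
      simp only [mul_add, Finset.sum_add_distrib, hsum, zero_add, ← mul_assoc] at this
      rwa [← Finset.sum_mul] at this
    have hV : V = 0 := by
      refine eq_zero_of_dvd_of_degree_lt (hc.dvd_of_dvd_mul_right hdvd) ?_
      calc V.degree < d := degree_sum_fin_lt v
        _ = g₀.degree := (degree_eq_natDegree hg.ne_zero).symm
    refine hv (funext fun j => ?_)
    have := congrArg (fun p => coeff p (j : ℕ)) hV
    simpa [V, finsetSum_coeff, coeff_C_mul, coeff_X_pow, Fin.val_inj] using this
  obtain ⟨a, ha, haa⟩ := Roots.exists_square_system_root (maximalIdeal A) P a₀ h0 (by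
    show IsUnit (residue A _)
    rw [RingHom.map_det]
    exact isUnit_iff_ne_zero.mpr hM)
  let ea : (MvPolynomial (Fin d) A) →+* A := MvPolynomial.eval a
  have hres : (residue A).comp ea = e := by
    refine MvPolynomial.ringHom_ext (fun r => by simp [e, ea]) fun i => ?_
    simp only [e, ea, RingHom.comp_apply, MvPolynomial.eval_X]
    rw [← sub_eq_zero, ← map_sub, residue_eq_zero_iff]
    exact haa i
  have heaF : F.map ea = f := by
    rw [Polynomial.map_map, show ea.comp MvPolynomial.C = RingHom.id A from RingHom.ext fun r => by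
      simp [ea], Polynomial.map_id]
  have hR : (F %ₘ G).map ea = 0 := by
    ext1 n
    rw [coeff_map, coeff_zero]
    rcases lt_or_ge n d with hn | hn
    · exact ha ⟨n, hn⟩
    · rcases subsingleton_or_nontrivial (MvPolynomial (Fin d) A) with hU | hU
      · rw [Subsingleton.elim ((F %ₘ G).coeff n) 0, map_zero]
      rw [coeff_eq_zero_of_degree_lt, map_zero]
      calc (F %ₘ G).degree < G.degree := degree_modByMonic_lt _ hG
        _ = d := by rw [show G = X ^ d + _ from rfl, degree_add_eq_left_of_degree_lt] <;>
              rw [degree_X_pow]; exact hGdeg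
        _ ≤ n := by exact_mod_cast hn
  refine ⟨G.map ea, (F /ₘ G).map ea, ?_, hG.map ea, by rw [Polynomial.map_map, hres, heG],
    by rw [Polynomial.map_map, hres, heQ]⟩
  conv_lhs => rw [← heaF, ← modByMonic_add_div F G, Polynomial.map_add, hR, zero_add,
    Polynomial.map_mul]

end Groth.Agent.Lib.Henselian.Factor
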