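import Groth.Agent.Lib.Depth.Assoc
import Groth.Agent.Lib.Depth.SES
import Groth.Agent.Lib.Depth.CM
import Mathlib.RingTheory.TensorProduct.Quotient
import Mathlib.RingTheory.Regular.Flat
import Mathlib.RingTheory.Flat.Stability
import Mathlib.RingTheory.LocalRing.RingHom.Basic

/-!
# Depth along flat local homomorphisms with `m S = n`
-/

universe u

open IsLocalRing LocCoh Pointwise

namespace Groth.Agent.Lib.Henselian.FlatDepth

open Groth.Agent.Lib.Depth

/-- Depth is unchanged by flat local homomorphisms with `mS = n` of Noetherian local rings. -/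
theorem depth_eq_of_eq_natCast : ∀ (d : ℕ) (R S : Type u) [CommRing R] [IsLocalRing R]
    [IsNoetherianRing R] [CommRing S] [IsLocalRing S] [IsNoetherianRing S] [Algebra R S]
    [Module.Flat R S] [IsLocalHom (algebraMap R S)],
    (maximalIdeal R).map (algebraMap R S) = maximalIdeal S →
    depth R R = d → depth S S = d := by
  intro d
  induction d with
  | zero =>
    intro R S _ _ _ _ _ _ _ _ _ hm hd
    have : Module.FaithfullyFlat R S := Module.FaithfullyFlat.of_flat_of_isLocalHom
    rw [Nat.cast_zero] at hd ⊢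
    obtain ⟨hp, y, hy'⟩ := isAssociatedPrime_iff.mp
      ((Assoc.depth_eq_zero_iff R).mp hd)
    have hy : y ≠ 0 := fun h0 => by
      have h1 : (1 : R) ∈ (⊥ : Submodule R R).colon {y} := by
        rw [Submodule.mem_colon_singleton, h0, smul_zero]; exact zero_mem _
      rw [← hy'] at h1
      exact hp.ne_top ((Ideal.eq_top_iff_one _).mpr h1)
    have hann : ∀ a ∈ maximalIdeal R, a * y = 0 := fun a ha => by
      have h1 := hy'.le ha
      rwa [Submodule.mem_colon_singleton, Submodule.mem_bot, smul_eq_mul] at h1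
    refine (Assoc.depth_eq_zero_iff S).mpr ?_
    have hne : algebraMap R S y ≠ 0 := fun h0 =>
      hy ((FaithfulSMul.algebraMap_injective R S) (h0.trans (map_zero _).symm))
    have hle : maximalIdeal S ≤ (⊥ : Submodule S S).colon {algebraMap R S y} := by
      rw [← hm, Ideal.map_le_iff_le_comap]
      intro a ha
      rw [Ideal.mem_comap, Submodule.mem_colon_singleton, Submodule.mem_bot, smul_eq_mul,
        ← map_mul, hann a ha, map_zero]
    have heq : (⊥ : Submodule S S).colon {algebraMap R S y} = maximalIdeal S := by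
      refine ((maximalIdeal.isMaximal S).eq_of_le ?_ hle).symm
      intro htop
      have h1 : (1 : S) ∈ (⊥ : Submodule S S).colon {algebraMap R S y} := htop ▸ trivial
      rw [Submodule.mem_colon_singleton, Submodule.mem_bot, one_smul] at h1
      exact hne h1
    exact isAssociatedPrime_iff.mpr ⟨(maximalIdeal.isMaximal S).isPrime, algebraMap R S y, heq.symm⟩
  | succ d ih =>
    intro R S _ _ _ _ _ _ _ _ _ hm hd
    have hI := Basic.smul_top_ne_top (R := R) (M := R) (I := maximalIdeal R) Ideal.IsPrime.ne_top'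
    obtain ⟨x, hx, hreg, -⟩ := Basic.exists_isSMulRegular_of_succ_le hI (n := d) (le_of_eq hd.symm)
    have hxS : algebraMap R S x ∈ maximalIdeal S := hm ▸ Ideal.mem_map_of_mem _ hx
    have hregS : IsSMulRegular S (algebraMap R S x) := by
      have h1 := RingTheory.Sequence.IsWeaklyRegular.of_flat (S := S)
        ((RingTheory.Sequence.isWeaklyRegular_singleton_iff R x).mpr hreg)
      exact (RingTheory.Sequence.isWeaklyRegular_singleton_iff S _).mp h1
    let I := Ideal.span ({x} : Set R)
    let J := I.map (algebraMap R S)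
    have hJ : J = Ideal.span {algebraMap R S x} := by
      show Ideal.map _ (Ideal.span {x}) = _
      rw [Ideal.map_span, Set.image_singleton]
    have hIne : I ≠ ⊤ := fun h => (maximalIdeal.isMaximal R).ne_top
      (top_le_iff.mp (h ▸ (Ideal.span_singleton_le_iff_mem _).mpr hx))
    have hJne : J ≠ ⊤ := fun h => (maximalIdeal.isMaximal S).ne_top
      (top_le_iff.mp (h ▸ hm ▸ Ideal.map_mono ((Ideal.span_singleton_le_iff_mem _).mpr hx)))
    have : Nontrivial (R ⧸ I) := Ideal.Quotient.nontrivial_iff.mpr hIne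
    have : Nontrivial (S ⧸ J) := Ideal.Quotient.nontrivial_iff.mpr hJne
    have : IsLocalRing (R ⧸ I) := IsLocalRing.of_surjective' _ Ideal.Quotient.mk_surjective
    have : IsLocalRing (S ⧸ J) := IsLocalRing.of_surjective' _ Ideal.Quotient.mk_surjective
    have : Module.Flat (R ⧸ I) (S ⧸ J) := Module.Flat.of_linearEquiv
      (Algebra.TensorProduct.quotIdealMapEquivQuotTensor S I).toLinearEquiv
    have hmR := IsLocalRing.map_maximalIdeal_of_surjective (Ideal.Quotient.mk I) Ideal.Quotient.mk_surjective
    have hmS := IsLocalRing.map_maximalIdeal_of_surjective (Ideal.Quotient.mk J) Ideal.Quotient.mk_surjective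
    have hm' : (maximalIdeal (R ⧸ I)).map (algebraMap (R ⧸ I) (S ⧸ J)) = maximalIdeal (S ⧸ J) := by
      rw [← hmR, ← hmS, ← hm, Ideal.map_map, Ideal.map_map]
      rfl
    have : IsLocalHom (algebraMap (R ⧸ I) (S ⧸ J)) :=
      ((IsLocalRing.local_hom_TFAE (algebraMap (R ⧸ I) (S ⧸ J))).out 0 2).mpr hm'.le
    have hstep : ∀ (A : Type u) [CommRing A] [IsLocalRing A] [IsNoetherianRing A] (a : A)
        [IsLocalRing (A ⧸ Ideal.span {a})], a ∈ maximalIdeal A → IsSMulRegular A a →
        depth (A ⧸ Ideal.span {a}) (A ⧸ Ideal.span {a}) + 1 = depth A A := by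
      intro A _ _ _ a _ ha har
      rw [← CM.depth_quotient_eq, Basic.depth_congr (Submodule.quotEquivOfEq (Ideal.span {a})
        (a • ⊤) (by rw [← Submodule.ideal_span_singleton_smul, smul_eq_mul, Ideal.mul_top]))]
      exact SES.idealDepth_quotSMulTop _ ha har
    have h1 := hstep R x hx hreg
    rw [hd, Nat.cast_succ] at h1
    have h2 := ih (R ⧸ I) (S ⧸ J) hm' (WithTop.add_right_cancel ENat.one_ne_top h1)
    have : IsLocalRing (S ⧸ Ideal.span {algebraMap R S x}) := hJ ▸ ‹IsLocalRing (S ⧸ J)›
    rw [← hstep S _ hxS hregS, Nat.cast_succ, ← h2]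
    have key : ∀ (J' : Ideal S) [IsLocalRing (S ⧸ J')], J' = J →
        depth (S ⧸ J') (S ⧸ J') = depth (S ⧸ J) (S ⧸ J) := by
      intro J' _ h'; subst h'; rfl
    rw [key _ hJ.symm]

theorem depth_eq (R S : Type u) [CommRing R] [IsLocalRing R]
    [IsNoetherianRing R] [CommRing S] [IsLocalRing S] [IsNoetherianRing S] [Algebra R S]
    [Module.Flat R S] [IsLocalHom (algebraMap R S)]
    (hm : (maximalIdeal R).map (algebraMap R S) = maximalIdeal S) :
    depth S S = depth R R := by
  obtain ⟨d, hd⟩ := ENat.ne_top_iff_exists.mp (Assoc.depth_ne_top (R := R) R)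
  rw [← hd]
  exact depth_eq_of_eq_natCast d R S hm hd.symm

theorem isCohenMacaulayLocalRing_iff (R S : Type u) [CommRing R] [IsLocalRing R]
    [IsNoetherianRing R] [CommRing S] [IsLocalRing S] [IsNoetherianRing S] [Algebra R S]
    [Module.Flat R S] [IsLocalHom (algebraMap R S)]
    (hm : (maximalIdeal R).map (algebraMap R S) = maximalIdeal S)
    (hdim : ringKrullDim S = ringKrullDim R) :
    IsCohenMacaulayLocalRing S ↔ IsCohenMacaulayLocalRing R := by
  rw [CM.isCohenMacaulayLocalRing_iff, CM.isCohenMacaulayLocalRing_iff, depth_eq R S hm, hdim]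

end Groth.Agent.Lib.Henselian.FlatDepth
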