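import Groth.Agent.Lib.Henselian.GRingHens
import Groth.Agent.Lib.Henselian.ColimitPair
import Groth.Agent.Lib.Henselian.LocalPair
import Groth.Agent.Lib.GRing.Complete
import Groth.Agent.Lib.GRing.FiniteType
import Groth.Agent.S2653
import Mathlib.RingTheory.Localization.AtPrime.Basic
import Mathlib.RingTheory.Adjoin.FG

/-!
# A henselian local ring as a colimit of henselian G-rings
-/

universe u

open IsLocalRing

set_option linter.style.haveILetI false

namespace Groth.Agent.Lib.Henselian.GRingColimit

/-- A local map out of a henselization is local. -/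
theorem isLocalHom_of_comp (R : Type u) [CommRing R] [IsLocalRing R] {T : Type u} [CommRing T] [IsLocalRing T]
    (g : Henselization.Henselization R →+* T)
    [IsLocalHom (g.comp (algebraMap R (Henselization.Henselization R)))] : IsLocalHom g := by
  refine ((local_hom_TFAE g).out 0 2 rfl rfl).2 ?_
  rw [← Henselization.map_maximalIdeal_self R, Ideal.map_map]
  exact ((local_hom_TFAE (g.comp (algebraMap R (Henselization.Henselization R)))).out 0 2 rfl rfl).1 inferInstance

theorem comap_incl {A : Type u} [CommRing A] {S T : Subring A} (h : S ≤ T) (J : Ideal A) :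
    J.comap S.subtype = (J.comap T.subtype).comap (Subring.inclusion h) := by
  rw [Ideal.comap_comap]; rfl

theorem incl_self {A : Type u} [CommRing A] {S : Subring A} (h : S ≤ S) (x : S) :
    Subring.inclusion h x = x := rfl

theorem incl_incl {A : Type u} [CommRing A] {S T U : Subring A} (h : S ≤ T) (h' : T ≤ U) (h'' : S ≤ U) (x : S) :
    Subring.inclusion h' (Subring.inclusion h x) = Subring.inclusion h'' x := rfl

variable (A : Type u) [CommRing A]

/-- The base ring of the finitely generated approximations. -/
abbrev Z : Type u := ULift.{u} ℤ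

/-- A Dedekind base of characteristic zero: the integers form a G-ring. -/
theorem isGRing_Z : CAlg.IsGRing Z.{u} := by
  haveI : IsDomain Z.{u} := MulEquiv.isDomain ℤ (ULift.ringEquiv : Z.{u} ≃+* ℤ).toMulEquiv
  haveI : IsPrincipalIdealRing Z.{u} := IsPrincipalIdealRing.of_surjective
    (ULift.ringEquiv : Z.{u} ≃+* ℤ).symm.toRingHom (RingEquiv.surjective _)
  haveI : CharZero Z.{u} := charZero_of_injective_ringHom
    (f := (ULift.ringEquiv : Z.{u} ≃+* ℤ).symm.toRingHom) (RingEquiv.injective _)
  exact (Groth.Agent.S2653.result Z.{u}).2.2.1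

variable [HenselianLocalRing A]

/-- The subrings generated by finitely many elements. -/
def sub (s : Finset A) : Subring A := Subring.closure (s : Set A)

theorem sub_mono {s t : Finset A} (h : s ≤ t) : sub A s ≤ sub A t :=
  Subring.closure_mono (Finset.coe_subset.2 h)

/-- The centre. -/
def ctr (s : Finset A) : Ideal (sub A s) := (maximalIdeal A).comap (sub A s).subtype

instance (s : Finset A) : (ctr A s).IsPrime := Ideal.IsPrime.comap _

/-- The local ring at the centre. -/
abbrev loc (s : Finset A) : Type u := Localization.AtPrime (ctr A s)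

/-- The map to the ring. -/
noncomputable def toA (s : Finset A) : loc A s →+* A :=
  IsLocalization.lift (M := (ctr A s).primeCompl) (g := (sub A s).subtype)
    fun y => of_not_not fun h => y.2 ((mem_maximalIdeal _).2 h)

theorem toA_algebraMap (s : Finset A) (x : sub A s) : toA A s (algebraMap _ (loc A s) x) = x :=
  IsLocalization.lift_eq _ x

instance toA_isLocalHom (s : Finset A) : IsLocalHom (toA A s) := by
  refine ((local_hom_TFAE (toA A s)).out 0 2 rfl rfl).2 ?_
  rw [← Localization.AtPrime.map_eq_maximalIdeal, Ideal.map_map, Ideal.map_le_iff_le_comap]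
  intro x hx
  show toA A s (algebraMap _ _ x) ∈ maximalIdeal A
  rw [toA_algebraMap]
  exact hx

theorem ctr_comap {s t : Finset A} (h : s ≤ t) :
    ctr A s = (ctr A t).comap (Subring.inclusion (sub_mono A h)) := comap_incl (sub_mono A h) _

/-- The transition between local rings. -/
noncomputable def trans {s t : Finset A} (h : s ≤ t) : loc A s →+* loc A t :=
  Localization.localRingHom (ctr A s) (ctr A t) (Subring.inclusion (sub_mono A h)) (ctr_comap A h)

instance trans_isLocalHom {s t : Finset A} (h : s ≤ t) : IsLocalHom (trans A h) :=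
  Localization.isLocalHom_localRingHom _ _ _ _

theorem trans_algebraMap {s t : Finset A} (h : s ≤ t) (x : sub A s) :
    trans A h (algebraMap _ (loc A s) x) = algebraMap _ (loc A t) (Subring.inclusion (sub_mono A h) x) :=
  Localization.localRingHom_to_map _ _ _ _ x

/-- The henselian stage. -/
abbrev stage (s : Finset A) : Type u := Henselization.Henselization (loc A s)

theorem exists_f {s t : Finset A} (h : s ≤ t) : ∃! g : stage A s →+* stage A t,
    g.comp (algebraMap (loc A s) (stage A s)) = (algebraMap (loc A t) (stage A t)).comp (trans A h) :=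
  Hensel.IsHenselization.universal (R := loc A s) (S := stage A s) (stage A t) _ inferInstance

/-- The transition. -/
noncomputable def f (s t : Finset A) (h : s ≤ t) : stage A s →+* stage A t := (exists_f A h).exists.choose

theorem f_comp {s t : Finset A} (h : s ≤ t) :
    (f A s t h).comp (algebraMap (loc A s) (stage A s)) = (algebraMap (loc A t) (stage A t)).comp (trans A h) :=
  (exists_f A h).exists.choose_spec

theorem f_algebraMap {s t : Finset A} (h : s ≤ t) (x : sub A s) :
    f A s t h (algebraMap (loc A s) (stage A s) (algebraMap _ _ x)) =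
      algebraMap (loc A t) (stage A t) (algebraMap _ _ (Subring.inclusion (sub_mono A h) x)) := by
  rw [← RingHom.comp_apply (f A s t h), f_comp, RingHom.comp_apply, trans_algebraMap]

instance f_isLocalHom {s t : Finset A} (h : s ≤ t) : IsLocalHom (f A s t h) := by
  haveI : IsLocalHom ((f A s t h).comp (algebraMap (loc A s) (stage A s))) := by
    rw [f_comp]; infer_instance
  exact isLocalHom_of_comp _ _

/-- Two local maps to a henselian ring agreeing on the subring are equal. -/
theorem hom_ext {s : Finset A} {T : Type u} [CommRing T] [HenselianLocalRing T] (g g' : stage A s →+* T)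
    [IsLocalHom g] (h : ∀ x : sub A s, g (algebraMap (loc A s) (stage A s) (algebraMap _ _ x)) =
      g' (algebraMap (loc A s) (stage A s) (algebraMap _ _ x))) : g = g' := by
  have e : g.comp (algebraMap (loc A s) (stage A s)) = g'.comp (algebraMap (loc A s) (stage A s)) :=
    IsLocalization.ringHom_ext (ctr A s).primeCompl (RingHom.ext h)
  exact (Hensel.IsHenselization.universal (R := loc A s) (S := stage A s) T
    (g.comp (algebraMap (loc A s) (stage A s))) inferInstance).unique rfl e.symm

instance : DirectedSystem (stage A) (fun s t h => f A s t h) where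
  map_self {s} x := by
    have h1 : f A s s le_rfl = RingHom.id _ := hom_ext A _ _ fun z => by
      rw [f_algebraMap, RingHom.id_apply, incl_self]
    exact congrArg (fun g : stage A s →+* stage A s => g x) h1
  map_map {k j i} hij hjk x := by
    have h1 : f A i k (hij.trans hjk) = (f A j k hjk).comp (f A i j hij) := hom_ext A _ _ fun z => by
      rw [f_algebraMap, RingHom.comp_apply, f_algebraMap, f_algebraMap,
        incl_incl (sub_mono A hij) (sub_mono A hjk) (sub_mono A (hij.trans hjk))]
    exact (congrArg (fun g : stage A i →+* stage A k => g x) h1).symm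

theorem exists_θ (s : Finset A) : ∃! g : stage A s →+* A,
    g.comp (algebraMap (loc A s) (stage A s)) = toA A s :=
  Hensel.IsHenselization.universal (R := loc A s) (S := stage A s) A _ inferInstance

/-- The map of a stage to the ring. -/
noncomputable def θ (s : Finset A) : stage A s →+* A := (exists_θ A s).exists.choose

theorem θ_algebraMap (s : Finset A) (x : sub A s) :
    θ A s (algebraMap (loc A s) (stage A s) (algebraMap _ _ x)) = x := by
  rw [← RingHom.comp_apply (θ A s), θ, (exists_θ A s).exists.choose_spec, toA_algebraMap]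

instance θ_isLocalHom (s : Finset A) : IsLocalHom (θ A s) := by
  haveI : IsLocalHom ((θ A s).comp (algebraMap (loc A s) (stage A s))) := by
    rw [θ, (exists_θ A s).exists.choose_spec]; infer_instance
  exact isLocalHom_of_comp _ _

theorem θ_f {s t : Finset A} (h : s ≤ t) : (θ A t).comp (f A s t h) = θ A s :=
  hom_ext A _ _ fun x => by rw [RingHom.comp_apply, f_algebraMap, θ_algebraMap, θ_algebraMap, Subring.coe_inclusion]

theorem isGRing_stage (s : Finset A) : CAlg.IsGRing (stage A s) := by
  letI : Algebra Z.{u} A := ((Int.castRingHom A).comp (ULift.ringEquiv : Z.{u} ≃+* ℤ).toRingHom).toAlgebra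
  let S' := Algebra.adjoin Z.{u} (s : Set A)
  haveI : Algebra.FiniteType Z.{u} S' := (Subalgebra.fg_iff_finiteType S').1 ⟨s, rfl⟩
  have hS : S'.toSubring = sub A s := by
    refine le_antisymm ?_ (Subring.closure_le.2 Algebra.subset_adjoin)
    show (S'.toSubring : Set A) ⊆ _
    intro x hx
    change x ∈ S' at hx
    induction hx using Algebra.adjoin_induction with
    | mem y hy => exact Subring.subset_closure hy
    | algebraMap r => exact intCast_mem (sub A s) _
    | add y z _ _ hy hz => exact add_mem hy hz
    | mul y z _ _ hy hz => exact mul_mem hy hz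
  letI : Algebra Z.{u} (sub A s) :=
    ((Int.castRingHom (sub A s)).comp (ULift.ringEquiv : Z.{u} ≃+* ℤ).toRingHom).toAlgebra
  haveI : Algebra.FiniteType Z.{u} (sub A s) := by
    let e : S' ≃+* sub A s := RingEquiv.subringCongr hS
    exact Algebra.FiniteType.equiv (inferInstance : Algebra.FiniteType Z.{u} S')
      (AlgEquiv.ofRingEquiv (f := e) fun r => Subtype.ext (by
        show algebraMap Z.{u} A r = ((Int.castRingHom (sub A s)) r.down : A)
        simp [RingHom.algebraMap_toAlgebra]; rfl))
  have h1 := Groth.Agent.Lib.GRing.FiniteType.isGRing Z.{u} isGRing_Z (sub A s)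
  have h2 := Groth.Agent.Lib.Excellent.GRingStability.isGRing_of_isLocalization (A' := loc A s) (ctr A s).primeCompl h1
  exact GRingHens.isGRing_henselization_of (fun C _ _ _ _ => Groth.Agent.Lib.GRing.Complete.isGRing C)
    (loc A s) (stage A s) h2

/-- The comparison map. -/
noncomputable def Θ : DirectLimit (stage A) (f A) →+* A :=
  DirectLimit.Ring.lift (stage A) (f A) A (θ A) fun s t h x => RingHom.congr_fun (θ_f A h) x

theorem Θ_of (s : Finset A) (x : stage A s) : Θ A (DirectLimit.Ring.of (stage A) (f A) s x) = θ A s x := rfl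

instance isLocalHom_of (s : Finset A) : IsLocalHom (DirectLimit.Ring.of (stage A) (f A) s) :=
  ⟨fun a ha => (θ_isLocalHom A s).map_nonunit a (Θ_of A s a ▸ ha.map (Θ A))⟩

instance : Nontrivial (DirectLimit (stage A) (f A)) := RingHom.domain_nontrivial (Θ A)

instance : IsLocalRing (DirectLimit (stage A) (f A)) :=
  IsLocalRing.of_isUnit_or_isUnit_one_sub_self fun z => by
    obtain ⟨i, x, rfl⟩ := ColimitPair.exists_of z
    rcases IsLocalRing.isUnit_or_isUnit_one_sub_self x with h | h
    · exact Or.inl (h.map _)
    · refine Or.inr ?_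
      rw [← map_one (DirectLimit.Ring.of (stage A) (f A) i), ← map_sub]
      exact h.map _

instance instHenselian : HenselianLocalRing (DirectLimit (stage A) (f A)) := by
  have hJ : ∀ (i j : Finset A) (h : i ≤ j), (maximalIdeal (stage A i)).map (f A i j h) ≤ maximalIdeal (stage A j) :=
    fun i j h => ((local_hom_TFAE (f A i j h)).out 0 2 rfl rfl).1 inferInstance
  have h := ColimitPair.henselianRing_directLimit hJ fun i =>
    (inferInstance : HenselianRing (stage A i) (maximalIdeal (stage A i)))
  have hmax : (⨆ i, (maximalIdeal (stage A i)).map (DirectLimit.Ring.of (stage A) (f A) i)) =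
      maximalIdeal (DirectLimit (stage A) (f A)) := by
    refine le_antisymm (iSup_le fun i => ((local_hom_TFAE _).out 0 2 rfl rfl).1 (isLocalHom_of A i))
      fun z hz => ?_
    obtain ⟨i, x, rfl⟩ := ColimitPair.exists_of z
    exact Submodule.mem_iSup_of_mem i (Ideal.mem_map_of_mem _
      ((mem_maximalIdeal _).2 fun hu => (mem_maximalIdeal _).1 hz (hu.map _)))
  rw [hmax] at h
  exact Groth.Agent.Lib.Henselian.LocalRing.henselianLocalRing_of_henselianRing

/-- A finitely generated subring inside the limit. -/
noncomputable def el (s : Finset A) : sub A s →+* DirectLimit (stage A) (f A) :=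
  ((DirectLimit.Ring.of (stage A) (f A) s).comp (algebraMap (loc A s) (stage A s))).comp (algebraMap _ _)

theorem el_apply (s : Finset A) (x : sub A s) :
    el A s x = DirectLimit.Ring.of (stage A) (f A) s (algebraMap (loc A s) (stage A s) (algebraMap _ _ x)) := rfl

theorem el_incl {s t : Finset A} (h : s ≤ t) (x : sub A s) :
    el A t (Subring.inclusion (sub_mono A h) x) = el A s x := by
  rw [el_apply, el_apply, ← f_algebraMap A h x]
  exact ColimitPair.of_f h _

theorem el_congr (s t : Finset A) (x : sub A s) (y : sub A t) (hxy : (x : A) = y) : el A s x = el A t y := by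
  classical
  rw [← el_incl A (Finset.subset_union_left : s ≤ s ∪ t) x, ← el_incl A (Finset.subset_union_right : t ≤ s ∪ t) y]
  refine congrArg (el A (s ∪ t)) (Subtype.ext ?_)
  rw [Subring.coe_inclusion, Subring.coe_inclusion, hxy]

theorem mem_sub {a : A} {s : Finset A} (h : a ∈ s) : a ∈ sub A s := Subring.subset_closure h

/-- The inverse comparison map. -/
noncomputable def σ : A →+* DirectLimit (stage A) (f A) where
  toFun a := el A {a} ⟨a, mem_sub A (Finset.mem_singleton_self a)⟩
  map_one' := (el_congr A {1} {1} _ 1 (by simp)).trans (map_one _)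
  map_mul' a b := by
    classical
    have ha : a ∈ sub A ({a} ∪ {b}) := mem_sub A (Finset.mem_union_left _ (Finset.mem_singleton_self a))
    have hb : b ∈ sub A ({a} ∪ {b}) := mem_sub A (Finset.mem_union_right _ (Finset.mem_singleton_self b))
    have e : ((⟨a * b, mem_sub A (Finset.mem_singleton_self (a * b))⟩ : sub A {a * b}) : A) =
        ((⟨a, ha⟩ * ⟨b, hb⟩ : sub A ({a} ∪ {b})) : A) := by rw [Subring.coe_mul]
    refine (el_congr A {a * b} ({a} ∪ {b}) _ _ e).trans ?_
    rw [map_mul]
    exact congrArg₂ (· * ·) (el_congr A _ {a} ⟨a, ha⟩ ⟨a, mem_sub A (Finset.mem_singleton_self a)⟩ rfl)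
      (el_congr A _ {b} ⟨b, hb⟩ ⟨b, mem_sub A (Finset.mem_singleton_self b)⟩ rfl)
  map_zero' := (el_congr A {0} {0} _ 0 (by simp)).trans (map_zero _)
  map_add' a b := by
    classical
    have ha : a ∈ sub A ({a} ∪ {b}) := mem_sub A (Finset.mem_union_left _ (Finset.mem_singleton_self a))
    have hb : b ∈ sub A ({a} ∪ {b}) := mem_sub A (Finset.mem_union_right _ (Finset.mem_singleton_self b))
    have e : ((⟨a + b, mem_sub A (Finset.mem_singleton_self (a + b))⟩ : sub A {a + b}) : A) =
        ((⟨a, ha⟩ + ⟨b, hb⟩ : sub A ({a} ∪ {b})) : A) := by rw [Subring.coe_add]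
    refine (el_congr A {a + b} ({a} ∪ {b}) _ _ e).trans ?_
    rw [map_add]
    exact congrArg₂ (· + ·) (el_congr A _ {a} ⟨a, ha⟩ ⟨a, mem_sub A (Finset.mem_singleton_self a)⟩ rfl)
      (el_congr A _ {b} ⟨b, hb⟩ ⟨b, mem_sub A (Finset.mem_singleton_self b)⟩ rfl)

theorem σ_apply (a : A) : σ A a = el A {a} ⟨a, mem_sub A (Finset.mem_singleton_self a)⟩ := rfl

theorem of_eq_σ_θ (s : Finset A) (x : stage A s) :
    DirectLimit.Ring.of (stage A) (f A) s x = σ A (θ A s x) := by
  have h : DirectLimit.Ring.of (stage A) (f A) s = (σ A).comp (θ A s) := hom_ext A _ _ fun y => by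
    rw [RingHom.comp_apply, θ_algebraMap, σ_apply, ← el_apply]
    exact el_congr A s {(y : A)} y ⟨(y : A), _⟩ rfl
  rw [h, RingHom.comp_apply]

theorem Θ_bijective : Function.Bijective (Θ A) := by
  refine ⟨?_, fun a => ⟨σ A a, ?_⟩⟩
  · intro z w hzw
    obtain ⟨i, x, rfl⟩ := ColimitPair.exists_of z
    obtain ⟨j, y, rfl⟩ := ColimitPair.exists_of w
    rw [Θ_of, Θ_of] at hzw
    rw [of_eq_σ_θ, of_eq_σ_θ, hzw]
  · rw [σ_apply, el_apply, Θ_of, θ_algebraMap]

end Groth.Agent.Lib.Henselian.GRingColimit
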