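import Groth.Agent.Lib.EGA75.Loci
import Groth.Agent.Lib.Cohen.CompleteGenReg
import Groth.Agent.Lib.Excellent.CompletionNoetherian
import Groth.Agent.H24.CompletionFlat
import Groth.Agent.S9293
import Groth.Agent.S4704
import Groth.Agent.S4736
import Groth.Agent.S9259
import Groth.Agent.Lib.Excellent.GRingStability

/-!
# Local rings with geometrically regular formal fibres

* `isOpen_regLocus_of_cover`, `isJ2_of_local`
* `isGRing_of_maximal`
-/

universe u

open TensorProduct IsLocalRing

set_option linter.style.haveILetI false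

namespace Groth.Agent.Lib.Henselian.GRingLocal

/-- The regular locus is open if it is so on a regular faithfully flat cover. -/
theorem isOpen_regLocus_of_cover (B C : Type u) [CommRing B] [IsNoetherianRing B] [CommRing C]
    [IsNoetherianRing C] [Algebra B C] [Module.FaithfullyFlat B C] (h : CAlg.IsRegularHom B C)
    (hC : IsOpen (EGA4.regLocus C)) : IsOpen (EGA4.regLocus B) := by
  refine Groth.Agent.Lib.EGA75.Loci.isOpen_of_preimage B C ?_
  convert hC using 1
  ext Q
  refine ⟨fun hb => ?_, fun hc => ?_⟩
  · refine Groth.Agent.Lib.EGA75.Loci.atPrime_of_fibre Groth.Agent.Lib.EGA75.Loci.compProp_regular B C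
      Q.asIdeal _ rfl hb fun Q' _ => ?_
    let p := Q.asIdeal.comap (algebraMap B C)
    have := (h.2 p).1
    have := (h.2 p).2 p.ResidueField inferInstance
    have : IsRegularRing (p.Fiber C) :=
      IsRegularRing.of_ringEquiv (R := p.ResidueField ⊗[p.ResidueField] p.Fiber C)
        (Algebra.TensorProduct.lid p.ResidueField (p.Fiber C)).toRingEquiv
    exact IsRegularRing.isRegularLocalRing_localization Q'
  · exact Groth.Agent.Lib.EGA75.Loci.atPrime_descend (P := fun R [CommRing R] => IsRegularLocalRing R)
      Groth.Agent.Lib.EGA75.Loci.descend_regular B C Q.asIdeal _ rfl hc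

/-- A Noetherian local ring with geometrically regular formal fibres is J-2. -/
theorem isJ2_of_local (A : Type u) [CommRing A] [IsNoetherianRing A] [IsLocalRing A]
    (h : CAlg.IsRegularHom A (EGA4.Cpl A)) : EGA4.IsJ2 A := by
  intro S _ _ hS
  haveI : IsNoetherianRing S := Algebra.FiniteType.isNoetherianRing A S
  haveI : Module.FaithfullyFlat A (EGA4.Cpl A) := Module.FaithfullyFlat.of_flat_of_isLocalHom
  have hreg : CAlg.IsRegularHom S (S ⊗[A] EGA4.Cpl A) := Groth.Agent.S9293.result A (EGA4.Cpl A) S h
  letI : Algebra (EGA4.Cpl A) (S ⊗[A] EGA4.Cpl A) := Algebra.TensorProduct.rightAlgebra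
  haveI : Algebra.FiniteType (EGA4.Cpl A) (S ⊗[A] EGA4.Cpl A) :=
    Algebra.FiniteType.equiv (inferInstance : Algebra.FiniteType (EGA4.Cpl A) (EGA4.Cpl A ⊗[A] S))
      (Algebra.TensorProduct.commRight A (EGA4.Cpl A) S)
  haveI : IsNoetherianRing (S ⊗[A] EGA4.Cpl A) :=
    Algebra.FiniteType.isNoetherianRing (EGA4.Cpl A) _
  exact isOpen_regLocus_of_cover S _ hreg
    (Groth.Agent.Lib.Cohen.CompleteGenReg.isJ2 (EGA4.Cpl A) _ inferInstance)

/-- Localizing a regular homomorphism at a prime of the target. -/
theorem isRegularHom_atPrime (R C : Type u) [CommRing R] [CommRing C] [IsNoetherianRing C] [Algebra R C]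
    (h : CAlg.IsRegularHom R C) (Q : Ideal C) [Q.IsPrime] (p : Ideal R) [p.IsPrime]
    (hQp : p = Q.comap (algebraMap R C)) :
    letI := (Localization.localRingHom p Q (algebraMap R C) hQp).toAlgebra
    CAlg.IsRegularHom (Localization.AtPrime p) (Localization.AtPrime Q) := by
  subst hQp
  exact (Groth.Agent.S9259.result R C).1.1 h Q

/-- Regular completions at the maximal ideals suffice, granted that complete local rings are G-rings. -/
theorem isGRing_of_maximal
    (hcompl : ∀ (C : Type u) [CommRing C] [IsLocalRing C] [IsNoetherianRing C]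
      [IsAdicComplete (maximalIdeal C) C], CAlg.IsGRing C)
    (R : Type u) [CommRing R] [IsNoetherianRing R]
    (h : ∀ (m : Ideal R) [m.IsMaximal],
      CAlg.IsRegularHom (Localization.AtPrime m)
        (AdicCompletion (maximalIdeal (Localization.AtPrime m)) (Localization.AtPrime m))) :
    CAlg.IsGRing R := by
  refine ⟨inferInstance, fun p hp => ?_⟩
  obtain ⟨m, hm, hpm⟩ := Ideal.exists_le_maximal p hp.ne_top
  let Rm := Localization.AtPrime m
  let C := EGA4.Cpl Rm
  haveI : IsNoetherianRing Rm := IsLocalization.isNoetherianRing m.primeCompl _ inferInstance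
  haveI : Module.Flat Rm C := AdicCompletion.flat_of_isNoetherian _
  haveI : Module.FaithfullyFlat Rm C := Module.FaithfullyFlat.of_flat_of_isLocalHom
  have hd : Disjoint (m.primeCompl : Set R) (p : Set R) :=
    Set.disjoint_left.2 fun x hx hxp => hx (hpm hxp)
  let pm := p.map (algebraMap R Rm)
  haveI : pm.IsPrime := IsLocalization.isPrime_of_isPrime_disjoint m.primeCompl Rm p inferInstance hd
  have hpm' : pm.comap (algebraMap R Rm) = p :=
    IsLocalization.under_map_of_isPrime_disjoint m.primeCompl Rm inferInstance hd
  obtain ⟨⟨P, hP⟩, hPeq⟩ := PrimeSpectrum.comap_surjective_of_faithfullyFlat (B := C)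
    (⟨pm, inferInstance⟩ : PrimeSpectrum Rm)
  have hPc : pm = P.comap (algebraMap Rm C) := (congrArg PrimeSpectrum.asIdeal hPeq).symm
  letI := (Localization.localRingHom pm P (algebraMap Rm C) hPc).toAlgebra
  haveI : IsLocalHom (algebraMap (Localization.AtPrime pm) (Localization.AtPrime P)) :=
    Localization.isLocalHom_localRingHom pm P _ hPc
  haveI : IsNoetherianRing (Localization.AtPrime pm) :=
    IsLocalization.isNoetherianRing pm.primeCompl _ inferInstance
  haveI : IsNoetherianRing (Localization.AtPrime P) :=
    IsLocalization.isNoetherianRing P.primeCompl _ inferInstance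
  have h1 : CAlg.IsRegularHom (Localization.AtPrime pm) (EGA4.Cpl (Localization.AtPrime pm)) :=
    Groth.Agent.S4704.result _ _ (isRegularHom_atPrime Rm C (h m) P pm hPc) ((hcompl C).2 P)
  haveI : IsLocalization.AtPrime (Localization.AtPrime pm) p := by
    have h' := IsLocalization.isLocalization_isLocalization_atPrime_isLocalization m.primeCompl
      (Localization.AtPrime pm) pm
    simp only [hpm'] at h'
    exact h'
  haveI : IsNoetherianRing (Localization.AtPrime p) :=
    IsLocalization.isNoetherianRing p.primeCompl _ inferInstance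
  exact Groth.Agent.Lib.Excellent.GRingStability.isRegularHom_cpl_of_ringEquiv _ _
    (IsLocalization.algEquiv p.primeCompl (Localization.AtPrime pm) (Localization.AtPrime p)).toRingEquiv h1

end Groth.Agent.Lib.Henselian.GRingLocal
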