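import Groth.Agent.Lib.Henselian.GRingHens
import Groth.Agent.Lib.Henselian.StrictHenselization
import Groth.Agent.Lib.GRing.Complete
import Groth.Agent.S2038
import Groth.Agent.S9314
import Groth.Agent.Lib.NormalTensor.Formal
import Mathlib.RingTheory.Artinian.Module

/-!
# Strict henselizations of G-rings
-/

universe u

open TensorProduct IsLocalRing

set_option linter.style.haveILetI false

namespace Groth.Agent.Lib.Henselian.GRingStrict

/-- A reduced Artinian ring is regular. -/
theorem isRegularRing_of_isArtinianRing (T : Type u) [CommRing T] [IsArtinianRing T] [IsReduced T] :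
    IsRegularRing T := by
  refine isRegularRing_iff.2 fun q _ => ?_
  haveI : IsReduced (Localization.AtPrime q) := isReduced_localizationPreserves q.primeCompl _ ‹_›
  haveI : IsArtinianRing (Localization.AtPrime q) :=
    (IsArtinianRing.localization_surjective q.primeCompl (Localization.AtPrime q)).isArtinianRing
  haveI : IsDomain (Localization.AtPrime q) := IsArtinianRing.isField_of_isReduced_of_isLocalRing _ |>.isDomain
  letI := (IsArtinianRing.isField_of_isReduced_of_isLocalRing (Localization.AtPrime q)).toField
  infer_instance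

variable (R S : Type u) [CommRing R] [IsLocalRing R] [IsNoetherianRing R] [CommRing S] [IsLocalRing S]
  [Algebra R S] [IsLocalHom (algebraMap R S)] [Hensel.IsStrictHenselization R S]

/-- The completion of a strict henselization is adically formally smooth over the ring. -/
theorem isAdicFormallySmooth_cpl :
    haveI := Permanence.strict_isNoetherianRing R S
    CAlgX.IsAdicFormallySmooth R (EGA4.Cpl S) (maximalIdeal (EGA4.Cpl S)) := by
  haveI := Permanence.strict_isNoetherianRing R S
  let C := EGA4.Cpl S
  haveI : IsScalarTower R S C := inferInstance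
  haveI : Module.Flat S C := AdicCompletion.flat_of_isNoetherian _
  haveI := StrictHenselization.faithfullyFlat R S
  haveI : Module.Flat R C := Module.Flat.trans R S C
  haveI : IsLocalHom (algebraMap R C) := by
    rw [IsScalarTower.algebraMap_eq R S C]
    infer_instance
  have hind : EtPBC.IsIndEtale R S := Groth.Agent.Lib.IndEtale.Basic.of_algEquiv
    Groth.Agent.Lib.Henselian.IndEtale.isIndEtale_lim (StrictHenselization.equivOfIsStrictHenselization R S)
  have hm : (maximalIdeal R).map (algebraMap R C) = maximalIdeal C := by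
    rw [IsScalarTower.algebraMap_eq R S C, ← Ideal.map_map, StrictHenselization.map_maximalIdeal R S,
      AdicCompletion.maximalIdeal_eq_map]
  refine Groth.Agent.S2038.result.1 ⟨inferInstance, fun k' _ _ hk' => ?_⟩
  let p := maximalIdeal R
  let k := p.ResidueField
  letI : Algebra R k' := ((algebraMap k k').comp (algebraMap R k)).toAlgebra
  haveI : IsScalarTower R k k' := IsScalarTower.of_algebraMap_eq fun _ => rfl
  haveI := hk'
  have hfin : Groth.Agent.Lib.Excellent.FormalFibre.IsFinPoint R k' :=
    Groth.Agent.Lib.Excellent.FormalFibre.isFinPoint_of_finite p k'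
  obtain ⟨hart, hred⟩ := RegularFibres.isArtinianRing_tensor hind hfin
  let f : k' ⊗[R] S →ₐ[R] k' ⊗[R] C :=
    Algebra.TensorProduct.map (AlgHom.id R k') (IsScalarTower.toAlgHom R S C)
  have hp : ∀ c : C, ∀ x : k', c ∈ p.map (algebraMap R C) → x ⊗ₜ[R] c = 0 := fun c x hc => by
    induction hc using Submodule.span_induction generalizing x with
    | mem y hy =>
      obtain ⟨r, hr, rfl⟩ := hy
      rw [Algebra.algebraMap_eq_smul_one, ← TensorProduct.smul_tmul, Algebra.smul_def,
        show algebraMap R k' r = algebraMap k k' (algebraMap R k r) from rfl,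
        show algebraMap R k r = 0 from (Ideal.algebraMap_residueField_eq_zero).2 hr, map_zero, zero_mul,
        zero_tmul]
    | zero => exact tmul_zero _ _
    | add y z _ _ hy hz => rw [tmul_add, hy, hz, add_zero]
    | smul a y _ hy =>
      rw [smul_eq_mul, show x ⊗ₜ[R] (a * y) = ((1 : k') ⊗ₜ[R] a) * (x ⊗ₜ[R] y) by
        rw [Algebra.TensorProduct.tmul_mul_tmul, one_mul], hy, mul_zero]
  have hf : Function.Surjective f := by
    intro z
    induction z using TensorProduct.induction_on with
    | zero => exact ⟨0, map_zero _⟩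
    | tmul x c =>
      obtain ⟨s, hs⟩ := Groth.Agent.Lib.NormalTensor.Formal.exists_residue (A := S) c
      refine ⟨x ⊗ₜ s, ?_⟩
      show x ⊗ₜ[R] algebraMap S C s = x ⊗ₜ c
      refine sub_eq_zero.1 ?_
      rw [← tmul_sub]
      refine hp _ x ?_
      rw [hm, ← Ideal.neg_mem_iff, neg_sub]
      exact hs
    | add a b ha hb =>
      obtain ⟨a', rfl⟩ := ha
      obtain ⟨b', rfl⟩ := hb
      exact ⟨a' + b', map_add _ _ _⟩
  haveI : IsArtinianRing (k' ⊗[R] C) := hf.isArtinianRing (f := f.toRingHom)
  haveI : IsSemisimpleRing (k' ⊗[R] S) := IsArtinianRing.isSemisimpleRing_of_isReduced _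
  haveI : IsSemisimpleRing (k' ⊗[R] C) := RingHom.isSemisimpleRing_of_surjective f.toRingHom hf
  haveI : IsRegularRing (k' ⊗[R] C) := isRegularRing_of_isArtinianRing _
  exact IsRegularRing.of_ringEquiv (R := k' ⊗[R] C)
    (Algebra.TensorProduct.cancelBaseChange R k k k' C).symm.toRingEquiv

/-- The strict henselization of a local G-ring is a G-ring. -/
theorem isGRing_strictHenselization (hR : CAlg.IsGRing R) : CAlg.IsGRing S := by
  haveI := Permanence.strict_isNoetherianRing R S
  haveI : IsScalarTower R S (EGA4.Cpl S) := inferInstance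
  haveI : IsLocalHom (algebraMap R (EGA4.Cpl S)) := by
    rw [IsScalarTower.algebraMap_eq R S (EGA4.Cpl S)]
    infer_instance
  haveI : Module.Flat S (EGA4.Cpl S) := AdicCompletion.flat_of_isNoetherian _
  have hind : EtPBC.IsIndEtale R S := Groth.Agent.Lib.IndEtale.Basic.of_algEquiv
    Groth.Agent.Lib.Henselian.IndEtale.isIndEtale_lim (StrictHenselization.equivOfIsStrictHenselization R S)
  have h : CAlg.IsRegularHom R (EGA4.Cpl S) :=
    Groth.Agent.S9314.result (GRingHens.isRegularHom_cpl_of_isGRing R hR) (isAdicFormallySmooth_cpl R S)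
  exact GRingHens.isGRing_of_isRegularHom_cpl (fun C _ _ _ _ => Groth.Agent.Lib.GRing.Complete.isGRing C) S
    ((RegularFibres.isRegularHom_iff (C := EGA4.Cpl S) hind).1 h)

end Groth.Agent.Lib.Henselian.GRingStrict
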