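import Groth.Agent.Lib.Henselian.NormalCriterion

/-!
# Localisations of integral closures in fields fixed by stabilisers of primes are henselian
-/

universe u

open IsLocalRing

set_option linter.style.haveILetI false

namespace Groth.Agent.Lib.Henselian.GaloisFixed

variable {R : Type u} [CommRing R] {K : Type u} [Field K] [Algebra R K]
  {Ks : Type u} [Field Ks] [Algebra K Ks] [Algebra R Ks] [IsScalarTower R K Ks]

/-- The subgroup of automorphisms stabilising a set of elements. -/
def stab (T : Set Ks) : Subgroup (Ks ≃ₐ[K] Ks) where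
  carrier := {σ | ∀ x, σ x ∈ T ↔ x ∈ T}
  one_mem' _ := Iff.rfl
  mul_mem' {σ τ} hσ hτ x := (hσ (τ x)).trans (hτ x)
  inv_mem' {σ} hσ x := by
    conv_rhs => rw [← σ.apply_symm_apply x]
    exact (hσ (σ.symm x)).symm

theorem isClosed_stab [Algebra.IsAlgebraic K Ks] (T : Set Ks) :
    IsClosed ((stab (K := K) T : Subgroup (Ks ≃ₐ[K] Ks)) : Set (Ks ≃ₐ[K] Ks)) := by
  rw [← isOpen_compl_iff, isOpen_iff_forall_mem_open]
  intro σ hσ
  obtain ⟨x, hx⟩ : ∃ x, ¬ (σ x ∈ T ↔ x ∈ T) := by
    simpa [stab, not_forall] using hσ
  refine ⟨{τ | σ⁻¹ * τ ∈ MulAction.stabilizer (Ks ≃ₐ[K] Ks) x}, fun τ hτ hmem => hx ?_, ?_, ?_⟩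
  · have hτ' : σ.symm (τ x) = x := hτ
    have : τ x = σ x := by rw [← σ.apply_symm_apply (τ x), hτ']
    rw [← this]
    exact hmem x
  · exact (stabilizer_isOpen_of_isIntegral (K := K) x).preimage (continuous_const_mul σ⁻¹)
  · simp

/-- An automorphism of the separable closure acting on the integral closure. -/
noncomputable def actHom (σ : Ks ≃ₐ[K] Ks) : integralClosure R Ks →+* integralClosure R Ks :=
  ((σ.toAlgHom.restrictScalars R).mapIntegralClosure).toRingHom

theorem coe_actHom (σ : Ks ≃ₐ[K] Ks) (x : integralClosure R Ks) :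
    (actHom σ x : Ks) = σ (x : Ks) := rfl

variable [IsDomain R] [IsFractionRing R K] [IsSepClosure K Ks]

theorem henselianLocalRing_atPrime (Ps : Ideal (integralClosure R Ks)) [Ps.IsMaximal]
    (L : IntermediateField K Ks) (H : Set (Ks ≃ₐ[K] Ks))
    (hH : ∀ σ ∈ H, ∀ x : integralClosure R Ks, x ∈ Ps → ∀ y : integralClosure R Ks,
      (y : Ks) = σ (x : Ks) → y ∈ Ps)
    (hL : L = IntermediateField.fixedField (Subgroup.closure H))
    (Q : Ideal (integralClosure R L)) [Q.IsPrime]
    (hQ : ∀ y : integralClosure R L, y ∈ Q ↔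
      ∃ x : integralClosure R Ks, x ∈ Ps ∧ (x : Ks) = ((y : L) : Ks)) :
    HenselianLocalRing (Localization.AtPrime Q) := by
  set T : Set Ks := (fun x : integralClosure R Ks => (x : Ks)) '' (Ps : Set _) with hT
  -- elements of `H` stabilise `Ps`
  have hstab : ∀ σ ∈ H, σ ∈ stab (K := K) T := by
    intro σ hσ x
    have hcomap : Ps.comap (actHom (R := R) σ) = Ps := by
      refine ((inferInstance : Ps.IsMaximal).eq_of_le ?_ fun x hx => ?_).symm
      · exact Ideal.comap_ne_top _ (Ideal.IsMaximal.ne_top inferInstance)
      · exact hH σ hσ x hx _ (coe_actHom σ x)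
    constructor
    · rintro ⟨z, hz, hzx⟩
      refine ⟨actHom σ.symm z, ?_, ?_⟩
      · rw [SetLike.mem_coe, ← hcomap, Ideal.mem_comap]
        have : actHom σ (actHom σ.symm z) = z := Subtype.ext (σ.apply_symm_apply _)
        rwa [this]
      · change σ.symm (z : Ks) = x
        rw [show (z : Ks) = σ x from hzx, σ.symm_apply_apply]
    · rintro ⟨z, hz, rfl⟩
      exact ⟨actHom σ z, hH σ hσ z hz _ (coe_actHom σ z), coe_actHom σ z⟩
  -- hence so does `Gal(Ks/L)`
  have hGal : ∀ σ : Ks ≃ₐ[L] Ks, σ.restrictScalars K ∈ stab (K := K) T := by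
    intro σ
    let S : ClosedSubgroup (Ks ≃ₐ[K] Ks) := ⟨stab (K := K) T, isClosed_stab (K := K) T⟩
    have h1 : Subgroup.closure H ≤ S.1 := (Subgroup.closure_le _).2 hstab
    have h2 : IntermediateField.fixedField S.1 ≤ L := by
      rw [hL]
      exact fun x hx g => hx ⟨g.1, h1 g.2⟩
    change σ.restrictScalars K ∈ S.1
    rw [← InfiniteGalois.fixingSubgroup_fixedField S]
    exact (IntermediateField.fixingSubgroup_le h2) (fun x => σ.commutes x)
  -- instances
  haveI : FaithfulSMul R K := (faithfulSMul_iff_algebraMap_injective R K).2 (IsFractionRing.injective R K)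
  haveI : Algebra.IsAlgebraic K L := inferInstance
  haveI : Algebra.IsAlgebraic R L := (IsFractionRing.comap_isAlgebraic_iff (A := R) (K := K)).2 inferInstance
  haveI : Algebra.IsAlgebraic R Ks := (IsFractionRing.comap_isAlgebraic_iff (A := R) (K := K)).2 inferInstance
  haveI : IsFractionRing (integralClosure R L) L := integralClosure.isFractionRing_of_algebraic
    (fun x hx => by
      rw [IsScalarTower.algebraMap_apply R K L] at hx
      exact IsFractionRing.injective R K (by
        rw [map_zero]; exact (algebraMap K L).injective (hx.trans (map_zero _).symm)))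
  haveI : IsFractionRing (integralClosure R Ks) Ks := integralClosure.isFractionRing_of_algebraic
    (fun x hx => by
      rw [IsScalarTower.algebraMap_apply R K Ks] at hx
      exact IsFractionRing.injective R K (by
        rw [map_zero]; exact (algebraMap K Ks).injective (hx.trans (map_zero _).symm)))
  haveI : IsIntegrallyClosed (integralClosure R L) :=
    (isIntegrallyClosed_iff_isIntegrallyClosedIn L).2 inferInstance
  haveI : IsIntegrallyClosed (integralClosure R Ks) :=
    (isIntegrallyClosed_iff_isIntegrallyClosedIn Ks).2 inferInstance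
  let incl : integralClosure R L →+* integralClosure R Ks :=
    ((L.val.restrictScalars R).mapIntegralClosure).toRingHom
  have hincl : Q = Ps.comap incl := by
    ext y
    rw [hQ, Ideal.mem_comap]
    exact ⟨fun ⟨x, hx, hxy⟩ => (show x = incl y from Subtype.ext hxy) ▸ hx,
      fun h => ⟨_, h, rfl⟩⟩
  let A := Localization.AtPrime Q
  let O := Localization.AtPrime Ps
  haveI : IsIntegrallyClosed A := isIntegrallyClosed_of_isLocalization A Q.primeCompl
    Q.primeCompl_le_nonZeroDivisors
  haveI : IsIntegrallyClosed O := isIntegrallyClosed_of_isLocalization O Ps.primeCompl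
    Ps.primeCompl_le_nonZeroDivisors
  have hQ0 : Q.primeCompl ≤ nonZeroDivisors (integralClosure R L) := Q.primeCompl_le_nonZeroDivisors
  have hP0 : Ps.primeCompl ≤ nonZeroDivisors (integralClosure R Ks) := Ps.primeCompl_le_nonZeroDivisors
  have huA : ∀ s : Q.primeCompl, IsUnit (algebraMap (integralClosure R L) L s) := fun s =>
    isUnit_iff_ne_zero.2 fun h => nonZeroDivisors.ne_zero (hQ0 s.2)
      (IsFractionRing.injective (integralClosure R L) L (by rw [h, map_zero]))
  letI : Algebra A L := (IsLocalization.lift huA).toAlgebra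
  haveI : IsScalarTower (integralClosure R L) A L :=
    IsScalarTower.of_algebraMap_eq fun x => (IsLocalization.lift_eq (S := A) huA x).symm
  haveI : IsFractionRing A L := IsFractionRing.isFractionRing_of_isDomain_of_isLocalization Q.primeCompl A L
  have huO : ∀ s : Ps.primeCompl, IsUnit (algebraMap (integralClosure R Ks) Ks s) := fun s =>
    isUnit_iff_ne_zero.2 fun h => nonZeroDivisors.ne_zero (hP0 s.2)
      (IsFractionRing.injective (integralClosure R Ks) Ks (by rw [h, map_zero]))
  letI : Algebra O Ks := (IsLocalization.lift huO).toAlgebra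
  haveI : IsScalarTower (integralClosure R Ks) O Ks :=
    IsScalarTower.of_algebraMap_eq fun x => (IsLocalization.lift_eq (S := O) huO x).symm
  haveI : IsFractionRing O Ks := IsFractionRing.isFractionRing_of_isDomain_of_isLocalization Ps.primeCompl O Ks
  haveI : IsSepClosure L Ks := ⟨IsSepClosure.sep_closed K, Algebra.isSeparable_tower_top_of_isSeparable K L Ks⟩
  refine NormalCriterion.henselianLocalRing_of_stable L (Ω := Ks) (O := O)
    (Localization.localRingHom Q Ps incl hincl) ?_ ?_
  · intro x
    have : (algebraMap O Ks).comp (Localization.localRingHom Q Ps incl hincl) =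
        (algebraMap L Ks).comp (algebraMap A L) := by
      refine IsLocalization.ringHom_ext Q.primeCompl (RingHom.ext fun y => ?_)
      simp only [RingHom.comp_apply]
      rw [Localization.localRingHom_to_map,
        ← IsScalarTower.algebraMap_apply (integralClosure R Ks) O Ks,
        ← IsScalarTower.algebraMap_apply (integralClosure R L) A L]
      rfl
    exact RingHom.congr_fun this x
  · intro σ
    have hcomap : Ps = Ps.comap (actHom (R := R) (σ.restrictScalars K)) := by
      ext x
      rw [Ideal.mem_comap]
      have h := hGal σ (x : Ks)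
      refine ⟨fun hx => ?_, fun hx => ?_⟩
      · obtain ⟨z, hz, hzx⟩ := h.2 ⟨x, hx, rfl⟩
        rwa [show actHom (R := R) (σ.restrictScalars K) x = z from Subtype.ext hzx.symm]
      · obtain ⟨z, hz, hzx⟩ := h.1 ⟨_, hx, coe_actHom _ x⟩
        rwa [show x = z from Subtype.ext hzx.symm]
    refine ⟨Localization.localRingHom Ps Ps _ hcomap, inferInstance, fun x => ?_⟩
    have : (algebraMap O Ks).comp (Localization.localRingHom Ps Ps _ hcomap) =
        (σ : Ks →+* Ks).comp (algebraMap O Ks) := by
      refine IsLocalization.ringHom_ext Ps.primeCompl (RingHom.ext fun y => ?_)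
      simp only [RingHom.comp_apply]
      rw [Localization.localRingHom_to_map,
        ← IsScalarTower.algebraMap_apply (integralClosure R Ks) O Ks,
        ← IsScalarTower.algebraMap_apply (integralClosure R Ks) O Ks]
      rfl
    exact RingHom.congr_fun this x

end Groth.Agent.Lib.Henselian.GaloisFixed
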