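import Groth.Agent.Lib.Henselian.HfpFinite
import Groth.Agent.Lib.Henselian.EtaleLift
import Mathlib.RingTheory.Flat.EquationalCriterion

/-!
# h-étale algebras over henselian pairs

* `hFormallyEtale_iff`: h-formally étale iff all truncations are étale
* `exists_etale_surjection`: h-formally étale hfp algebras are quotients of h-étale ones
* `exists_etale_of_flat`: flat h-formally étale hfp algebras are h-étale
-/

universe u

open TensorProduct
open Groth.Agent.Lib.Henselian.PairHenselization

namespace Groth.Agent.Lib.Henselian.HEtale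

variable {A : Type u} [CommRing A] (I : Ideal A)

theorem hFormallyEtale_iff (R₀ : Type u) [CommRing R₀] [Algebra A R₀] [Algebra.FinitePresentation A R₀]
    (B : Type u) [CommRing B] [Algebra R₀ B] [Algebra A B] [IsScalarTower A R₀ B]
    (hB : Hens2.IsPairHenselization R₀ (I.map (algebraMap A R₀)) B) :
    (∀ (E C : Type u) [CommRing E] [CommRing C] [Algebra A E] [Algebra A C] (N : ℕ), 1 ≤ N →
        (I ^ N).map (algebraMap A E) = ⊥ → (I ^ N).map (algebraMap A C) = ⊥ →
        ∀ (p : E →ₐ[A] C), Function.Surjective p → (∃ M : ℕ, 1 ≤ M ∧ RingHom.ker p ^ M = ⊥) →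
        ∀ u : B →ₐ[A] C, ∃! v : B →ₐ[A] E, p.comp v = u) ↔
    ∀ r : ℕ, 1 ≤ r → Algebra.Etale (A ⧸ I ^ r) (B ⧸ (I ^ r).map (algebraMap A B)) := by
  refine ⟨fun h r hr => ?_, fun h E C _ _ _ _ N hN hE hC p hp hnil u => ?_⟩
  · have hfp : Algebra.FinitePresentation (A ⧸ I ^ r) (B ⧸ (I ^ r).map (algebraMap A B)) :=
      Algebra.FinitePresentation.equiv
        ((Algebra.TensorProduct.quotIdealMapEquivQuotTensor R₀ (I ^ r)).symm.trans (Trunc.truncEquiv I hB r))
    refine ⟨Algebra.FormallyEtale.iff_comp_bijective.mpr fun D _ _ J hJ => ?_, hfp⟩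
    let : Algebra A D := ((algebraMap (A ⧸ I ^ r) D).comp (Ideal.Quotient.mk (I ^ r))).toAlgebra
    have : IsScalarTower A (A ⧸ I ^ r) D := IsScalarTower.of_algebraMap_eq fun _ => rfl
    have hD : (I ^ r).map (algebraMap A D) = ⊥ := by
      rw [IsScalarTower.algebraMap_eq A (A ⧸ I ^ r) D, ← Ideal.map_map, Ideal.Quotient.algebraMap_eq,
        Ideal.map_quotient_self, Ideal.map_bot]
    have hDJ : (I ^ r).map (algebraMap A (D ⧸ J)) = ⊥ := by
      rw [IsScalarTower.algebraMap_eq A D (D ⧸ J), ← Ideal.map_map, hD, Ideal.map_bot]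
    let π : D →ₐ[A] D ⧸ J := Ideal.Quotient.mkₐ A J
    have hπ : Function.Surjective π := Ideal.Quotient.mk_surjective
    have hker : ∃ M : ℕ, 1 ≤ M ∧ RingHom.ker π ^ M = ⊥ := ⟨2, by omega, by
      rw [show RingHom.ker π = J from Ideal.Quotient.mkₐ_ker A J, hJ]⟩
    have key := h D (D ⧸ J) r hr hD hDJ π hπ hker
    let mkB : B →ₐ[A] B ⧸ (I ^ r).map (algebraMap A B) := Ideal.Quotient.mkₐ A _
    refine ⟨fun g g' hgg' => ?_, fun g => ?_⟩
    · have h1 := (key ((π.comp (g.restrictScalars A)).comp mkB)).unique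
        (y₁ := (g.restrictScalars A).comp mkB) (y₂ := (g'.restrictScalars A).comp mkB) rfl
        (AlgHom.ext fun b => (AlgHom.congr_fun hgg' (mkB b)).symm)
      refine AlgHom.ext fun x => ?_
      obtain ⟨b, rfl⟩ := Ideal.Quotient.mk_surjective x
      exact AlgHom.congr_fun h1 b
    · obtain ⟨v, hv, -⟩ := key ((g.restrictScalars A).comp mkB)
      have hv0 : ∀ b ∈ (I ^ r).map (algebraMap A B), v b = 0 := fun b hb => by
        have := Ideal.mem_map_of_mem v.toRingHom hb
        rwa [Ideal.map_map, show v.toRingHom.comp (algebraMap A B) = algebraMap A D from v.comp_algebraMap,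
          hD, Ideal.mem_bot] at this
      let v' : (B ⧸ (I ^ r).map (algebraMap A B)) →ₐ[A ⧸ I ^ r] D :=
        { toRingHom := (Ideal.Quotient.liftₐ _ v hv0).toRingHom
          commutes' := fun a => by
            obtain ⟨a, rfl⟩ := Ideal.Quotient.mk_surjective a
            exact (Ideal.Quotient.liftₐ _ v hv0).commutes a }
      refine ⟨v', AlgHom.ext fun x => ?_⟩
      obtain ⟨b, rfl⟩ := Ideal.Quotient.mk_surjective x
      exact AlgHom.congr_fun hv b
  · have hE' : ∀ a ∈ I ^ N, algebraMap A E a = 0 := fun a ha =>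
      (Ideal.mem_bot).mp (hE ▸ Ideal.mem_map_of_mem _ ha)
    have hC' : ∀ a ∈ I ^ N, algebraMap A C a = 0 := fun a ha =>
      (Ideal.mem_bot).mp (hC ▸ Ideal.mem_map_of_mem _ ha)
    let : Algebra (A ⧸ I ^ N) E := (Ideal.Quotient.lift _ (algebraMap A E) hE').toAlgebra
    let : Algebra (A ⧸ I ^ N) C := (Ideal.Quotient.lift _ (algebraMap A C) hC').toAlgebra
    have : IsScalarTower A (A ⧸ I ^ N) E := IsScalarTower.of_algebraMap_eq fun _ => rfl
    have : IsScalarTower A (A ⧸ I ^ N) C := IsScalarTower.of_algebraMap_eq fun _ => rfl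
    have := h N hN
    have hu0 : ∀ b ∈ (I ^ N).map (algebraMap A B), u b = 0 := fun b hb => by
      have := Ideal.mem_map_of_mem u.toRingHom hb
      rwa [Ideal.map_map, show u.toRingHom.comp (algebraMap A B) = algebraMap A C from u.comp_algebraMap,
        hC, Ideal.mem_bot] at this
    let u' : (B ⧸ (I ^ N).map (algebraMap A B)) →ₐ[A ⧸ I ^ N] C :=
      AlgHom.extendScalarsOfSurjective Ideal.Quotient.mk_surjective (Ideal.Quotient.liftₐ _ u hu0)
    let p' : E →ₐ[A ⧸ I ^ N] C := AlgHom.extendScalarsOfSurjective Ideal.Quotient.mk_surjective p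
    have hnil' : IsNilpotent (RingHom.ker (p' : E →+* C)) := ⟨hnil.choose, hnil.choose_spec.2⟩
    let v := Algebra.FormallySmooth.liftOfSurjective u' p' hp hnil'
    have hv : p'.comp v = u' := Algebra.FormallySmooth.comp_liftOfSurjective u' p' hp hnil'
    refine ⟨(v.restrictScalars A).comp (Ideal.Quotient.mkₐ A _), AlgHom.ext fun b => ?_, fun w hw => ?_⟩
    · exact AlgHom.congr_fun hv (Ideal.Quotient.mk _ b)
    · have hw0 : ∀ b ∈ (I ^ N).map (algebraMap A B), w b = 0 := fun b hb => by
        have := Ideal.mem_map_of_mem w.toRingHom hb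
        rwa [Ideal.map_map, show w.toRingHom.comp (algebraMap A B) = algebraMap A E from w.comp_algebraMap,
          hE, Ideal.mem_bot] at this
      let w' : (B ⧸ (I ^ N).map (algebraMap A B)) →ₐ[A ⧸ I ^ N] E :=
        AlgHom.extendScalarsOfSurjective Ideal.Quotient.mk_surjective (Ideal.Quotient.liftₐ _ w hw0)
      have : w' = v := Algebra.FormallyUnramified.ext' (R := A ⧸ I ^ N) _ hnil' w' v fun x => by
        obtain ⟨b, rfl⟩ := Ideal.Quotient.mk_surjective x
        exact (AlgHom.congr_fun hw b).trans (AlgHom.congr_fun hv (Ideal.Quotient.mk _ b)).symm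
      exact AlgHom.ext fun b => AlgHom.congr_fun this (Ideal.Quotient.mk _ b)

/-- For a flat quotient the kernel meets `IH` in `I ker`. -/
theorem flat_ker_le {H : Type u} [CommRing H] [Algebra A H] {B : Type u} [CommRing B] [Algebra A B]
    [Module.Flat A B] (φ : H →ₐ[A] B) (hsurj : Function.Surjective φ) (k : H) (hk : φ k = 0)
    (hkI : k ∈ I.map (algebraMap A H)) : k ∈ I.map (algebraMap A H) * RingHom.ker φ := by
  classical
  have hk1 : k ∈ I • Submodule.span A (Set.univ : Set H) := by
    rw [Submodule.span_univ, Ideal.smul_top_eq_map]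
    exact hkI
  obtain ⟨c, hc, hck⟩ := (Submodule.mem_ideal_smul_span_iff_exists_sum I id k).mp (by simpa using hk1)
  subst hck
  let s := c.support
  let e := Fintype.equivFin s
  have hrel : ∑ i : Fin (Fintype.card s), c (e.symm i) • φ (e.symm i : H) = 0 := by
    rw [e.symm.sum_comp (fun i : s => c i • φ (i : H)), Finset.sum_coe_sort s (fun i => c i • φ i)]
    simpa [Finsupp.sum, map_sum] using hk
  obtain ⟨m, a, y, hy, ha⟩ := Module.Flat.isTrivialRelation_of_sum_smul_eq_zero
    (f := fun i => c (e.symm i)) (x := fun i => φ (e.symm i : H)) hrel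
  choose z hz using fun j => hsurj (y j)
  have hdec : ∀ i, φ ((e.symm i : H) - ∑ j, a i j • z j) = 0 := fun i => by
    simp only [map_sub, map_sum, map_smul, hz]
    exact sub_eq_zero.mpr (hy i)
  have hzero : ∑ i : Fin (Fintype.card s), c (e.symm i) • ∑ j, a i j • z j = 0 := by
    simp only [Finset.smul_sum, smul_smul]
    rw [Finset.sum_comm]
    refine Finset.sum_eq_zero fun j _ => ?_
    rw [← Finset.sum_smul, ha j, zero_smul]
  have : Finsupp.sum c (fun i r => r • id i) =
      ∑ i : Fin (Fintype.card s), c (e.symm i) • ((e.symm i : H) - ∑ j, a i j • z j) := by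
    simp only [smul_sub, Finset.sum_sub_distrib, hzero, sub_zero]
    rw [e.symm.sum_comp (fun i : s => c i • (i : H)), Finset.sum_coe_sort s (fun i => c i • i)]
    rfl
  rw [this]
  refine Ideal.sum_mem _ fun i _ => ?_
  rw [Algebra.smul_def]
  exact Ideal.mul_mem_mul (Ideal.mem_map_of_mem _ (hc _)) (hdec i)

set_option linter.unusedSectionVars false
variable [HenselianRing A I]

/-- An hfp algebra with étale truncations is a quotient of an h-étale one by an ideal inside every
power of `I`. -/
theorem exists_etale_surjection (R₀ : Type u) [CommRing R₀] [Algebra A R₀] [Algebra.FinitePresentation A R₀]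
    (B : Type u) [CommRing B] [Algebra R₀ B] [Algebra A B] [IsScalarTower A R₀ B]
    (hB : Hens2.IsPairHenselization R₀ (I.map (algebraMap A R₀)) B)
    (het : ∀ r : ℕ, 1 ≤ r → Algebra.Etale (A ⧸ I ^ r) (B ⧸ (I ^ r).map (algebraMap A B))) :
    ∃ (R : Type u) (_ : CommRing R) (_ : Algebra A R) (H : Type u) (_ : CommRing H) (_ : Algebra R H)
      (_ : Algebra A H) (_ : IsScalarTower A R H),
      Algebra.Etale A R ∧ Hens2.IsPairHenselization R (I.map (algebraMap A R)) H ∧
      ∃ φ : H →ₐ[A] B, Function.Surjective φ ∧ (RingHom.ker φ).FG ∧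
        ∀ n : ℕ, RingHom.ker φ ≤ (I ^ n).map (algebraMap A H) := by
  have hHB : HenselianRing B (I.map (algebraMap A B)) := by
    have := hB.1
    rwa [Ideal.map_map, ← IsScalarTower.algebraMap_eq] at this
  have := het 1 le_rfl
  obtain ⟨L, _, _, hL, ψ, hψ, hψker⟩ :=
    EtaleLift.exists_etale_lift (I ^ 1) (B ⧸ (I ^ 1).map (algebraMap A B))
  have hI1L : (I ^ 1).map (algebraMap A L) = I.map (algebraMap A L) := by rw [pow_one]
  have hI1 : (I ^ 1).map (algebraMap A B) = I.map (algebraMap A B) := by rw [pow_one]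
  let ψ₁ : L →ₐ[A] B ⧸ I.map (algebraMap A B) := (Ideal.quotientEquivAlgOfEq A hI1).toAlgHom.comp ψ
  have hψ₁ : Function.Surjective ψ₁ := (Ideal.quotientEquivAlgOfEq A hI1).surjective.comp hψ
  have hψ₁ker : ∀ x, ψ₁ x = 0 → x ∈ I.map (algebraMap A L) := fun x hx => by
    rw [← hI1L, ← hψker]
    exact (Ideal.quotientEquivAlgOfEq A hI1).injective (hx.trans (map_zero _).symm)
  obtain ⟨τ, hτ, -⟩ := Etale.existsUnique_algHom_lift (I.map (algebraMap A B)) ψ₁
  let H := PairHenselization (I.map (algebraMap A L))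
  let : Algebra A H := ((algebraMap L H).comp (algebraMap A L)).toAlgebra
  have : IsScalarTower A L H := IsScalarTower.of_algebraMap_eq (R := A) (S := L) (A := H) fun _ => rfl
  have hH := isPairHenselization (I.map (algebraMap A L))
  have hHH : HenselianRing H (I.map (algebraMap A H)) := by
    have := hH.1
    rwa [Ideal.map_map, ← IsScalarTower.algebraMap_eq A L H] at this
  obtain ⟨φ, hφ, -⟩ := PairUP.existsUnique_algHom hH _ hHB τ (PairUP.map_map_le I _)
  have hφL : ∀ l, φ (algebraMap L H l) = τ l := fun l => AlgHom.congr_fun hφ l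
  let : Algebra H B := φ.toRingHom.toAlgebra
  have : IsScalarTower A H B := IsScalarTower.of_algebraMap_eq fun a => (φ.commutes a).symm
  have hmapHB : (I.map (algebraMap A H)).map (algebraMap H B) = I.map (algebraMap A B) := by
    rw [Ideal.map_map, ← IsScalarTower.algebraMap_eq]
  have : Algebra.FinitePresentation A L := inferInstance
  obtain ⟨T, _, _, _, _, hT, hBT⟩ := Hfp.hfp_of_algHom I L H hH R₀ B hB
  have hmod : ∀ b : B, ∃ h : H, b - algebraMap H B h ∈ (I.map (algebraMap A H)).map (algebraMap H B) := by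
    intro b
    obtain ⟨l, hl⟩ := hψ₁ (Ideal.Quotient.mk _ b)
    refine ⟨algebraMap L H l, ?_⟩
    rw [hmapHB]
    show b - φ (algebraMap L H l) ∈ _
    rw [hφL, ← Ideal.Quotient.eq, ← hl]
    exact (AlgHom.congr_fun hτ l).symm
  have hsurj : Function.Surjective φ :=
    HfpFinite.surjective_of_quotient_surjective (I.map (algebraMap A H)) T B hBT hmod
  obtain ⟨-, hfp⟩ := HfpFinite.finite_and_finitePresentation (I.map (algebraMap A H)) T B hBT
    (Module.Finite.of_surjective (Algebra.linearMap H _) fun q => by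
      obtain ⟨b, rfl⟩ := Ideal.Quotient.mk_surjective q
      obtain ⟨h, rfl⟩ := hsurj b
      exact ⟨h, rfl⟩)
  refine ⟨L, inferInstance, inferInstance, H, inferInstance, inferInstance, inferInstance, inferInstance,
    hL, hH, φ, hsurj, Algebra.FinitePresentation.ker_fG_of_surjective (Algebra.ofId H B) hsurj, ?_⟩
  -- the kernel lies in the extended ideal
  have hker1 : ∀ h, φ h = 0 → h ∈ I.map (algebraMap A H) := by
    intro h hh
    obtain ⟨q, hq⟩ := (PairUP.quotientMap_bijective hH).2 (Ideal.Quotient.mk _ h)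
    obtain ⟨l, rfl⟩ := Ideal.Quotient.mk_surjective q
    rw [Ideal.quotientMap_mk, Ideal.Quotient.eq, Ideal.map_map, ← IsScalarTower.algebraMap_eq A L H] at hq
    have h1 : τ l ∈ I.map (algebraMap A B) := by
      have := Ideal.mem_map_of_mem φ.toRingHom hq
      rw [Ideal.map_map, show φ.toRingHom.comp (algebraMap A H) = algebraMap A B from φ.comp_algebraMap] at this
      change φ (algebraMap L H l - h) ∈ _ at this
      rwa [map_sub, hφL, hh, sub_zero] at this
    have h2 : l ∈ I.map (algebraMap A L) := hψ₁ker l (by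
      rw [← hτ]
      exact Ideal.Quotient.eq_zero_iff_mem.mpr h1)
    have h3 := Ideal.mem_map_of_mem (algebraMap L H) h2
    rw [Ideal.map_map, ← IsScalarTower.algebraMap_eq A L H] at h3
    have := sub_mem h3 hq
    rwa [sub_sub_cancel] at this
  intro n h hh
  rcases Nat.eq_zero_or_pos n with rfl | hn
  · rw [pow_zero, Ideal.one_eq_top, Ideal.map_top]
    trivial
  have := het n hn
  have hX : Algebra.Etale (A ⧸ I ^ n) (H ⧸ (I ^ n).map (algebraMap A H)) := Trunc.etale_quotient I hH n
  let θ : (H ⧸ (I ^ n).map (algebraMap A H)) →ₐ[A ⧸ I ^ n] (B ⧸ (I ^ n).map (algebraMap A B)) :=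
    AlgHom.extendScalarsOfSurjective Ideal.Quotient.mk_surjective
      (Ideal.quotientMapₐ _ φ (Ideal.map_le_iff_le_comap.mp (le_of_eq (by
        rw [← Ideal.map_coe, Ideal.map_map]
        exact congrArg (fun g => (I ^ n).map g) φ.comp_algebraMap))))
  have hθ : Function.Surjective θ := fun q => by
    obtain ⟨b, rfl⟩ := Ideal.Quotient.mk_surjective q
    obtain ⟨x, rfl⟩ := hsurj b
    exact ⟨Ideal.Quotient.mk _ x, rfl⟩
  have hnil : IsNilpotent (RingHom.ker θ.toRingHom) := by
    refine ⟨n, le_bot_iff.mp ?_⟩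
    refine (Ideal.pow_right_mono (?_ : _ ≤ (I.map (algebraMap A H)).map (Ideal.Quotient.mk _)) n).trans ?_
    · intro x hx
      obtain ⟨x, rfl⟩ := Ideal.Quotient.mk_surjective x
      have hx' : φ x ∈ (I ^ n).map (algebraMap A B) := Ideal.Quotient.eq_zero_iff_mem.mp hx
      have hle : (I ^ n).map (algebraMap A B) ≤ (I.map (algebraMap A H)).map (algebraMap H B) := by
        rw [hmapHB]
        exact Ideal.map_mono (Ideal.pow_le_self (by omega))
      obtain ⟨y, hy, hyx⟩ := (Ideal.mem_map_iff_of_surjective (algebraMap H B) hsurj).mp (hle hx')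
      refine Ideal.mem_map_of_mem _ ?_
      have := add_mem hy (hker1 (x - y) (by rw [map_sub, sub_eq_zero]; exact hyx.symm))
      rwa [add_sub_cancel] at this
    · rw [← Ideal.map_pow, ← Ideal.map_pow, Ideal.map_quotient_self]
  let s := Algebra.FormallySmooth.liftOfSurjective (AlgHom.id (A ⧸ I ^ n) _) θ hθ hnil
  have hs : θ.comp s = AlgHom.id _ _ := Algebra.FormallySmooth.comp_liftOfSurjective _ θ hθ hnil
  have hsθ : s.comp θ = AlgHom.id _ _ := Algebra.FormallyUnramified.ext' (R := A ⧸ I ^ n) _ hnil _ _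
    fun x => AlgHom.congr_fun hs (θ x)
  rw [← Ideal.Quotient.eq_zero_iff_mem]
  refine (AlgHom.congr_fun hsθ _).symm.trans ?_
  show s (Ideal.Quotient.mk _ (φ h)) = 0
  rw [show φ h = 0 from hh, map_zero, map_zero]

/-- A flat hfp algebra with étale truncations is h-étale. -/
theorem exists_etale_of_flat (R₀ : Type u) [CommRing R₀] [Algebra A R₀] [Algebra.FinitePresentation A R₀]
    (B : Type u) [CommRing B] [Algebra R₀ B] [Algebra A B] [IsScalarTower A R₀ B]
    (hB : Hens2.IsPairHenselization R₀ (I.map (algebraMap A R₀)) B) [Module.Flat A B]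
    (het : ∀ r : ℕ, 1 ≤ r → Algebra.Etale (A ⧸ I ^ r) (B ⧸ (I ^ r).map (algebraMap A B))) :
    ∃ (R : Type u) (_ : CommRing R) (_ : Algebra A R) (_ : Algebra R B) (_ : IsScalarTower A R B),
      Algebra.Etale A R ∧ Hens2.IsPairHenselization R (I.map (algebraMap A R)) B := by
  obtain ⟨L, _, _, H, _, _, _, _, hL, hH, φ, hsurj, hfg, hker⟩ :=
    exists_etale_surjection I R₀ B hB het
  have hbot : RingHom.ker φ = ⊥ := by
    refine Submodule.eq_bot_of_le_smul_of_le_jacobson_bot (I.map (algebraMap A H)) _ hfg ?_ ?_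
    · intro k hk
      rw [smul_eq_mul]
      refine flat_ker_le I φ hsurj k hk ?_
      have := hker 1 hk
      rwa [pow_one] at this
    · have := hH.1.jac
      rwa [Ideal.map_map, ← IsScalarTower.algebraMap_eq A L H] at this
  let e : H ≃ₐ[A] B := AlgEquiv.ofBijective φ ⟨(RingHom.injective_iff_ker_eq_bot _).mpr hbot, hsurj⟩
  let : Algebra L B := (φ.toRingHom.comp (algebraMap L H)).toAlgebra
  have : IsScalarTower A L B := IsScalarTower.of_algebraMap_eq fun a => by
    show algebraMap A B a = φ (algebraMap L H (algebraMap A L a))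
    rw [← IsScalarTower.algebraMap_apply, AlgHom.commutes]
  exact ⟨L, inferInstance, inferInstance, inferInstance, inferInstance, hL,
    PairUP.of_algEquiv hH (AlgEquiv.ofRingEquiv (f := e.toRingEquiv) fun _ => rfl)⟩

end Groth.Agent.Lib.Henselian.HEtale
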