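import Groth.Agent.Lib.Henselian.HEtale
import Groth.Agent.Lib.Henselian.Smooth
import Groth.Agent.Lib.Smoothing.LiftSmooth
import Mathlib.RingTheory.Smooth.Flat

/-!
# h-smooth algebras over henselian pairs

* `hFormallySmooth_iff`: h-formally smooth iff all truncations are smooth
* `exists_smooth_surjection`: h-formally smooth hfp algebras are quotients of h-smooth ones
* `exists_smooth_of_flat`: flat h-formally smooth hfp algebras are h-smooth
-/

universe u

open TensorProduct
open Groth.Agent.Lib.Henselian.PairHenselization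

namespace Groth.Agent.Lib.Henselian.HSmooth

variable {A : Type u} [CommRing A] (I : Ideal A)

theorem hFormallySmooth_iff (R₀ : Type u) [CommRing R₀] [Algebra A R₀] [Algebra.FinitePresentation A R₀]
    (B : Type u) [CommRing B] [Algebra R₀ B] [Algebra A B] [IsScalarTower A R₀ B]
    (hB : Hens2.IsPairHenselization R₀ (I.map (algebraMap A R₀)) B) :
    (∀ (E C : Type u) [CommRing E] [CommRing C] [Algebra A E] [Algebra A C] (N : ℕ), 1 ≤ N →
        (I ^ N).map (algebraMap A E) = ⊥ → (I ^ N).map (algebraMap A C) = ⊥ →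
        ∀ (p : E →ₐ[A] C), Function.Surjective p → (∃ M : ℕ, 1 ≤ M ∧ RingHom.ker p ^ M = ⊥) →
        ∀ u : B →ₐ[A] C, ∃ v : B →ₐ[A] E, p.comp v = u) ↔
    ∀ r : ℕ, 1 ≤ r → Algebra.Smooth (A ⧸ I ^ r) (B ⧸ (I ^ r).map (algebraMap A B)) := by
  refine ⟨fun h r hr => ?_, fun h E C _ _ _ _ N hN hE hC p hp hnil u => ?_⟩
  · have hfp : Algebra.FinitePresentation (A ⧸ I ^ r) (B ⧸ (I ^ r).map (algebraMap A B)) :=
      Algebra.FinitePresentation.equiv
        ((Algebra.TensorProduct.quotIdealMapEquivQuotTensor R₀ (I ^ r)).symm.trans (Trunc.truncEquiv I hB r))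
    refine ⟨Algebra.FormallySmooth.iff_comp_surjective.mpr fun D _ _ J hJ g => ?_, hfp⟩
    let : Algebra A D := ((algebraMap (A ⧸ I ^ r) D).comp (Ideal.Quotient.mk (I ^ r))).toAlgebra
    have : IsScalarTower A (A ⧸ I ^ r) D := IsScalarTower.of_algebraMap_eq fun _ => rfl
    have hD : (I ^ r).map (algebraMap A D) = ⊥ := by
      rw [IsScalarTower.algebraMap_eq A (A ⧸ I ^ r) D, ← Ideal.map_map, Ideal.Quotient.algebraMap_eq,
        Ideal.map_quotient_self, Ideal.map_bot]
    have hDJ : (I ^ r).map (algebraMap A (D ⧸ J)) = ⊥ := by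
      rw [IsScalarTower.algebraMap_eq A D (D ⧸ J), ← Ideal.map_map, hD, Ideal.map_bot]
    let π : D →ₐ[A] D ⧸ J := Ideal.Quotient.mkₐ A J
    have hπ : Function.Surjective π := Ideal.Quotient.mk_surjective
    have hker : ∃ M : ℕ, 1 ≤ M ∧ RingHom.ker π ^ M = ⊥ := ⟨2, by omega, by
      rw [show RingHom.ker π = J from Ideal.Quotient.mkₐ_ker A J, hJ]⟩
    let mkB : B →ₐ[A] B ⧸ (I ^ r).map (algebraMap A B) := Ideal.Quotient.mkₐ A _
    obtain ⟨v, hv⟩ := h D (D ⧸ J) r hr hD hDJ π hπ hker ((g.restrictScalars A).comp mkB)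
    have hv0 : ∀ b ∈ (I ^ r).map (algebraMap A B), v b = 0 := fun b hb => by
      have := Ideal.mem_map_of_mem v.toRingHom hb
      rwa [Ideal.map_map, show v.toRingHom.comp (algebraMap A B) = algebraMap A D from v.comp_algebraMap,
        hD, Ideal.mem_bot] at this
    let v' : (B ⧸ (I ^ r).map (algebraMap A B)) →ₐ[A ⧸ I ^ r] D :=
      { toRingHom := (Ideal.Quotient.liftₐ _ v hv0).toRingHom
        commutes' := fun a => by
          obtain ⟨a, rfl⟩ := Ideal.Quotient.mk_surjective a
          exact (Ideal.Quotient.liftₐ _ v hv0).commutes a }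
    refine ⟨v', AlgHom.ext fun x => ?_⟩
    obtain ⟨b, rfl⟩ := Ideal.Quotient.mk_surjective x
    exact AlgHom.congr_fun hv b
  · have hE' : ∀ a ∈ I ^ N, algebraMap A E a = 0 := fun a ha =>
      (Ideal.mem_bot).mp (hE ▸ Ideal.mem_map_of_mem _ ha)
    have hC' : ∀ a ∈ I ^ N, algebraMap A C a = 0 := fun a ha =>
      (Ideal.mem_bot).mp (hC ▸ Ideal.mem_map_of_mem _ ha)
    let : Algebra (A ⧸ I ^ N) E := (Ideal.Quotient.lift _ (algebraMap A E) hE').toAlgebra
    let : Algebra (A ⧸ I ^ N) C := (Ideal.Quotient.lift _ (algebraMap A C) hC').toAlgebra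
    have : IsScalarTower A (A ⧸ I ^ N) E := IsScalarTower.of_algebraMap_eq fun _ => rfl
    have : IsScalarTower A (A ⧸ I ^ N) C := IsScalarTower.of_algebraMap_eq fun _ => rfl
    have := h N hN
    have hu0 : ∀ b ∈ (I ^ N).map (algebraMap A B), u b = 0 := fun b hb => by
      have := Ideal.mem_map_of_mem u.toRingHom hb
      rwa [Ideal.map_map, show u.toRingHom.comp (algebraMap A B) = algebraMap A C from u.comp_algebraMap,
        hC, Ideal.mem_bot] at this
    let u' : (B ⧸ (I ^ N).map (algebraMap A B)) →ₐ[A ⧸ I ^ N] C :=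
      AlgHom.extendScalarsOfSurjective Ideal.Quotient.mk_surjective (Ideal.Quotient.liftₐ _ u hu0)
    let p' : E →ₐ[A ⧸ I ^ N] C := AlgHom.extendScalarsOfSurjective Ideal.Quotient.mk_surjective p
    have hnil' : IsNilpotent (RingHom.ker (p' : E →+* C)) := ⟨hnil.choose, hnil.choose_spec.2⟩
    let v := Algebra.FormallySmooth.liftOfSurjective u' p' hp hnil'
    have hv : p'.comp v = u' := Algebra.FormallySmooth.comp_liftOfSurjective u' p' hp hnil'
    exact ⟨(v.restrictScalars A).comp (Ideal.Quotient.mkₐ A _), AlgHom.ext fun b =>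
      AlgHom.congr_fun hv (Ideal.Quotient.mk _ b)⟩

set_option linter.unusedSectionVars false
variable [HenselianRing A I]

/-- An hfp algebra with smooth truncations is a quotient of an h-smooth one by an ideal inside every
power of `I`. -/
theorem exists_smooth_surjection (R₀ : Type u) [CommRing R₀] [Algebra A R₀] [Algebra.FinitePresentation A R₀]
    (B : Type u) [CommRing B] [Algebra R₀ B] [Algebra A B] [IsScalarTower A R₀ B]
    (hB : Hens2.IsPairHenselization R₀ (I.map (algebraMap A R₀)) B)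
    (het : ∀ r : ℕ, 1 ≤ r → Algebra.Smooth (A ⧸ I ^ r) (B ⧸ (I ^ r).map (algebraMap A B))) :
    ∃ (R : Type u) (_ : CommRing R) (_ : Algebra A R) (H : Type u) (_ : CommRing H) (_ : Algebra R H)
      (_ : Algebra A H) (_ : IsScalarTower A R H),
      Algebra.Smooth A R ∧ Hens2.IsPairHenselization R (I.map (algebraMap A R)) H ∧
      ∃ φ : H →ₐ[A] B, Function.Surjective φ ∧ (RingHom.ker φ).FG ∧
        ∀ n : ℕ, RingHom.ker φ ≤ (I ^ n).map (algebraMap A H) := by
  have hHB : HenselianRing B (I.map (algebraMap A B)) := by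
    have := hB.1
    rwa [Ideal.map_map, ← IsScalarTower.algebraMap_eq] at this
  have := het 1 le_rfl
  obtain ⟨L, _, _, hL, ⟨e₁⟩⟩ :=
    Smoothing.LiftSmooth.exists_lift (I ^ 1) (A₀ := B ⧸ (I ^ 1).map (algebraMap A B))
  have hI1 : (I ^ 1).map (algebraMap A B) = I.map (algebraMap A B) := by rw [pow_one]
  have hI1L : (I ^ 1).map (algebraMap A L) = I.map (algebraMap A L) := by rw [pow_one]
  let ψ₁ : L →ₐ[A] B ⧸ I.map (algebraMap A B) :=
    (Ideal.quotientEquivAlgOfEq A hI1).toAlgHom.comp ((e₁.toAlgHom.restrictScalars A).comp (Ideal.Quotient.mkₐ A _))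
  have hψ₁ : Function.Surjective ψ₁ :=
    (Ideal.quotientEquivAlgOfEq A hI1).surjective.comp (e₁.surjective.comp Ideal.Quotient.mk_surjective)
  have hψ₁ker : ∀ x, ψ₁ x = 0 → x ∈ I.map (algebraMap A L) := fun x hx => by
    rw [← hI1L, ← Ideal.Quotient.eq_zero_iff_mem]
    refine e₁.injective ((Ideal.quotientEquivAlgOfEq A hI1).injective ?_)
    rw [map_zero, map_zero]
    exact hx
  obtain ⟨τ, hτ⟩ := Smooth.exists_algHom_lift_smooth (I.map (algebraMap A B)) ψ₁
  let H := PairHenselization (I.map (algebraMap A L))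
  let : Algebra A H := ((algebraMap L H).comp (algebraMap A L)).toAlgebra
  have : IsScalarTower A L H := IsScalarTower.of_algebraMap_eq (R := A) (S := L) (A := H) fun _ => rfl
  have hH := isPairHenselization (I.map (algebraMap A L))
  obtain ⟨φ, hφ, -⟩ := PairUP.existsUnique_algHom hH _ hHB τ (PairUP.map_map_le I _)
  have hφL : ∀ l, φ (algebraMap L H l) = τ l := fun l => AlgHom.congr_fun hφ l
  have hHH : HenselianRing H (I.map (algebraMap A H)) := by
    have := hH.1
    rwa [Ideal.map_map, ← IsScalarTower.algebraMap_eq A L H] at this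
  let : Algebra H B := φ.toRingHom.toAlgebra
  have : IsScalarTower A H B := IsScalarTower.of_algebraMap_eq fun a => (φ.commutes a).symm
  have hmapHB : (I.map (algebraMap A H)).map (algebraMap H B) = I.map (algebraMap A B) := by
    rw [Ideal.map_map, ← IsScalarTower.algebraMap_eq]
  have : Algebra.FinitePresentation A L := inferInstance
  obtain ⟨T, _, _, _, _, hT, hBT⟩ := Hfp.hfp_of_algHom I L H hH R₀ B hB
  have hmod : ∀ b : B, ∃ h : H, b - algebraMap H B h ∈ (I.map (algebraMap A H)).map (algebraMap H B) := by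
    intro b
    obtain ⟨l, hl⟩ := hψ₁ (Ideal.Quotient.mk _ b)
    refine ⟨algebraMap L H l, ?_⟩
    rw [hmapHB]
    show b - φ (algebraMap L H l) ∈ _
    rw [hφL, ← Ideal.Quotient.eq, ← hl]
    exact (AlgHom.congr_fun hτ l).symm
  have hsurj : Function.Surjective φ :=
    HfpFinite.surjective_of_quotient_surjective (I.map (algebraMap A H)) T B hBT hmod
  obtain ⟨-, hfp⟩ := HfpFinite.finite_and_finitePresentation (I.map (algebraMap A H)) T B hBT
    (Module.Finite.of_surjective (Algebra.linearMap H _) fun q => by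
      obtain ⟨b, rfl⟩ := Ideal.Quotient.mk_surjective q
      obtain ⟨h, rfl⟩ := hsurj b
      exact ⟨h, rfl⟩)
  refine ⟨L, inferInstance, inferInstance, H, inferInstance, inferInstance, inferInstance, inferInstance,
    hL, hH, φ, hsurj, Algebra.FinitePresentation.ker_fG_of_surjective (Algebra.ofId H B) hsurj, ?_⟩
  have hker1 : ∀ h, φ h = 0 → h ∈ I.map (algebraMap A H) := by
    intro h hh
    obtain ⟨q, hq⟩ := (PairUP.quotientMap_bijective hH).2 (Ideal.Quotient.mk _ h)
    obtain ⟨l, rfl⟩ := Ideal.Quotient.mk_surjective q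
    rw [Ideal.quotientMap_mk, Ideal.Quotient.eq, Ideal.map_map, ← IsScalarTower.algebraMap_eq A L H] at hq
    have h1 : τ l ∈ I.map (algebraMap A B) := by
      have := Ideal.mem_map_of_mem φ.toRingHom hq
      rw [Ideal.map_map, show φ.toRingHom.comp (algebraMap A H) = algebraMap A B from φ.comp_algebraMap] at this
      change φ (algebraMap L H l - h) ∈ _ at this
      rwa [map_sub, hφL, hh, sub_zero] at this
    have h2 : l ∈ I.map (algebraMap A L) := hψ₁ker l (by
      rw [← hτ]
      exact Ideal.Quotient.eq_zero_iff_mem.mpr h1)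
    have h3 := Ideal.mem_map_of_mem (algebraMap L H) h2
    rw [Ideal.map_map, ← IsScalarTower.algebraMap_eq A L H] at h3
    have := sub_mem h3 hq
    rwa [sub_sub_cancel] at this
  intro n h hh
  rcases Nat.eq_zero_or_pos n with rfl | hn
  · rw [pow_zero, Ideal.one_eq_top, Ideal.map_top]
    trivial
  have := het n hn
  have : Module.Flat (A ⧸ I ^ n) (B ⧸ (I ^ n).map (algebraMap A B)) := Algebra.Smooth.flat _ _
  let θ : (H ⧸ (I ^ n).map (algebraMap A H)) →ₐ[A ⧸ I ^ n] (B ⧸ (I ^ n).map (algebraMap A B)) :=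
    AlgHom.extendScalarsOfSurjective Ideal.Quotient.mk_surjective
      (Ideal.quotientMapₐ _ φ (Ideal.map_le_iff_le_comap.mp (le_of_eq (by
        rw [← Ideal.map_coe, Ideal.map_map]
        exact congrArg (fun g => (I ^ n).map g) φ.comp_algebraMap))))
  have hθ : Function.Surjective θ := fun q => by
    obtain ⟨b, rfl⟩ := Ideal.Quotient.mk_surjective q
    obtain ⟨x, rfl⟩ := hsurj b
    exact ⟨Ideal.Quotient.mk _ x, rfl⟩
  set In := I.map (Ideal.Quotient.mk (I ^ n)) with hIn
  set Hn := H ⧸ (I ^ n).map (algebraMap A H)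
  have hmapn : In.map (algebraMap (A ⧸ I ^ n) Hn) = (I.map (algebraMap A H)).map (Ideal.Quotient.mk _) := by
    rw [hIn, Ideal.map_map, Ideal.map_map]
    rfl
  have hle : RingHom.ker θ ≤ In.map (algebraMap (A ⧸ I ^ n) Hn) := by
    intro x hx
    obtain ⟨x, rfl⟩ := Ideal.Quotient.mk_surjective x
    have hx' : φ x ∈ (I ^ n).map (algebraMap A B) := Ideal.Quotient.eq_zero_iff_mem.mp hx
    have hle : (I ^ n).map (algebraMap A B) ≤ (I.map (algebraMap A H)).map (algebraMap H B) := by
      rw [hmapHB]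
      exact Ideal.map_mono (Ideal.pow_le_self (by omega))
    obtain ⟨y, hy, hyx⟩ := (Ideal.mem_map_iff_of_surjective (algebraMap H B) hsurj).mp (hle hx')
    rw [hmapn]
    refine Ideal.mem_map_of_mem _ ?_
    have := add_mem hy (hker1 (x - y) (by rw [map_sub, sub_eq_zero]; exact hyx.symm))
    rwa [add_sub_cancel] at this
  have hmul : RingHom.ker θ ≤ In.map (algebraMap (A ⧸ I ^ n) Hn) * RingHom.ker θ := fun x hx =>
    HEtale.flat_ker_le In θ hθ x hx (hle hx)
  have hpow : ∀ m, RingHom.ker θ ≤ In.map (algebraMap (A ⧸ I ^ n) Hn) ^ m := by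
    intro m
    induction m with
    | zero => simp
    | succ m ih =>
      rw [pow_succ']
      exact hmul.trans (Ideal.mul_mono le_rfl ih)
  rw [← Ideal.Quotient.eq_zero_iff_mem]
  have h0 : θ (Ideal.Quotient.mk _ h) = 0 := by
    show Ideal.Quotient.mk _ (φ h) = 0
    rw [show φ h = 0 from hh, map_zero]
  have := hpow n h0
  rwa [← Ideal.map_pow, hIn, ← Ideal.map_pow, Ideal.map_quotient_self, Ideal.map_bot, Ideal.mem_bot] at this

/-- A flat hfp algebra with smooth truncations is h-smooth. -/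
theorem exists_smooth_of_flat (R₀ : Type u) [CommRing R₀] [Algebra A R₀] [Algebra.FinitePresentation A R₀]
    (B : Type u) [CommRing B] [Algebra R₀ B] [Algebra A B] [IsScalarTower A R₀ B]
    (hB : Hens2.IsPairHenselization R₀ (I.map (algebraMap A R₀)) B) [Module.Flat A B]
    (het : ∀ r : ℕ, 1 ≤ r → Algebra.Smooth (A ⧸ I ^ r) (B ⧸ (I ^ r).map (algebraMap A B))) :
    ∃ (R : Type u) (_ : CommRing R) (_ : Algebra A R) (_ : Algebra R B) (_ : IsScalarTower A R B),
      Algebra.Smooth A R ∧ Hens2.IsPairHenselization R (I.map (algebraMap A R)) B := by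
  obtain ⟨L, _, _, H, _, _, _, _, hL, hH, φ, hsurj, hfg, hker⟩ :=
    exists_smooth_surjection I R₀ B hB het
  have hbot : RingHom.ker φ = ⊥ := by
    refine Submodule.eq_bot_of_le_smul_of_le_jacobson_bot (I.map (algebraMap A H)) _ hfg ?_ ?_
    · intro k hk
      rw [smul_eq_mul]
      refine HEtale.flat_ker_le I φ hsurj k hk ?_
      have := hker 1 hk
      rwa [pow_one] at this
    · have := hH.1.jac
      rwa [Ideal.map_map, ← IsScalarTower.algebraMap_eq A L H] at this
  let e : H ≃ₐ[A] B := AlgEquiv.ofBijective φ ⟨(RingHom.injective_iff_ker_eq_bot _).mpr hbot, hsurj⟩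
  let : Algebra L B := (φ.toRingHom.comp (algebraMap L H)).toAlgebra
  have : IsScalarTower A L B := IsScalarTower.of_algebraMap_eq fun a => by
    show algebraMap A B a = φ (algebraMap L H (algebraMap A L a))
    rw [← IsScalarTower.algebraMap_apply, AlgHom.commutes]
  exact ⟨L, inferInstance, inferInstance, inferInstance, inferInstance, hL,
    PairUP.of_algEquiv hH (AlgEquiv.ofRingEquiv (f := e.toRingEquiv) fun _ => rfl)⟩

end Groth.Agent.Lib.Henselian.HSmooth
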