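import Groth.Agent.Lib.Henselian.Hfp
import Mathlib.Algebra.MvPolynomial.Rename
import Mathlib.Algebra.MvPolynomial.Variables

/-!
# Algebras commuting with filtered colimits of henselian pairs are hfp

* `hfp_of_algHom_directLimit`
-/

universe u

open MvPolynomial
open Groth.Agent.Lib.Henselian.PairHenselization

namespace Groth.Agent.Lib.Henselian.HfpLimit

variable (A : Type u) [CommRing A] (I : Ideal A) (B : Type u) [CommRing B] [Algebra A B]

/-- The tautological presentation. -/
noncomputable abbrev q : MvPolynomial B A →ₐ[A] B := aeval id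

/-- Finitely many generators with finitely many relations among them. -/
def Idx : Type u :=
  {p : Finset B × Finset (MvPolynomial B A) // ∀ g ∈ p.2, q A B g = 0 ∧ (g.vars : Set B) ⊆ p.1}

instance : Preorder (Idx A B) := inferInstanceAs (Preorder {p : Finset B × Finset (MvPolynomial B A) //
  ∀ g ∈ p.2, q A B g = 0 ∧ (g.vars : Set B) ⊆ p.1})

instance : Nonempty (Idx A B) := ⟨⟨(∅, ∅), by simp⟩⟩

instance : IsDirectedOrder (Idx A B) where
  directed i j := by
    classical
    refine ⟨⟨(i.1.1 ∪ j.1.1, i.1.2 ∪ j.1.2), fun g hg => ?_⟩,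
      ⟨Finset.subset_union_left, Finset.subset_union_left⟩,
      ⟨Finset.subset_union_right, Finset.subset_union_right⟩⟩
    rcases Finset.mem_union.mp hg with h | h
    · exact ⟨(i.2 g h).1, (i.2 g h).2.trans (Finset.coe_subset.mpr Finset.subset_union_left)⟩
    · exact ⟨(j.2 g h).1, (j.2 g h).2.trans (Finset.coe_subset.mpr Finset.subset_union_right)⟩

variable {A B}

/-- The ideal of relations at a stage. -/
noncomputable def rel (i : Idx A B) : Ideal (MvPolynomial {b // b ∈ i.1.1} A) :=
  (Ideal.span (i.1.2 : Set (MvPolynomial B A))).comap (rename (Subtype.val : {b // b ∈ i.1.1} → B))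

theorem rel_fg (i : Idx A B) : (rel i).FG := by
  classical
  let r : MvPolynomial B A →ₐ[A] MvPolynomial {b // b ∈ i.1.1} A :=
    killCompl Subtype.val_injective
  refine ⟨i.1.2.image r, le_antisymm (Ideal.span_le.mpr fun x hx => ?_) fun x hx => ?_⟩
  · obtain ⟨g, hg, rfl⟩ := Finset.mem_image.mp hx
    obtain ⟨g', rfl⟩ := exists_rename_eq_of_vars_subset_range g _
      (Subtype.val_injective : Function.Injective (Subtype.val : {b // b ∈ i.1.1} → B))
      (fun b hb => ⟨⟨b, (i.2 g hg).2 hb⟩, rfl⟩)
    show rename Subtype.val (r (rename Subtype.val g')) ∈ Ideal.span _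
    rw [show r (rename Subtype.val g') = g' from killCompl_rename_app _ g']
    exact Ideal.subset_span hg
  · have h := Ideal.mem_map_of_mem r (show rename Subtype.val x ∈ Ideal.span (i.1.2 : Set _) from hx)
    rw [Ideal.map_span, show r (rename Subtype.val x) = x from killCompl_rename_app _ x,
      ← Finset.coe_image] at h
    exact h

/-- The algebra at a stage. -/
abbrev R (i : Idx A B) : Type u := MvPolynomial {b // b ∈ i.1.1} A ⧸ rel i

instance (i : Idx A B) : Algebra.FinitePresentation A (R i) :=
  Algebra.FinitePresentation.quotient (rel_fg i)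

/-- The transition maps. -/
noncomputable def r {i j : Idx A B} (h : i ≤ j) : R i →ₐ[A] R j :=
  Ideal.quotientMapₐ (rel j) (rename fun b => ⟨b.1, h.1 b.2⟩) fun x hx => by
    show rename Subtype.val (rename _ x) ∈ Ideal.span _
    rw [rename_rename]
    exact Ideal.span_mono (Finset.coe_subset.mpr h.2) hx

theorem r_self (i : Idx A B) : r (le_refl i) = AlgHom.id A (R i) :=
  Ideal.Quotient.algHom_ext _ (MvPolynomial.algHom_ext fun b => by
    show Ideal.Quotient.mk _ (rename _ (X b)) = Ideal.Quotient.mk _ (X b)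
    rw [rename_X])

theorem r_comp {i j k : Idx A B} (h : i ≤ j) (h' : j ≤ k) : (r h').comp (r h) = r (h.trans h') :=
  Ideal.Quotient.algHom_ext _ (MvPolynomial.algHom_ext fun b => by
    show Ideal.Quotient.mk _ (rename _ (rename _ (X b))) = Ideal.Quotient.mk _ (rename _ (X b))
    rw [rename_X, rename_X, rename_X])

/-- The henselization at a stage. -/
abbrev P (i : Idx A B) : Type u := PairHenselization (I.map (algebraMap A (R i)))

noncomputable instance (i : Idx A B) : Algebra A (P I i) :=
  ((algebraMap (R i) (P I i)).comp (algebraMap A (R i))).toAlgebra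

instance (i : Idx A B) : IsScalarTower A (R i) (P I i) := IsScalarTower.of_algebraMap_eq (R := A) (S := R i) (A := P I i) fun _ => rfl

theorem isPairHenselization (i : Idx A B) :
    Hens2.IsPairHenselization (R i) (I.map (algebraMap A (R i))) (P I i) :=
  PairHenselization.isPairHenselization _

instance henselianRing (i : Idx A B) : HenselianRing (P I i) (I.map (algebraMap A (P I i))) := by
  have h := (isPairHenselization I i).1
  rwa [Ideal.map_map, ← IsScalarTower.algebraMap_eq A (R i) (P I i)] at h

theorem existsUnique_p {i j : Idx A B} (h : i ≤ j) : ∃! g : P I i →ₐ[A] P I j,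
    g.comp (IsScalarTower.toAlgHom A (R i) (P I i)) = (IsScalarTower.toAlgHom A (R j) (P I j)).comp (r h) :=
  PairUP.existsUnique_algHom (isPairHenselization I i) _ (henselianRing I j) _ (PairUP.map_map_le I _)

/-- The transition maps of henselizations. -/
noncomputable def p {i j : Idx A B} (h : i ≤ j) : P I i →ₐ[A] P I j := (existsUnique_p I h).exists.choose

theorem p_comp_toAlgHom {i j : Idx A B} (h : i ≤ j) :
    (p I h).comp (IsScalarTower.toAlgHom A (R i) (P I i)) =
      (IsScalarTower.toAlgHom A (R j) (P I j)).comp (r h) := (existsUnique_p I h).exists.choose_spec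

instance : DirectedSystem (fun i : Idx A B => P I i) (fun _ _ h => ⇑((p I h).toRingHom)) where
  map_self i x := AlgHom.congr_fun ((existsUnique_p I (le_refl i)).unique (p_comp_toAlgHom I _)
    (show (AlgHom.id A (P I i)).comp _ = _ by rw [AlgHom.id_comp, r_self, AlgHom.comp_id])) x
  map_map k j i hij hjk x := by
    refine AlgHom.congr_fun ((existsUnique_p I (hij.trans hjk)).unique ?_ (p_comp_toAlgHom I _) :
      (p I hjk).comp (p I hij) = p I (hij.trans hjk)) x
    show ((p I hjk).comp (p I hij)).comp _ = _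
    rw [AlgHom.comp_assoc, p_comp_toAlgHom, ← AlgHom.comp_assoc, p_comp_toAlgHom, AlgHom.comp_assoc,
      r_comp]

/-- The singleton index. -/
def sing (b : B) : Idx A B := ⟨({b}, ∅), by simp⟩

/-- A compatible family of maps from the stages induces a map from `B`. -/
theorem exists_colim_lift {L : Type*} [CommRing L] [Algebra A L] (ι : ∀ i : Idx A B, R i →ₐ[A] L)
    (hι : ∀ {i j : Idx A B} (hij : i ≤ j) (x : R i), ι j (r hij x) = ι i x) :
    ∃ v : B →ₐ[A] L, ∀ b, v b = ι (sing b) (Ideal.Quotient.mk _ (X ⟨b, Finset.mem_singleton_self b⟩)) := by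
  classical
  let gen : B → L := fun b =>
    ι (sing b) (Ideal.Quotient.mk _ (X ⟨b, Finset.mem_singleton_self b⟩))
  -- the tautological map to the colimit factors through `B`
  have hgen : ∀ (i : Idx A B) (x : MvPolynomial {b // b ∈ i.1.1} A),
      ι i (Ideal.Quotient.mk _ x) = aeval gen (rename Subtype.val x) := by
    intro i x
    induction x using MvPolynomial.induction_on with
    | C a =>
      rw [rename_C, aeval_C, show Ideal.Quotient.mk (rel i) (C a) = algebraMap A (R i) a from rfl,
        AlgHom.commutes]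
    | add x y hx hy => simp only [map_add, hx, hy]
    | mul_X x b hx =>
      rw [map_mul, map_mul, hx, map_mul, map_mul, rename_X, aeval_X]
      congr 1
      have hle : sing b.1 ≤ i := ⟨Finset.singleton_subset_iff.mpr b.2, Finset.empty_subset _⟩
      show _ = ι (sing b.1) _
      rw [← hι hle]
      show _ = ι i (Ideal.Quotient.mk _ (rename _ (X _)))
      rw [rename_X]
  have hkill : RingHom.ker (q A B).toRingHom ≤ RingHom.ker (aeval gen : MvPolynomial B A →ₐ[A] L).toRingHom := by
    intro g hg
    let i : Idx A B := ⟨(g.vars, {g}), fun g' hg' => by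
      rw [Finset.mem_singleton] at hg'
      subst hg'
      exact ⟨hg, le_rfl⟩⟩
    obtain ⟨g', hg'⟩ := exists_rename_eq_of_vars_subset_range g _
      (Subtype.val_injective : Function.Injective (Subtype.val : {b // b ∈ i.1.1} → B))
      (fun b hb => ⟨⟨b, hb⟩, rfl⟩)
    show aeval gen g = 0
    rw [← hg', ← hgen i, Ideal.Quotient.eq_zero_iff_mem.mpr (show g' ∈ rel i from by
      show rename Subtype.val g' ∈ Ideal.span _
      rw [hg']
      exact Ideal.subset_span (Finset.mem_singleton_self g)), map_zero]
  have hq : Function.Surjective (q A B) := fun b => ⟨X b, aeval_X _ b⟩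
  let v : B →ₐ[A] L :=
    AlgHom.liftOfSurjective (q A B) hq (aeval gen) hkill
  have hv : ∀ b, v b = gen b := fun b => by
    conv_lhs => rw [← show q A B (X b) = b from aeval_X _ b]
    exact (AlgHom.liftOfSurjective_apply (q A B) hq _ hkill (X b)).trans (aeval_X _ b)
  exact ⟨v, hv⟩

/-- An algebra commuting with filtered colimits of henselian pairs is hfp. -/
theorem hfp_of_algHom_directLimit [HenselianRing B (I.map (algebraMap A B))]
    (h : ∀ (κ : Type u) [Preorder κ] [IsDirectedOrder κ] [Nonempty κ]
      (Ra : κ → Type u) [∀ a, CommRing (Ra a)] [∀ a, Algebra A (Ra a)]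
      [∀ a, HenselianRing (Ra a) (I.map (algebraMap A (Ra a)))]
      (t : ∀ a b : κ, a ≤ b → (Ra a →+* Ra b)) [DirectedSystem Ra (fun a b hab => t a b hab)],
      (∀ (a b : κ) (hab : a ≤ b), (t a b hab).comp (algebraMap A (Ra a)) = algebraMap A (Ra b)) →
      ∀ [Algebra A (DirectLimit Ra t)],
      (∀ (a : κ) (x : A), algebraMap A (DirectLimit Ra t) x =
        DirectLimit.Ring.of Ra t a (algebraMap A (Ra a) x)) →
      (∀ χ : B →ₐ[A] DirectLimit Ra t, ∃ (a : κ) (φ : B →ₐ[A] Ra a),
          ∀ x : B, DirectLimit.Ring.of Ra t a (φ x) = χ x) ∧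
      ∀ (a : κ) (φ ψ : B →ₐ[A] Ra a),
        (∀ x : B, DirectLimit.Ring.of Ra t a (φ x) = DirectLimit.Ring.of Ra t a (ψ x)) →
        ∃ (b : κ) (hab : a ≤ b), ∀ x : B, t a b hab (φ x) = t a b hab (ψ x)) :
    ∃ (T : Type u) (_ : CommRing T) (_ : Algebra A T) (_ : Algebra T B) (_ : IsScalarTower A T B),
      Algebra.FinitePresentation A T ∧ Hens2.IsPairHenselization T (I.map (algebraMap A T)) B := by
  classical
  let t : ∀ a b : Idx A B, a ≤ b → (P I a →+* P I b) := fun a b hab => (p I hab).toRingHom
  let i₀ : Idx A B := Classical.arbitrary _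
  let : Algebra A (DirectLimit (fun i : Idx A B => P I i) t) :=
    ((DirectLimit.Ring.of (fun i : Idx A B => P I i) t i₀).comp (algebraMap A (P I i₀))).toAlgebra
  have ht : ∀ (a b : Idx A B) (hab : a ≤ b), (t a b hab).comp (algebraMap A (P I a)) = algebraMap A (P I b) :=
    fun a b hab => (p I hab).comp_algebraMap
  have halg : ∀ (a : Idx A B) (x : A), algebraMap A (DirectLimit (fun i : Idx A B => P I i) t) x =
      DirectLimit.Ring.of (fun i : Idx A B => P I i) t a (algebraMap A (P I a) x) := fun a x => by
    obtain ⟨k, h₁, h₂⟩ := exists_ge_ge i₀ a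
    show DirectLimit.Ring.of _ t i₀ (algebraMap A (P I i₀) x) = _
    rw [← DirectLimit.Ring.of_f h₁, ← DirectLimit.Ring.of_f h₂, ← RingHom.comp_apply (t i₀ k h₁), ht,
      ← RingHom.comp_apply (t a k h₂), ht]
  let ι : ∀ i : Idx A B, R i →ₐ[A] DirectLimit (fun i : Idx A B => P I i) t := fun i =>
    AlgHom.comp ⟨DirectLimit.Ring.of _ t i, fun x => (halg i x).symm⟩ (IsScalarTower.toAlgHom A (R i) (P I i))
  have hι : ∀ {i j : Idx A B} (hij : i ≤ j) (x : R i), ι j (r hij x) = ι i x := fun {i j} hij x => by
    show DirectLimit.Ring.of _ t j (IsScalarTower.toAlgHom A (R j) (P I j) (r hij x)) = _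
    rw [show IsScalarTower.toAlgHom A (R j) (P I j) (r hij x) = p I hij (IsScalarTower.toAlgHom A (R i) (P I i) x)
      from (AlgHom.congr_fun (p_comp_toAlgHom I hij) x).symm]
    exact DirectLimit.Ring.of_f hij _
  obtain ⟨v, hv⟩ := exists_colim_lift ι (fun {i j} hij x => hι hij x)
  obtain ⟨i, φ, hφ⟩ := (h (Idx A B) (fun i => P I i) t ht halg).1 v
  -- maps back to `B`
  have hu : ∀ j : Idx A B, ∃! g : P I j →ₐ[A] B, g.comp (IsScalarTower.toAlgHom A (R j) (P I j)) =
      Ideal.Quotient.liftₐ (rel j) ((q A B).comp (rename Subtype.val)) (fun x hx =>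
        (Ideal.span_le.mpr fun g hg => (j.2 g hg).1 : Ideal.span _ ≤ RingHom.ker (q A B).toRingHom) hx) :=
    fun j => PairUP.existsUnique_algHom (isPairHenselization I j) _ inferInstance _ (PairUP.map_map_le I _)
  choose u hu hu' using hu
  have hcompat : ∀ a b hab x, (u b).toRingHom (t a b hab x) = (u a).toRingHom x := fun a b hab x =>
    AlgHom.congr_fun (hu' a ((u b).comp (p I hab)) (by
      show ((u b).comp (p I hab)).comp _ = _
      rw [AlgHom.comp_assoc, p_comp_toAlgHom, ← AlgHom.comp_assoc, hu b]
      refine Ideal.Quotient.algHom_ext _ (MvPolynomial.algHom_ext fun c => ?_)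
      show q A B (rename Subtype.val (rename _ (X c))) = q A B (rename Subtype.val (X c))
      rw [rename_X, rename_X, rename_X])) x
  let U := DirectLimit.Ring.lift (fun i : Idx A B => P I i) t B (fun a => (u a).toRingHom) hcompat
  refine Hfp.hfp_of_retract I (isPairHenselization I i) (u i) φ fun b => ?_
  have h1 : U (DirectLimit.Ring.of _ t i (φ b)) = u i (φ b) := rfl
  rw [← h1, hφ, hv]
  show u (sing b) _ = b
  refine (AlgHom.congr_fun (hu (sing b)) _).trans ?_
  show q A B (rename Subtype.val (X _)) = b
  rw [rename_X]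
  exact aeval_X _ b

end Groth.Agent.Lib.Henselian.HfpLimit
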