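import Groth.Agent.Lib.HensSch.FamilyDescent
import Groth.Agent.Lib.Henselian.HfpLimit
import Mathlib.Data.Fintype.Order

/-!
# Being henselian finitely presented is local for basic opens

`algHom_directLimit_of_cover`: if `B` has a cover by henselized basic opens commuting with filtered colimits of
henselian pairs, so does `B`.
-/

universe u

open TensorProduct

noncomputable section

namespace Groth.Agent.Lib.Henselian.HfpCover45

variable {A : Type u} [CommRing A] (I : Ideal A)

/-- The henselization of `(C_f, I C_f)`. -/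
def HAway (C : Type u) [CommRing C] [Algebra A C] (f : C) : Type u :=
  PairHenselization.PairHenselization ((I.map (algebraMap A C)).map (algebraMap C (Localization.Away f)))

section HAway

variable {C : Type u} [CommRing C] [Algebra A C] (f : C)

instance : CommRing (HAway I C f) :=
  inferInstanceAs (CommRing (PairHenselization.PairHenselization
    ((I.map (algebraMap A C)).map (algebraMap C (Localization.Away f)))))

/-- The structure map from the localization. -/
def fromAway : Localization.Away f →+* HAway I C f :=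
  algebraMap (Localization.Away f) (PairHenselization.PairHenselization
    ((I.map (algebraMap A C)).map (algebraMap C (Localization.Away f))))

instance algC : Algebra C (HAway I C f) := ((fromAway I f).comp (algebraMap C (Localization.Away f))).toAlgebra

instance algA : Algebra A (HAway I C f) := ((algebraMap C (HAway I C f)).comp (algebraMap A C)).toAlgebra

instance : IsScalarTower A C (HAway I C f) := IsScalarTower.of_algebraMap_eq (R := A) fun _ => rfl

theorem isPairH : Hens2.IsPairHenselization (Localization.Away f)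
    ((I.map (algebraMap A C)).map (algebraMap C (Localization.Away f)))
    (PairHenselization.PairHenselization ((I.map (algebraMap A C)).map (algebraMap C (Localization.Away f)))) :=
  PairHenselization.isPairHenselization _

theorem isHensAway :
    _root_.HensSch.IsHensAway C (I.map (algebraMap A C)) f (HAway I C f) (algebraMap C (HAway I C f)) := by
  refine ⟨(IsLocalization.Away.algebraMap_isUnit (S := Localization.Away f) f).map (fromAway I f), ?_,
    fun D _ J g hD hJ hu => ?_⟩
  · have h : HenselianRing (HAway I C f) (((I.map (algebraMap A C)).map (algebraMap C (Localization.Away f))).map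
        (fromAway I f)) := (isPairH I f).1
    rwa [Ideal.map_map] at h
  · let g₁ : Localization.Away f →+* D := IsLocalization.Away.lift f hu
    have hg₁ : g₁.comp (algebraMap C (Localization.Away f)) = g :=
      RingHom.ext fun a => IsLocalization.Away.lift_eq f hu a
    obtain ⟨h, hh, huniq⟩ := (isPairH I f).2 D J g₁ hD (by rw [Ideal.map_map, hg₁]; exact hJ)
    refine ⟨h, ?_, fun h' hh' => huniq h' (IsLocalization.ringHom_ext (Submonoid.powers f) ?_)⟩
    · exact RingHom.ext fun a => (RingHom.congr_fun hh _).trans (RingHom.congr_fun hg₁ a)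
    · rw [hg₁]; exact hh'

instance henselian : HenselianRing (HAway I C f) (I.map (algebraMap A (HAway I C f))) := by
  have h := (isHensAway I f).2.1
  rwa [Ideal.map_map, ← IsScalarTower.algebraMap_eq] at h

end HAway

/-- Extension of a map along a henselization away. -/
theorem existsUnique_ext {B : Type u} [CommRing B] [Algebra A B] {g : B} {H : Type u} [CommRing H] [Algebra B H]
    [Algebra A H] [IsScalarTower A B H]
    (hH : _root_.HensSch.IsHensAway B (I.map (algebraMap A B)) g H (algebraMap B H)) {D : Type u} [CommRing D]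
    [Algebra A D] (J : Ideal D) (hD : HenselianRing D J) (hIJ : I.map (algebraMap A D) ≤ J) (φ : B →ₐ[A] D)
    (hu : IsUnit (φ g)) : ∃! ψ : H →ₐ[A] D, ψ.comp (IsScalarTower.toAlgHom A B H) = φ := by
  obtain ⟨h, hh, huniq⟩ := hH.2.2 D J φ.toRingHom hD
    (by rw [Ideal.map_map, show φ.toRingHom.comp (algebraMap A B) = algebraMap A D from φ.comp_algebraMap]
        exact hIJ) hu
  refine ⟨{ h with commutes' := fun a => ?_ }, ?_, fun ψ hψ => ?_⟩
  · show h (algebraMap A H a) = _
    rw [IsScalarTower.algebraMap_apply A B H, show h (algebraMap B H _) = _ from RingHom.congr_fun hh _]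
    exact φ.commutes a
  · exact AlgHom.ext fun b => RingHom.congr_fun hh b
  · exact AlgHom.ext fun x => RingHom.congr_fun (huniq ψ.toRingHom (RingHom.ext fun b => AlgHom.congr_fun hψ b)) x

section Maps

variable {C : Type u} [CommRing C] [Algebra A C] {D : Type u} [CommRing D] [Algebra A D]
  {E : Type u} [CommRing E] [Algebra A E]

theorem existsUnique_hmap (φ : C →ₐ[A] D) {f : C} {g : D}
    (hu : IsUnit (algebraMap D (HAway I D g) (φ f))) :
    ∃! ψ : HAway I C f →ₐ[A] HAway I D g, ψ.comp (IsScalarTower.toAlgHom A C (HAway I C f)) =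
      (IsScalarTower.toAlgHom A D (HAway I D g)).comp φ :=
  existsUnique_ext I (isHensAway I f) _ (henselian I g) le_rfl _ hu

/-- Functoriality. -/
def hmap (φ : C →ₐ[A] D) {f : C} {g : D} (hu : IsUnit (algebraMap D (HAway I D g) (φ f))) :
    HAway I C f →ₐ[A] HAway I D g :=
  (existsUnique_hmap I φ hu).exists.choose

theorem hmap_algebraMap (φ : C →ₐ[A] D) {f : C} {g : D} (hu : IsUnit (algebraMap D (HAway I D g) (φ f))) (x : C) :
    hmap I φ hu (algebraMap C (HAway I C f) x) = algebraMap D (HAway I D g) (φ x) :=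
  AlgHom.congr_fun (existsUnique_hmap I φ hu).exists.choose_spec x

theorem hom_ext {f : C} {g : D} {ψ ψ' : HAway I C f →ₐ[A] HAway I D g}
    (h : ∀ x, ψ (algebraMap C (HAway I C f) x) = ψ' (algebraMap C (HAway I C f) x)) : ψ = ψ' := by
  refine (existsUnique_ext I (isHensAway I f) _ (henselian I g) le_rfl
    (ψ.comp (IsScalarTower.toAlgHom A C (HAway I C f))) ?_).unique rfl (AlgHom.ext fun x => (h x).symm)
  exact (isHensAway I f).1.map ψ

end Maps

section Cover

variable {C : Type u} [CommRing C] [Algebra A C] [HenselianRing C (I.map (algebraMap A C))] {n : ℕ}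
  {g : Fin n → C}

theorem exists_notMem (hg : Ideal.span (Set.range g) = ⊤) (q : Ideal C) (hq : q.IsPrime) : ∃ i, g i ∉ q := by
  by_contra! h
  exact hq.ne_top (top_le_iff.1 (hg ▸ Ideal.span_le.2 (by rintro _ ⟨i, rfl⟩; exact h i)))

theorem eq_zero_of_cover (hg : Ideal.span (Set.range g) = ⊤) {x : C}
    (hx : ∀ i, algebraMap C (HAway I C (g i)) x = 0) : x = 0 := by
  refine Groth.Agent.Lib.HensSch.FamilyDescent.eq_zero_of_forall (M := C) (fun i : ULift.{u} (Fin n) => g i.down)
    (fun q hq _ => ?_) (fun i => HAway I C (g i.down)) (fun i => isHensAway I _) x fun i => ?_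
  · obtain ⟨i, hi⟩ := exists_notMem hg q hq
    exact ⟨⟨i⟩, hi⟩
  · refine (TensorProduct.rid C (HAway I C (g i.down))).injective ?_
    rw [TensorProduct.rid_tmul, map_zero, Algebra.smul_def, mul_one]
    exact hx _

theorem glue (hg : Ideal.span (Set.range g) = ⊤) (g₂ : Fin n → Fin n → C) (hg₂ : ∀ i j, g₂ i j = g i * g j)
    (r₁ : ∀ i j, HAway I C (g i) →ₐ[A] HAway I C (g₂ i j))
    (r₂ : ∀ i j, HAway I C (g j) →ₐ[A] HAway I C (g₂ i j))
    (h₁ : ∀ i j x, r₁ i j (algebraMap C _ x) = algebraMap C _ x)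
    (h₂ : ∀ i j x, r₂ i j (algebraMap C _ x) = algebraMap C _ x)
    (y : ∀ i, HAway I C (g i)) (hy : ∀ i j, r₁ i j (y i) = r₂ i j (y j)) :
    ∃ x, ∀ i, algebraMap C (HAway I C (g i)) x = y i := by
  let R₁ : ∀ i j : ULift.{u} (Fin n), HAway I C (g i.down) →ₐ[C] HAway I C (g₂ i.down j.down) := fun i j =>
    { (r₁ i.down j.down).toRingHom with commutes' := h₁ _ _ }
  let R₂ : ∀ i j : ULift.{u} (Fin n), HAway I C (g j.down) →ₐ[C] HAway I C (g₂ i.down j.down) := fun i j =>
    { (r₂ i.down j.down).toRingHom with commutes' := h₂ _ _ }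
  obtain ⟨m, hm, -⟩ := Groth.Agent.Lib.HensSch.FamilyDescent.existsUnique_glue (M := C)
    (fun i : ULift.{u} (Fin n) => g i.down)
    (fun q hq _ => by obtain ⟨i, hi⟩ := exists_notMem hg q hq; exact ⟨⟨i⟩, hi⟩)
    (fun i => HAway I C (g i.down)) (fun i => isHensAway I _)
    (fun i j : ULift.{u} (Fin n) => HAway I C (g₂ i.down j.down))
    (fun i j => by
      have := isHensAway I (g₂ i.down j.down)
      rwa [hg₂] at this ⊢)
    R₁ R₂ (fun i => y i.down ⊗ₜ[C] (1 : C)) fun i j => by
      simp only [Groth.Agent.Lib.HensSch.Descent.push, LinearMap.rTensor_tmul]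
      exact congrArg (· ⊗ₜ[C] (1 : C)) (hy _ _)
  refine ⟨m, fun i => ?_⟩
  have h := congrArg (TensorProduct.rid C (HAway I C (g i))) (hm ⟨i⟩)
  rw [TensorProduct.rid_tmul, TensorProduct.rid_tmul, one_smul, Algebra.smul_def, mul_one] at h
  exact h

end Cover

section System

variable {κ : Type u} [Preorder κ] [IsDirectedOrder κ] (Ra : κ → Type u) [∀ a, CommRing (Ra a)]
  [∀ a, Algebra A (Ra a)] (t : ∀ a b : κ, a ≤ b → (Ra a →+* Ra b)) [DirectedSystem Ra (fun a b h => t a b h)]
  (ht : ∀ (a b : κ) (h : a ≤ b), (t a b h).comp (algebraMap A (Ra a)) = algebraMap A (Ra b))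

/-- The transition as an algebra map. -/
def tA (a b : κ) (h : a ≤ b) : Ra a →ₐ[A] Ra b := ⟨t a b h, RingHom.congr_fun (ht a b h)⟩

omit [IsDirectedOrder κ] in
theorem tA_tA {a b c : κ} (h : a ≤ b) (h' : b ≤ c) (x : Ra a) :
    tA Ra t ht b c h' (tA Ra t ht a b h x) = tA Ra t ht a c (h.trans h') x :=
  DirectedSystem.map_map (f := fun a b h => t a b h) h h' x

omit [IsDirectedOrder κ] in
theorem tA_self {a : κ} (x : Ra a) : tA Ra t ht a a le_rfl x = x :=
  DirectedSystem.map_self (f := fun a b h => t a b h) x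

variable {b : κ} (g : Ra b)

/-- The stages `≥ b`. -/
abbrev Ici' (b : κ) : Type u := {c : κ // b ≤ c}

instance : IsDirectedOrder (Ici' b) where
  directed x y := by
    obtain ⟨z, hxz, hyz⟩ := exists_ge_ge x.1 y.1
    exact ⟨⟨z, x.2.trans hxz⟩, hxz, hyz⟩

instance : Nonempty (Ici' b) := ⟨⟨b, le_rfl⟩⟩

/-- The henselized basic open at a stage. -/
abbrev GG (c : Ici' b) : Type u := HAway I (Ra c.1) (tA Ra t ht b c.1 c.2 g)

omit [IsDirectedOrder κ] in
theorem isUnit_step {c d : Ici' b} (h : c ≤ d) :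
    IsUnit (algebraMap (Ra d.1) (GG I Ra t ht g d) (tA Ra t ht c.1 d.1 h (tA Ra t ht b c.1 c.2 g))) := by
  rw [tA_tA]; exact (isHensAway I _).1

/-- The transition maps of the henselized basic opens. -/
def GT (c d : Ici' b) (h : c ≤ d) : GG I Ra t ht g c →+* GG I Ra t ht g d :=
  (hmap I (tA Ra t ht c.1 d.1 h) (isUnit_step I Ra t ht g h)).toRingHom

omit [IsDirectedOrder κ] in
theorem GT_apply {c d : Ici' b} (h : c ≤ d) (x : Ra c.1) :
    GT I Ra t ht g c d h (algebraMap _ _ x) = algebraMap _ _ (tA Ra t ht c.1 d.1 h x) :=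
  hmap_algebraMap I _ _ x

/-- `GT` as an algebra map. -/
def GTA (c d : Ici' b) (h : c ≤ d) : GG I Ra t ht g c →ₐ[A] GG I Ra t ht g d :=
  hmap I (tA Ra t ht c.1 d.1 h) (isUnit_step I Ra t ht g h)

instance : DirectedSystem (GG I Ra t ht g) (fun c d h => GT I Ra t ht g c d h) where
  map_self c x := by
    have h : GTA I Ra t ht g c c le_rfl = AlgHom.id A _ := hom_ext I fun y => by
      refine (GT_apply I Ra t ht g le_rfl y).trans ?_
      rw [tA_self]; rfl
    exact AlgHom.congr_fun h x
  map_map k j i hij hjk x := by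
    have h : (GTA I Ra t ht g j k hjk).comp (GTA I Ra t ht g i j hij) = GTA I Ra t ht g i k (hij.trans hjk) :=
      hom_ext I fun y => by
        show GT I Ra t ht g j k hjk (GT I Ra t ht g i j hij _) = GT I Ra t ht g i k _ _
        rw [GT_apply, GT_apply, GT_apply, tA_tA]
    exact AlgHom.congr_fun h x

/-- The colimit of the henselized basic opens. -/
abbrev LL : Type u := DirectLimit (GG I Ra t ht g) (GT I Ra t ht g)

/-- The map to the colimit. -/
abbrev ofG (c : Ici' b) : GG I Ra t ht g c →+* LL I Ra t ht g :=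
  DirectLimit.Ring.of (GG I Ra t ht g) (GT I Ra t ht g) c

instance algLL : Algebra A (LL I Ra t ht g) :=
  ((ofG I Ra t ht g ⟨b, le_rfl⟩).comp (algebraMap A _)).toAlgebra

theorem halgLL (c : Ici' b) (x : A) :
    algebraMap A (LL I Ra t ht g) x = ofG I Ra t ht g c (algebraMap A _ x) := by
  have h : (⟨b, le_rfl⟩ : Ici' b) ≤ c := c.2
  show ofG I Ra t ht g _ (algebraMap A _ x) = _
  rw [← (GTA I Ra t ht g _ _ h).commutes x]
  exact (DirectLimit.Ring.of_f h _).symm

theorem henselian_LL : ∃ J : Ideal (LL I Ra t ht g), HenselianRing (LL I Ra t ht g) J ∧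
    I.map (algebraMap A (LL I Ra t ht g)) ≤ J := by
  refine ⟨_, ColimitPair.henselianRing_directLimit (J := fun c => I.map (algebraMap A (GG I Ra t ht g c)))
    (fun c d h => by
      rw [Ideal.map_map]
      exact le_of_eq (congrArg (fun φ => I.map φ) (GTA I Ra t ht g c d h).comp_algebraMap))
    (fun c => henselian I _), ?_⟩
  refine le_iSup_of_le ⟨b, le_rfl⟩ ?_
  rw [Ideal.map_map]
  exact le_rfl

theorem exists_eq_of_of_eq {c : Ici' b} {x y : GG I Ra t ht g c}
    (h : ofG I Ra t ht g c x = ofG I Ra t ht g c y) :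
    ∃ d, ∃ hcd : c ≤ d, GT I Ra t ht g c d hcd x = GT I Ra t ht g c d hcd y := by
  obtain ⟨d, hcd, hd⟩ := ColimitPair.exists_map_eq (G := GG I Ra t ht g) (f := GT I Ra t ht g) h
  exact ⟨d, hcd, hd⟩

theorem isUnit_ofG (c : Ici' b) : IsUnit (ofG I Ra t ht g c (algebraMap _ _ (tA Ra t ht b c.1 c.2 g))) :=
  (isHensAway I _).1.map _

variable [Nonempty κ] [Algebra A (DirectLimit Ra t)]
  (halg : ∀ (a : κ) (x : A), algebraMap A (DirectLimit Ra t) x =
    DirectLimit.Ring.of Ra t a (algebraMap A (Ra a) x))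

include halg in
theorem exists_iota : ∃ ι : DirectLimit Ra t →ₐ[A] LL I Ra t ht g, ∀ (c : Ici' b) (x : Ra c.1),
    ι (DirectLimit.Ring.of Ra t c.1 x) = ofG I Ra t ht g c (algebraMap _ _ x) := by
  choose k hbk hak using fun a : κ => exists_ge_ge b a
  let m : ∀ a, Ra a →+* LL I Ra t ht g := fun a =>
    ((ofG I Ra t ht g ⟨k a, hbk a⟩).comp (algebraMap _ _)).comp (t a (k a) (hak a))
  have key : ∀ (a : κ) (c : Ici' b) (h : a ≤ c.1) (x : Ra a),
      m a x = ofG I Ra t ht g c (algebraMap _ _ (t a c.1 h x)) := by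
    intro a c h x
    obtain ⟨e, h1, h2⟩ := exists_ge_ge (⟨k a, hbk a⟩ : Ici' b) c
    show ofG I Ra t ht g _ (algebraMap _ _ (t a (k a) (hak a) x)) = _
    unfold ofG
    rw [← DirectLimit.Ring.of_f h1, ← DirectLimit.Ring.of_f h2, GT_apply, GT_apply]
    congr 2
    exact (DirectedSystem.map_map (f := fun a b h => t a b h) (hak a) h1 x).trans
      (DirectedSystem.map_map (f := fun a b h => t a b h) h h2 x).symm
  let L₀ := DirectLimit.Ring.lift Ra t (LL I Ra t ht g) m fun a a' h x => by
    rw [key a' ⟨k a', hbk a'⟩ (hak a') (t a a' h x), key a ⟨k a', hbk a'⟩ (h.trans (hak a')) x,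
      DirectedSystem.map_map (f := fun a b h => t a b h) h (hak a') x]
  refine ⟨{ L₀ with commutes' := fun x => ?_ }, fun c x => ?_⟩
  · show L₀ (algebraMap A _ x) = _
    rw [halg b x]
    show m b _ = _
    rw [key b ⟨b, le_rfl⟩ le_rfl, halgLL I Ra t ht g ⟨b, le_rfl⟩ x,
      DirectedSystem.map_self (f := fun a b h => t a b h)]
    rfl
  · show m c.1 x = _
    rw [key c.1 c le_rfl, DirectedSystem.map_self (f := fun a b h => t a b h)]

end System

section Main

variable {B : Type u} [CommRing B] [Algebra A B] {n : ℕ}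

/-- Locality of commuting with filtered colimits of henselian pairs. -/
theorem algHom_directLimit_of_cover (f : Fin n → B) (hf : Ideal.span (Set.range f) = ⊤)
    (H : Fin n → Type u) [∀ i, CommRing (H i)] [∀ i, Algebra B (H i)] [∀ i, Algebra A (H i)]
    [∀ i, IsScalarTower A B (H i)]
    (hH : ∀ i, _root_.HensSch.IsHensAway B (I.map (algebraMap A B)) (f i) (H i) (algebraMap B (H i)))
    (R : Fin n → Type u) [∀ i, CommRing (R i)] [∀ i, Algebra A (R i)] [∀ i, Algebra.FinitePresentation A (R i)]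
    [∀ i, Algebra (R i) (H i)] [∀ i, IsScalarTower A (R i) (H i)]
    (hR : ∀ i, Hens2.IsPairHenselization (R i) (I.map (algebraMap A (R i))) (H i))
    {κ : Type u} [Preorder κ] [IsDirectedOrder κ] [Nonempty κ]
    (Ra : κ → Type u) [∀ a, CommRing (Ra a)] [∀ a, Algebra A (Ra a)]
    [∀ a, HenselianRing (Ra a) (I.map (algebraMap A (Ra a)))]
    (t : ∀ a b : κ, a ≤ b → (Ra a →+* Ra b)) [DirectedSystem Ra (fun a b h => t a b h)]
    (ht : ∀ (a b : κ) (h : a ≤ b), (t a b h).comp (algebraMap A (Ra a)) = algebraMap A (Ra b))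
    [Algebra A (DirectLimit Ra t)]
    (halg : ∀ (a : κ) (x : A), algebraMap A (DirectLimit Ra t) x =
      DirectLimit.Ring.of Ra t a (algebraMap A (Ra a) x)) :
    (∀ χ : B →ₐ[A] DirectLimit Ra t, ∃ (a : κ) (φ : B →ₐ[A] Ra a),
        ∀ x : B, DirectLimit.Ring.of Ra t a (φ x) = χ x) ∧
    ∀ (a : κ) (φ ψ : B →ₐ[A] Ra a),
      (∀ x : B, DirectLimit.Ring.of Ra t a (φ x) = DirectLimit.Ring.of Ra t a (ψ x)) →
      ∃ (b : κ) (h : a ≤ b), ∀ x : B, t a b h (φ x) = t a b h (ψ x) := by
  classical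
  let T := tA Ra t ht
  have hof : ∀ {a b : κ} (h : a ≤ b) (x : Ra a),
      DirectLimit.Ring.of Ra t b (T a b h x) = DirectLimit.Ring.of Ra t a x := fun h x =>
    DirectLimit.Ring.of_f h x
  have hspanT : ∀ {a b : κ} (h : a ≤ b) (g : Fin n → Ra a), Ideal.span (Set.range g) = ⊤ →
      Ideal.span (Set.range fun i => T a b h (g i)) = ⊤ := fun h g hg => by
    have := congrArg (Ideal.map (T _ _ h)) hg
    rwa [Ideal.map_top, Ideal.map_span, ← Set.range_comp] at this
  constructor
  · intro χ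
    -- lift the cover
    choose a₀ g₀ hg₀ using fun i => ColimitPair.exists_of (χ (f i))
    obtain ⟨c, hc⟩ := (Ideal.mem_span_range_iff_exists_fun).1 (hf ▸ Submodule.mem_top : (1 : B) ∈ _)
    choose a₁ c₁ hc₁ using fun i => ColimitPair.exists_of (χ (c i))
    obtain ⟨M₀, hM₀⟩ := Finite.exists_le a₀
    obtain ⟨M₁, hM₁⟩ := Finite.exists_le a₁
    obtain ⟨a, haM₀, haM₁⟩ := exists_ge_ge M₀ M₁
    obtain ⟨b, hab, hb⟩ := ColimitPair.exists_map_eq (G := Ra) (f := t)
      (x := ∑ i, T _ a ((hM₁ i).trans haM₁) (c₁ i) * T _ a ((hM₀ i).trans haM₀) (g₀ i)) (y := (1 : Ra a)) (by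
        rw [map_sum, map_one]
        simp only [map_mul, hof, hc₁, hg₀]
        rw [← map_one χ, ← hc, map_sum]
        simp only [map_mul])
    let g : Fin n → Ra b := fun i => T _ b (((hM₀ i).trans haM₀).trans hab) (g₀ i)
    have hgof : ∀ i, DirectLimit.Ring.of Ra t b (g i) = χ (f i) := fun i => (hof _ _).trans (hg₀ i)
    have hgspan : Ideal.span (Set.range g) = ⊤ := by
      refine (Ideal.eq_top_iff_one _).2 (Ideal.mem_span_range_iff_exists_fun.2
        ⟨fun i => T _ b (((hM₁ i).trans haM₁).trans hab) (c₁ i), ?_⟩)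
      have h1 : T a b hab (∑ i, T _ a ((hM₁ i).trans haM₁) (c₁ i) * T _ a ((hM₀ i).trans haM₀) (g₀ i)) =
          T a b hab 1 := hb
      rw [map_sum, map_one] at h1
      simp only [map_mul, T, tA_tA] at h1
      exact h1
    choose ι hι using fun i => exists_iota I Ra t ht (g i) halg
    -- the maps on the basic opens
    have hstage : ∀ i, ∃ (c : Ici' b) (φ : H i →ₐ[A] GG I Ra t ht (g i) c),
        ∀ x : B, ofG I Ra t ht (g i) c (φ (algebraMap B (H i) x)) = ι i (χ x) := by
      intro i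
      obtain ⟨J, hJ, hIJ⟩ := henselian_LL I Ra t ht (g i)
      obtain ⟨χi, hχi, -⟩ := existsUnique_ext I (hH i) J hJ hIJ ((ι i).comp χ) (by
        show IsUnit (ι i (χ (f i)))
        rw [← hgof, hι i ⟨b, le_rfl⟩]
        have := isUnit_ofG I Ra t ht (g i) ⟨b, le_rfl⟩
        exact (congrArg (fun z => ofG I Ra t ht (g i) ⟨b, le_rfl⟩ (algebraMap (Ra b) _ z))
          (tA_self Ra t ht (g i))) ▸ this)
      obtain ⟨c, φ, hφ⟩ := (Hfp.algHom_directLimit I (R i) (H i) (hR i) (GG I Ra t ht (g i))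
        (GT I Ra t ht (g i)) (fun c d h => (GTA I Ra t ht (g i) c d h).comp_algebraMap)
        (halgLL I Ra t ht (g i))).1 χi
      exact ⟨c, φ, fun x => (hφ _).trans (AlgHom.congr_fun hχi x)⟩
    choose c₀ φ₀ hφ₀ using hstage
    obtain ⟨c, hc'⟩ := Finite.exists_le c₀
    let φi : ∀ i (d : Ici' b), c ≤ d → B →ₐ[A] GG I Ra t ht (g i) d := fun i d h =>
      ((GTA I Ra t ht (g i) (c₀ i) d ((hc' i).trans h)).comp (φ₀ i)).comp (IsScalarTower.toAlgHom A B (H i))
    have hφi : ∀ i d h x, ofG I Ra t ht (g i) d (φi i d h x) = ι i (χ x) := fun i d h x =>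
      (DirectLimit.Ring.of_f ((hc' i).trans h) _).trans (hφ₀ i x)
    have hφiT : ∀ i {d e : Ici' b} (h : c ≤ d) (h' : d ≤ e) x,
        GT I Ra t ht (g i) d e h' (φi i d h x) = φi i e (h.trans h') x := fun i d e h h' x =>
      DirectedSystem.map_map (f := fun c d h => GT I Ra t ht (g i) c d h) ((hc' i).trans h) h' _
    -- restrictions to the overlaps
    let g₂ : Fin n → Fin n → Ra b := fun i j => g i * g j
    choose ι₂ hι₂ using fun i j => exists_iota I Ra t ht (g₂ i j) halg
    have hul : ∀ i j (d : Ici' b),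
        IsUnit (algebraMap (Ra d.1) (GG I Ra t ht (g₂ i j) d) (AlgHom.id A _ (T b d.1 d.2 (g i)))) := by
      intro i j d
      have := (isHensAway I (C := Ra d.1) (T b d.1 d.2 (g₂ i j))).1
      simp only [g₂, map_mul] at this
      exact isUnit_of_mul_isUnit_left this
    have hur : ∀ i j (d : Ici' b),
        IsUnit (algebraMap (Ra d.1) (GG I Ra t ht (g₂ i j) d) (AlgHom.id A _ (T b d.1 d.2 (g j)))) := by
      intro i j d
      have := (isHensAway I (C := Ra d.1) (T b d.1 d.2 (g₂ i j))).1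
      simp only [g₂, map_mul] at this
      exact isUnit_of_mul_isUnit_right this
    let rl : ∀ i j (d : Ici' b), GG I Ra t ht (g i) d →ₐ[A] GG I Ra t ht (g₂ i j) d :=
      fun i j d => hmap I (AlgHom.id A _) (hul i j d)
    let rr : ∀ i j (d : Ici' b), GG I Ra t ht (g j) d →ₐ[A] GG I Ra t ht (g₂ i j) d :=
      fun i j d => hmap I (AlgHom.id A _) (hur i j d)
    have rl_T : ∀ i j {d e : Ici' b} (h : d ≤ e) x,
        GT I Ra t ht (g₂ i j) d e h (rl i j d x) = rl i j e (GT I Ra t ht (g i) d e h x) := fun i j d e h x => by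
      have h' : (GTA I Ra t ht (g₂ i j) d e h).comp (rl i j d) = (rl i j e).comp (GTA I Ra t ht (g i) d e h) :=
        hom_ext I fun y => by
          show GT I Ra t ht (g₂ i j) d e h (rl i j d _) = rl i j e (GT I Ra t ht (g i) d e h _)
          simp only [rl, hmap_algebraMap, GT_apply, AlgHom.id_apply]
      exact AlgHom.congr_fun h' x
    have rr_T : ∀ i j {d e : Ici' b} (h : d ≤ e) x,
        GT I Ra t ht (g₂ i j) d e h (rr i j d x) = rr i j e (GT I Ra t ht (g j) d e h x) := fun i j d e h x => by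
      have h' : (GTA I Ra t ht (g₂ i j) d e h).comp (rr i j d) = (rr i j e).comp (GTA I Ra t ht (g j) d e h) :=
        hom_ext I fun y => by
          show GT I Ra t ht (g₂ i j) d e h (rr i j d _) = rr i j e (GT I Ra t ht (g j) d e h _)
          simp only [rr, hmap_algebraMap, GT_apply, AlgHom.id_apply]
      exact AlgHom.congr_fun h' x
    have hι₂' : ∀ i j d h x, ofG I Ra t ht (g₂ i j) d (rl i j d (φi i d h x)) = ι₂ i j (χ x) ∧
        ofG I Ra t ht (g₂ i j) d (rr i j d (φi j d h x)) = ι₂ i j (χ x) := by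
      intro i j d h x
      obtain ⟨a', y, hy⟩ := ColimitPair.exists_of (χ x)
      obtain ⟨e₀, h1, h2⟩ := exists_ge_ge d.1 a'
      let e : Ici' b := ⟨e₀, d.2.trans h1⟩
      have hde : d ≤ e := h1
      have hye : DirectLimit.Ring.of Ra t e.1 (T a' e.1 h2 y) = χ x := (hof h2 y).trans hy
      have hval : ∀ l, ∃ e', ∃ he : e ≤ e', φi l e' (h.trans (hde.trans he)) x =
          algebraMap _ _ (T e.1 e'.1 he (T a' e.1 h2 y)) := by
        intro l
        have heq : ofG I Ra t ht (g l) e (φi l e (h.trans hde) x) =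
            ofG I Ra t ht (g l) e (algebraMap _ _ (T a' e.1 h2 y)) := by
          rw [hφi l e (h.trans hde), ← hye, hι l e]
        obtain ⟨e', he, he'⟩ := exists_eq_of_of_eq I Ra t ht (g l) heq
        rw [hφiT l (h.trans hde) he, GT_apply] at he'
        exact ⟨e', he, he'⟩
      constructor
      · obtain ⟨e', he, he'⟩ := hval i
        rw [← hye, hι₂ i j e, ← DirectLimit.Ring.of_f (hde.trans he), rl_T, hφiT i h (hde.trans he), he']
        simp only [rl, hmap_algebraMap, AlgHom.id_apply]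
        rw [← GT_apply I Ra t ht (g₂ i j) he]
        exact DirectLimit.Ring.of_f he _
      · obtain ⟨e', he, he'⟩ := hval j
        rw [← hye, hι₂ i j e, ← DirectLimit.Ring.of_f (hde.trans he), rr_T, hφiT j h (hde.trans he), he']
        simp only [rr, hmap_algebraMap, AlgHom.id_apply]
        rw [← GT_apply I Ra t ht (g₂ i j) he]
        exact DirectLimit.Ring.of_f he _
    -- agreement on the overlaps at a finite stage
    have hagree : ∀ ij : Fin n × Fin n, ∃ d, ∃ h : c ≤ d, ∀ x,
        rl ij.1 ij.2 d (φi ij.1 d h x) = rr ij.1 ij.2 d (φi ij.2 d h x) := by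
      rintro ⟨i, j⟩
      obtain ⟨d, hd, hd'⟩ := exists_eq_of_of_eq I Ra t ht (g₂ i j) (c := c)
        (x := rr i j c (φi j c le_rfl (f i))) (y := algebraMap _ _ (T b c.1 c.2 (g i))) (by
          rw [(hι₂' i j c le_rfl (f i)).2, ← hgof, ← hof c.2 (g i), hι₂ i j c])
      rw [rr_T, hφiT j le_rfl hd, GT_apply] at hd'
      have hu1 : IsUnit (rl i j d (φi i d hd (f i))) :=
        ((hH i).1.map ((GTA I Ra t ht (g i) (c₀ i) d ((hc' i).trans hd)).comp (φ₀ i))).map (rl i j d)
      have hu2 : IsUnit (rr i j d (φi j d hd (f i))) := by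
        rw [hd', tA_tA]
        exact hul i j d
      obtain ⟨P₁, hP₁, -⟩ := existsUnique_ext I (hH i) _ (henselian I _) le_rfl ((rl i j d).comp (φi i d hd)) hu1
      obtain ⟨P₂, hP₂, -⟩ := existsUnique_ext I (hH i) _ (henselian I _) le_rfl ((rr i j d).comp (φi j d hd)) hu2
      obtain ⟨J, hJ, hIJ⟩ := henselian_LL I Ra t ht (g₂ i j)
      let O : GG I Ra t ht (g₂ i j) d →ₐ[A] LL I Ra t ht (g₂ i j) :=
        ⟨ofG I Ra t ht (g₂ i j) d, fun x => (halgLL I Ra t ht (g₂ i j) d x).symm⟩
      have hO : O.comp P₁ = O.comp P₂ := by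
        refine (existsUnique_ext I (hH i) J hJ hIJ
          ((O.comp P₁).comp (IsScalarTower.toAlgHom A B (H i))) ?_).unique rfl ?_
        · exact (hH i).1.map (O.comp P₁)
        · rw [AlgHom.comp_assoc, AlgHom.comp_assoc, hP₁, hP₂]
          exact AlgHom.ext fun x => (hι₂' i j d hd x).2.trans (hι₂' i j d hd x).1.symm
      obtain ⟨e, hde, he⟩ := (Hfp.algHom_directLimit I (R i) (H i) (hR i) (GG I Ra t ht (g₂ i j))
        (GT I Ra t ht (g₂ i j)) (fun c d h => (GTA I Ra t ht (g₂ i j) c d h).comp_algebraMap)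
        (halgLL I Ra t ht (g₂ i j))).2 d P₁ P₂ fun x => AlgHom.congr_fun hO x
      refine ⟨e, hd.trans hde, fun x => ?_⟩
      have h := he (algebraMap B (H i) x)
      rw [show P₁ (algebraMap B (H i) x) = _ from AlgHom.congr_fun hP₁ x,
        show P₂ (algebraMap B (H i) x) = _ from AlgHom.congr_fun hP₂ x] at h
      simp only [AlgHom.comp_apply] at h
      rw [rl_T, rr_T, hφiT i hd hde, hφiT j hd hde] at h
      exact h
    choose d₀ hcd₀ hd₀ using hagree
    obtain ⟨E₀, hE₀⟩ := Finite.exists_le d₀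
    obtain ⟨e, hce, hEe⟩ := exists_ge_ge c E₀
    have hge : Ideal.span (Set.range fun i => T b e.1 e.2 (g i)) = ⊤ := hspanT e.2 g hgspan
    have hglue : ∀ x, ∃ y : Ra e.1, ∀ i, algebraMap _ (GG I Ra t ht (g i) e) y = φi i e hce x := by
      intro x
      refine glue I hge (fun i j => T b e.1 e.2 (g₂ i j)) (fun i j => map_mul _ _ _)
        (fun i j => rl i j e) (fun i j => rr i j e)
        (fun i j y => hmap_algebraMap I _ (hul i j e) y) (fun i j y => hmap_algebraMap I _ (hur i j e) y)
        (fun i => φi i e hce x) fun i j => ?_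
      have h := hd₀ (i, j) x
      have hle : d₀ (i, j) ≤ e := (hE₀ _).trans hEe
      have h' := congrArg (GT I Ra t ht (g₂ i j) (d₀ (i, j)) e hle) h
      rwa [rl_T, rr_T, hφiT i (hcd₀ (i, j)) hle, hφiT j (hcd₀ (i, j)) hle] at h'
    choose φ hφ using hglue
    have hinj : ∀ y y' : Ra e.1, (∀ i, algebraMap _ (GG I Ra t ht (g i) e) y = algebraMap _ _ y') → y = y' :=
      fun y y' h => sub_eq_zero.1 (eq_zero_of_cover I hge fun i => by rw [map_sub, sub_eq_zero]; exact h i)
    let φA : B →ₐ[A] Ra e.1 :=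
      { toFun := φ
        map_one' := hinj _ _ fun i => by rw [hφ, map_one, map_one]
        map_mul' := fun x y => hinj _ _ fun i => by rw [hφ, map_mul, map_mul, hφ, hφ]
        map_zero' := hinj _ _ fun i => by rw [hφ, map_zero, map_zero]
        map_add' := fun x y => hinj _ _ fun i => by rw [hφ, map_add, map_add, hφ, hφ]
        commutes' := fun x => hinj _ _ fun i => by
          rw [hφ, AlgHom.commutes, ← IsScalarTower.algebraMap_apply] }
    refine ⟨e.1, φA, fun x => ?_⟩
    obtain ⟨a', y, hy⟩ := ColimitPair.exists_of (χ x)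
    obtain ⟨k₀, h1, h2⟩ := exists_ge_ge e.1 a'
    let k : Ici' b := ⟨k₀, e.2.trans h1⟩
    have hek : e ≤ k := h1
    have hloc : ∀ i, ∃ k', ∃ hk : k ≤ k',
        algebraMap _ (GG I Ra t ht (g i) k') (T k.1 k'.1 hk (T e.1 k.1 hek (φ x))) =
          algebraMap _ _ (T k.1 k'.1 hk (T a' k.1 h2 y)) := by
      intro i
      obtain ⟨k', hk, hk'⟩ := exists_eq_of_of_eq I Ra t ht (g i) (c := k)
        (x := algebraMap _ _ (T e.1 k.1 hek (φ x))) (y := algebraMap _ _ (T a' k.1 h2 y)) (by
          rw [← GT_apply I Ra t ht (g i) hek, hφ, DirectLimit.Ring.of_f hek, hφi i e hce, ← hι i k,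
            hof h2 y, hy])
      rw [GT_apply, GT_apply] at hk'
      exact ⟨k', hk, hk'⟩
    choose k' hk' hk'' using hloc
    obtain ⟨M, hM⟩ := Finite.exists_le k'
    obtain ⟨m, hkm, hMm⟩ := exists_ge_ge k M
    have hfinal : T k.1 m.1 hkm (T e.1 k.1 hek (φ x)) = T k.1 m.1 hkm (T a' k.1 h2 y) := by
      refine sub_eq_zero.1 (eq_zero_of_cover I (hspanT m.2 g hgspan) fun i => ?_)
      have hle : k' i ≤ m := (hM i).trans hMm
      have h' := congrArg (GT I Ra t ht (g i) (k' i) m hle) (hk'' i)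
      simp only [GT_apply, T, tA_tA] at h'
      rw [map_sub, sub_eq_zero]
      simpa only [T, tA_tA] using h'
    show DirectLimit.Ring.of Ra t e.1 (φ x) = _
    rw [← hy, ← hof hek (φ x), ← hof h2 y, ← hof hkm (T e.1 k.1 hek (φ x)), ← hof hkm (T a' k.1 h2 y), hfinal]
  · intro a φ ψ hφψ
    obtain ⟨cst, hcst⟩ : ∃ b, ∃ h : a ≤ b, ∀ i, T a b h (φ (f i)) = T a b h (ψ (f i)) := by
      choose b hab hb using fun i => ColimitPair.exists_map_eq (G := Ra) (f := t) (hφψ (f i))
      obtain ⟨M, hM⟩ := Finite.exists_le b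
      obtain ⟨b', hab', hMb'⟩ := exists_ge_ge a M
      refine ⟨b', hab', fun i => ?_⟩
      have h' := congrArg (T (b i) b' ((hM i).trans hMb')) (show T a (b i) (hab i) (φ (f i)) = _ from hb i)
      simpa only [T, tA_tA] using h'.trans (congrArg _ (show t a (b i) (hab i) (ψ (f i)) = T a (b i) (hab i) (ψ (f i)) from rfl))
    obtain ⟨hac, hfc⟩ := hcst
    let g : Fin n → Ra cst := fun i => T a cst hac (φ (f i))
    have hg : Ideal.span (Set.range g) = ⊤ := by
      have := congrArg (Ideal.map ((T a cst hac).comp φ)) hf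
      rwa [Ideal.map_top, Ideal.map_span, ← Set.range_comp] at this
    have hloc : ∀ i, ∃ d : Ici' cst, ∀ x,
        algebraMap _ (GG I Ra t ht (g i) d) (T a d.1 (hac.trans d.2) (φ x)) =
          algebraMap _ _ (T a d.1 (hac.trans d.2) (ψ x)) := by
      intro i
      let c₀ : Ici' cst := ⟨cst, le_rfl⟩
      let P : (B →ₐ[A] Ra a) → (B →ₐ[A] GG I Ra t ht (g i) c₀) := fun χ =>
        (IsScalarTower.toAlgHom A (Ra cst) (GG I Ra t ht (g i) c₀)).comp ((T a cst hac).comp χ)
      have hgu : IsUnit (algebraMap (Ra cst) (GG I Ra t ht (g i) c₀) (g i)) := by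
        have := (isHensAway I (C := Ra cst) (T cst cst le_rfl (g i))).1
        exact (congrArg (fun z => algebraMap (Ra cst) (GG I Ra t ht (g i) c₀) z)
          (tA_self Ra t ht (g i))) ▸ this
      obtain ⟨P₁, hP₁, -⟩ := existsUnique_ext I (hH i) _ (henselian I _) le_rfl (P φ) hgu
      obtain ⟨P₂, hP₂, -⟩ := existsUnique_ext I (hH i) _ (henselian I _) le_rfl (P ψ) (by
        show IsUnit (algebraMap _ _ (T a cst hac (ψ (f i))))
        rw [← hfc i]; exact hgu)
      obtain ⟨J, hJ, hIJ⟩ := henselian_LL I Ra t ht (g i)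
      let O : GG I Ra t ht (g i) c₀ →ₐ[A] LL I Ra t ht (g i) :=
        ⟨ofG I Ra t ht (g i) c₀, fun x => (halgLL I Ra t ht (g i) c₀ x).symm⟩
      obtain ⟨ι, hι⟩ := exists_iota I Ra t ht (g i) halg
      have hO : O.comp P₁ = O.comp P₂ := by
        refine (existsUnique_ext I (hH i) J hJ hIJ ((O.comp P₁).comp (IsScalarTower.toAlgHom A B (H i))) ?_).unique
          rfl ?_
        · exact (hH i).1.map (O.comp P₁)
        · rw [AlgHom.comp_assoc, AlgHom.comp_assoc, hP₁, hP₂]
          refine AlgHom.ext fun x => ?_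
          show ofG I Ra t ht (g i) c₀ (algebraMap _ _ (T a cst hac (ψ x))) =
            ofG I Ra t ht (g i) c₀ (algebraMap _ _ (T a cst hac (φ x)))
          rw [← hι c₀, ← hι c₀, hof hac (ψ x), hof hac (φ x), hφψ x]
      obtain ⟨d, hd, he⟩ := (Hfp.algHom_directLimit I (R i) (H i) (hR i) (GG I Ra t ht (g i))
        (GT I Ra t ht (g i)) (fun c d h => (GTA I Ra t ht (g i) c d h).comp_algebraMap)
        (halgLL I Ra t ht (g i))).2 c₀ P₁ P₂ fun x => AlgHom.congr_fun hO x
      refine ⟨d, fun x => ?_⟩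
      have h := he (algebraMap B (H i) x)
      rw [show P₁ (algebraMap B (H i) x) = _ from AlgHom.congr_fun hP₁ x,
        show P₂ (algebraMap B (H i) x) = _ from AlgHom.congr_fun hP₂ x] at h
      have h' := (GT_apply I Ra t ht (g i) hd (T a cst hac (φ x))).symm.trans
        (h.trans (GT_apply I Ra t ht (g i) hd (T a cst hac (ψ x))))
      simp only [c₀, T, tA_tA] at h'
      exact h'
    choose d hd using hloc
    obtain ⟨M, hM⟩ := Finite.exists_le d
    obtain ⟨m, hcm, hMm⟩ := exists_ge_ge (⟨cst, le_rfl⟩ : Ici' cst) M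
    refine ⟨m.1, hac.trans m.2, fun x => sub_eq_zero.1 (eq_zero_of_cover I (hspanT m.2 g hg) fun i => ?_)⟩
    have hle : d i ≤ m := (hM i).trans hMm
    have h' := congrArg (GT I Ra t ht (g i) (d i) m hle) (hd i x)
    simp only [GT_apply, T, tA_tA] at h'
    rw [map_sub, sub_eq_zero]
    exact h'

end Main

end Groth.Agent.Lib.Henselian.HfpCover45
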