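import Mathlib.RingTheory.Etale.Basic
import Mathlib.RingTheory.Idempotents
import Mathlib.RingTheory.Finiteness.Projective
import Mathlib.RingTheory.TensorProduct.Basic
import Mathlib.RingTheory.FinitePresentation

/-!
# The algebra classifying idempotents of a finite projective algebra

* `exists_etale_classifying_idempotents`
-/

universe u

open TensorProduct MvPolynomial

namespace Groth.Agent.Lib.Henselian.IdempotentScheme

variable (A B : Type u) [CommRing A] [CommRing B] [Algebra A B]

/-- Idempotents of a finite projective algebra are classified by an étale algebra. -/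
theorem exists_etale_classifying_idempotents [Module.Finite A B] [Module.Projective A B] :
    ∃ (E : Type u) (_ : CommRing E) (_ : Algebra A E) (e₀ : E ⊗[A] B),
      Algebra.Etale A E ∧ IsIdempotentElem e₀ ∧
      ∀ (C : Type u) [CommRing C] [Algebra A C] (e : C ⊗[A] B), IsIdempotentElem e →
        ∃! φ : E →ₐ[A] C, Algebra.TensorProduct.map φ (AlgHom.id A B) e₀ = e := by
  classical
  obtain ⟨n, π, s, hπ, -, hs⟩ := Module.Finite.exists_comp_eq_id_of_projective A B
  have hs' : ∀ b, π (s b) = b := fun b => LinearMap.congr_fun hs b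
  let b : Fin n → B := fun i => π (Pi.single i 1)
  let c : Fin n → B →ₗ[A] A := fun i => (LinearMap.proj i).comp s
  have hb : ∀ x, ∑ i, c i x • b i = x := fun x => by
    conv_rhs => rw [← hs' x, pi_eq_sum_univ' (s x), map_sum]
    simp only [map_smul]
    rfl
  -- coordinates on `C ⊗ B`
  let co : ∀ (C : Type u) [CommRing C] [Algebra A C], Fin n → C ⊗[A] B →ₗ[A] C :=
    fun C _ _ i => (TensorProduct.rid A C).toLinearMap ∘ₗ (c i).lTensor C
  have hco : ∀ (C : Type u) [CommRing C] [Algebra A C] i (x : C) y,
      co C i (x ⊗ₜ y) = c i y • x := fun C _ _ i x y => by simp [co]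
  have hsum : ∀ (C : Type u) [CommRing C] [Algebra A C] (z : C ⊗[A] B),
      ∑ i, co C i z ⊗ₜ[A] b i = z := fun C _ _ z => by
    induction z using TensorProduct.induction_on with
    | zero => simp
    | tmul x y =>
      simp only [hco, TensorProduct.smul_tmul]
      rw [← TensorProduct.tmul_sum, hb]
    | add x y hx hy => simp only [map_add, TensorProduct.add_tmul, Finset.sum_add_distrib, hx, hy]
  have hconat : ∀ (C C' : Type u) [CommRing C] [Algebra A C] [CommRing C'] [Algebra A C']
      (φ : C →ₐ[A] C') i z, co C' i (Algebra.TensorProduct.map φ (AlgHom.id A B) z) = φ (co C i z) :=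
    fun C C' _ _ _ _ φ i z => by
      induction z using TensorProduct.induction_on with
      | zero => simp
      | tmul x y => simp [hco]
      | add x y hx hy => simp only [map_add, hx, hy]
  -- the equations
  let R := MvPolynomial (Fin n) A
  let g : R ⊗[A] B := ∑ i, (X i : R) ⊗ₜ b i
  let K : Ideal R := Ideal.span
    (Set.range (fun i => co R i g - X i) ∪ Set.range fun i => co R i (g * g - g))
  let E := R ⧸ K
  have hfp : Algebra.FinitePresentation A E := Algebra.FinitePresentation.quotient
    (Submodule.fg_span ((Set.finite_range _).union (Set.finite_range _)))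
  let q : R →ₐ[A] E := Ideal.Quotient.mkₐ A K
  let e₀ : E ⊗[A] B := Algebra.TensorProduct.map q (AlgHom.id A B) g
  have he₀ : IsIdempotentElem e₀ := by
    rw [IsIdempotentElem, ← sub_eq_zero, ← hsum E (e₀ * e₀ - e₀)]
    refine Finset.sum_eq_zero fun i _ => ?_
    rw [← map_mul, ← map_sub, hconat, show q _ = 0 from Ideal.Quotient.eq_zero_iff_mem.mpr
      (Ideal.subset_span (Or.inr ⟨i, rfl⟩)), TensorProduct.zero_tmul]
  have huniv : ∀ (C : Type u) [CommRing C] [Algebra A C] (e : C ⊗[A] B), IsIdempotentElem e →
      ∃! φ : E →ₐ[A] C, Algebra.TensorProduct.map φ (AlgHom.id A B) e₀ = e := by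
    intro C _ _ e he
    let ψ : R →ₐ[A] C := aeval fun i => co C i e
    have hψg : Algebra.TensorProduct.map ψ (AlgHom.id A B) g = e := by
      simp only [g, map_sum]
      refine (Finset.sum_congr rfl fun i _ => ?_).trans (hsum C e)
      rw [Algebra.TensorProduct.map_tmul, show ψ (X i) = co C i e from aeval_X _ i]
      rfl
    have hK : ∀ a ∈ K, ψ a = 0 := by
      intro a ha
      refine (Ideal.span_le.mpr ?_ : K ≤ RingHom.ker ψ.toRingHom) ha
      rintro _ (⟨i, rfl⟩ | ⟨i, rfl⟩)
      · show ψ (co R i g - X i) = 0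
        rw [map_sub, ← hconat, hψg, aeval_X, sub_self]
      · show ψ (co R i (g * g - g)) = 0
        rw [← hconat, map_sub, map_mul, hψg, he.eq, sub_self, map_zero]
    refine ⟨Ideal.Quotient.liftₐ K ψ hK, ?_, fun φ' hφ' => ?_⟩
    · show Algebra.TensorProduct.map (Ideal.Quotient.liftₐ K ψ hK) (AlgHom.id A B)
        (Algebra.TensorProduct.map q (AlgHom.id A B) g) = e
      rw [← AlgHom.comp_apply, ← Algebra.TensorProduct.map_comp, AlgHom.id_comp,
        show (Ideal.Quotient.liftₐ K ψ hK).comp q = ψ from AlgHom.ext fun x => rfl, hψg]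
    · refine Ideal.Quotient.algHom_ext _ (MvPolynomial.algHom_ext fun i => ?_)
      show φ' (q (X i)) = ψ (X i)
      have h : q (co R i g) = q (X i) :=
        Ideal.Quotient.eq.mpr (Ideal.subset_span (Or.inl ⟨i, rfl⟩))
      rw [← h, ← hconat, ← hconat]
      show co C i (Algebra.TensorProduct.map φ' (AlgHom.id A B) e₀) = ψ (X i)
      rw [hφ', show ψ (X i) = co C i e from aeval_X _ i]
  have hfe : Algebra.FormallyEtale A E := by
    refine Algebra.FormallyEtale.iff_comp_bijective.mpr fun C _ _ J hJ => ?_
    let π' := Ideal.Quotient.mkₐ A J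
    let Pm := Algebra.TensorProduct.map π' (AlgHom.id A B)
    have hnil : ∀ z, Pm z = 0 → IsNilpotent z := by
      intro z hz
      have hz' : ∀ i, co C i z ∈ J := fun i => by
        rw [← Ideal.Quotient.eq_zero_iff_mem]
        show π' (co C i z) = 0
        rw [← hconat, show Algebra.TensorProduct.map π' (AlgHom.id A B) z = 0 from hz, map_zero]
      refine ⟨2, ?_⟩
      rw [sq, ← hsum C z, Finset.sum_mul_sum]
      refine Finset.sum_eq_zero fun i _ => Finset.sum_eq_zero fun j _ => ?_
      have h0 := Ideal.mul_mem_mul (hz' i) (hz' j)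
      rw [← sq, hJ, Ideal.mem_bot] at h0
      rw [Algebra.TensorProduct.tmul_mul_tmul, h0, TensorProduct.zero_tmul]
    have hcomp : ∀ (χ : E →ₐ[A] C) z, Pm (Algebra.TensorProduct.map χ (AlgHom.id A B) z) =
        Algebra.TensorProduct.map (π'.comp χ) (AlgHom.id A B) z := fun χ z => by
      induction z using TensorProduct.induction_on with
      | zero => simp only [map_zero]
      | tmul x y => rfl
      | add x y hx hy => simp only [map_add, hx, hy]
    constructor
    · intro φ ψ hφψ
      have h1 : ∀ χ : E →ₐ[A] C, IsIdempotentElem (Algebra.TensorProduct.map χ (AlgHom.id A B) e₀) :=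
        fun χ => he₀.map _
      refine (huniv C _ (h1 ψ)).unique ?_ rfl
      refine eq_of_isNilpotent_sub_of_isIdempotentElem (h1 φ) (h1 ψ) (hnil _ ?_)
      rw [map_sub, sub_eq_zero, hcomp, hcomp]
      exact congrArg (fun χ => Algebra.TensorProduct.map χ (AlgHom.id A B) e₀) hφψ
    · intro σ
      obtain ⟨e, he, hPe⟩ := exists_isIdempotentElem_eq_of_ker_isNilpotent Pm.toRingHom
        (fun z hz => hnil z hz) _ ((Algebra.TensorProduct.map_surjective π' (AlgHom.id A B)
          (Ideal.Quotient.mkₐ_surjective A J) Function.surjective_id) _)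
        (he₀.map (Algebra.TensorProduct.map σ (AlgHom.id A B)))
      obtain ⟨τ, hτ, -⟩ := huniv C e he
      refine ⟨τ, (huniv (C ⧸ J) _ (he₀.map (Algebra.TensorProduct.map σ (AlgHom.id A B)))).unique
        ?_ rfl⟩
      show Algebra.TensorProduct.map (π'.comp τ) (AlgHom.id A B) e₀ = _
      rw [← hcomp, hτ]
      exact hPe
  exact ⟨E, inferInstance, inferInstance, e₀, ⟨hfe, hfp⟩, he₀, huniv⟩

end Groth.Agent.Lib.Henselian.IdempotentScheme
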