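import Groth.Agent.Lib.Henselian.Pointed
import Mathlib.FieldTheory.Separable
import Mathlib.RingTheory.Etale.Basic

/-!
# `Lim A Ω` is formally étale; deformations along nilpotent thickenings
-/

set_option autoImplicit false
set_option linter.style.haveILetI false

universe u

open TensorProduct
open Groth.Agent.Lib.Henselian.Basic Groth.Agent.Lib.Henselian.Pointed

namespace Groth.Agent.Lib.Henselian.LimDeform

variable {A Ω : Type u} [CommRing A] [CommRing Ω] [Algebra A Ω]

/-- The colimit of pointed étale algebras is formally étale. -/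
instance formallyEtale : Algebra.FormallyEtale A (Lim A Ω) := by
  refine Algebra.FormallyEtale.iff_comp_bijective.mpr fun C _ _ J hJ => ⟨fun g g' h => ?_, fun f => ?_⟩
  · refine AlgHom.ext fun x => ?_
    obtain ⟨i, y, rfl⟩ := Lim.exists_of x
    have := (Algebra.FormallyEtale.comp_bijective A i.Loc J hJ).1
      (a₁ := g.comp (Lim.of i)) (a₂ := g'.comp (Lim.of i)) (congrArg (fun φ => AlgHom.comp φ (Lim.of i)) h)
    exact AlgHom.congr_fun this y
  · choose g hg using fun i : Pt A Ω => (Algebra.FormallyEtale.comp_bijective A i.Loc J hJ).2 (f.comp (Lim.of i))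
    have hc : ∀ i j (h : i ≤ j) (x : i.Loc), g j (Pt.trans h x) = g i x := fun i j h x => by
      refine AlgHom.congr_fun ((Algebra.FormallyEtale.comp_bijective A i.Loc J hJ).1
        (a₁ := (g j).comp (Pt.trans h)) (a₂ := g i) (AlgHom.ext fun z => ?_)) x
      exact (AlgHom.congr_fun (hg j) (Pt.trans h z)).trans
        ((congrArg f (Lim.of_trans h z)).trans (AlgHom.congr_fun (hg i) z).symm)
    refine ⟨DirectLimit.Algebra.lift (fun i : Pt A Ω => i.Loc) (fun _ _ h => Pt.trans h) C g hc,
      AlgHom.ext fun x => ?_⟩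
    obtain ⟨i, y, rfl⟩ := Lim.exists_of x
    exact AlgHom.congr_fun (hg i) y

/-- Maps out of the colimit into a henselian pair are determined modulo the ideal. -/
theorem lift_unique {C : Type u} [CommRing C] [Algebra A C] (J : Ideal C) [HenselianRing C J]
    (g g' : Lim A Ω →ₐ[A] C) (h : ∀ x, Ideal.Quotient.mk J (g x) = Ideal.Quotient.mk J (g' x)) : g = g' := by
  haveI := isLocalHom_of_le_jacobson_bot J HenselianRing.jac
  refine AlgHom.ext fun x => ?_
  obtain ⟨i, y, rfl⟩ := Lim.exists_of x
  exact AlgHom.congr_fun (Pt.locMap_unique (Ideal.Quotient.mk J) (g.comp (Lim.of i)) (g'.comp (Lim.of i))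
    fun z => h _) y

/-- The point is surjective when `Ω` is separable algebraic over a residue field of `A`. -/
theorem α_surjective (A : Type u) [CommRing A] (k K : Type u) [Field k] [Field K] [Algebra A k] [Algebra k K]
    [Algebra A K] [IsScalarTower A k K] [Algebra.IsSeparable k K]
    (hk : Function.Surjective (algebraMap A k)) : Function.Surjective (Lim.α A K) := by
  intro θ
  have hint : IsIntegral k θ := (Algebra.IsSeparable.isSeparable k θ).isIntegral
  set p := minpoly k θ
  obtain ⟨f, hf, -, hfm⟩ := Polynomial.lifts_and_natDegree_eq_and_monic (f := algebraMap A k) (p := p)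
    ((Polynomial.mem_lifts _).mpr (Polynomial.map_surjective _ hk p)) (minpoly.monic hint)
  let P : StandardEtalePair A := ⟨f, hfm, Polynomial.derivative f, ⟨1, 0, 1, by simp⟩⟩
  have hev : ∀ q : Polynomial A,
      Polynomial.aeval θ q = Polynomial.aeval θ (q.map (algebraMap A k)) := fun q => by
    rw [Polynomial.aeval_map_algebraMap]
  have hP : P.HasMap θ := by
    refine ⟨?_, isUnit_iff_ne_zero.mpr ?_⟩
    · rw [hev, show P.f.map (algebraMap A k) = p from hf, minpoly.aeval]
    · rw [hev, ← Polynomial.derivative_map, hf]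
      exact (Algebra.IsSeparable.isSeparable k θ).aeval_derivative_ne_zero (minpoly.aeval _ _)
  obtain ⟨φ, hφ, -⟩ := Lim.existsUnique_map P.Ring (P.lift θ hP)
  exact ⟨φ P.X, (AlgHom.congr_fun hφ P.X).trans (StandardEtalePair.lift_X _ _ hP)⟩

/-- The colimit over a quotient `B` of `E` is the reduction of the colimit over `E`. -/
theorem exists_deformation (E B Ω : Type u) [CommRing E] [CommRing B] [CommRing Ω] [Algebra E B]
    [Algebra B Ω] [Algebra E Ω] [IsScalarTower E B Ω] (hs : Function.Surjective (algebraMap E B))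
    (hE : Function.Surjective (Lim.α E Ω)) (hB : Function.Surjective (Lim.α B Ω)) :
    ∃ π : Lim E Ω →+* Lim B Ω, Function.Surjective π ∧
      (∀ x, π (algebraMap E _ x) = algebraMap B _ (algebraMap E B x)) ∧
      RingHom.ker π = (RingHom.ker (algebraMap E B)).map (algebraMap E (Lim E Ω)) := by
  set I := (RingHom.ker (algebraMap E B)).map (algebraMap E (Lim E Ω)) with hI
  letI : Algebra E (Lim B Ω) := ((algebraMap B (Lim B Ω)).comp (algebraMap E B)).toAlgebra
  haveI : IsScalarTower E B (Lim B Ω) := IsScalarTower.of_algebraMap_eq fun _ => rfl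
  let αE := (Lim.α E Ω : Lim E Ω →+* Ω)
  let αB := (Lim.α B Ω : Lim B Ω →+* Ω)
  let aB : Lim B Ω →ₐ[E] Ω := (Lim.α B Ω).restrictScalars E
  let JB := RingHom.ker αB
  haveI : HenselianRing (Lim B Ω) JB := Lim.henselianRing_ker
  let θB : Ω →ₐ[E] Lim B Ω ⧸ JB :=
    (Ideal.quotientKerAlgEquivOfSurjective (f := aB) hB).symm.toAlgHom
  obtain ⟨g, hg, -⟩ := Lim.existsUnique_lift (A := E) (Ω := Ω) JB θB
  have hαg : ∀ x, αB (g x) = αE x := fun x => by
    have h1 : Ideal.Quotient.mk JB (g x) = θB (αE x) := AlgHom.congr_fun hg x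
    have h2 := congrArg (Ideal.quotientKerAlgEquivOfSurjective (f := aB) hB) h1
    rw [show θB (αE x) = (Ideal.quotientKerAlgEquivOfSurjective (f := aB) hB).symm (αE x) from rfl,
      AlgEquiv.apply_symm_apply] at h2
    exact h2
  have hIle : I ≤ RingHom.ker αE := Ideal.map_le_iff_le_comap.2 fun a ha => by
    rw [Ideal.mem_comap, RingHom.mem_ker]
    change Lim.α E Ω (algebraMap E _ a) = 0
    rw [AlgHom.commutes, IsScalarTower.algebraMap_apply E B Ω, RingHom.mem_ker.1 ha, map_zero]
  have hgI : I ≤ RingHom.ker (g : Lim E Ω →+* Lim B Ω) := Ideal.map_le_iff_le_comap.2 fun a ha => by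
    rw [Ideal.mem_comap, RingHom.mem_ker]
    change g (algebraMap E _ a) = 0
    rw [AlgHom.commutes, IsScalarTower.algebraMap_apply E B (Lim B Ω), RingHom.mem_ker.1 ha, map_zero]
  let C := Lim E Ω ⧸ I
  haveI : HenselianRing (Lim E Ω) (RingHom.ker αE) := Lim.henselianRing_ker
  let JC : Ideal C := (RingHom.ker αE).map (Ideal.Quotient.mk I)
  haveI : HenselianRing C JC := henselianRing_quotient hIle
  let s : E →+* C := algebraMap E C
  have hs0 : ∀ a ∈ RingHom.ker (algebraMap E B), s a = 0 := fun a ha =>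
    (Ideal.Quotient.eq_zero_iff_mem.2 (Ideal.mem_map_of_mem _ ha) : Ideal.Quotient.mk I (algebraMap E _ a) = 0)
  letI : Algebra B C := ((Ideal.Quotient.lift (RingHom.ker (algebraMap E B)) s hs0).comp
      (RingHom.quotientKerEquivOfSurjective hs).symm.toRingHom).toAlgebra
  haveI : IsScalarTower E B C := IsScalarTower.of_algebraMap_eq fun x => by
    change s x = Ideal.Quotient.lift _ s hs0 ((RingHom.quotientKerEquivOfSurjective hs).symm (algebraMap E B x))
    rw [show (RingHom.quotientKerEquivOfSurjective hs).symm (algebraMap E B x) =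
      Ideal.Quotient.mk _ x from (RingEquiv.symm_apply_eq _).2 rfl, Ideal.Quotient.lift_mk]
  let a' : C →+* Ω := Ideal.Quotient.lift I αE fun x hx => hIle hx
  have ha' : Function.Surjective a' := fun w => by
    obtain ⟨x, rfl⟩ := hE w
    exact ⟨Ideal.Quotient.mk I x, rfl⟩
  let a'' : C →ₐ[B] Ω :=
    ⟨a', fun b => by
      obtain ⟨x, rfl⟩ := hs b
      change a' (algebraMap B C (algebraMap E B x)) = _
      rw [← IsScalarTower.algebraMap_apply E B C, ← IsScalarTower.algebraMap_apply E B Ω]
      exact (Lim.α E Ω).commutes x⟩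
  have hker : RingHom.ker (a'' : C →+* Ω) = JC := by
    refine le_antisymm (fun x hx => ?_) (Ideal.map_le_iff_le_comap.2 fun x hx => hx)
    obtain ⟨x, rfl⟩ := Ideal.Quotient.mk_surjective x
    exact Ideal.mem_map_of_mem _ hx
  let eC := (Ideal.quotientKerAlgEquivOfSurjective (f := a'') ha').symm.trans
    (Ideal.quotientEquivAlgOfEq B hker)
  obtain ⟨ρ, hρ, -⟩ := Lim.existsUnique_lift (A := B) (Ω := Ω) JC eC.toAlgHom
  have hαρ : ∀ z, a' (ρ z) = αB z := fun z => by
    have h1 : Ideal.Quotient.mk JC (ρ z) = eC (αB z) := AlgHom.congr_fun hρ z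
    obtain ⟨w, hw⟩ := ha' (αB z)
    have h2 : eC (αB z) = Ideal.Quotient.mk JC w := by
      rw [← hw]
      change Ideal.quotientEquivAlgOfEq B hker ((Ideal.quotientKerAlgEquivOfSurjective (f := a'') ha').symm (a' w)) = _
      rw [show (Ideal.quotientKerAlgEquivOfSurjective (f := a'') ha').symm (a' w) = Ideal.Quotient.mk _ w from
        (AlgEquiv.symm_apply_eq _).2 rfl]
      rfl
    rw [h2, Ideal.Quotient.eq, ← hker, RingHom.mem_ker, map_sub, sub_eq_zero] at h1
    exact h1.trans hw
  let gbar : C →ₐ[E] Lim B Ω := Ideal.Quotient.liftₐ I g fun x hx => hgI hx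
  let gbar' : C →ₐ[B] Lim B Ω := ⟨gbar.toRingHom, fun b => by
    obtain ⟨x, rfl⟩ := hs b
    change gbar (algebraMap B C (algebraMap E B x)) = _
    rw [← IsScalarTower.algebraMap_apply E B C, AlgHom.commutes]
    rfl⟩
  have hright : gbar'.comp ρ = AlgHom.id B _ := lift_unique JB _ _ fun z => by
    obtain ⟨x, hx⟩ := Ideal.Quotient.mk_surjective (ρ z)
    rw [Ideal.Quotient.eq, RingHom.mem_ker, map_sub, sub_eq_zero]
    change αB (gbar (ρ z)) = αB z
    rw [← hx, show gbar (Ideal.Quotient.mk I x) = g x from rfl, hαg, ← hαρ, ← hx]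
    rfl
  have hleft : (ρ.restrictScalars E).comp g = Ideal.Quotient.mkₐ E I := lift_unique JC _ _ fun x => by
    rw [Ideal.Quotient.eq, ← hker, RingHom.mem_ker, map_sub, sub_eq_zero]
    exact (hαρ (g x)).trans (hαg x)
  refine ⟨g.toRingHom, fun z => ?_, fun x => g.commutes x, le_antisymm (fun x hx => ?_) hgI⟩
  · obtain ⟨x, hx⟩ := Ideal.Quotient.mk_surjective (ρ z)
    refine ⟨x, ?_⟩
    change gbar (Ideal.Quotient.mk I x) = z
    rw [hx]
    exact AlgHom.congr_fun hright z
  · refine Ideal.Quotient.eq_zero_iff_mem.1 ?_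
    rw [← show ρ (g x) = Ideal.Quotient.mk I x from AlgHom.congr_fun hleft x, show g x = 0 from hx, map_zero]

end Groth.Agent.Lib.Henselian.LimDeform
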