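import Groth.Agent.Lib.Henselian.Henselization
import Mathlib.RingTheory.LocalRing.ResidueField.Ideal
import Mathlib.RingTheory.Unramified.LocalRing

/-!
# The henselization of a local ring `R_p` as a colimit over étale `R`-algebras

* `pt`, `pt_unique`, `bijective_of_pt`: residually trivial primes over `p` are points in `κ(p)`
* `isHenselization`: `Lim R κ(p)` is a henselization of `R_p`
* `exists_equiv`: comparison with any henselization of `R_p`
* `exists_away`: elements and equations descend to some `S[1/t]`
-/

universe u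

open IsLocalRing TensorProduct
open Groth.Agent.Lib.Henselian.Basic Groth.Agent.Lib.Henselian.Pointed

namespace Groth.Agent.Lib.Henselian.LimPrime

variable {R : Type u} [CommRing R] (p : Ideal R) [p.IsPrime]

section Point

variable {S : Type u} [CommRing S] [Algebra R S]

lemma comap_ker (γ : S →ₐ[R] p.ResidueField) : p = (RingHom.ker γ.toRingHom).comap (algebraMap R S) := by
  ext a
  simp

instance instIsPrimeKer (γ : S →ₐ[R] p.ResidueField) : (RingHom.ker γ.toRingHom).IsPrime :=
  RingHom.ker_isPrime _

theorem bijective_of_pt (γ : S →ₐ[R] p.ResidueField) :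
    Function.Bijective (Ideal.ResidueField.map p (RingHom.ker γ.toRingHom) (algebraMap R S) (comap_ker p γ)) := by
  set q := RingHom.ker γ.toRingHom
  have : q.IsPrime := instIsPrimeKer p γ
  let g : q.ResidueField →+* p.ResidueField :=
    Ideal.ResidueField.lift q γ.toRingHom le_rfl fun x hx => isUnit_iff_ne_zero.mpr hx
  have h : g.comp (Ideal.ResidueField.map p q (algebraMap R S) (comap_ker p γ)) = RingHom.id _ :=
    Ideal.ResidueField.ringHom_ext (RingHom.ext fun r => by simp [g])
  refine ⟨RingHom.injective _, fun y => ⟨g y, g.injective ?_⟩⟩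
  exact RingHom.congr_fun h (g y)

/-- The point of a residually trivial prime. -/
theorem exists_pt (q : Ideal S) [q.IsPrime] (hq : p = q.comap (algebraMap R S))
    (hb : Function.Bijective (Ideal.ResidueField.map p q (algebraMap R S) hq)) :
    ∃ γ : S →ₐ[R] p.ResidueField, RingHom.ker γ.toRingHom = q := by
  let e := RingEquiv.ofBijective _ hb
  refine ⟨⟨e.symm.toRingHom.comp (algebraMap S q.ResidueField), fun r => ?_⟩, ?_⟩
  · refine e.injective ?_
    change e (e.symm (algebraMap S q.ResidueField (algebraMap R S r))) = _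
    rw [e.apply_symm_apply]
    exact (Ideal.ResidueField.map_algebraMap p q (algebraMap R S) hq r).symm
  · ext x
    simp

/-- A point is determined by its kernel. -/
theorem pt_unique (γ γ' : S →ₐ[R] p.ResidueField)
    (h : RingHom.ker γ.toRingHom = RingHom.ker γ'.toRingHom) : γ = γ' := by
  set q := RingHom.ker γ.toRingHom with hq
  have : q.IsPrime := instIsPrimeKer p γ
  let g : q.ResidueField →+* p.ResidueField :=
    Ideal.ResidueField.lift q γ.toRingHom le_rfl fun x hx => isUnit_iff_ne_zero.mpr hx
  let g' : q.ResidueField →+* p.ResidueField :=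
    Ideal.ResidueField.lift q γ'.toRingHom h.le fun x hx => isUnit_iff_ne_zero.mpr fun h0 => hx (h.ge h0)
  obtain ⟨hinj, hsurj⟩ := bijective_of_pt p γ
  have hgg : g = g' := RingHom.ext fun y => by
    obtain ⟨z, rfl⟩ := hsurj y
    have h1 : g.comp (Ideal.ResidueField.map p q (algebraMap R S) (comap_ker p γ)) =
        g'.comp (Ideal.ResidueField.map p q (algebraMap R S) (comap_ker p γ)) :=
      Ideal.ResidueField.ringHom_ext (RingHom.ext fun r => by simp [g, g'])
    exact RingHom.congr_fun h1 z
  refine AlgHom.ext fun x => ?_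
  have := RingHom.congr_fun hgg (algebraMap S q.ResidueField x)
  simpa [g, g'] using this

end Point

/-- `Lim R κ(p)`. -/
abbrev Hp : Type u := Lim R p.ResidueField

instance instIsLocalRing : IsLocalRing (Hp p) :=
  RingHom.domain_isLocalRing (Lim.α R p.ResidueField : Hp p →+* p.ResidueField)

lemma isUnit_algebraMap (y : p.primeCompl) : IsUnit (algebraMap R (Hp p) y) := by
  refine IsUnit.of_map (Lim.α R p.ResidueField : Hp p →+* p.ResidueField) _ ?_
  rw [show (Lim.α R p.ResidueField : Hp p →+* p.ResidueField) (algebraMap R (Hp p) y) =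
    algebraMap R p.ResidueField y from (Lim.α R p.ResidueField).commutes y]
  exact isUnit_iff_ne_zero.mpr fun h => y.2 (Ideal.algebraMap_residueField_eq_zero.mp h)

noncomputable instance instAlgebra : Algebra (Localization.AtPrime p) (Hp p) :=
  (IsLocalization.lift (S := Localization.AtPrime p) (isUnit_algebraMap p)).toAlgebra

instance instIsScalarTower : IsScalarTower R (Localization.AtPrime p) (Hp p) :=
  IsScalarTower.of_algebraMap_eq fun r => (IsLocalization.lift_eq _ r).symm

lemma α_localization (y : Localization.AtPrime p) :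
    Lim.α R p.ResidueField (algebraMap (Localization.AtPrime p) (Hp p) y) = residue _ y := by
  have : (Lim.α R p.ResidueField).toRingHom.comp (algebraMap (Localization.AtPrime p) (Hp p)) =
      residue _ := IsLocalization.ringHom_ext p.primeCompl (RingHom.ext fun r => by
    simp only [RingHom.comp_apply, ← IsScalarTower.algebraMap_apply R (Localization.AtPrime p) (Hp p)]
    exact (Lim.α R p.ResidueField).commutes r)
  exact RingHom.congr_fun this y

instance instIsLocalHom : IsLocalHom (algebraMap (Localization.AtPrime p) (Hp p)) where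
  map_nonunit y hy := by
    have h := hy.map (Lim.α R p.ResidueField)
    rw [α_localization] at h
    exact IsUnit.of_map (residue _) y h

lemma α_surjective : Function.Surjective (Lim.α R p.ResidueField) := fun z => by
  obtain ⟨y, rfl⟩ := residue_surjective (R := Localization.AtPrime p) z
  exact ⟨_, α_localization p y⟩

lemma maximalIdeal_eq_ker :
    maximalIdeal (Hp p) = RingHom.ker (Lim.α R p.ResidueField : Hp p →+* p.ResidueField) :=
  (ker_eq_maximalIdeal _ (α_surjective p)).symm

instance instHenselianLocalRing : HenselianLocalRing (Hp p) := by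
  have := Lim.henselianRing_ker (A := R) (Ω := p.ResidueField)
  rw [← maximalIdeal_eq_ker] at this
  exact LocalRing.henselianLocalRing_of_henselianRing

theorem map_eq_maximalIdeal : p.map (algebraMap R (Hp p)) = maximalIdeal (Hp p) := by
  refine le_antisymm (Ideal.map_le_iff_le_comap.mpr fun a ha => ?_) fun x hx => ?_
  · rw [Ideal.mem_comap, maximalIdeal_eq_ker, RingHom.mem_ker]
    exact ((Lim.α R p.ResidueField).commutes a).trans (Ideal.algebraMap_residueField_eq_zero.mpr ha)
  obtain ⟨i, y, rfl⟩ := Lim.exists_of x
  rw [maximalIdeal_eq_ker, RingHom.mem_ker] at hx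
  have : IsLocalRing i.Loc := RingHom.domain_isLocalRing (i.α : i.Loc →+* p.ResidueField)
  have hu : ∀ s : p.primeCompl, IsUnit (algebraMap R i.Loc s) := fun s => by
    refine IsUnit.of_map (i.α : i.Loc →+* p.ResidueField) _ ?_
    rw [show (i.α : i.Loc →+* p.ResidueField) (algebraMap R i.Loc s) =
      algebraMap R p.ResidueField s from i.α.commutes (s : R)]
    exact isUnit_iff_ne_zero.mpr fun h => s.2 (Ideal.algebraMap_residueField_eq_zero.mp h)
  let : Algebra (Localization.AtPrime p) i.Loc :=
    (IsLocalization.lift (S := Localization.AtPrime p) hu).toAlgebra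
  have : IsScalarTower R (Localization.AtPrime p) i.Loc :=
    IsScalarTower.of_algebraMap_eq fun r => (IsLocalization.lift_eq _ r).symm
  have hα : ∀ z, i.α (algebraMap (Localization.AtPrime p) i.Loc z) = residue _ z := by
    intro z
    have : (i.α : i.Loc →+* p.ResidueField).comp (algebraMap (Localization.AtPrime p) i.Loc) =
        residue _ := IsLocalization.ringHom_ext p.primeCompl (RingHom.ext fun r => by
      simp only [RingHom.comp_apply, ← IsScalarTower.algebraMap_apply R (Localization.AtPrime p) i.Loc]
      exact i.α.commutes r)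
    exact RingHom.congr_fun this z
  have : IsLocalHom (algebraMap (Localization.AtPrime p) i.Loc) := ⟨fun z hz => by
    have h := hz.map i.α
    rw [hα] at h
    exact IsUnit.of_map (residue _) z h⟩
  have : Algebra.EssFiniteType i.Alg i.Loc := Algebra.EssFiniteType.of_isLocalization i.Loc i.units
  have : Algebra.EssFiniteType R i.Loc := Algebra.EssFiniteType.comp R i.Alg i.Loc
  have : Algebra.EssFiniteType (Localization.AtPrime p) i.Loc :=
    Algebra.EssFiniteType.of_comp R (Localization.AtPrime p) i.Loc
  have : Algebra.FormallyUnramified (Localization.AtPrime p) i.Loc :=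
    Algebra.FormallyUnramified.of_restrictScalars R (Localization.AtPrime p) i.Loc
  have hy : y ∈ maximalIdeal i.Loc := fun hu => (hu.map i.α).ne_zero hx
  rw [← Algebra.FormallyUnramified.map_maximalIdeal (R := Localization.AtPrime p),
    ← Localization.AtPrime.map_eq_maximalIdeal, Ideal.map_map, ← IsScalarTower.algebraMap_eq] at hy
  have h := Ideal.mem_map_of_mem (Lim.of i : i.Loc →ₐ[R] Hp p).toRingHom hy
  rw [Ideal.map_map, show (Lim.of i : i.Loc →ₐ[R] Hp p).toRingHom.comp (algebraMap R i.Loc) =
    algebraMap R (Hp p) from (Lim.of i : i.Loc →ₐ[R] Hp p).comp_algebraMap] at h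
  exact h

instance isHenselization : Hensel.IsHenselization (Localization.AtPrime p) (Hp p) where
  henselian := inferInstance
  universal T _ _ f hf := by
    let : Algebra R T := (f.comp (algebraMap R (Localization.AtPrime p))).toAlgebra
    let θ : p.ResidueField →ₐ[R] T ⧸ maximalIdeal T :=
      { toRingHom := IsLocalRing.ResidueField.map f
        commutes' := fun r => rfl }
    obtain ⟨g, hg, huniq⟩ := Lim.existsUnique_lift (maximalIdeal T) θ
    refine ⟨g.toRingHom, IsLocalization.ringHom_ext p.primeCompl (RingHom.ext fun r => ?_), fun g' hg' => ?_⟩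
    · simp only [RingHom.comp_apply, ← IsScalarTower.algebraMap_apply R (Localization.AtPrime p) (Hp p)]
      exact g.commutes r
    let g'' : Hp p →ₐ[R] T := ⟨g', fun r => by
      rw [IsScalarTower.algebraMap_apply R (Localization.AtPrime p) (Hp p)]
      exact RingHom.congr_fun hg' _⟩
    have : g'' = g := huniq g'' (AlgHom.ext fun x => by
      obtain ⟨z, hz⟩ := residue_surjective (R := Localization.AtPrime p) (Lim.α R p.ResidueField x)
      have hmem : x - algebraMap (Localization.AtPrime p) (Hp p) z ∈ p.map (algebraMap R (Hp p)) := by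
        rw [map_eq_maximalIdeal, maximalIdeal_eq_ker, RingHom.mem_ker, map_sub]
        exact sub_eq_zero.mpr (hz.symm.trans (α_localization p z).symm)
      have h1 := Ideal.mem_map_of_mem g'' hmem
      rw [← Ideal.map_coe, Ideal.map_map, show (g'' : Hp p →+* T).comp (algebraMap R (Hp p)) =
        algebraMap R T from g''.comp_algebraMap] at h1
      have h2 : g'' x - f z ∈ maximalIdeal T := by
        have hle : p.map (algebraMap R T) ≤ maximalIdeal T := by
          rw [RingHom.algebraMap_toAlgebra, ← Ideal.map_map, Localization.AtPrime.map_eq_maximalIdeal]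
          exact ((local_hom_TFAE f).out 0 2).mp hf
        have := hle h1
        rwa [map_sub, show g'' (algebraMap (Localization.AtPrime p) (Hp p) z) = f z from
          RingHom.congr_fun hg' z] at this
      change Ideal.Quotient.mk (maximalIdeal T) (g'' x) = θ (Lim.α R p.ResidueField x)
      rw [← hz, Ideal.Quotient.eq.mpr h2]
      rfl)
    rw [← this]

variable (Rh : Type u) [CommRing Rh] [IsLocalRing Rh] [Algebra R Rh]

/-- Any henselization of `R_p` is `Lim R κ(p)`. -/
theorem exists_equiv [Algebra (Localization.AtPrime p) Rh]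
    [IsLocalHom (algebraMap (Localization.AtPrime p) Rh)]
    [Hensel.IsHenselization (Localization.AtPrime p) Rh] [IsScalarTower R (Localization.AtPrime p) Rh] : ∃ e : Hp p ≃ₐ[R] Rh,
    (maximalIdeal Rh).comap (e : Hp p →+* Rh) = maximalIdeal (Hp p) := by
  let e := ((Henselization.equivOfIsHenselization (Localization.AtPrime p) (Hp p)).symm.trans
    (Henselization.equivOfIsHenselization (Localization.AtPrime p) Rh)).restrictScalars R
  refine ⟨e, ?_⟩
  ext x
  simp [IsLocalRing.mem_maximalIdeal, mem_nonunits_iff]

omit [p.IsPrime] in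
/-- For an unramified algebra with a map to a localisation of the base, an element of the kernel is
killed by an element whose image is invertible. -/
theorem exists_mul_eq_zero {A L T : Type u} [CommRing A] [CommRing L] [CommRing T] [Algebra A L]
    [Algebra A T] (M : Submonoid A) [IsLocalization M L] [Algebra.FormallyUnramified A T]
    [Algebra.EssFiniteType A T] (m : T →ₐ[A] L) {x : T} (hx : m x = 0) :
    ∃ u : T, u * x = 0 ∧ IsUnit (m u) := by
  let N := Algebra.algebraMapSubmonoid T M
  have hM : ∀ y : M, IsUnit (algebraMap A (Localization N) y) := fun y => by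
    rw [IsScalarTower.algebraMap_apply A T (Localization N)]
    exact IsLocalization.map_units (Localization N) ⟨_, Algebra.mem_algebraMapSubmonoid_of_mem y⟩
  let ι : L →ₐ[A] Localization N := IsLocalization.liftAlgHom (S := L) (M := M) (f := Algebra.ofId A _) hM
  have hN : ∀ y : N, IsUnit (m y) := fun ⟨y, hy⟩ => by
    obtain ⟨a, ha, rfl⟩ := hy
    change IsUnit (m (algebraMap A T a))
    rw [m.commutes]
    exact IsLocalization.map_units L ⟨a, ha⟩
  let m' : Localization N →ₐ[A] L := IsLocalization.liftAlgHom (S := Localization N) (M := N) (f := m) hN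
  have hm' : ∀ z, m' (algebraMap T (Localization N) z) = m z := fun z => IsLocalization.lift_eq (S := Localization N) _ z
  have hmι : m'.comp ι = AlgHom.id A L := IsLocalization.algHom_ext M (Subsingleton.elim _ _)
  let μ := Algebra.TensorProduct.productMap (IsScalarTower.toAlgHom A T (Localization N)) (ι.comp m)
  have hμ : (m'.comp μ) = m.comp (Algebra.TensorProduct.lmul' A) :=
    Algebra.TensorProduct.ext' fun a b => by
      simp [μ, hm', show m' (ι (m b)) = m b from AlgHom.congr_fun hmι (m b)]
  have h1 := congrArg μ (Algebra.FormallyUnramified.one_tmul_mul_elem (R := A) x)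
  simp only [map_mul, μ, Algebra.TensorProduct.productMap_apply_tmul, map_one, one_mul, mul_one,
    AlgHom.comp_apply, hx, map_zero, zero_mul] at h1
  obtain ⟨⟨a, t⟩, hat⟩ := IsLocalization.surj N (μ (Algebra.FormallyUnramified.elem A T))
  have h2 : algebraMap T (Localization N) (a * x) = 0 := by
    rw [map_mul, ← hat, mul_assoc, mul_comm _ (algebraMap T (Localization N) x), ← mul_assoc,
      mul_comm (μ _) _]
    erw [← h1]
    rw [zero_mul]
  obtain ⟨t', ht'⟩ := (IsLocalization.map_eq_zero_iff N (Localization N) _).mp h2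
  refine ⟨t' * a, by rwa [mul_assoc], ?_⟩
  rw [map_mul]
  refine (hN t').mul ?_
  have h3 := congrArg m' hat
  rw [map_mul, hm', hm', show m' (μ (Algebra.FormallyUnramified.elem A T)) = _ from
    AlgHom.congr_fun hμ _, AlgHom.comp_apply, Algebra.FormallyUnramified.lmul_elem, map_one, one_mul] at h3
  rw [← h3]
  exact hN t

variable {S : Type u} [CommRing S] [Algebra R S]

/-- The kernel of the point of a map to a henselization of `R_p`. -/
lemma ker_α_comp (e : Hp p ≃ₐ[R] Rh) (f : S →ₐ[R] Rh) :
    RingHom.ker ((Lim.α R p.ResidueField).comp ((e.symm : Rh →ₐ[R] Hp p).comp f)).toRingHom =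
      (maximalIdeal Rh).comap f.toRingHom := by
  ext x
  rw [RingHom.mem_ker, Ideal.mem_comap, IsLocalRing.mem_maximalIdeal, mem_nonunits_iff]
  change Lim.α R p.ResidueField (e.symm (f x)) = 0 ↔ ¬IsUnit (f x)
  rw [← AlgHom.coe_toRingHom, ← RingHom.mem_ker, ← maximalIdeal_eq_ker, IsLocalRing.mem_maximalIdeal,
    mem_nonunits_iff, isUnit_map_iff]

/-- (a) A residually trivial pointed étale algebra maps uniquely to the henselization. -/
theorem existsUnique_to (e : Hp p ≃ₐ[R] Rh) [Algebra.Etale R S] (q : Ideal S) [q.IsPrime]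
    (hq : p = q.comap (algebraMap R S))
    (hb : Function.Bijective (Ideal.ResidueField.map p q (algebraMap R S) hq)) :
    ∃! f : S →ₐ[R] Rh, (maximalIdeal Rh).comap f.toRingHom = q := by
  obtain ⟨γ, hγ⟩ := exists_pt p q hq hb
  obtain ⟨φ, hφ, huniq⟩ := Lim.existsUnique_map S γ
  have he : (e.symm : Rh →ₐ[R] Hp p).comp ((e : Hp p →ₐ[R] Rh).comp φ) = φ :=
    AlgHom.ext fun x => e.symm_apply_apply (φ x)
  refine ⟨(e : Hp p →ₐ[R] Rh).comp φ, ?_, fun f hf => ?_⟩
  · change (maximalIdeal Rh).comap ((e : Hp p →ₐ[R] Rh).comp φ).toRingHom = q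
    rw [← ker_α_comp p Rh e, he, hφ, hγ]
  · have := huniq ((e.symm : Rh →ₐ[R] Hp p).comp f)
      (pt_unique p _ _ (by rw [hγ, ker_α_comp p Rh e, hf]))
    rw [← this]
    exact AlgHom.ext fun x => (e.apply_symm_apply (f x)).symm

/-- (b) Every element comes from a residually trivial pointed étale algebra. -/
theorem exists_from (e : Hp p ≃ₐ[R] Rh) (x : Rh) :
    ∃ (S : Type u) (_ : CommRing S) (_ : Algebra R S) (_ : Algebra.Etale R S) (q : Ideal S)
      (_ : q.IsPrime) (hq : p = q.comap (algebraMap R S)),
      Function.Bijective (Ideal.ResidueField.map p q (algebraMap R S) hq) ∧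
        ∃ (f : S →ₐ[R] Rh) (s : S), (maximalIdeal Rh).comap f.toRingHom = q ∧ f s = x := by
  classical
  obtain ⟨S, _, _, _, φ, hφ⟩ := Lim.exists_etale_range {e.symm x}
  obtain ⟨s, hs⟩ := hφ (Finset.mem_singleton_self _)
  refine ⟨S, inferInstance, inferInstance, inferInstance, _, instIsPrimeKer p ((Lim.α R p.ResidueField).comp φ),
    comap_ker p _, bijective_of_pt p _, (e : Hp p →ₐ[R] Rh).comp φ, s, ?_, ?_⟩
  · rw [← ker_α_comp p Rh e]
    congr 2
    exact AlgHom.ext fun z => congrArg (Lim.α R p.ResidueField) (e.symm_apply_apply (φ z))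
  · exact (congrArg e hs).trans (e.apply_symm_apply x)

/-- (c) An element dying in the henselization dies at a stage. -/
theorem exists_kill (e : Hp p ≃ₐ[R] Rh) [Algebra.Etale R S] (f : S →ₐ[R] Rh) {s : S} (hs : f s = 0) :
    ∃ (S' : Type u) (_ : CommRing S') (_ : Algebra R S') (_ : Algebra.Etale R S') (q' : Ideal S')
      (_ : q'.IsPrime) (hq' : p = q'.comap (algebraMap R S')),
      Function.Bijective (Ideal.ResidueField.map p q' (algebraMap R S') hq') ∧
        ∃ φ : S →ₐ[R] S', q'.comap φ.toRingHom = (maximalIdeal Rh).comap f.toRingHom ∧ φ s = 0 := by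
  obtain ⟨i, ψ, hψ, h0⟩ := Lim.exists_factor_eq_zero ((e.symm : Rh →ₐ[R] Hp p).comp f) (z := s)
    (by simp [hs])
  let T := i.Alg ⊗[R] S
  let m : T →ₐ[i.Alg] i.Loc :=
    Algebra.TensorProduct.lift (Algebra.ofId i.Alg i.Loc) ψ fun _ _ => Commute.all _ _
  obtain ⟨u, hu, hmu⟩ := exists_mul_eq_zero (L := i.Loc) i.units m (x := (1 : i.Alg) ⊗ₜ[R] s) (by simp [m, h0])
  have : Algebra.Etale R T := Algebra.Etale.comp R i.Alg T
  have : Algebra.Etale T (Localization.Away u) := Algebra.Etale.of_isLocalizationAway u
  have : Algebra.Etale R (Localization.Away u) := Algebra.Etale.comp R T _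
  let m₁ : T →ₐ[R] p.ResidueField := i.α.comp (m.restrictScalars R)
  let γ : Localization.Away u →ₐ[R] p.ResidueField :=
    IsLocalization.Away.liftAlgHom (S := Localization.Away u) u (f := m₁) (hmu.map i.α)
  have hγ : ∀ z : T, γ (algebraMap T (Localization.Away u) z) = m₁ z := fun z =>
    IsLocalization.lift_eq (S := Localization.Away u) _ z
  let ι : S →ₐ[R] T := Algebra.TensorProduct.includeRight (R := R) (A := i.Alg) (B := S)
  have hι : ∀ z, m (ι z) = ψ z := fun z => by
    simp [m, ι, T]
  refine ⟨Localization.Away u, inferInstance, inferInstance, inferInstance, _, instIsPrimeKer p γ,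
    comap_ker p γ, bijective_of_pt p γ,
    (IsScalarTower.toAlgHom R T (Localization.Away u)).comp ι, ?_, ?_⟩
  · have h : γ.comp ((IsScalarTower.toAlgHom R T (Localization.Away u)).comp
        Algebra.TensorProduct.includeRight) =
        (Lim.α R p.ResidueField).comp ((e.symm : Rh →ₐ[R] Hp p).comp f) := by
      rw [← hψ]
      refine AlgHom.ext fun z => ?_
      simp only [AlgHom.comp_apply, IsScalarTower.coe_toAlgHom', hγ, Lim.α_of, m₁,
        AlgHom.restrictScalars_apply]
      exact congrArg i.α (hι z)
    rw [← ker_α_comp p Rh e, ← h]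
    exact (RingHom.comap_ker _ _)
  · rw [AlgHom.comp_apply, IsScalarTower.coe_toAlgHom']
    exact (IsLocalization.map_eq_zero_iff (Submonoid.powers u) _ _).mpr ⟨⟨u, Submonoid.mem_powers u⟩, hu⟩

end Groth.Agent.Lib.Henselian.LimPrime
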