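import Groth.Agent.Lib.Henselian.Permanence
import Groth.Agent.Lib.Henselian.FlatDepth
import Groth.Agent.Lib.Regular.Descent
import Mathlib.RingTheory.Ideal.AssociatedPrime.Localization

/-!
# Localisations along flat maps with discrete reduced fibres

For a flat map `R → S` of Noetherian rings with discrete fibres such that radical ideals extend to
radical ideals (e.g. a henselization), the local maps `R_p → S_P` preserve depth, dimension,
regularity; hence associated primes, `(S_k)` and `(R_k)` correspond.
-/

universe u

open IsLocalRing LocCoh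

namespace Groth.Agent.Lib.Henselian.Local

/-- `S` has discrete reduced fibres over `R`. -/
structure DiscreteReducedFibres (R S : Type u) [CommRing R] [CommRing S] [Algebra R S] : Prop where
  eq_of_le : ∀ {P Q : Ideal S} [P.IsPrime] [Q.IsPrime], P ≤ Q →
    P.comap (algebraMap R S) = Q.comap (algebraMap R S) → P = Q
  isRadical_map : ∀ {a : Ideal R}, a.IsRadical → (a.map (algebraMap R S)).IsRadical

variable {R S : Type u} [CommRing R] [CommRing S] [Algebra R S]

theorem discreteReducedFibres_henselization [IsLocalRing R] [IsLocalRing S]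
    [IsLocalHom (algebraMap R S)] [Hensel.IsHenselization R S] : DiscreteReducedFibres R S :=
  ⟨Permanence.eq_of_le_of_comap_eq R S, Permanence.isRadical_map R S⟩

theorem discreteReducedFibres_strictHenselization [IsLocalRing R] [IsLocalRing S]
    [IsLocalHom (algebraMap R S)] [Hensel.IsStrictHenselization R S] : DiscreteReducedFibres R S :=
  ⟨Permanence.strict_eq_of_le_of_comap_eq R S, Permanence.strict_isRadical_map R S⟩

variable (h : DiscreteReducedFibres R S) (p : Ideal R) [p.IsPrime] (P : Ideal S) [P.IsPrime]
  [P.LiesOver p] [Algebra (Localization.AtPrime p) (Localization.AtPrime P)]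
  [Localization.AtPrime.IsLiesOverAlgebra p P]

instance instIsLocalHom : IsLocalHom (algebraMap (Localization.AtPrime p) (Localization.AtPrime P)) := by
  rw [Localization.AtPrime.IsLiesOverAlgebra.algebraMap_eq]
  infer_instance

include h in
theorem map_maximalIdeal :
    (maximalIdeal (Localization.AtPrime p)).map
      (algebraMap (Localization.AtPrime p) (Localization.AtPrime P)) =
      maximalIdeal (Localization.AtPrime P) := by
  set L := Localization.AtPrime P
  rw [← Localization.AtPrime.map_eq_maximalIdeal, Ideal.map_map,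
    ← IsScalarTower.algebraMap_eq, IsScalarTower.algebraMap_eq R S L, ← Ideal.map_map]
  set K := p.map (algebraMap R S) with hK
  have hrad : (K.map (algebraMap S L)).IsRadical := by
    rw [hK, ← (h.isRadical_map (Ideal.IsPrime.isRadical ‹p.IsPrime›)).radical,
      IsLocalization.map_radical P.primeCompl]
    exact Ideal.radical_isRadical _
  have hle : K ≤ P := Ideal.map_le_iff_le_comap.mpr (Ideal.over_def P p).le
  rw [← hrad.radical, Ideal.radical_eq_sInf]
  refine le_antisymm (sInf_le ⟨?_, (maximalIdeal.isMaximal L).isPrime⟩) (le_sInf ?_)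
  · rw [← Localization.AtPrime.map_eq_maximalIdeal]
    exact Ideal.map_mono hle
  · rintro Q ⟨hQle, hQ⟩
    have hQP : Q.comap (algebraMap S L) ≤ P :=
      (Ideal.comap_mono (IsLocalRing.le_maximalIdeal hQ.ne_top)).trans_eq
        (IsLocalization.AtPrime.under_maximalIdeal L P)
    have : Q.comap (algebraMap S L) = P := by
      refine h.eq_of_le hQP (le_antisymm (Ideal.comap_mono hQP) ?_)
      exact (Ideal.over_def P p).ge.trans
        (Ideal.map_le_iff_le_comap.mp (Ideal.map_le_iff_le_comap.mp hQle))
    rw [← Localization.AtPrime.map_eq_maximalIdeal]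
    exact Ideal.map_le_iff_le_comap.mpr this.ge

variable [IsNoetherianRing R] [IsNoetherianRing S] [Module.Flat R S]

include h in
theorem depth_eq :
    depth (Localization.AtPrime P) (Localization.AtPrime P) =
      depth (Localization.AtPrime p) (Localization.AtPrime p) :=
  FlatDepth.depth_eq _ _ (map_maximalIdeal h p P)

include h in
theorem ringKrullDim_eq :
    ringKrullDim (Localization.AtPrime P) = ringKrullDim (Localization.AtPrime p) :=
  Regular.Descent.ringKrullDim_eq _ (map_maximalIdeal h p P)

include h in
theorem isRegularLocalRing_iff :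
    IsRegularLocalRing (Localization.AtPrime p) ↔ IsRegularLocalRing (Localization.AtPrime P) :=
  Regular.Descent.isRegularLocalRing_iff _ (map_maximalIdeal h p P)

omit [Algebra (Localization.AtPrime p) (Localization.AtPrime P)]
  [Localization.AtPrime.IsLiesOverAlgebra p P] [Module.Flat R S]

lemma mem_associatedPrimes_iff_depth (q : Ideal R) [q.IsPrime] :
    q ∈ associatedPrimes R R ↔ depth (Localization.AtPrime q) (Localization.AtPrime q) = 0 := by
  rw [Depth.Assoc.depth_eq_zero_iff]
  constructor
  · exact fun hq => Module.associatedPrimes.mem_associatedPrimes_atPrime_of_mem_associatedPrimes hq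
  · intro hq
    have := Module.associatedPrimes.comap_mem_associatedPrimes_of_mem_associatedPrimes_of_isLocalizedModule_of_fg
      q.primeCompl (Algebra.linearMap R (Localization.AtPrime q)) _ hq (IsNoetherian.noetherian _)
    rwa [← Ideal.under_def, IsLocalization.AtPrime.under_maximalIdeal _ q] at this

omit [IsNoetherianRing R] in
lemma hasSk_iff (k : ℕ) : HasSk k R R ↔ ∀ (q : Ideal R) [q.IsPrime],
    min (k : WithBot ℕ∞) (ringKrullDim (Localization.AtPrime q)) ≤
      ((depth (Localization.AtPrime q) (Localization.AtPrime q) : ℕ∞) : WithBot ℕ∞) := by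
  refine forall_congr' fun q => forall_congr' fun _ => ?_
  rw [← Module.supportDim_self_eq_ringKrullDim]

variable [Module.FaithfullyFlat R S]

include h in
omit p [p.IsPrime] [P.LiesOver p] in
theorem mem_associatedPrimes_iff :
    P ∈ associatedPrimes S S ↔ P.comap (algebraMap R S) ∈ associatedPrimes R R := by
  let := Localization.AtPrime.algebraOfLiesOver (P.under R) P
  rw [← Ideal.under_def, mem_associatedPrimes_iff_depth, mem_associatedPrimes_iff_depth,
    depth_eq h (P.under R) P]

include h in
omit P [P.IsPrime] p [p.IsPrime] [P.LiesOver p] in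
theorem hasSk_iff_hasSk (k : ℕ) : HasSk k S S ↔ HasSk k R R := by
  rw [hasSk_iff, hasSk_iff]
  refine ⟨fun hS q hq => ?_, fun hR Q hQ => ?_⟩
  · obtain ⟨⟨Q, _⟩, hQ⟩ := PrimeSpectrum.comap_surjective_of_faithfullyFlat (A := R) (B := S) ⟨q, hq⟩
    have : Q.LiesOver q := ⟨(congrArg PrimeSpectrum.asIdeal hQ).symm⟩
    let := Localization.AtPrime.algebraOfLiesOver q Q
    rw [← depth_eq h q Q, ← ringKrullDim_eq h q Q]
    exact hS Q
  · let := Localization.AtPrime.algebraOfLiesOver (Q.under R) Q
    rw [depth_eq h (Q.under R) Q, ringKrullDim_eq h (Q.under R) Q]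
    exact hR _

include h in
omit P [P.IsPrime] p [p.IsPrime] [P.LiesOver p] in
theorem hasRk_iff_hasRk (k : ℕ) : HasRk k S ↔ HasRk k R := by
  have hht : ∀ (q : Ideal R) (Q : Ideal S) [q.IsPrime] [Q.IsPrime] [Q.LiesOver q],
      Q.height = q.height := fun q Q _ _ _ => by
    let := Localization.AtPrime.algebraOfLiesOver q Q
    have := ringKrullDim_eq h q Q
    rw [IsLocalization.AtPrime.ringKrullDim_eq_height Q (Localization.AtPrime Q),
      IsLocalization.AtPrime.ringKrullDim_eq_height q (Localization.AtPrime q)] at this
    exact WithBot.coe_inj.mp this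
  refine ⟨fun hS q hq hle => ?_, fun hR Q hQ hle => ?_⟩
  · obtain ⟨⟨Q, _⟩, hQ⟩ := PrimeSpectrum.comap_surjective_of_faithfullyFlat (A := R) (B := S) ⟨q, hq⟩
    have : Q.LiesOver q := ⟨(congrArg PrimeSpectrum.asIdeal hQ).symm⟩
    let := Localization.AtPrime.algebraOfLiesOver q Q
    rw [isRegularLocalRing_iff h q Q]
    exact hS Q (hht q Q ▸ hle)
  · let := Localization.AtPrime.algebraOfLiesOver (Q.under R) Q
    rw [← isRegularLocalRing_iff h (Q.under R) Q]
    exact hR _ (hht (Q.under R) Q ▸ hle)

end Groth.Agent.Lib.Henselian.Local
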