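import Groth.Prelude.Def_FlatCA
import Mathlib

/-!
# Finite flat systems of modules along nil thickenings
-/

universe u v

namespace Groth.Agent.Lib.Henselian.NilSystem

/-- A matrix with nilpotent entries is nilpotent. -/
theorem isNilpotent_matrix {R : Type u} [CommRing R] {r : ℕ} (X : Matrix (Fin r) (Fin r) R)
    (h : ∀ i j, IsNilpotent (X i j)) : IsNilpotent X := by
  set J : Ideal R := Ideal.span (Set.range fun p : Fin r × Fin r => X p.1 p.2) with hJ
  have hfg : J.FG := Submodule.fg_span (Set.finite_range _)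
  have hle : J ≤ nilradical R := by
    rw [hJ, Ideal.span_le]
    rintro _ ⟨p, rfl⟩
    exact h p.1 p.2
  obtain ⟨k, hk⟩ := Ideal.exists_pow_le_of_le_radical_of_fg hle hfg
  have hpow : ∀ (m : ℕ) i j, (X ^ m) i j ∈ J ^ m := by
    intro m
    induction m with
    | zero => simp
    | succ m ih =>
      intro i j
      rw [pow_succ X, pow_succ J, Matrix.mul_apply]
      exact Ideal.sum_mem _ fun l _ => Ideal.mul_mem_mul (ih i l) (Ideal.subset_span ⟨(l, j), rfl⟩)
  exact ⟨k, Matrix.ext fun i j => by simpa using hk (hpow k i j)⟩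

section Step

variable {B B' : Type u} [CommRing B] [CommRing B'] {t : B' →+* B}
  {M : Type v} {M' : Type v} [AddCommGroup M] [Module B M] [AddCommGroup M'] [Module B' M']
  {u : M' →ₛₗ[t] M} {r : ℕ} {g : Fin r → M} {g' : Fin r → M'}

/-- Generators lift along a nil thickening. -/
theorem span_eq_top [Module.Finite B' M'] (hnil : ∀ x, t x = 0 → IsNilpotent x)
    (ht : Function.Surjective t)
    (hker : LinearMap.ker u = RingHom.ker t • (⊤ : Submodule B' M'))
    (hg : ∀ i, u (g' i) = g i) (hspan : Submodule.span B (Set.range g) = ⊤) :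
    Submodule.span B' (Set.range g') = ⊤ := by
  have hjac : RingHom.ker t ≤ Ideal.jacobson ⊥ :=
    le_trans (fun x hx => mem_nilradical.2 (hnil x hx)) (nilradical_le_jacobson B' |>.trans_eq Ideal.jacobson_bot.symm)
  refine top_le_iff.1 (Submodule.le_of_le_smul_of_le_jacobson_bot Module.Finite.fg_top hjac ?_)
  intro m _
  obtain ⟨c, hc⟩ := (Submodule.mem_span_range_iff_exists_fun B).1
    (show u m ∈ Submodule.span B (Set.range g) by rw [hspan]; trivial)
  choose c' hc' using fun i => ht (c i)
  refine Submodule.mem_sup.2 ⟨∑ i, c' i • g' i,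
    Submodule.sum_mem _ fun i _ => Submodule.smul_mem _ _ (Submodule.subset_span ⟨i, rfl⟩),
    m - ∑ i, c' i • g' i, ?_, add_sub_cancel _ _⟩
  rw [← hker, LinearMap.mem_ker, map_sub, map_sum, sub_eq_zero, ← hc]
  exact Finset.sum_congr rfl fun i _ => by rw [LinearMap.map_smulₛₗ, hc', hg]

/-- A section of a presentation lifts along a nil thickening if the module is finite flat. -/
theorem exists_section [Module.Finite B' M'] [Module.Flat B' M'] (ht : Function.Surjective t)
    (hnil : ∀ x, t x = 0 → IsNilpotent x)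
    (hker : LinearMap.ker u = RingHom.ker t • (⊤ : Submodule B' M'))
    (hg : ∀ i, u (g' i) = g i) (hspan : Submodule.span B (Set.range g) = ⊤)
    (s : M →ₗ[B] Fin r → B) (hs : ∀ m, Fintype.linearCombination B g (s m) = m) :
    ∃ s' : M' →ₗ[B'] Fin r → B', (∀ m, Fintype.linearCombination B' g' (s' m) = m) ∧
      ∀ m i, t (s' m i) = s (u m) i := by
  have hjac : RingHom.ker t ≤ Ideal.jacobson ⊥ :=
    le_trans (fun x hx => mem_nilradical.2 (hnil x hx)) (nilradical_le_jacobson B' |>.trans_eq Ideal.jacobson_bot.symm)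
  set f := Fintype.linearCombination B g with hf
  set f' := Fintype.linearCombination B' g' with hf'
  have hfu : ∀ v : Fin r → B', u (f' v) = f (fun i => t (v i)) := fun v => by
    simp only [hf', hf, Fintype.linearCombination_apply, map_sum, LinearMap.map_smulₛₗ, hg]
  let E : Matrix (Fin r) (Fin r) B := Matrix.of fun i j => s (g i) j
  have hEv : ∀ (v : Fin r → B) j, ∑ i, v i * E i j = s (f v) j := fun v j => by
    simp only [hf, Fintype.linearCombination_apply, map_sum, map_smul, Finset.sum_apply,
      Pi.smul_apply, smul_eq_mul]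
    rfl
  have hE : IsIdempotentElem E := by
    ext i j
    rw [Matrix.mul_apply, hEv (E i) j]
    change s (f (s (g i))) j = s (g i) j
    rw [hs]
  obtain ⟨E', hE', hEE⟩ := exists_isIdempotentElem_eq_of_ker_isNilpotent (t.mapMatrix (m := Fin r))
    (fun X hX => isNilpotent_matrix X fun i j => hnil _ (congr_fun (congr_fun hX i) j))
    E (by
      choose E₁ hE₁ using fun i j => ht (E i j)
      exact ⟨Matrix.of E₁, Matrix.ext fun i j => hE₁ i j⟩) hE
  let e' := Fintype.linearCombination B' (fun i => (E' i : Fin r → B'))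
  have he'app : ∀ v j, e' v j = ∑ i, v i * E' i j := fun v j => by
    simp [e', Fintype.linearCombination_apply, Finset.sum_apply]
  have he' : ∀ v, e' (e' v) = e' v := fun v => by
    ext j
    rw [he'app, he'app]
    simp only [he'app, Finset.sum_mul, mul_assoc]
    rw [Finset.sum_comm]
    simp only [← Finset.mul_sum]
    refine Finset.sum_congr rfl fun i _ => ?_
    rw [← Matrix.mul_apply, hE']
  have hred : ∀ v : Fin r → B', (fun j => t (e' v j)) = s (f fun i => t (v i)) := fun v => by
    ext j
    rw [he'app, ← hEv, map_sum]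
    refine Finset.sum_congr rfl fun i _ => ?_
    rw [map_mul]
    congr 1
    exact congr_fun (congr_fun hEE i) j
  have hfs : Function.Surjective f' := by
    rw [← LinearMap.range_eq_top, hf', Fintype.range_linearCombination]
    exact span_eq_top hnil ht hker hg hspan
  let h := f' ∘ₗ e'
  have hsurj : Function.Surjective h := by
    rw [← LinearMap.range_eq_top]
    refine top_le_iff.1 (Submodule.le_of_le_smul_of_le_jacobson_bot Module.Finite.fg_top hjac ?_)
    intro m _
    obtain ⟨v, rfl⟩ := hfs m
    refine Submodule.mem_sup.2 ⟨h v, ⟨v, rfl⟩, f' v - h v, ?_, add_sub_cancel _ _⟩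
    rw [← hker, LinearMap.mem_ker, map_sub, sub_eq_zero]
    change u (f' v) = u (f' (e' v))
    rw [hfu, hfu (e' v), hred, hs]
  have hinj : ∀ x, e' x = x → f' x = 0 → x = 0 := by
    intro x hx1 hx2
    have hxh : h x = 0 := by
      change f' (e' x) = 0
      rw [hx1, hx2]
    obtain ⟨k, a, y, hay, hax⟩ := Module.Flat.exists_factorization_of_apply_eq_zero_of_free hxh
    obtain ⟨b, hb⟩ := Module.projective_lifting_property h y hsurj
    let θ := e' ∘ₗ (LinearMap.id - b ∘ₗ a)
    have hθx : θ x = x := by
      simp only [θ, LinearMap.comp_apply, LinearMap.sub_apply, LinearMap.id_apply, hax, map_zero,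
        sub_zero, hx1]
    have hθI : ∀ v j, θ v j ∈ RingHom.ker t := fun v j => by
      have h0 : h (v - b (a v)) = 0 := by
        rw [map_sub, sub_eq_zero, ← LinearMap.comp_apply h b, hb, ← LinearMap.comp_apply, ← hay]
      have h1 := congr_fun (hred (e' (v - b (a v)))) j
      rw [he'] at h1
      rw [RingHom.mem_ker]
      refine h1.trans ?_
      rw [show f (fun i => t (e' (v - b (a v)) i)) = 0 by rw [← hfu]; exact (congrArg u h0).trans (map_zero u),
        map_zero]
      rfl
    set J := Ideal.span (Set.range x) with hJ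
    have hJ0 : J = ⊥ := by
      refine Submodule.eq_bot_of_le_smul_of_le_jacobson_bot (RingHom.ker t) J
        (Submodule.fg_span (Set.finite_range x)) ?_ hjac
      rw [smul_eq_mul]
      refine Ideal.span_le.2 ?_
      rintro _ ⟨j, rfl⟩
      rw [SetLike.mem_coe, ← hθx, pi_eq_sum_univ x, map_sum, Finset.sum_apply]
      refine Ideal.sum_mem _ fun i _ => ?_
      rw [map_smul, Pi.smul_apply, smul_eq_mul, mul_comm (x i)]
      exact Ideal.mul_mem_mul (hθI _ j) (Ideal.subset_span ⟨i, rfl⟩)
    ext j
    exact (Submodule.mem_bot B').1 (hJ0 ▸ Ideal.subset_span ⟨j, rfl⟩ : x j ∈ (⊥ : Ideal B'))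
  let P := LinearMap.range e'
  have hP : ∀ x : P, e' x = x := by rintro ⟨_, v, rfl⟩; exact he' v
  have hbij : Function.Bijective (f' ∘ₗ P.subtype) := by
    refine ⟨(injective_iff_map_eq_zero _).2 fun x hx => Subtype.ext (hinj x (hP x) hx), fun m => ?_⟩
    obtain ⟨v, hv⟩ := hsurj m
    exact ⟨⟨e' v, v, rfl⟩, hv⟩
  let eq := LinearEquiv.ofBijective (f' ∘ₗ P.subtype) hbij
  refine ⟨P.subtype ∘ₗ eq.symm.toLinearMap, fun m => eq.apply_symm_apply m, fun m i => ?_⟩
  have h1 := congr_fun (hred (eq.symm m : Fin r → B')) i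
  rw [hP] at h1
  refine h1.trans ?_
  rw [← hfu]
  exact congr_fun (congrArg (fun z => s (u z)) (eq.apply_symm_apply m)) i

end Step

/-- The limit of a system of rings with surjective transition maps surjects on each term. -/
theorem surjective_of_isRingLimit : ∀ (n : ℕ) (A : Type u) [CommRing A] (An : ℕ → Type u)
    [∀ n, CommRing (An n)] (t : ∀ n, An (n + 1) →+* An n) (π : ∀ n, A →+* An n),
    (∀ n, Function.Surjective (t n)) → FlatCA.IsRingLimit A An t π → Function.Surjective (π n)
  | 0, A, _, An, _, t, π, ht, hA => fun a => by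
    choose L hL using ht
    obtain ⟨b, hb⟩ := hA.2.2 (fun n => Nat.rec (motive := An) a (fun m x => L m x) n) fun n => hL n _
    exact ⟨b, hb 0⟩
  | n + 1, A, _, An, _, t, π, ht, hA =>
    surjective_of_isRingLimit n A (fun m => An (m + 1)) (fun m => t (m + 1)) (fun m => π (m + 1))
      (fun m => ht _) ⟨fun m => hA.1 _, fun a b h => hA.2.1 a b fun m => by
        cases m with
        | zero => rw [← hA.1 0, RingHom.comp_apply, RingHom.comp_apply, h 0]
        | succ m => exact h m,
      fun x hx => by
        obtain ⟨a, ha⟩ := hA.2.2 (fun m => match m with | 0 => t 0 (x 0) | m + 1 => x m) (fun m =>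
          match m with | 0 => rfl | m + 1 => hx m)
        exact ⟨a, fun m => ha (m + 1)⟩⟩

end Groth.Agent.Lib.Henselian.NilSystem
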