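import Groth.Agent.Lib.Unram.BranchHenselian

/-!
# Minimal primes of `normRed A ⊗ S`
-/

universe u

open IsLocalRing
open scoped TensorProduct nonZeroDivisors

namespace Groth.Agent.Lib.Henselian.NormRedBranches

attribute [local instance] Algebra.TensorProduct.rightAlgebra

variable {A : Type u} [CommRing A] (S : Type u) [CommRing S] [Algebra A S]

theorem algebraMap_normRed (a : A) : algebraMap A (CAlg2.normRed A) a = Unram.BranchSum.toNorm A a := rfl

/-- An element outside all minimal primes is a non zero divisor on the reduction. -/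
theorem mk_mem_nonZeroDivisors {d : A} (h : ∀ p ∈ minimalPrimes A, d ∉ p) :
    (Ideal.Quotient.mk (nilradical A) d) ∈ (CAlg2.red A)⁰ := by
  refine mem_nonZeroDivisors_iff_right.mpr fun z hz => ?_
  obtain ⟨z, rfl⟩ := Ideal.Quotient.mk_surjective z
  rw [← map_mul, Ideal.Quotient.eq_zero_iff_mem] at hz
  rw [Ideal.Quotient.eq_zero_iff_mem, nilradical_eq_sInf, Ideal.mem_sInf]
  intro P hP
  have : P.IsPrime := hP
  obtain ⟨p, hp, hpP⟩ := Ideal.exists_minimalPrimes_le (I := (⊥ : Ideal A)) (J := P) bot_le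
  have := hp.1.1
  refine hpP ((this.mem_or_mem ?_).resolve_right (h p hp))
  have : z * d ∈ nilradical A := hz
  exact (nilradical_le_prime p) this

theorem clear_denominators (x : CAlg2.normRed A) :
    ∃ d a : A, Ideal.Quotient.mk (nilradical A) d ∈ (CAlg2.red A)⁰ ∧
      d • x = algebraMap A (CAlg2.normRed A) a := by
  obtain ⟨⟨n, d⟩, hnd⟩ := IsLocalization.surj (CAlg2.red A)⁰ (x.1 : FractionRing (CAlg2.red A))
  obtain ⟨n', rfl⟩ := Ideal.Quotient.mk_surjective n
  obtain ⟨d', hd'⟩ := Ideal.Quotient.mk_surjective (d : CAlg2.red A)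
  refine ⟨d', n', hd' ▸ d.2, ?_⟩
  rw [Algebra.smul_def]
  refine Subtype.ext ?_
  change algebraMap (CAlg2.red A) (FractionRing (CAlg2.red A)) (Ideal.Quotient.mk (nilradical A) d') *
    x.1 = _
  rw [hd', mul_comm]
  exact hnd

theorem isRegular_algebraMap {d : A} (hd : Ideal.Quotient.mk (nilradical A) d ∈ (CAlg2.red A)⁰) :
    Function.Injective (LinearMap.mulLeft A (algebraMap A (CAlg2.normRed A) d)) := by
  intro y z h
  refine Subtype.ext ?_
  exact (IsLocalization.map_units (FractionRing (CAlg2.red A)) ⟨_, hd⟩).mul_left_cancel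
    (congrArg Subtype.val h)


theorem ker_algebraMap : RingHom.ker (algebraMap A (CAlg2.normRed A)) = nilradical A := by
  ext a
  rw [RingHom.mem_ker, ← Ideal.Quotient.eq_zero_iff_mem]
  constructor
  · intro h
    exact IsFractionRing.injective (CAlg2.red A) (FractionRing (CAlg2.red A))
      ((congrArg Subtype.val h).trans (map_zero _).symm)
  · intro h
    rw [algebraMap_normRed]
    change algebraMap (CAlg2.red A) (CAlg2.normRed A) (Ideal.Quotient.mk (nilradical A) a) = 0
    rw [h, map_zero]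

theorem isIntegral_normRed : Algebra.IsIntegral A (CAlg2.normRed A) := ⟨RingHom.IsIntegral.trans _ _
    (RingHom.isIntegral_of_surjective _ Ideal.Quotient.mk_surjective)
    (algebraMap_isIntegral_iff.mpr (Algebra.IsIntegral.mk fun x => integralClosure.isIntegral x))⟩

section General

variable (N : Type u) [CommRing N] [Algebra A N] [Module.Flat A S]

theorem notMem_of_minimal {d : A} (hd : Function.Injective (LinearMap.mulLeft A (algebraMap A N d)))
    {Q : Ideal (N ⊗[A] S)} (hQ : Q ∈ minimalPrimes (N ⊗[A] S)) :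
    algebraMap A (N ⊗[A] S) d ∉ Q := by
  intro hx
  refine (Set.disjoint_left.mp (Ideal.disjoint_nonZeroDivisors_of_mem_minimalPrimes hQ)) hx ?_
  refine mem_nonZeroDivisors_iff_left.mpr fun z hz =>
    Module.Flat.rTensor_preserves_injective_linearMap (M := S) _ hd ?_
  rw [map_zero, ← hz]
  clear hz
  induction z using TensorProduct.induction_on with
  | zero => simp
  | tmul y s =>
    change (algebraMap A (N) d * y) ⊗ₜ[A] s =
      (algebraMap A (N) d ⊗ₜ[A] (1 : S)) * (y ⊗ₜ[A] s)
    rw [Algebra.TensorProduct.tmul_mul_tmul, one_mul]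
  | add y z hy hz => rw [map_add, hy, hz, mul_add]

theorem bijOn_of [hA' : Algebra.IsIntegral A N]
    (hden : ∀ x : N, ∃ d a : A, Function.Injective (LinearMap.mulLeft A (algebraMap A N d)) ∧
      d • x = algebraMap A N a) (hker : RingHom.ker (algebraMap A N) = nilradical A) :
    Set.BijOn (fun P : Ideal (N ⊗[A] S) =>
        P.comap (Algebra.TensorProduct.includeRight.toRingHom : S →+* N ⊗[A] S))
      (minimalPrimes (N ⊗[A] S)) (minimalPrimes S) := by
  let B := N ⊗[A] S
  let iR : S →+* B := algebraMap S B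
  let iL : N →+* B := Algebra.TensorProduct.includeLeftRingHom
  have := Unram.BranchHenselian.isIntegral_right A S (N)
  have hcomm : ∀ a : A, algebraMap A B a = iR (algebraMap A S a) := fun a => by
    change algebraMap A (N) a ⊗ₜ[A] (1 : S) = (1 : N) ⊗ₜ[A] algebraMap A S a
    rw [Algebra.algebraMap_eq_smul_one, Algebra.algebraMap_eq_smul_one, TensorProduct.smul_tmul]
  have hclear : ∀ x : B, ∃ d : A, Function.Injective (LinearMap.mulLeft A (algebraMap A N d)) ∧
      ∃ s : S, algebraMap A B d * x = iR s := by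
    intro x
    induction x using TensorProduct.induction_on with
    | zero => exact ⟨1, by rw [map_one, LinearMap.mulLeft_one]; exact fun _ _ h => h, 0, by simp⟩
    | tmul y s =>
      obtain ⟨d, a, hd, hda⟩ := hden y
      refine ⟨d, hd, algebraMap A S a * s, ?_⟩
      rw [map_mul, ← hcomm]
      change (algebraMap A (N) d ⊗ₜ[A] (1 : S)) * (y ⊗ₜ s) =
        ((algebraMap A (N) a) ⊗ₜ[A] (1 : S)) * (1 ⊗ₜ s)
      rw [Algebra.TensorProduct.tmul_mul_tmul, Algebra.TensorProduct.tmul_mul_tmul, one_mul, mul_one,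
        ← Algebra.smul_def, hda]
    | add x y hx hy =>
      obtain ⟨d, hd, s, hs⟩ := hx
      obtain ⟨e, he, t, ht⟩ := hy
      refine ⟨d * e, by rw [map_mul, LinearMap.mulLeft_mul]; exact hd.comp he,
        algebraMap A S e * s + algebraMap A S d * t, ?_⟩
      simp only [map_mul, map_add, ← hs, ← ht, ← hcomm]
      ring
  have hle : ∀ Q₁ Q₂ : Ideal B, Q₂ ∈ minimalPrimes B →
      Q₁.comap iR ≤ Q₂.comap iR → Q₁ ≤ Q₂ := by
    intro Q₁ Q₂ h₂ hle x hx
    obtain ⟨d, hd, s, hs⟩ := hclear x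
    have h3 : iR s ∈ Q₂ := hle (show s ∈ Q₁.comap iR from by
      rw [Ideal.mem_comap, ← hs]; exact Q₁.mul_mem_left _ hx)
    rw [← hs] at h3
    exact (h₂.1.1.mem_or_mem h3).resolve_left (notMem_of_minimal S N hd h₂)
  have hkerR : RingHom.ker iR ≤ (nilradical A).map (algebraMap A S) := by
    intro s hs
    let l₀ := Algebra.linearMap A N
    have hl₀ : LinearMap.ker l₀ = nilradical A := by rw [← hker]; rfl
    let l : (A ⧸ nilradical A) →ₗ[A] N := (nilradical A).liftQ l₀ hl₀.ge
    have hl : Function.Injective l := LinearMap.ker_eq_bot.mp (Submodule.ker_liftQ_eq_bot _ _ _ hl₀.le)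
    have h := Module.Flat.rTensor_preserves_injective_linearMap (M := S) l hl
    have h0 : (Ideal.Quotient.mk (nilradical A) 1) ⊗ₜ[A] s = 0 := h (by
      rw [map_zero, LinearMap.rTensor_tmul]
      have : l (Ideal.Quotient.mk (nilradical A) 1) = 1 :=
        (Submodule.liftQ_apply _ _ _).trans (map_one (algebraMap A (N)))
      rw [this]
      exact hs)
    have h1 := congrArg (TensorProduct.quotTensorEquivQuotSMul S (nilradical A)) h0
    rw [map_zero, TensorProduct.quotTensorEquivQuotSMul_mk_tmul, one_smul, Submodule.Quotient.mk_eq_zero,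
      Ideal.smul_top_eq_map] at h1
    exact h1
  have hsurj : ∀ q : Ideal S, q ∈ minimalPrimes S → ∃ Q ∈ minimalPrimes B, Q.comap iR = q := by
    intro q hq
    have := hq.1.1
    have hle0 : (⊥ : Ideal B).comap iR ≤ q := by
      rw [← RingHom.ker_eq_comap_bot]
      exact hkerR.trans (Ideal.map_le_iff_le_comap.mpr (nilradical_le_prime _))
    obtain ⟨Q', -, hQ', hQ'q⟩ := Ideal.exists_ideal_over_prime_of_isIntegral (R := S) q ⊥ hle0
    obtain ⟨Q, hQ, hQQ'⟩ := Ideal.exists_minimalPrimes_le (I := (⊥ : Ideal B)) (J := Q') bot_le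
    have := hQ.1.1
    exact ⟨Q, hQ, le_antisymm ((Ideal.comap_mono hQQ').trans hQ'q.le)
      (hq.2 ⟨Ideal.comap_isPrime _ _, bot_le⟩ ((Ideal.comap_mono hQQ').trans hQ'q.le))⟩
  have hmem : ∀ Q ∈ minimalPrimes B, Q.comap iR ∈ minimalPrimes S := by
    intro Q hQ
    have := hQ.1.1
    obtain ⟨q₀, hq₀, hle₀⟩ := Ideal.exists_minimalPrimes_le (I := (⊥ : Ideal S))
      (J := Q.comap iR) bot_le
    obtain ⟨Q₀, hQ₀, hQ₀q⟩ := hsurj q₀ hq₀
    have h1 : Q₀ ≤ Q := hle Q₀ Q hQ (hQ₀q.le.trans hle₀)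
    obtain rfl : Q = Q₀ := le_antisymm (hQ.2 ⟨hQ₀.1.1, bot_le⟩ h1) h1
    exact hQ₀q ▸ hq₀
  refine ⟨hmem, fun Q₁ h₁ Q₂ h₂ h => ?_, fun q hq => ?_⟩
  · exact le_antisymm (hle Q₁ Q₂ h₂ h.le) (hle Q₂ Q₁ h₁ h.ge)
  · exact hsurj q hq

end General

theorem bijOn [Module.Flat A S] :
    Set.BijOn (fun P : Ideal (CAlg2.normRed A ⊗[A] S) =>
        P.comap (Algebra.TensorProduct.includeRight.toRingHom : S →+* CAlg2.normRed A ⊗[A] S))
      (minimalPrimes (CAlg2.normRed A ⊗[A] S)) (minimalPrimes S) :=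
  bijOn_of S (CAlg2.normRed A) (hA' := isIntegral_normRed) (fun x => by
    obtain ⟨d, a, hd, h⟩ := clear_denominators x
    exact ⟨d, a, isRegular_algebraMap hd, h⟩) ker_algebraMap

end Groth.Agent.Lib.Henselian.NormRedBranches
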