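import Groth.Agent.Lib.Henselian.NormRedBranches

/-!
# Local domains in `normRed A ⊗ S` for an ind-étale henselian `S`
-/

universe u

open IsLocalRing

set_option linter.style.haveILetI false
open scoped TensorProduct nonZeroDivisors

namespace Groth.Agent.Lib.Henselian.NormRedDomains

attribute [local instance] Algebra.TensorProduct.rightAlgebra

/-- Zero divisors die in the localization at every prime. -/
def LocDomain (B : Type u) [CommRing B] : Prop :=
  ∀ (M : Ideal B), M.IsPrime → ∀ x y : B, x * y = 0 → ∃ d ∉ M, d * x = 0 ∨ d * y = 0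

theorem locDomain_of_isDomain {B : Type u} [CommRing B]
    (h : ∀ (M : Ideal B) [M.IsPrime], IsDomain (Localization.AtPrime M)) : LocDomain B := by
  intro M hM x y hxy
  have := h M
  have h0 : algebraMap B (Localization.AtPrime M) x * algebraMap B (Localization.AtPrime M) y = 0 := by
    rw [← map_mul, hxy, map_zero]
  rcases mul_eq_zero.1 h0 with h1 | h1 <;>
    obtain ⟨⟨d, hd⟩, hd0⟩ := (IsLocalization.map_eq_zero_iff M.primeCompl _ _).1 h1
  · exact ⟨d, hd, Or.inl hd0⟩
  · exact ⟨d, hd, Or.inr hd0⟩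

theorem locDomain_congr {B C : Type u} [CommRing B] [CommRing C] (e : B ≃+* C) (h : LocDomain C) :
    LocDomain B := by
  intro M hM x y hxy
  obtain ⟨d, hd, hd0⟩ := h (M.comap e.symm) inferInstance (e x) (e y) (by rw [← map_mul, hxy, map_zero])
  refine ⟨e.symm d, hd, ?_⟩
  rcases hd0 with hd0 | hd0
  · exact Or.inl (by simpa using congrArg e.symm hd0)
  · exact Or.inr (by simpa using congrArg e.symm hd0)

theorem locDomain_pi {ι : Type u} [Finite ι] (C : ι → Type u) [∀ i, CommRing (C i)]
    (h : ∀ i, LocDomain (C i)) : LocDomain (Π i, C i) := by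
  classical
  intro M hM x y hxy
  obtain ⟨j, P, hP⟩ := PrimeSpectrum.exists_comap_evalRingHom_eq (R := C) ⟨M, hM⟩
  have hMP : M = P.asIdeal.comap (Pi.evalRingHom C j) := (congrArg PrimeSpectrum.asIdeal hP).symm
  obtain ⟨d, hd, hd0⟩ := h j P.asIdeal P.isPrime (x j) (y j) (congr_fun hxy j)
  refine ⟨Pi.single j d, by rw [hMP, Ideal.mem_comap]; simpa using hd, ?_⟩
  rcases hd0 with hd0 | hd0
  · exact Or.inl (funext fun i => by
      by_cases hi : i = j
      · subst hi; simpa using hd0
      · simp [hi])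
  · exact Or.inr (funext fun i => by
      by_cases hi : i = j
      · subst hi; simpa using hd0
      · simp [hi])

theorem isPrime_ker {B : Type u} [CommRing B] (h : LocDomain B) (M : Ideal B) [M.IsPrime] :
    (RingHom.ker (algebraMap B (Localization.AtPrime M))).IsPrime := by
  refine Ideal.isPrime_iff.2 ⟨RingHom.ker_ne_top _, fun {x y} hxy => ?_⟩
  obtain ⟨⟨c, hc⟩, hc0⟩ := (IsLocalization.map_eq_zero_iff M.primeCompl _ _).1 hxy
  change c * (x * y) = 0 at hc0
  rw [← mul_assoc] at hc0
  obtain ⟨d, hd, hd0⟩ := h M ‹_› _ _ hc0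
  rcases hd0 with hd0 | hd0
  · left
    refine (IsLocalization.map_eq_zero_iff M.primeCompl _ _).2 ⟨⟨d * c, M.primeCompl.mul_mem hd hc⟩, ?_⟩
    simpa [mul_assoc] using hd0
  · right
    exact (IsLocalization.map_eq_zero_iff M.primeCompl _ _).2 ⟨⟨d, hd⟩, hd0⟩

/-- Minimal primes and maximal ideals determine each other. -/
theorem unique_of_locDomain (S B : Type u) [CommRing S] [HenselianLocalRing S] [CommRing B]
    [Algebra S B] [Algebra.IsIntegral S B] (h : LocDomain B) :
    (∀ q ∈ minimalPrimes B, ∃! m : Ideal B, m.IsMaximal ∧ q ≤ m) ∧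
      (∀ m : Ideal B, m.IsMaximal → ∃! q : Ideal B, q ∈ minimalPrimes B ∧ q ≤ m) := by
  refine ⟨fun q hq => ?_, fun m hm => ?_⟩
  · haveI := hq.1.1
    obtain ⟨M, hM, hqM⟩ := Ideal.exists_le_maximal q hq.1.1.ne_top
    haveI : IsLocalRing (B ⧸ q) := by
      have : Algebra.IsIntegral S (B ⧸ q) := ⟨fun x => by
        obtain ⟨x, rfl⟩ := Ideal.Quotient.mk_surjective x
        exact (Algebra.IsIntegral.isIntegral (R := S) x).map (Ideal.Quotient.mkₐ S q)⟩
      exact Henselian.Unibranch.isLocalRing_of_isDomain S (B ⧸ q)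
    have key : ∀ (L : Ideal B), L.IsMaximal → q ≤ L →
        L = (maximalIdeal (B ⧸ q)).comap (Ideal.Quotient.mk q) := by
      intro L hL hqL
      have hsurj : Function.Surjective (Ideal.Quotient.mk q) := Ideal.Quotient.mk_surjective
      have hcm : (L.map (Ideal.Quotient.mk q)).comap (Ideal.Quotient.mk q) = L := by
        rw [Ideal.comap_map_of_surjective _ hsurj, ← RingHom.ker_eq_comap_bot, Ideal.mk_ker,
          sup_eq_left.mpr hqL]
      have hmax : (L.map (Ideal.Quotient.mk q)).IsMaximal := by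
        refine (Ideal.map_eq_top_or_isMaximal_of_surjective _ hsurj hL).resolve_left fun ht => ?_
        rw [ht, Ideal.comap_top] at hcm
        exact hL.ne_top hcm.symm
      rw [← eq_maximalIdeal hmax, hcm]
    exact ⟨M, ⟨hM, hqM⟩, fun N hN => (key N hN.1 hN.2).trans (key M hM hqM).symm⟩
  · haveI := hm
    set K := RingHom.ker (algebraMap B (Localization.AtPrime m))
    have hK : ∀ q : Ideal B, q.IsPrime → q ≤ m → K ≤ q := fun q hq hqm x hx => by
      obtain ⟨s, hs⟩ := (IsLocalization.map_eq_zero_iff m.primeCompl _ _).mp hx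
      exact (hq.mem_or_mem (hs ▸ q.zero_mem : (s : B) * x ∈ q)).resolve_left fun hsq => s.2 (hqm hsq)
    haveI hKp := isPrime_ker h m
    have hKle : K ≤ m := fun x hx => by
      obtain ⟨s, hs⟩ := (IsLocalization.map_eq_zero_iff m.primeCompl _ _).mp hx
      exact ((inferInstance : m.IsPrime).mem_or_mem (hs ▸ m.zero_mem : (s : B) * x ∈ m)).resolve_left s.2
    obtain ⟨q, hq, hqK⟩ := Ideal.exists_minimalPrimes_le (I := (⊥ : Ideal B)) (J := K) bot_le
    refine ⟨q, ⟨hq, hqK.trans hKle⟩, fun q' hq' => ?_⟩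
    have hq0 : K ≤ q := hK q hq.1.1 (hqK.trans hKle)
    have : q ≤ q' := hqK.trans (hK q' hq'.1.1.1 hq'.2)
    exact le_antisymm (hq'.1.2 ⟨hq.1.1, bot_le⟩ this) this

/-- The tensor product with a product, as a ring equivalence. -/
noncomputable def piEquiv (A S : Type u) [CommRing A] [CommRing S] [Algebra A S] {ι : Type u} [Fintype ι]
    [DecidableEq ι] (C : ι → Type u) [∀ i, CommRing (C i)] [∀ i, Algebra A (C i)] :
    ((Π i, C i) ⊗[A] S) ≃+* Π i, (C i ⊗[A] S) :=
  (Algebra.TensorProduct.comm A (Π i, C i) S).toRingEquiv.trans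
    ((Algebra.TensorProduct.piRight A A S C).toRingEquiv.trans
      (RingEquiv.piCongrRight fun i => (Algebra.TensorProduct.comm A S (C i)).toRingEquiv))

theorem locDomain_normRed_tensor (A S : Type u) [CommRing A] [IsLocalRing A] [CommRing S] [Algebra A S]
    (hfin : (minimalPrimes A).Finite) (hind : EtPBC.IsIndEtale A S) :
    LocDomain (CAlg2.normRed A ⊗[A] S) := by
  classical
  haveI : Finite (minimalPrimes A) := hfin.to_subtype
  cases nonempty_fintype (minimalPrimes A)
  haveI : ∀ p : minimalPrimes A, p.1.IsPrime := fun p => p.2.1.1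
  letI : ∀ p : minimalPrimes A, Algebra A (CAlg2.normRed (A ⧸ p.1)) := fun p =>
    Unram.BranchHenselian.normAlg A p.1
  obtain ⟨e, he⟩ := Unram.BranchSum.exists_normRed_equiv A hfin
  let eA : CAlg2.normRed A ≃ₐ[A] Π p : minimalPrimes A, CAlg2.normRed (A ⧸ p.1) :=
    AlgEquiv.ofRingEquiv (f := e) fun a => funext (he a)
  refine locDomain_congr ((Algebra.TensorProduct.congr eA (AlgEquiv.refl (R := A) (A₁ := S))).toRingEquiv.trans
    (piEquiv A S fun p : minimalPrimes A => CAlg2.normRed (A ⧸ p.1))) ?_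
  refine locDomain_pi _ fun p => locDomain_of_isDomain fun M _ => ?_
  obtain ⟨_, _, -, -, -⟩ := Unram.BranchHenselian.normalization_props A p.1
  exact Unram.BranchHenselian.isDomain_localization (CAlg2.normRed (A ⧸ p.1)) _
    (IndEtale.Basic.baseChange (CAlg2.normRed (A ⧸ p.1)) hind) M

end Groth.Agent.Lib.Henselian.NormRedDomains
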