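import Mathlib

/-!
# Henselianity of normal local domains via a dominating Galois-stable local ring
-/

universe u v w

open Polynomial IsLocalRing

set_option linter.unusedSectionVars false

namespace Groth.Agent.Lib.Henselian.NormalCriterion

variable {A : Type u} [CommRing A] [IsDomain A] [IsIntegrallyClosed A] [IsLocalRing A]
  (K : Type v) [Field K] [Algebra A K] [IsFractionRing A K]

include K in
theorem exists_root
    (H : ∀ g : A[X], g.Monic → Irreducible (g.map (algebraMap A K)) → ∀ a : A,
      residue A (g.eval a) = 0 → residue A ((derivative g).eval a) ≠ 0 → g.natDegree = 1) :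
    ∀ (n : ℕ) (f : A[X]), f.Monic → f.natDegree = n → ∀ a : A,
    residue A (f.eval a) = 0 → residue A ((derivative f).eval a) ≠ 0 →
    ∃ r, f.IsRoot r ∧ residue A r = residue A a := by
  intro n
  induction n using Nat.strong_induction_on with
  | _ n ih =>
  intro f hf hn a h0 h1
  rcases Nat.eq_zero_or_pos n with rfl | hpos
  · rw [hf.natDegree_eq_zero.1 hn] at h0
    simp at h0
  have hfK : (f.map (algebraMap A K)).natDegree ≠ 0 := by rw [hf.natDegree_map]; omega
  obtain ⟨g, hgm, hgi, hgd⟩ :=
    exists_monic_irreducible_factor _ (fun h => hfK (natDegree_eq_zero_of_isUnit h))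
  obtain ⟨g₀, hg₀⟩ := IsIntegrallyClosed.eq_map_mul_C_of_dvd K hf hgd
  rw [hgm.leadingCoeff, C_1, mul_one] at hg₀
  have hm : g₀.Monic := monic_of_injective (IsFractionRing.injective A K) (hg₀ ▸ hgm)
  have hdvd : g₀ ∣ f := by
    rw [← map_dvd_map _ (IsFractionRing.injective A K) hm, hg₀]
    exact hgd
  obtain ⟨h, rfl⟩ := hdvd
  have hh : h.Monic := hm.of_mul_monic_left hf
  have hgd0 : 0 < g₀.natDegree := by
    rw [← hm.natDegree_map (algebraMap A K), hg₀]
    exact hgi.natDegree_pos
  rw [eval_mul, map_mul, mul_eq_zero] at h0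
  rw [derivative_mul, eval_add, eval_mul, eval_mul, map_add, map_mul, map_mul] at h1
  rcases h0 with hg0 | hh0
  · rw [hg0, zero_mul, add_zero] at h1
    have h' := H g₀ hm (hg₀ ▸ hgi) a hg0 (left_ne_zero_of_mul h1)
    obtain ⟨b, rfl⟩ : ∃ b, g₀ = X + C b := ⟨g₀.coeff 0, by
      conv_lhs => rw [hm.as_sum, h']
      simp⟩
    refine ⟨-b, by simp [IsRoot], ?_⟩
    rw [eval_add, eval_X, eval_C, map_add, add_eq_zero_iff_eq_neg] at hg0
    rw [map_neg, hg0]
  · rw [hh0, mul_zero, zero_add] at h1
    have hlt : h.natDegree < n := by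
      rw [hm.natDegree_mul hh] at hn
      omega
    obtain ⟨r, hr, hr'⟩ := ih _ hlt h hh rfl a hh0 (right_ne_zero_of_mul h1)
    exact ⟨r, by rw [IsRoot, eval_mul, hr, mul_zero], hr'⟩

include K in
theorem henselianLocalRing_of_irreducible
    (H : ∀ g : A[X], g.Monic → Irreducible (g.map (algebraMap A K)) → ∀ a : A,
      residue A (g.eval a) = 0 → residue A ((derivative g).eval a) ≠ 0 → g.natDegree = 1) :
    HenselianLocalRing A where
  is_henselian := fun f hf a₀ h₁ h₂ => by
    obtain ⟨r, hr, hr'⟩ := exists_root K H _ f hf rfl a₀ ((residue_eq_zero_iff _).2 h₁)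
      (fun h => (mem_maximalIdeal _).1 ((residue_eq_zero_iff _).1 h) h₂)
    exact ⟨r, hr, (residue_eq_zero_iff _).1 (by rw [map_sub, hr', sub_self])⟩

variable {Ω : Type w} [Field Ω] [Algebra K Ω] [IsSepClosure K Ω]
  {O : Type*} [CommRing O] [IsDomain O] [IsIntegrallyClosed O] [IsLocalRing O]
  [Algebra O Ω] [IsFractionRing O Ω]

/-- A normal local domain dominated by a normal local ring of the separable closure which is stable
under the Galois group is henselian. -/
theorem henselianLocalRing_of_stable (ι : A →+* O) [IsLocalHom ι]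
    (hι : ∀ x, algebraMap O Ω (ι x) = algebraMap K Ω (algebraMap A K x))
    (hσ : ∀ σ : Ω ≃ₐ[K] Ω, ∃ τ : O →+* O, IsLocalHom τ ∧
      ∀ x, algebraMap O Ω (τ x) = σ (algebraMap O Ω x)) :
    HenselianLocalRing A := by
  refine henselianLocalRing_of_irreducible K fun g hgm hgi a h0 h1 => ?_
  set gK := g.map (algebraMap A K) with hgK
  set G := g.map ι with hG
  have hinj : Function.Injective (algebraMap O Ω) := IsFractionRing.injective O Ω
  have hd1 : derivative g ≠ 0 := fun h => h1 (by simp [h])
  have hsep : gK.Separable := by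
    rw [separable_iff_derivative_ne_zero hgi, hgK, derivative_map]
    exact (Polynomial.map_ne_zero_iff (IsFractionRing.injective A K)).2 hd1
  have hGΩ : G.map (algebraMap O Ω) = gK.map (algebraMap K Ω) := by
    rw [hG, hgK, Polynomial.map_map, Polynomial.map_map]
    congr 1
    exact RingHom.ext hι
  have hsplit : (G.map (algebraMap O Ω)).Splits := by
    have : IsSepClosed Ω := IsSepClosure.sep_closed K
    rw [hGΩ]
    exact IsSepClosed.splits_of_separable _ hsep.map
  have hGm : G.Monic := hgm.map ι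
  set s := (G.map (algebraMap O Ω)).roots with hs
  have hint : ∀ α ∈ s, ∃ β : O, algebraMap O Ω β = α := fun α hα => by
    refine IsIntegrallyClosed.isIntegral_iff.1 ⟨G, hGm, ?_⟩
    rw [← eval_map]
    exact (mem_roots ((hGm.map _).ne_zero)).1 hα
  choose! β hβ using hint
  have hprod : G = (s.map fun α => X - C (β α)).prod := by
    apply Polynomial.map_injective _ hinj
    rw [Polynomial.map_multiset_prod, Multiset.map_map]
    rw [hsplit.eq_prod_roots_of_monic (hGm.map _), ← hs]
    congr 1
    refine Multiset.map_congr rfl fun α hα => ?_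
    simp [hβ α hα]
  have hcard : g.natDegree = s.card := by
    rw [← hgm.natDegree_map ι, ← hG, hprod,
      show (s.map fun α => X - C (β α)) = (s.map β).map (fun b => X - C b) by
        rw [Multiset.map_map]; rfl,
      natDegree_multiset_prod_X_sub_C_eq_card, Multiset.card_map]
  have hk : residue O (G.eval (ι a)) = 0 := by
    rw [hG, eval_map, eval₂_hom, residue_eq_zero_iff]
    exact map_nonunit ι _ ((residue_eq_zero_iff _).1 h0)
  have hk' : residue O ((derivative G).eval (ι a)) ≠ 0 := by
    rw [hG, derivative_map, eval_map, eval₂_hom, residue_ne_zero_iff_isUnit]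
    exact ((residue_ne_zero_iff_isUnit _).1 h1).map ι
  obtain ⟨α₀, hα₀, hβ₀⟩ : ∃ α₀ ∈ s, residue O (β α₀) = residue O (ι a) := by
    rw [hprod, eval_multiset_prod, map_multiset_prod, Multiset.prod_eq_zero_iff,
      Multiset.map_map, Multiset.map_map, Multiset.mem_map] at hk
    obtain ⟨α₀, hα₀, h⟩ := hk
    refine ⟨α₀, hα₀, ?_⟩
    simp only [Function.comp_apply, eval_sub, eval_X, eval_C, map_sub, sub_eq_zero] at h
    exact h.symm
  have hall : ∀ α ∈ s, residue O (β α) = residue O (ι a) := by
    intro α hα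
    have hroot : ∀ γ ∈ s, aeval γ gK = 0 := fun γ hγ => by
      rw [aeval_def, ← eval_map, ← hGΩ]
      exact (mem_roots ((hGm.map _).ne_zero)).1 hγ
    have hmin : minpoly K α₀ = gK :=
      (minpoly.eq_of_irreducible_of_monic hgi (hroot α₀ hα₀) (hgm.map _)).symm
    obtain ⟨σ, hσ0⟩ := minpoly.exists_algEquiv_of_root' (K := K) (x := α) (y := α₀)
      (Algebra.IsAlgebraic.isAlgebraic α₀) (by rw [hmin]; exact hroot α hα)
    obtain ⟨τ, hτ, hτσ⟩ := hσ σ
    have hτa : τ (ι a) = ι a := hinj (by rw [hτσ, hι, AlgEquiv.commutes])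
    have hτβ : τ (β α₀) = β α := hinj (by rw [hτσ, hβ α₀ hα₀, hσ0, hβ α hα])
    rw [← sub_eq_zero, ← map_sub, residue_eq_zero_iff, ← hτa, ← hτβ, ← map_sub]
    rw [← sub_eq_zero, ← map_sub, residue_eq_zero_iff] at hβ₀
    exact map_nonunit τ _ hβ₀
  have hGk : G.map (residue O) = (X - C (residue O (ι a))) ^ s.card := by
    rw [hprod, Polynomial.map_multiset_prod, Multiset.map_map,
      Multiset.map_congr rfl (g := fun _ => X - C (residue O (ι a))) (fun α hα => by
        simp [hall α hα]), Multiset.map_const', Multiset.prod_replicate]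
  rw [hcard]
  by_contra hne
  apply hk'
  rw [← eval₂_hom, ← eval_map, ← derivative_map, hGk, derivative_X_sub_C_pow]
  rcases Nat.lt_or_gt_of_ne hne with h | h
  · simp [Nat.lt_one_iff.1 h]
  · simp [zero_pow (Nat.sub_ne_zero_of_lt h)]

end Groth.Agent.Lib.Henselian.NormalCriterion
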