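import Groth.Agent.Lib.Henselian.Henselization
import Groth.Agent.Lib.Henselian.IndEtale
import Groth.Prelude.Def_Hens2
import Mathlib.RingTheory.TensorProduct.Quotient

/-!
# Henselization of pairs and étale neighbourhoods

* `PairHenselization I`, `isPairHenselization`, `equivOfIsPairHenselization`
* `IsNbhd I A'`: `A/I ≅ A'/IA'`; `exists_isNbhd`: shrink an étale algebra with a point to a neighbourhood
* `subsingleton_algHom`, `nonempty_unique_algHom`, `exists_isNbhd_range`, `exists_isNbhd_kill`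
* `exists_isNbhd_pair`, `exists_isNbhd_eq`: the category of neighbourhoods is filtered
-/

universe u

open TensorProduct
open Groth.Agent.Lib.Henselian.Basic Groth.Agent.Lib.Henselian.Pointed

namespace Groth.Agent.Lib.Henselian.PairHenselization

variable {A : Type u} [CommRing A] (I : Ideal A)

set_option linter.dupNamespace false in
/-- The henselization of the pair `(A, I)`. -/
abbrev PairHenselization : Type u := Lim A (A ⧸ I)

lemma surjective_algebraMap_quotient : Function.Surjective (algebraMap A (A ⧸ I)) :=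
  Ideal.Quotient.mk_surjective

lemma ker_algebraMap_quotient : RingHom.ker (algebraMap A (A ⧸ I)) = I := by
  rw [Ideal.Quotient.algebraMap_eq, Ideal.mk_ker]

theorem isPairHenselization : Hens2.IsPairHenselization A I (PairHenselization I) := by
  refine ⟨?_, fun C _ J f hJ hf => ?_⟩
  · have := Henselization.henselianRing_map (surjective_algebraMap_quotient I)
    rwa [ker_algebraMap_quotient] at this
  · exact Henselization.existsUnique_ringHom (surjective_algebraMap_quotient I) J f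
      (by rwa [ker_algebraMap_quotient])

variable {I}

lemma one_tmul_eq_zero_iff {A' : Type u} [CommRing A'] [Algebra A A'] (x : A') :
    (1 : A ⧸ I) ⊗ₜ[A] x = 0 ↔ x ∈ I.map (algebraMap A A') := by
  rw [← (TensorProduct.quotTensorEquivQuotSMul A' I).map_eq_zero_iff,
    ← map_one (Ideal.Quotient.mk I), TensorProduct.quotTensorEquivQuotSMul_mk_tmul, one_smul,
    Submodule.Quotient.mk_eq_zero, Ideal.smul_top_eq_map, Submodule.restrictScalars_mem]

/-- Any henselization of the pair is `PairHenselization I`. -/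
noncomputable def equivOfIsPairHenselization {B : Type u} [CommRing B] [Algebra A B]
    (hB : Hens2.IsPairHenselization A I B) : PairHenselization I ≃ₐ[A] B := by
  have hP := isPairHenselization I
  let f := (hP.2 B _ (algebraMap A B) hB.1 le_rfl).exists.choose
  have hf : f.comp (algebraMap A _) = algebraMap A B :=
    (hP.2 B _ (algebraMap A B) hB.1 le_rfl).exists.choose_spec
  let g := (hB.2 _ _ (algebraMap A (PairHenselization I)) hP.1 le_rfl).exists.choose
  have hg : g.comp (algebraMap A B) = algebraMap A _ :=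
    (hB.2 _ _ (algebraMap A (PairHenselization I)) hP.1 le_rfl).exists.choose_spec
  have h1 : g.comp f = RingHom.id _ := (hP.2 _ _ (algebraMap A _) hP.1 le_rfl).unique
    (by rw [RingHom.comp_assoc, hf, hg]) (RingHom.id_comp _)
  have h2 : f.comp g = RingHom.id _ := (hB.2 _ _ (algebraMap A B) hB.1 le_rfl).unique
    (by rw [RingHom.comp_assoc, hg, hf]) (RingHom.id_comp _)
  exact AlgEquiv.ofRingEquiv (f := RingEquiv.ofRingHom f g h2 h1) fun x => RingHom.congr_fun hf x

variable (I) in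
/-- `A'` has the same reduction as `A` modulo `I`. -/
def IsNbhd (A' : Type u) [CommRing A'] [Algebra A A'] : Prop :=
  Function.Bijective
    (Ideal.quotientMap (I.map (algebraMap A A')) (algebraMap A A') Ideal.le_comap_map)

variable (I) in
theorem isNbhd_self : IsNbhd I A := by
  refine ⟨Ideal.quotientMap_injective' (by simp), fun x => ?_⟩
  obtain ⟨a, rfl⟩ := Ideal.Quotient.mk_surjective x
  exact ⟨Ideal.Quotient.mk I a, rfl⟩

theorem exists_sub_mem_of_isNbhd {A' : Type u} [CommRing A'] [Algebra A A'] (h : IsNbhd I A')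
    (x : A') : ∃ a : A, x - algebraMap A A' a ∈ I.map (algebraMap A A') := by
  obtain ⟨a, ha⟩ := h.2 (Ideal.Quotient.mk _ x)
  obtain ⟨a, rfl⟩ := Ideal.Quotient.mk_surjective a
  exact ⟨a, Ideal.Quotient.eq.mp ha.symm⟩

/-- The point of a neighbourhood. -/
noncomputable def point {A' : Type u} [CommRing A'] [Algebra A A'] (h : IsNbhd I A') :
    A' →ₐ[A] A ⧸ I :=
  (AlgEquiv.ofBijective
    (Ideal.quotientMapₐ (I.map (algebraMap A A')) (Algebra.ofId A A') Ideal.le_comap_map) h).symm.toAlgHom.comp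
    (Ideal.Quotient.mkₐ A _)

theorem eq_point {A' : Type u} [CommRing A'] [Algebra A A'] (h : IsNbhd I A')
    (γ : A' →ₐ[A] A ⧸ I) : γ = point h := by
  refine AlgHom.ext fun x => ?_
  obtain ⟨a, ha⟩ := exists_sub_mem_of_isNbhd h x
  have hz : ∀ (δ : A' →ₐ[A] A ⧸ I), δ x = algebraMap A _ a := fun δ => by
    rw [← δ.commutes, ← sub_eq_zero, ← map_sub]
    refine (Ideal.map_le_iff_le_comap.mpr fun b hb => ?_ :
      I.map (algebraMap A A') ≤ RingHom.ker δ.toRingHom) ha
    show δ (algebraMap A A' b) = 0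
    rw [δ.commutes, Ideal.Quotient.algebraMap_eq, Ideal.Quotient.eq_zero_iff_mem.mpr hb]
  rw [hz, hz]

/-- An étale algebra with a point in `A/I` can be shrunk to a neighbourhood. -/
theorem exists_isNbhd {A' : Type u} [CommRing A'] [Algebra A A'] [Algebra.Etale A A']
    (γ : A' →ₐ[A] A ⧸ I) :
    ∃ (C : Type u) (_ : CommRing C) (_ : Algebra A C) (_ : Algebra.Etale A C) (ρ : A' →ₐ[A] C)
      (_ : IsNbhd I C) (δ : C →ₐ[A] A ⧸ I), δ.comp ρ = γ := by
  classical
  have hγs : Function.Surjective γ := fun q => by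
    obtain ⟨a, rfl⟩ := Ideal.Quotient.mk_surjective q
    exact ⟨algebraMap A A' a, γ.commutes a⟩
  set IA' := I.map (algebraMap A A')
  have hIγ : ∀ z ∈ IA', γ z = 0 := fun z hz =>
    (Ideal.map_le_iff_le_comap.mpr fun b hb => by
      show γ (algebraMap A A' b) = 0
      rw [γ.commutes, Ideal.Quotient.algebraMap_eq, Ideal.Quotient.eq_zero_iff_mem.mpr hb] :
      IA' ≤ RingHom.ker γ.toRingHom) hz
  let γA : (A ⧸ I) ⊗[A] A' →ₐ[A ⧸ I] A ⧸ I :=
    Algebra.TensorProduct.lift (Algebra.ofId _ _) γ fun _ _ => Commute.all _ _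
  obtain ⟨G, hG⟩ := Algebra.FinitePresentation.ker_fG_of_surjective γA fun q =>
    ⟨q ⊗ₜ 1, by simp [γA]⟩
  have hmem : ∀ z ∈ G, ∃ w : A', γ w = 0 ∧ (1 : A ⧸ I) ⊗ₜ[A] w = z := by
    intro z hz
    obtain ⟨w, rfl⟩ := TensorProduct.mk_surjective A A' (A ⧸ I) Ideal.Quotient.mk_surjective z
    refine ⟨w, ?_, rfl⟩
    have : γA ((1 : A ⧸ I) ⊗ₜ[A] w) = 0 := RingHom.mem_ker.mp (hG ▸ Ideal.subset_span hz)
    simpa [γA] using this
  choose! w hw0 hw using hmem
  choose! s hs1 hs using fun z (hz : z ∈ G) => exists_mul_mem_map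
    (surjective_algebraMap_quotient I) γ (hw0 z hz)
  simp only [ker_algebraMap_quotient] at hs
  let t : A' := ∏ z ∈ G, s z
  have ht : γ t = 1 := by rw [map_prod]; exact Finset.prod_eq_one hs1
  have key : ∀ x, γ x = 0 → t * x ∈ IA' := by
    intro x hx
    have hx' : (1 : A ⧸ I) ⊗ₜ[A] x ∈ Ideal.span (G : Set ((A ⧸ I) ⊗[A] A')) := by
      rw [hG]
      show γA _ = 0
      simpa [γA] using hx
    suffices h : ((1 : A ⧸ I) ⊗ₜ[A] t) * ((1 : A ⧸ I) ⊗ₜ[A] x) = 0 by
      rw [Algebra.TensorProduct.tmul_mul_tmul, one_mul] at h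
      exact (one_tmul_eq_zero_iff _).mp h
    refine Submodule.span_induction (fun z hz => ?_) (mul_zero _)
      (fun a b _ _ ha hb => by rw [mul_add, ha, hb, add_zero])
      (fun c a _ ha => by rw [smul_eq_mul, mul_left_comm, ha, mul_zero]) hx'
    rw [← hw z hz, Algebra.TensorProduct.tmul_mul_tmul, one_mul]
    rw [one_tmul_eq_zero_iff, show t = (∏ y ∈ G.erase z, s y) * s z from
        (Finset.prod_erase_mul _ _ hz).symm, mul_assoc]
    exact Ideal.mul_mem_left _ _ (hs z hz)
  let C := Localization.Away t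
  have : Algebra.Etale A' C := .of_isLocalizationAway t
  have hC : Algebra.Etale A C := Algebra.Etale.comp A A' C
  let δ : C →ₐ[A] A ⧸ I :=
    IsLocalization.Away.liftAlgHom (S := C) t (f := γ) (ht ▸ isUnit_one)
  have hδ : ∀ x, δ (algebraMap A' C x) = γ x := fun x => IsLocalization.lift_eq _ x
  have hu : IsUnit (algebraMap A' C t) := IsLocalization.Away.algebraMap_isUnit t
  have hkey : ∀ x, γ x = 0 → algebraMap A' C x ∈ I.map (algebraMap A C) := fun x hx => by
    refine (Ideal.unit_mul_mem_iff_mem _ hu).mp ?_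
    rw [← map_mul]
    have := Ideal.mem_map_of_mem (algebraMap A' C) (key x hx)
    rwa [Ideal.map_map, ← IsScalarTower.algebraMap_eq] at this
  refine ⟨C, inferInstance, inferInstance, hC, IsScalarTower.toAlgHom A A' C,
    ⟨Ideal.quotientMap_injective' fun a ha => ?_, fun q => ?_⟩, δ, AlgHom.ext hδ⟩
  · have hle : I.map (algebraMap A C) ≤ RingHom.ker δ.toRingHom :=
      Ideal.map_le_iff_le_comap.mpr fun b hb => by
        show δ (algebraMap A C b) = 0
        rw [δ.commutes, Ideal.Quotient.algebraMap_eq, Ideal.Quotient.eq_zero_iff_mem.mpr hb]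
    have := hle ha
    rwa [RingHom.mem_ker, AlgHom.toRingHom_eq_coe, RingHom.coe_coe, δ.commutes,
      Ideal.Quotient.algebraMap_eq, Ideal.Quotient.eq_zero_iff_mem] at this
  · obtain ⟨y, rfl⟩ := Ideal.Quotient.mk_surjective q
    obtain ⟨x, ⟨_, n, rfl⟩, rfl⟩ := IsLocalization.exists_mk'_eq (Submonoid.powers t) y
    obtain ⟨a, ha⟩ := Ideal.Quotient.mk_surjective (γ x)
    refine ⟨Ideal.Quotient.mk I a, ?_⟩
    rw [Ideal.quotientMap_mk, Ideal.Quotient.eq]
    refine (Ideal.unit_mul_mem_iff_mem _ (hu.pow n)).mp ?_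
    rw [mul_sub, ← map_pow, mul_comm _ (IsLocalization.mk' C x _),
      IsLocalization.mk'_spec C x (⟨t ^ n, n, rfl⟩ : Submonoid.powers t),
      IsScalarTower.algebraMap_apply A A' C, ← map_mul, ← map_sub]
    refine hkey _ ?_
    rw [map_sub, map_mul, map_pow, ht, one_pow, one_mul, γ.commutes, Ideal.Quotient.algebraMap_eq,
      ha, sub_self]

/-- A neighbourhood has exactly one map to the henselization. -/
theorem nonempty_unique_algHom {B : Type u} [CommRing B] [Algebra A B]
    (hB : Hens2.IsPairHenselization A I B) {A' : Type u} [CommRing A'] [Algebra A A']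
    [Algebra.Etale A A'] (h : IsNbhd I A') : Nonempty (Unique (A' →ₐ[A] B)) := by
  let e := equivOfIsPairHenselization hB
  obtain ⟨φ, hφ, huniq⟩ := Lim.existsUnique_map A' (point h)
  refine ⟨⟨⟨e.toAlgHom.comp φ⟩, fun ψ => ?_⟩⟩
  have : e.symm.toAlgHom.comp ψ = φ := huniq _ (eq_point h _)
  refine AlgHom.ext fun x => ?_
  show ψ x = e (φ x)
  rw [← this]
  exact (e.apply_symm_apply (ψ x)).symm

theorem subsingleton_algHom {B : Type u} [CommRing B] [Algebra A B]
    (hB : Hens2.IsPairHenselization A I B) {A' : Type u} [CommRing A'] [Algebra A A']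
    [Algebra.Etale A A'] (h : IsNbhd I A') (φ ψ : A' →ₐ[A] B) : φ = ψ :=
  (nonempty_unique_algHom hB h).elim fun hu => hu.uniq φ |>.trans (hu.uniq ψ).symm

/-- Finitely many elements of the henselization come from one neighbourhood. -/
theorem exists_isNbhd_range {B : Type u} [CommRing B] [Algebra A B]
    (hB : Hens2.IsPairHenselization A I B) (S : Finset B) :
    ∃ (A' : Type u) (_ : CommRing A') (_ : Algebra A A') (_ : Algebra.Etale A A')
      (_ : IsNbhd I A') (φ : A' →ₐ[A] B), (S : Set B) ⊆ Set.range φ := by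
  classical
  let e := equivOfIsPairHenselization hB
  obtain ⟨A₁, _, _, _, φ, hφ⟩ := Lim.exists_etale_range (S.image e.symm)
  obtain ⟨C, _, _, hC, ρ, hn, δ, hδ⟩ := exists_isNbhd ((Lim.α A (A ⧸ I)).comp φ)
  obtain ⟨φ', hφ', -⟩ := Lim.existsUnique_map C δ
  have h1 : φ'.comp ρ = φ := (Lim.existsUnique_map A₁ ((Lim.α A (A ⧸ I)).comp φ)).unique
    (by rw [← AlgHom.comp_assoc, hφ', hδ]) rfl
  refine ⟨C, inferInstance, inferInstance, hC, hn, e.toAlgHom.comp φ', fun x hx => ?_⟩
  obtain ⟨y, hy⟩ := hφ (Finset.mem_image_of_mem e.symm hx)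
  refine ⟨ρ y, ?_⟩
  show e ((φ'.comp ρ) y) = x
  rw [h1, hy, e.apply_symm_apply]

/-- Finitely many elements dying in the henselization die in a neighbourhood. -/
theorem exists_isNbhd_kill {B : Type u} [CommRing B] [Algebra A B]
    (hB : Hens2.IsPairHenselization A I B) {A' : Type u} [CommRing A'] [Algebra A A']
    [Algebra.Etale A A'] (φ : A' →ₐ[A] B) (S : Finset A') (hS : ∀ s ∈ S, φ s = 0) :
    ∃ (A'' : Type u) (_ : CommRing A'') (_ : Algebra A A'') (_ : Algebra.Etale A A'')
      (_ : IsNbhd I A'') (ρ : A' →ₐ[A] A''), ∀ s ∈ S, ρ s = 0 := by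
  classical
  let e := equivOfIsPairHenselization hB
  have key : ∀ T ⊆ S, ∃ (E : Type u) (_ : CommRing E) (_ : Algebra A E) (_ : Algebra.Etale A E)
      (ρ : A' →ₐ[A] E) (ψ : E →ₐ[A] PairHenselization I),
      ψ.comp ρ = e.symm.toAlgHom.comp φ ∧ ∀ s ∈ T, ρ s = 0 := by
    intro T
    induction T using Finset.induction with
    | empty => exact fun _ => ⟨A', inferInstance, inferInstance, inferInstance, AlgHom.id A A',
        e.symm.toAlgHom.comp φ, AlgHom.comp_id _, by simp⟩
    | insert a T ha ih =>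
      intro hT
      obtain ⟨E, _, _, _, ρ, ψ, hψ, hρ⟩ := ih ((Finset.subset_insert a T).trans hT)
      obtain ⟨E', _, _, _, ρ', ψ', hψ', h0⟩ := IndEtale.exists_etale_kill ψ (z := ρ a) (by
        rw [← AlgHom.comp_apply, hψ]
        simp [hS a (hT (Finset.mem_insert_self a T))])
      refine ⟨E', inferInstance, inferInstance, inferInstance, ρ'.comp ρ, ψ',
        by rw [← AlgHom.comp_assoc, hψ', hψ], fun x hx => ?_⟩
      rcases Finset.mem_insert.mp hx with rfl | hx
      · exact h0
      · rw [AlgHom.comp_apply, hρ x hx, map_zero]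
  obtain ⟨E, _, _, _, ρ, ψ, -, hρ⟩ := key S subset_rfl
  obtain ⟨C, _, _, hC, ρ', hn, -⟩ := exists_isNbhd ((Lim.α A (A ⧸ I)).comp ψ)
  exact ⟨C, inferInstance, inferInstance, hC, hn, ρ'.comp ρ,
    fun s hs => by rw [AlgHom.comp_apply, hρ s hs, map_zero]⟩

variable (I) in
/-- Two neighbourhoods map to a common one. -/
theorem exists_isNbhd_pair (A₁ A₂ : Type u) [CommRing A₁] [Algebra A A₁] [Algebra.Etale A A₁]
    [CommRing A₂] [Algebra A A₂] [Algebra.Etale A A₂] (h₁ : IsNbhd I A₁) (h₂ : IsNbhd I A₂) :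
    ∃ (A₃ : Type u) (_ : CommRing A₃) (_ : Algebra A A₃) (_ : Algebra.Etale A A₃),
      IsNbhd I A₃ ∧ Nonempty (A₁ →ₐ[A] A₃) ∧ Nonempty (A₂ →ₐ[A] A₃) := by
  have : Algebra.Etale A (A₁ ⊗[A] A₂) := Algebra.Etale.comp A A₁ _
  obtain ⟨C, _, _, hC, ρ, hn, -⟩ :=
    exists_isNbhd (Algebra.TensorProduct.productMap (point h₁) (point h₂))
  exact ⟨C, inferInstance, inferInstance, hC, hn, ⟨ρ.comp Algebra.TensorProduct.includeLeft⟩,
    ⟨ρ.comp Algebra.TensorProduct.includeRight⟩⟩

variable (I) in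
/-- Parallel maps of neighbourhoods are equalised by a map to a third one. -/
theorem exists_isNbhd_eq (A₁ A₂ : Type u) [CommRing A₁] [Algebra A A₁] [Algebra.Etale A A₁]
    [CommRing A₂] [Algebra A A₂] [Algebra.Etale A A₂] (h₁ : IsNbhd I A₁) (h₂ : IsNbhd I A₂)
    (f g : A₁ →ₐ[A] A₂) :
    ∃ (A₃ : Type u) (_ : CommRing A₃) (_ : Algebra A A₃) (_ : Algebra.Etale A A₃),
      IsNbhd I A₃ ∧ ∃ h : A₂ →ₐ[A] A₃, h.comp f = h.comp g := by
  classical
  have hB := isPairHenselization I
  obtain ⟨φ⟩ := (nonempty_unique_algHom hB h₂).map fun hu => hu.default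
  have hfg := subsingleton_algHom hB h₁ (φ.comp f) (φ.comp g)
  obtain ⟨s, hs⟩ := Algebra.FiniteType.out (R := A) (A := A₁)
  obtain ⟨C, _, _, hC, hn, ρ, hρ⟩ := exists_isNbhd_kill hB φ (s.image fun x => f x - g x) (by
    intro y hy
    obtain ⟨x, -, rfl⟩ := Finset.mem_image.mp hy
    rw [map_sub, sub_eq_zero]
    exact AlgHom.congr_fun hfg x)
  exact ⟨C, inferInstance, inferInstance, hC, hn, ρ, AlgHom.ext_of_adjoin_eq_top hs fun x hx =>
    sub_eq_zero.mp ((map_sub ρ _ _).symm.trans (hρ _ (Finset.mem_image_of_mem _ hx)))⟩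

end Groth.Agent.Lib.Henselian.PairHenselization
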