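import Groth.Agent.Lib.Henselian.Etale
import Mathlib.Algebra.Colimit.DirectLimit
import Mathlib.RingTheory.Etale.StandardEtale
import Mathlib.RingTheory.Flat.EquationalCriterion
import Mathlib.RingTheory.RingHom.Flat

/-!
# The colimit of pointed étale algebras

For an `A`-algebra `Ω`, `Lim A Ω` is the filtered colimit, over all pairs `(A', α : A' →ₐ[A] Ω)` with
`A'` étale over `A`, of `A'` localised at the elements becoming units in `Ω`.  The map `Lim.α` to `Ω`
is a local homomorphism, `Lim A Ω` is henselian at its kernel, flat over `A`, and has a universal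
property.  For `Ω = A/I` this is the henselization of the pair, for `Ω` a separable closure of the
residue field of a local ring it is the strict henselization.
-/

universe u

open TensorProduct
open Groth.Agent.Lib.Henselian.Basic Groth.Agent.Lib.Henselian.Etale

namespace Groth.Agent.Lib.Henselian.Pointed

variable (A : Type u) [CommRing A] (Ω : Type u) [CommRing Ω] [Algebra A Ω]

/-- An étale algebra with a point in `Ω`, given by a presentation. -/
structure Pt : Type u where
  n : ℕ
  K : Ideal (MvPolynomial (Fin n) A)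
  etale : Algebra.Etale A (MvPolynomial (Fin n) A ⧸ K)
  pt : (MvPolynomial (Fin n) A ⧸ K) →ₐ[A] Ω

variable {A Ω} in
/-- For an unramified algebra with a section, the kernel of the section is, up to an element
mapping to `1`, extended from the base. -/
lemma exists_mul_mem_map (h : Function.Surjective (algebraMap A Ω)) {A' : Type u} [CommRing A']
    [Algebra A A'] [Algebra.FormallyUnramified A A'] [Algebra.EssFiniteType A A'] (γ : A' →ₐ[A] Ω)
    {x : A'} (hx : γ x = 0) :
    ∃ s : A', γ s = 1 ∧ s * x ∈ (RingHom.ker (algebraMap A Ω)).map (algebraMap A A') := by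
  set K := RingHom.ker (algebraMap A Ω) with hK
  set IA' := K.map (algebraMap A A') with hIA'
  let e : (A ⧸ K) ≃ₐ[A] Ω := Ideal.quotientKerAlgEquivOfSurjective (f := Algebra.ofId A Ω) h
  let ι₁ : A ⧸ K →ₐ[A] A' ⧸ IA' :=
    Ideal.Quotient.liftₐ K (Algebra.ofId A _) fun a ha => by
      rw [Algebra.ofId_apply, IsScalarTower.algebraMap_apply A A' (A' ⧸ IA'),
        Ideal.Quotient.algebraMap_eq, Ideal.Quotient.eq_zero_iff_mem]
      exact Ideal.mem_map_of_mem _ ha
  let ι₀ : Ω →ₐ[A] A' ⧸ IA' := ι₁.comp e.symm.toAlgHom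
  have hγ : ∀ z ∈ IA', γ z = 0 := by
    intro z hz
    have hle : IA' ≤ RingHom.ker γ.toRingHom := Ideal.map_le_iff_le_comap.mpr fun a ha => by
      rw [Ideal.mem_comap, RingHom.mem_ker]
      exact (γ.commutes a).trans ha
    exact hle hz
  let γ' : A' ⧸ IA' →ₐ[A] Ω := Ideal.Quotient.liftₐ IA' γ hγ
  have hγι : ∀ q : Ω, γ' (ι₀ q) = q := fun q => by
    obtain ⟨a, rfl⟩ := h q
    rw [AlgHom.commutes, AlgHom.commutes]
  let μ := Algebra.TensorProduct.productMap (Ideal.Quotient.mkₐ A IA') (ι₀.comp γ)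
  have hγμ : ∀ u : A' ⊗[A] A', γ' (μ u) = γ (Algebra.TensorProduct.lmul' A u) := by
    intro u
    induction u using TensorProduct.induction_on with
    | zero => simp
    | tmul x y =>
      simp only [μ, Algebra.TensorProduct.productMap_apply_tmul, map_mul, AlgHom.comp_apply, hγι,
        Algebra.TensorProduct.lmul'_apply_tmul]
      rfl
    | add u u' hu hu' => simp only [map_add, hu, hu']
  obtain ⟨s, hs⟩ := Ideal.Quotient.mk_surjective (μ (Algebra.FormallyUnramified.elem A A'))
  refine ⟨s, ?_, ?_⟩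
  · have := hγμ (Algebra.FormallyUnramified.elem A A')
    rw [Algebra.FormallyUnramified.lmul_elem, map_one, ← hs] at this
    exact this
  · have := congrArg μ (Algebra.FormallyUnramified.one_tmul_mul_elem (R := A) x)
    simp only [map_mul, μ, Algebra.TensorProduct.productMap_apply_tmul, map_one, one_mul, mul_one,
      AlgHom.comp_apply, hx, map_zero, zero_mul] at this
    rw [← Ideal.Quotient.eq_zero_iff_mem, map_mul, hs, mul_comm]
    exact this.symm

namespace Pt

variable {A Ω}

/-- The étale algebra of a pointed étale algebra. -/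
abbrev Alg (i : Pt A Ω) : Type u := MvPolynomial (Fin i.n) A ⧸ i.K

instance instEtale (i : Pt A Ω) : Algebra.Etale A i.Alg := i.etale

/-- The elements becoming units at the point. -/
noncomputable def units (i : Pt A Ω) : Submonoid i.Alg := (IsUnit.submonoid Ω).comap i.pt

lemma mem_units {i : Pt A Ω} {x : i.Alg} : x ∈ i.units ↔ IsUnit (i.pt x) := Iff.rfl

/-- The localisation at the point. -/
def Loc (i : Pt A Ω) : Type u := Localization i.units

noncomputable instance instCommRingLoc (i : Pt A Ω) : CommRing i.Loc :=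
  inferInstanceAs (CommRing (Localization i.units))

noncomputable instance instAlgebraAlgLoc (i : Pt A Ω) : Algebra i.Alg i.Loc :=
  inferInstanceAs (Algebra i.Alg (Localization i.units))

noncomputable instance instAlgebraLoc (i : Pt A Ω) : Algebra A i.Loc :=
  inferInstanceAs (Algebra A (Localization i.units))

instance instIsScalarTowerLoc (i : Pt A Ω) : IsScalarTower A i.Alg i.Loc :=
  inferInstanceAs (IsScalarTower A i.Alg (Localization i.units))

instance instIsLocalizationLoc (i : Pt A Ω) : IsLocalization i.units i.Loc :=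
  inferInstanceAs (IsLocalization i.units (Localization i.units))

instance instFormallyEtaleLoc (i : Pt A Ω) : Algebra.FormallyEtale A i.Loc :=
  inferInstanceAs (Algebra.FormallyEtale A (Localization i.units))

/-- The point of the localisation. -/
noncomputable def α (i : Pt A Ω) : i.Loc →ₐ[A] Ω :=
  IsLocalization.liftAlgHom (S := i.Loc) (M := i.units) (f := i.pt) fun y => y.2

lemma α_algebraMap (i : Pt A Ω) (x : i.Alg) : i.α (algebraMap i.Alg i.Loc x) = i.pt x :=
  IsLocalization.lift_eq (S := i.Loc) _ x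

instance instIsLocalHomα (i : Pt A Ω) : IsLocalHom (i.α : i.Loc →+* Ω) where
  map_nonunit x hx := by
    obtain ⟨⟨z, s⟩, hzs⟩ := IsLocalization.surj i.units x
    have h1 := congrArg i.α hzs
    rw [map_mul, α_algebraMap, α_algebraMap] at h1
    have hz : z ∈ i.units := by
      rw [mem_units, ← h1]
      exact hx.mul s.2
    have h2 : IsUnit (algebraMap i.Alg i.Loc z) := IsLocalization.map_units i.Loc ⟨z, hz⟩
    rw [← hzs] at h2
    exact isUnit_of_mul_isUnit_left h2

/-- A map of étale algebras compatible with the points extends to the localisations. -/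
lemma exists_locMap {i : Pt A Ω} {C : Type u} [CommRing C] [Algebra A C] (γ : C →ₐ[A] Ω)
    [IsLocalHom (γ : C →+* Ω)] (f : i.Alg →ₐ[A] C) (hf : γ.comp f = i.pt) :
    ∃ g : i.Loc →ₐ[A] C, γ.comp g = i.α ∧ ∀ x, g (algebraMap i.Alg i.Loc x) = f x := by
  have hu : ∀ y : i.units, IsUnit (f y) := fun y => by
    refine IsUnit.of_map (γ : C →+* Ω) _ ?_
    change IsUnit ((γ.comp f) y)
    rw [hf]
    exact y.2
  refine ⟨IsLocalization.liftAlgHom (S := i.Loc) hu, ?_, fun x => IsLocalization.lift_eq (S := i.Loc) _ x⟩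
  refine IsLocalization.algHom_ext i.units (AlgHom.ext fun x => ?_)
  change γ (IsLocalization.lift (S := i.Loc) hu (algebraMap i.Alg i.Loc x)) = i.α (algebraMap i.Alg i.Loc x)
  rw [IsLocalization.lift_eq, α_algebraMap, ← hf]
  rfl

/-- Maps out of the localisation compatible with the points are unique. -/
lemma locMap_unique {i : Pt A Ω} {C : Type u} [CommRing C] [Algebra A C] {Ω' : Type u}
    [CommRing Ω'] (γ : C →+* Ω') [IsLocalHom γ] (g g' : i.Loc →ₐ[A] C)
    (h : ∀ x, γ (g x) = γ (g' x)) : g = g' := by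
  refine IsLocalization.algHom_ext i.units ?_
  exact algHom_ext_of_isLocalHom γ _ _ fun x => h _

instance instPreorder : Preorder (Pt A Ω) where
  le i j := Nonempty {f : i.Loc →ₐ[A] j.Loc // j.α.comp f = i.α}
  le_refl i := ⟨AlgHom.id A _, AlgHom.comp_id _⟩
  le_trans i j k := fun ⟨⟨f, hf⟩⟩ ⟨⟨g, hg⟩⟩ =>
    ⟨⟨g.comp f, by rw [← AlgHom.comp_assoc, hg, hf]⟩⟩

/-- The transition maps. -/
noncomputable def trans {i j : Pt A Ω} (h : i ≤ j) : i.Loc →ₐ[A] j.Loc := (Classical.choice h).1

lemma α_trans {i j : Pt A Ω} (h : i ≤ j) (x : i.Loc) : j.α (trans h x) = i.α x :=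
  AlgHom.congr_fun (Classical.choice h).2 x

lemma eq_trans {i j : Pt A Ω} (h : i ≤ j) (g : i.Loc →ₐ[A] j.Loc) (hg : j.α.comp g = i.α) :
    g = trans h :=
  locMap_unique (j.α : j.Loc →+* Ω) _ _ fun x => (AlgHom.congr_fun hg x).trans (α_trans h x).symm

instance instDirectedSystem : DirectedSystem (fun i : Pt A Ω => i.Loc) (fun _ _ h => trans h) where
  map_self i x := (AlgHom.congr_fun (eq_trans (le_refl i) (AlgHom.id A _) (AlgHom.comp_id _)) x).symm
  map_map k j i hij hjk x := AlgHom.congr_fun (eq_trans (hij.trans hjk) ((trans hjk).comp (trans hij))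
    (AlgHom.ext fun y => by rw [AlgHom.comp_apply, AlgHom.comp_apply, α_trans, α_trans])) x

variable (A Ω) in
/-- A pointed étale algebra gives an object of the index category. -/
theorem exists_ofAlgebra (A' : Type u) [CommRing A'] [Algebra A A'] [Algebra.Etale A A']
    (γ : A' →ₐ[A] Ω) : ∃ (i : Pt A Ω) (e : A' ≃ₐ[A] i.Alg), i.pt.comp e.toAlgHom = γ := by
  obtain ⟨n, π, hπ, -⟩ := Algebra.FinitePresentation.out (R := A) (A := A')
  let e := Ideal.quotientKerAlgEquivOfSurjective hπ
  exact ⟨⟨n, _, Algebra.Etale.of_equiv e.symm, γ.comp e.toAlgHom⟩, e.symm,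
    AlgHom.ext fun x => congrArg γ (e.apply_symm_apply x)⟩

instance instNonempty : Nonempty (Pt A Ω) :=
  let ⟨i, _⟩ := exists_ofAlgebra A Ω A (Algebra.ofId A Ω)
  ⟨i⟩

instance instIsDirectedOrder : IsDirectedOrder (Pt A Ω) where
  directed i j := by
    let γ : i.Alg ⊗[A] j.Alg →ₐ[A] Ω := Algebra.TensorProduct.productMap i.pt j.pt
    have : Algebra.Etale A (i.Alg ⊗[A] j.Alg) := Algebra.Etale.comp A i.Alg _
    obtain ⟨k, e, he⟩ := exists_ofAlgebra A Ω (i.Alg ⊗[A] j.Alg) γ
    let ψ : i.Alg ⊗[A] j.Alg →ₐ[A] k.Loc :=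
      (IsScalarTower.toAlgHom A k.Alg k.Loc).comp e.toAlgHom
    have hψ : ∀ z, k.α (ψ z) = γ z := fun z => by
      rw [← he]
      exact α_algebraMap k (e z)
    have h1 : k.α.comp (ψ.comp Algebra.TensorProduct.includeLeft) = i.pt :=
      AlgHom.ext fun x => (hψ (x ⊗ₜ 1)).trans (by simp [γ])
    have h2 : k.α.comp (ψ.comp Algebra.TensorProduct.includeRight) = j.pt :=
      AlgHom.ext fun x => (hψ (1 ⊗ₜ x)).trans (by simp [γ])
    obtain ⟨g₁, hg₁, -⟩ := exists_locMap k.α _ h1
    obtain ⟨g₂, hg₂, -⟩ := exists_locMap k.α _ h2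
    exact ⟨k, ⟨⟨g₁, hg₁⟩⟩, ⟨⟨g₂, hg₂⟩⟩⟩

end Pt

/-- The colimit of pointed étale algebras. -/
def Lim : Type u := DirectLimit (fun i : Pt A Ω => i.Loc) (fun _ _ h => Pt.trans h)

noncomputable instance instCommRingLim : CommRing (Lim A Ω) :=
  inferInstanceAs (CommRing (DirectLimit (fun i : Pt A Ω => i.Loc) (fun _ _ h => Pt.trans h)))

noncomputable instance instAlgebraLim : Algebra A (Lim A Ω) :=
  inferInstanceAs (Algebra A (DirectLimit (fun i : Pt A Ω => i.Loc) (fun _ _ h => Pt.trans h)))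

namespace Lim

variable {A Ω}

/-- The map from a stage. -/
noncomputable def of (i : Pt A Ω) : i.Loc →ₐ[A] Lim A Ω :=
  DirectLimit.Algebra.of (fun i : Pt A Ω => i.Loc) (fun _ _ h => Pt.trans h) i

lemma of_trans {i j : Pt A Ω} (h : i ≤ j) (x : i.Loc) : of j (Pt.trans h x) = of i x :=
  DirectLimit.Algebra.of_f h x

lemma exists_of (x : Lim A Ω) : ∃ (i : Pt A Ω) (y : i.Loc), of i y = x := by
  induction x using DirectLimit.induction with | _ i y
  exact ⟨i, y, rfl⟩

lemma exists_trans_eq {i j : Pt A Ω} {x : i.Loc} {y : j.Loc} (h : of i x = of j y) :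
    ∃ (k : Pt A Ω) (hi : i ≤ k) (hj : j ≤ k), Pt.trans hi x = Pt.trans hj y := by
  obtain ⟨k, hi, hj, e⟩ := Quotient.exact h
  exact ⟨k, hi, hj, e⟩

variable (A Ω) in
/-- The point of the colimit. -/
noncomputable def α : Lim A Ω →ₐ[A] Ω :=
  DirectLimit.Algebra.lift (fun i : Pt A Ω => i.Loc) (fun _ _ h => Pt.trans h) Ω (fun i => i.α)
    fun _ _ h x => Pt.α_trans h x

@[simp] lemma α_of (i : Pt A Ω) (x : i.Loc) : α A Ω (of i x) = i.α x := rfl

instance instIsLocalHomα : IsLocalHom (α A Ω : Lim A Ω →+* Ω) where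
  map_nonunit x hx := by
    obtain ⟨i, y, rfl⟩ := exists_of x
    exact (IsUnit.of_map (i.α : i.Loc →+* Ω) y hx).map (of i)

/-- Every pointed étale algebra maps uniquely to the colimit. -/
theorem existsUnique_map (A' : Type u) [CommRing A'] [Algebra A A'] [Algebra.Etale A A']
    (γ : A' →ₐ[A] Ω) : ∃! φ : A' →ₐ[A] Lim A Ω, (α A Ω).comp φ = γ := by
  obtain ⟨i, e, he⟩ := Pt.exists_ofAlgebra A Ω A' γ
  let φ : A' →ₐ[A] Lim A Ω :=
    (of i).comp ((IsScalarTower.toAlgHom A i.Alg i.Loc).comp e.toAlgHom)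
  have hφ : (α A Ω).comp φ = γ := by
    rw [← he]
    exact AlgHom.ext fun x => Pt.α_algebraMap i (e x)
  refine ⟨φ, hφ, fun φ' hφ' => algHom_ext_of_isLocalHom (α A Ω : Lim A Ω →+* Ω) φ' φ fun x => ?_⟩
  exact AlgHom.congr_fun (hφ'.trans hφ.symm) x

/-- Any finite set of elements comes from a single pointed étale algebra. -/
theorem exists_etale_range (s : Finset (Lim A Ω)) :
    ∃ (A' : Type u) (_ : CommRing A') (_ : Algebra A A') (_ : Algebra.Etale A A')
      (φ : A' →ₐ[A] Lim A Ω), (s : Set (Lim A Ω)) ⊆ Set.range φ := by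
  classical
  induction s using Finset.induction with
  | empty => exact ⟨A, inferInstance, inferInstance, inferInstance, Algebra.ofId A _, by simp⟩
  | insert x s hx ih =>
    obtain ⟨A₁, _, _, _, φ₁, h₁⟩ := ih
    obtain ⟨i, y, rfl⟩ := exists_of x
    obtain ⟨⟨z, t⟩, hzt⟩ := IsLocalization.surj i.units y
    let T := Localization.Away (t : i.Alg)
    have hu : IsUnit ((IsScalarTower.toAlgHom A i.Alg i.Loc) t) :=
      IsLocalization.map_units i.Loc t
    let φ₂ : T →ₐ[A] Lim A Ω := (of i).comp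
      (IsLocalization.Away.liftAlgHom (S := T) (t : i.Alg) (f := IsScalarTower.toAlgHom A i.Alg i.Loc) hu)
    have hy : of i y ∈ Set.range φ₂ := by
      refine ⟨IsLocalization.mk' T z ⟨(t : i.Alg), Submonoid.mem_powers _⟩, congrArg (of i) ?_⟩
      exact (IsLocalization.lift_mk'_spec _ _ _ _).mpr (hzt.symm.trans (mul_comm _ _))
    have : Algebra.Etale A (A₁ ⊗[A] T) := Algebra.Etale.comp A A₁ _
    refine ⟨A₁ ⊗[A] T, inferInstance, inferInstance, this,
      Algebra.TensorProduct.productMap φ₁ φ₂, ?_⟩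
    rw [Finset.coe_insert, Set.insert_subset_iff]
    refine ⟨?_, fun w hw => ?_⟩
    · obtain ⟨w, hw⟩ := hy
      exact ⟨1 ⊗ₜ w, by simp [hw]⟩
    · obtain ⟨w', hw'⟩ := h₁ hw
      exact ⟨w' ⊗ₜ 1, by simp [hw']⟩

lemma ker_le_jacobson : RingHom.ker (α A Ω : Lim A Ω →+* Ω) ≤ Ideal.jacobson ⊥ :=
  le_jacobson_bot_of_isUnit_add_one fun x hx => IsUnit.of_map (α A Ω : Lim A Ω →+* Ω) _ (by
    rw [map_add, map_one, RingHom.mem_ker.mp hx, add_zero]
    exact isUnit_one)

/-- The colimit is henselian at the kernel of its point. -/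
theorem henselianRing_ker :
    HenselianRing (Lim A Ω) (RingHom.ker (α A Ω : Lim A Ω →+* Ω)) where
  jac := ker_le_jacobson
  is_henselian f hf a₀ h₁ h₂ := by
    classical
    obtain ⟨A', _, _, _, φ, hφ⟩ := exists_etale_range (insert a₀ f.coeffs)
    have hlift : f ∈ Polynomial.lifts (φ : A' →+* Lim A Ω) := by
      rw [Polynomial.lifts_iff_coeff_lifts]
      intro k
      by_cases hk : f.coeff k = 0
      · exact ⟨0, by rw [hk, map_zero]⟩
      · exact hφ (Finset.mem_insert_of_mem (Polynomial.coeff_mem_coeffs hk))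
    obtain ⟨g, hg, -, hgm⟩ := Polynomial.lifts_and_natDegree_eq_and_monic hlift hf
    obtain ⟨b₀, hb₀⟩ := hφ (Finset.mem_insert_self a₀ _)
    let P : StandardEtalePair A' := ⟨g, hgm, Polynomial.derivative g, ⟨1, 0, 1, by simp⟩⟩
    let γ : A' →ₐ[A] Ω := (α A Ω).comp φ
    let : Algebra A' Ω := γ.toRingHom.toAlgebra
    have : IsScalarTower A A' Ω := IsScalarTower.of_algebraMap_eq fun a => (γ.commutes a).symm
    have hev : ∀ q : Polynomial A', Polynomial.aeval (α A Ω a₀) q =
        α A Ω ((q.map (φ : A' →+* Lim A Ω)).eval a₀) := fun q => by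
      rw [Polynomial.aeval_def, Polynomial.eval_map]
      exact (Polynomial.hom_eval₂ q (φ : A' →+* Lim A Ω) (α A Ω : Lim A Ω →+* Ω) a₀).symm
    have hP : P.HasMap (α A Ω a₀) := by
      constructor
      · rw [hev, show P.f.map (φ : A' →+* Lim A Ω) = f from hg]
        exact h₁
      · rw [hev, ← Polynomial.derivative_map, show g.map (φ : A' →+* Lim A Ω) = f from hg]
        obtain ⟨b, hb⟩ := isUnit_iff_exists_inv.mp h₂
        obtain ⟨b, rfl⟩ := Ideal.Quotient.mk_surjective b
        rw [← map_mul, ← map_one (Ideal.Quotient.mk _), Ideal.Quotient.eq, RingHom.mem_ker,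
          map_sub, map_mul, map_one, sub_eq_zero] at hb
        exact IsUnit.of_mul_eq_one _ hb
    let : Algebra A P.Ring := ((algebraMap A' P.Ring).comp (algebraMap A A')).toAlgebra
    have : IsScalarTower A A' P.Ring := IsScalarTower.of_algebraMap_eq fun _ => rfl
    have : Algebra.Etale A P.Ring := Algebra.Etale.comp A A' P.Ring
    let γ' : P.Ring →ₐ[A] Ω := (P.lift _ hP).restrictScalars A
    obtain ⟨ψ, hψ, -⟩ := existsUnique_map P.Ring γ'
    have hψφ : ψ.comp (IsScalarTower.toAlgHom A A' P.Ring) = φ := by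
      refine algHom_ext_of_isLocalHom (α A Ω : Lim A Ω →+* Ω) _ _ fun x => ?_
      exact (AlgHom.congr_fun hψ (algebraMap A' P.Ring x)).trans ((P.lift _ hP).commutes x)
    refine ⟨ψ P.X, ?_, ?_⟩
    · have h0 : Polynomial.aeval P.X g = 0 := P.hasMap_X.1
      have := congrArg ψ h0
      rw [map_zero, Polynomial.aeval_def] at this
      rw [Polynomial.IsRoot, ← hg, Polynomial.eval_map, ← hψφ]
      exact ((Polynomial.hom_eval₂ g (algebraMap A' P.Ring) (ψ : P.Ring →+* Lim A Ω) P.X).symm.trans this)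
    · rw [RingHom.mem_ker, map_sub, sub_eq_zero]
      exact (AlgHom.congr_fun hψ P.X).trans (StandardEtalePair.lift_X _ _ hP)

/-- The universal property of the colimit. -/
theorem existsUnique_lift {C : Type u} [CommRing C] [Algebra A C] (J : Ideal C) [HenselianRing C J]
    (θ : Ω →ₐ[A] C ⧸ J) :
    ∃! g : Lim A Ω →ₐ[A] C, (Ideal.Quotient.mkₐ A J).comp g = θ.comp (α A Ω) := by
  have := isLocalHom_of_le_jacobson_bot J HenselianRing.jac
  have hstage : ∀ i : Pt A Ω, ∃ g : i.Loc →ₐ[A] C,
      (Ideal.Quotient.mkₐ A J).comp g = θ.comp i.α := by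
    intro i
    obtain ⟨τ, hτ⟩ := exists_algHom_lift J (θ.comp i.pt)
    have hu : ∀ y : i.units, IsUnit (τ y) := fun y => by
      refine isUnit_of_isUnit_mk (I := J) HenselianRing.jac ?_
      have h : Ideal.Quotient.mk J (τ y) = θ (i.pt y) := AlgHom.congr_fun hτ (y : i.Alg)
      rw [h]
      exact y.2.map θ
    refine ⟨IsLocalization.liftAlgHom (S := i.Loc) hu, IsLocalization.algHom_ext i.units (AlgHom.ext fun x => ?_)⟩
    change Ideal.Quotient.mk J (IsLocalization.lift (S := i.Loc) hu (algebraMap i.Alg i.Loc x)) =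
      θ (i.α (algebraMap i.Alg i.Loc x))
    rw [IsLocalization.lift_eq, Pt.α_algebraMap]
    exact AlgHom.congr_fun hτ x
  choose g hg using hstage
  have hcompat : ∀ i j (h : i ≤ j) (x : i.Loc), g j (Pt.trans h x) = g i x := by
    intro i j h x
    refine AlgHom.congr_fun (Pt.locMap_unique (Ideal.Quotient.mk J) ((g j).comp (Pt.trans h)) (g i)
      fun y => ?_) x
    have h1 := AlgHom.congr_fun (hg j) (Pt.trans h y)
    have h2 := AlgHom.congr_fun (hg i) y
    simp only [AlgHom.comp_apply, Pt.α_trans, Ideal.Quotient.mkₐ_eq_mk] at h1 h2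
    exact h1.trans h2.symm
  let G : Lim A Ω →ₐ[A] C :=
    DirectLimit.Algebra.lift (fun i : Pt A Ω => i.Loc) (fun _ _ h => Pt.trans h) C g hcompat
  refine ⟨G, AlgHom.ext fun x => ?_, fun G' hG' => AlgHom.ext fun x => ?_⟩
  · obtain ⟨i, y, rfl⟩ := exists_of x
    exact AlgHom.congr_fun (hg i) y
  · obtain ⟨i, y, rfl⟩ := exists_of x
    refine AlgHom.congr_fun (Pt.locMap_unique (Ideal.Quotient.mk J) (G'.comp (of i)) (g i)
      fun z => ?_) y
    exact (AlgHom.congr_fun hG' (of i z)).trans (AlgHom.congr_fun (hg i) z).symm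

/-- A map from an étale algebra to the colimit factors through a stage. -/
theorem exists_factor {A' : Type u} [CommRing A'] [Algebra A A'] [Algebra.Etale A A']
    (φ : A' →ₐ[A] Lim A Ω) : ∃ (i : Pt A Ω) (ψ : A' →ₐ[A] i.Loc), (of i).comp ψ = φ := by
  obtain ⟨i, e, he⟩ := Pt.exists_ofAlgebra A Ω A' ((α A Ω).comp φ)
  refine ⟨i, (IsScalarTower.toAlgHom A i.Alg i.Loc).comp e.toAlgHom, ?_⟩
  refine algHom_ext_of_isLocalHom (α A Ω : Lim A Ω →+* Ω) _ _ fun x => ?_
  exact (Pt.α_algebraMap i (e x)).trans (AlgHom.congr_fun he x)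

/-- An element of an étale algebra dying in the colimit dies at a stage. -/
theorem exists_factor_eq_zero {A' : Type u} [CommRing A'] [Algebra A A'] [Algebra.Etale A A']
    (φ : A' →ₐ[A] Lim A Ω) {z : A'} (hz : φ z = 0) :
    ∃ (i : Pt A Ω) (ψ : A' →ₐ[A] i.Loc), (of i).comp ψ = φ ∧ ψ z = 0 := by
  obtain ⟨i, ψ, hψ⟩ := exists_factor φ
  obtain ⟨k, hi, hi', h⟩ := exists_trans_eq (x := ψ z) (y := (0 : i.Loc))
    (((AlgHom.congr_fun hψ z).trans hz).trans (map_zero _).symm)
  refine ⟨k, (Pt.trans hi).comp ψ, AlgHom.ext fun x => ?_, by rw [AlgHom.comp_apply, h, map_zero]⟩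
  exact (of_trans hi (ψ x)).trans (AlgHom.congr_fun hψ x)

instance instFlat : Module.Flat A (Lim A Ω) := by
  classical
  refine Module.Flat.of_forall_isTrivialRelation fun {l} f x h => ?_
  obtain ⟨A', _, _, _, φ, hφ⟩ := exists_etale_range (Finset.univ.image x)
  choose y hy using fun k => hφ (Finset.mem_image_of_mem x (Finset.mem_univ k))
  obtain ⟨i, ψ, hψ, h0⟩ := exists_factor_eq_zero φ (z := ∑ k, f k • y k)
    (by simp only [map_sum, map_smul, hy, h])
  have : Module.Flat i.Alg i.Loc := IsLocalization.flat i.Loc i.units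
  have : Module.Flat A i.Loc := Module.Flat.trans A i.Alg i.Loc
  have hrel : ∑ k, f k • ψ (y k) = 0 := by simpa only [map_sum, map_smul] using h0
  obtain ⟨k, a, w, hw, ha⟩ := Module.Flat.isTrivialRelation_of_sum_smul_eq_zero hrel
  refine ⟨k, a, fun j => of i (w j), fun m => ?_, ha⟩
  rw [← hy m, ← hψ, AlgHom.comp_apply, show ψ (y m) = _ from hw m, map_sum]
  simp only [map_smul]

/-- If `A → Ω` is surjective, the kernel of the point is extended from `A`. -/
theorem ker_α_eq_map (h : Function.Surjective (algebraMap A Ω)) :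
    RingHom.ker (α A Ω : Lim A Ω →+* Ω) =
      (RingHom.ker (algebraMap A Ω)).map (algebraMap A (Lim A Ω)) := by
  refine le_antisymm (fun x hx => ?_) (Ideal.map_le_iff_le_comap.mpr fun a ha => ?_)
  · classical
    obtain ⟨A', _, _, _, φ, hφ⟩ := exists_etale_range {x}
    obtain ⟨z, rfl⟩ := hφ (Finset.mem_singleton_self x)
    let γ : A' →ₐ[A] Ω := (α A Ω).comp φ
    obtain ⟨s, hs, hsz⟩ := exists_mul_mem_map h γ (x := z) hx
    have hu : IsUnit (φ s) := IsUnit.of_map (α A Ω : Lim A Ω →+* Ω) _ (by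
      change IsUnit (γ s); rw [hs]; exact isUnit_one)
    have h1 := Ideal.mem_map_of_mem φ.toRingHom hsz
    rw [Ideal.map_map, show φ.toRingHom.comp (algebraMap A A') = algebraMap A (Lim A Ω) from
      φ.comp_algebraMap] at h1
    change φ (s * z) ∈ _ at h1
    rw [map_mul] at h1
    exact (Ideal.unit_mul_mem_iff_mem _ hu).mp h1
  · rw [Ideal.mem_comap, RingHom.mem_ker]
    exact ((α A Ω).commutes a).trans ha

end Lim

end Groth.Agent.Lib.Henselian.Pointed
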