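import Groth.Agent.Lib.Henselian.ProperClopen
import Groth.Agent.Lib.PicSurj.Noeth
import Groth.Agent.Lib.SmoothLift.NilLift

/-!
# A proper scheme forming a henselian couple with its closed fibre is proper over a henselian pair
-/

universe u

open CategoryTheory Limits AlgebraicGeometry Topology
open Groth.Agent.Lib.Henselian.Couple

namespace Groth.Agent.Lib.Henselian.ProperClopenConverse

/-- A proper canonical morphism to the spectrum of global functions has geometrically connected fibres. -/
theorem geometricallyConnected_toSpecΓ (X : Scheme.{u}) [IsProper X.toSpecΓ] :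
    GeometricallyConnected X.toSpecΓ := by
  have h1 := (Groth.Agent.S0388.result X.toSpecΓ).1
  have h2 := (Groth.Agent.S0388.result X.toSpecΓ).2
  have : IsAffine X.toSpecΓ.normalization := isAffine_of_isAffineHom X.toSpecΓ.fromNormalization
  have : IsIso X.toSpecΓ.toNormalization.appTop := h2 ⊤
  have hT : IsIso (X.toSpecΓ.fromNormalization.appTop ≫ X.toSpecΓ.toNormalization.appTop) := by
    rw [← Scheme.Hom.comp_appTop, X.toSpecΓ.toNormalization_fromNormalization, Scheme.toSpecΓ_appTop]
    infer_instance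
  have : IsIso X.toSpecΓ.fromNormalization.appTop := IsIso.of_isIso_comp_right _ X.toSpecΓ.toNormalization.appTop
  have e : X.toSpecΓ.fromNormalization = X.toSpecΓ.normalization.isoSpec.hom ≫
      Spec.map X.toSpecΓ.fromNormalization.appTop ≫ (Spec Γ(X, ⊤)).isoSpec.inv := by
    rw [Scheme.isoSpec_hom_naturality_assoc, Iso.hom_inv_id, Category.comp_id]
  have : IsIso X.toSpecΓ.fromNormalization := by rw [e]; infer_instance
  rw [← X.toSpecΓ.toNormalization_fromNormalization]
  exact (MorphismProperty.cancel_right_of_respectsIso @GeometricallyConnected _ _).2 h1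

variable {A : Type u} [CommRing A] (I : Ideal A) {X : Scheme.{u}}

/-- If `(X, X₀)` is a henselian couple, the ring of global functions is henselian at `IΓ`. -/
theorem henselianRing_map (f : X ⟶ Spec (CommRingCat.of A)) [IsProper X.toSpecΓ] (ψ : CommRingCat.of A ⟶ Γ(X, ⊤)) (hψ : X.toSpecΓ ≫ Spec.map ψ = f)
    (hX : IsCouple (pullback.fst f (Spec.map (CommRingCat.ofHom (Ideal.Quotient.mk I))))) :
    HenselianRing Γ(X, ⊤) (I.map ψ.hom) := by
  haveI : IsClosedImmersion (Spec.map (CommRingCat.ofHom (Ideal.Quotient.mk I))) :=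
    IsClosedImmersion.spec_of_surjective _ Ideal.Quotient.mk_surjective
  haveI := geometricallyConnected_toSpecΓ X
  refine Pair.henselianRing_of_finite_idempotents _ fun C _ _ hC => ?_
  refine (lifts_comap_iff (I.map ψ.hom) C).mp ?_
  let π : Spec (CommRingCat.of C) ⟶ Spec Γ(X, ⊤) := Spec.map (CommRingCat.ofHom (algebraMap Γ(X, ⊤) C))
  haveI : IsFinite π := (IsFinite.SpecMap_iff _).mpr (RingHom.finite_algebraMap.mpr hC)
  let g := pullback.fst X.toSpecΓ π
  let h := pullback.snd X.toSpecΓ π
  have hconn : ∀ n, _root_.IsConnected (h.base ⁻¹' {n}) := fun n => h.isConnected_preimage_singleton n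
  refine (ProperClopen.lifts_iff_of_connected_fibres h.continuous h.isClosedMap hconn
    (pullback.fst g _).isClosedEmbedding.isEmbedding
    (PrimeSpectrum.isClosedEmbedding_comap_of_surjective _ _ Ideal.Quotient.mk_surjective).isEmbedding ?_).mp
    (hX _ g inferInstance)
  refine (Scheme.Pullback.range_fst g _).trans ?_
  rw [ProperClopen.range_fst_quotient]
  refine Eq.trans ?_ (congrArg (h.base ⁻¹' ·) (range_comap_quotient_map (I.map ψ.hom) C).symm)
  ext y
  have hy : f.base (g.base y) = PrimeSpectrum.comap ψ.hom (PrimeSpectrum.comap (algebraMap Γ(X, ⊤) C) (h.base y)) := by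
    rw [← hψ]
    have h1 : g ≫ X.toSpecΓ = h ≫ π := pullback.condition
    exact congrArg (fun m : _ ⟶ Spec Γ(X, ⊤) => PrimeSpectrum.comap ψ.hom (m.base y)) h1
  show I ≤ (f.base (g.base y) : PrimeSpectrum A).asIdeal ↔
    I.map ψ.hom ≤ (PrimeSpectrum.comap (algebraMap Γ(X, ⊤) C) (h.base y)).asIdeal
  rw [hy]
  exact Ideal.map_le_iff_le_comap.symm

/-- The converse. -/
theorem exists_pair [IsNoetherianRing A] (f : X ⟶ Spec (CommRingCat.of A)) [IsProper f]
    (hX : IsCouple (pullback.fst f (Spec.map (CommRingCat.ofHom (Ideal.Quotient.mk I))))) :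
    ∃ (A' : Type u) (_ : CommRing A') (I' : Ideal A') (_ : HenselianRing A' I') (_ : IsNoetherianRing A')
      (f' : X ⟶ Spec (CommRingCat.of A')) (_ : IsProper f')
      (t : pullback f (Spec.map (CommRingCat.ofHom (Ideal.Quotient.mk I))) ⟶ Spec (CommRingCat.of (A' ⧸ I'))),
      IsPullback (pullback.fst f (Spec.map (CommRingCat.ofHom (Ideal.Quotient.mk I)))) t f'
        (Spec.map (CommRingCat.ofHom (Ideal.Quotient.mk I'))) := by
  let ψ : CommRingCat.of A ⟶ Γ(X, ⊤) := (Scheme.ΓSpecIso (CommRingCat.of A)).inv ≫ f.appTop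
  have hψ : X.toSpecΓ ≫ Spec.map ψ = f := by
    rw [Spec.map_comp, ← Scheme.toSpecΓ_naturality_assoc]
    simp [← SpecMap_ΓSpecIso_hom, ← Spec.map_comp]
  haveI hp : IsProper X.toSpecΓ := by
    haveI : IsProper (X.toSpecΓ ≫ Spec.map ψ) := by rw [hψ]; infer_instance
    exact IsProper.of_comp X.toSpecΓ (Spec.map ψ)
  have hN : IsNoetherianRing Γ(X, ⊤) := Lib.PicSurj.Noeth.isNoetherianRing_Γ A f
  have sqR : IsPullback (Spec.map (CommRingCat.ofHom (Ideal.Quotient.mk (I.map ψ.hom))))
      (Spec.map (CommRingCat.ofHom (Ideal.quotientMap (I.map ψ.hom) ψ.hom Ideal.le_comap_map)))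
      (Spec.map ψ) (Spec.map (CommRingCat.ofHom (Ideal.Quotient.mk I))) :=
    (Lib.SmoothLift.NilLift.isPullback_quotient ψ I).flip
  have hw : pullback.fst f (Spec.map (CommRingCat.ofHom (Ideal.Quotient.mk I))) ≫ X.toSpecΓ ≫ Spec.map ψ =
      pullback.snd f (Spec.map (CommRingCat.ofHom (Ideal.Quotient.mk I))) ≫
        Spec.map (CommRingCat.ofHom (Ideal.Quotient.mk I)) := by
    rw [hψ]; exact pullback.condition
  refine ⟨Γ(X, ⊤), inferInstance, I.map ψ.hom, henselianRing_map I f ψ hψ hX, hN, X.toSpecΓ, hp,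
    sqR.lift (pullback.fst f _ ≫ X.toSpecΓ) (pullback.snd f _) (by rw [Category.assoc]; exact hw), ?_⟩
  refine IsPullback.of_bot ?_ (sqR.lift_fst _ _ _).symm sqR
  rw [sqR.lift_snd, hψ]
  exact IsPullback.of_hasPullback f _

end Groth.Agent.Lib.Henselian.ProperClopenConverse
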