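import Groth.Agent.Lib.Henselian.Catenary
import Groth.Agent.Lib.Excellent.FibreNoetherian
import Groth.Agent.Lib.Excellent.Transport
import Groth.Agent.H56.AbsFlat
import Mathlib.RingTheory.Artinian.Algebra
import Mathlib.RingTheory.RingHom.Flat

/-!
# Regular homomorphisms and ind-étale maps

* `isArtinianRing_tensor`: fibres at finite points of an ind-étale map
* `isRegularRing_iff_forall_quotient`, `isReduced_iff_forall_quotient`
* `isGeometricallyRegular_fibres_iff`
-/

universe u

open TensorProduct

namespace Groth.Agent.Lib.Henselian.RegularFibres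

open Groth.Agent.Lib.Excellent.FormalFibre

/-- Regularity over a reduced Artinian ring is tested on the factors. -/
theorem isRegularRing_iff_forall_quotient (T D : Type u) [CommRing T] [IsArtinianRing T] [IsReduced T]
    [CommRing D] [Algebra T D] [IsNoetherianRing D] :
    IsRegularRing D ↔ ∀ m : Ideal T, m.IsMaximal → IsRegularRing (D ⧸ m.map (algebraMap T D)) := by
  have : IsSemisimpleRing T := IsArtinianRing.isSemisimpleRing_of_isReduced T
  have key : ∀ m : Ideal T, ∃ e : D, IsIdempotentElem e ∧
      RingHom.ker (Ideal.Quotient.mk (m.map (algebraMap T D))) = Ideal.span {1 - e} := by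
    intro m
    obtain ⟨a, ha, hm⟩ := IsSemisimpleRing.ideal_eq_span_idempotent m
    refine ⟨1 - algebraMap T D a, (ha.map _).one_sub, ?_⟩
    rw [Ideal.mk_ker, hm, sub_sub_cancel]
    exact (Ideal.map_span _ _).trans (by rw [Set.image_singleton])
  constructor
  · intro h m hm
    obtain ⟨e, he, hker⟩ := key m
    have : IsLocalization.Away e (D ⧸ m.map (algebraMap T D)) :=
      IsLocalization.away_of_isIdempotentElem he hker Ideal.Quotient.mk_surjective
    refine isRegularRing_iff.2 fun Q _ => (forall_localization_iff (S := D) (Submonoid.powers e)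
      (P := fun R [CommRing R] => IsRegularLocalRing R) (fun _ _ _ _ e _ => IsRegularLocalRing.of_ringEquiv e)).2
      (fun q _ _ => IsRegularRing.isRegularLocalRing_localization q) Q
  · intro h
    refine isRegularRing_iff.2 fun q _ => ?_
    let m := q.comap (algebraMap T D)
    have hm : m.IsMaximal := IsArtinianRing.isMaximal_of_isPrime m
    obtain ⟨e, he, hker⟩ := key m
    have : IsLocalization.Away e (D ⧸ m.map (algebraMap T D)) :=
      IsLocalization.away_of_isIdempotentElem he hker Ideal.Quotient.mk_surjective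
    have := h m hm
    have hd : Disjoint (Submonoid.powers e : Set D) q := by
      rw [Ideal.disjoint_powers_iff_notMem _ (Ideal.IsPrime.isRadical inferInstance)]
      intro heq
      have h1 : 1 - e ∈ q := by
        apply Ideal.map_comap_le (f := algebraMap T D)
        show 1 - e ∈ m.map (algebraMap T D)
        rw [← Ideal.mk_ker (I := m.map (algebraMap T D)), hker]
        exact Ideal.mem_span_singleton_self (1 - e)
      exact Ideal.IsPrime.ne_top inferInstance ((Ideal.eq_top_iff_one q).2 (by simpa using add_mem h1 heq))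
    exact (forall_localization_iff (S' := D ⧸ m.map (algebraMap T D)) (Submonoid.powers e)
      (P := fun R [CommRing R] => IsRegularLocalRing R) (fun _ _ _ _ e _ => IsRegularLocalRing.of_ringEquiv e)).1
      (fun Q _ => IsRegularRing.isRegularLocalRing_localization Q) q hd

/-- Reducedness over a reduced Artinian ring is tested on the factors. -/
theorem isReduced_iff_forall_quotient (T D : Type u) [CommRing T] [IsArtinianRing T] [IsReduced T]
    [CommRing D] [Algebra T D] :
    IsReduced D ↔ ∀ m : Ideal T, m.IsMaximal → IsReduced (D ⧸ m.map (algebraMap T D)) := by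
  have : IsSemisimpleRing T := IsArtinianRing.isSemisimpleRing_of_isReduced T
  have key : ∀ m : Ideal T, ∃ e : T, IsIdempotentElem e ∧ m = Ideal.span {e} := fun m =>
    IsSemisimpleRing.ideal_eq_span_idempotent m
  constructor
  · intro h m hm
    obtain ⟨a, ha, hma⟩ := key m
    have : IsLocalization.Away (1 - algebraMap T D a) (D ⧸ m.map (algebraMap T D)) :=
      IsLocalization.away_of_isIdempotentElem (ha.map _).one_sub (by
        rw [Ideal.Quotient.algebraMap_eq, Ideal.mk_ker, hma, sub_sub_cancel]
        exact (Ideal.map_span _ _).trans (by rw [Set.image_singleton])) Ideal.Quotient.mk_surjective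
    exact isReduced_localizationPreserves (R := D) (Submonoid.powers (1 - algebraMap T D a)) _ h
  · intro h
    refine ⟨fun x hx => ?_⟩
    let A : Ideal T := (Submodule.span T {x}).annihilator
    suffices A = ⊤ by
      have h1 : (1 : T) ∈ A := this ▸ Submodule.mem_top
      simpa [A, Submodule.mem_annihilator_span_singleton] using h1
    by_contra hA
    obtain ⟨m, hm, hle⟩ := Ideal.exists_le_maximal A hA
    obtain ⟨a, ha, hma⟩ := key m
    have := h m hm
    have hmem : x ∈ m.map (algebraMap T D) :=
      Ideal.Quotient.eq_zero_iff_mem.mp (IsNilpotent.eq_zero (hx.map (Ideal.Quotient.mk _)))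
    rw [hma, Ideal.map_span, Set.image_singleton, Ideal.mem_span_singleton'] at hmem
    obtain ⟨c, hc⟩ := hmem
    have h1 : 1 - a ∈ A := by
      rw [Submodule.mem_annihilator_span_singleton, Algebra.smul_def, ← hc, map_sub, map_one,
        mul_left_comm, sub_mul, one_mul, ← map_mul, ha.eq, sub_self, mul_zero]
    have h2 : a ∈ m := hma ▸ Ideal.mem_span_singleton_self a
    exact hm.ne_top ((Ideal.eq_top_iff_one m).2 (by simpa using add_mem (hle h1) h2))

variable {R S : Type u} [CommRing R] [CommRing S] [Algebra R S] [IsNoetherianRing R] [IsNoetherianRing S]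

omit [IsNoetherianRing R] in
/-- Fibres of an ind-étale map at finite points are reduced and Artinian. -/
theorem isArtinianRing_tensor (h : EtPBC.IsIndEtale R S) {K : Type u} [Field K] [Algebra R K]
    (hK : IsFinPoint R K) : IsArtinianRing (K ⊗[R] S) ∧ IsReduced (K ⊗[R] S) := by
  have := Groth.Agent.Lib.IndEtale.Basic.weaklyEtale h
  refine ⟨?_, Groth.Agent.H56.AbsFlat.isReduced_of_weaklyEtale K (K ⊗[R] S)⟩
  obtain ⟨B, hB, hfr⟩ := hK
  have : IsNoetherianRing (B ⊗[R] S) := by
    have h1 : IsNoetherianRing (S ⊗[R] B) := isNoetherian_of_tower S (inferInstance : IsNoetherian S (S ⊗[R] B))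
    exact isNoetherianRing_of_ringEquiv _ (Algebra.TensorProduct.comm R S B).toRingEquiv
  have hN : IsNoetherianRing (K ⊗[R] S) :=
    Groth.Agent.Lib.Excellent.FibreNoetherian.isNoetherianRing_fractionField_tensor S B K this
  have hB := Groth.Agent.Lib.IndEtale.Basic.baseChange K h
  refine isArtinianRing_iff_isNoetherianRing_krullDimLE_zero.mpr ⟨hN, Ring.KrullDimLE.mk₀ fun P hP => ?_⟩
  obtain ⟨M, hM, hle⟩ := Ideal.exists_le_maximal P hP.ne_top
  have := hM.isPrime
  rw [Catenary.eq_of_le_of_comap_eq hB hle ((Subsingleton.elim (⟨_, Ideal.comap_isPrime _ P⟩ : PrimeSpectrum K)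
    ⟨_, Ideal.comap_isPrime _ M⟩) |> congrArg PrimeSpectrum.asIdeal)]
  exact hM

variable {C : Type u} [CommRing C] [Algebra R C] [Algebra S C] [IsScalarTower R S C] [IsNoetherianRing C]

omit [IsNoetherianRing R] [IsNoetherianRing S] [Algebra R C] [IsScalarTower R S C] [IsNoetherianRing C] in
attribute [local instance] Algebra.TensorProduct.rightAlgebra in
/-- The factor at a maximal ideal. -/
lemma exists_quotient_equiv {K : Type u} [Field K] [Algebra R K] (L : Type u) [CommRing L] [Algebra S L]
    [Algebra R L] [IsScalarTower R S L] (g : K →ₐ[R] L)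
    (hg : Function.Surjective (Algebra.TensorProduct.lift g (IsScalarTower.toAlgHom R S L) fun _ _ => .all _ _)) :
    Nonempty ((((K ⊗[R] S) ⊗[S] C) ⧸
      (RingHom.ker (Algebra.TensorProduct.lift g (IsScalarTower.toAlgHom R S L) fun _ _ => .all _ _).toRingHom).map
        (algebraMap (K ⊗[R] S) ((K ⊗[R] S) ⊗[S] C))) ≃+* L ⊗[S] C) := by
  let φ := Algebra.TensorProduct.lift g (IsScalarTower.toAlgHom R S L) fun _ _ => Commute.all _ _
  let φ' : K ⊗[R] S →ₐ[S] L := ⟨φ.toRingHom, fun s => by simp [φ, RingHom.algebraMap_toAlgebra]⟩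
  let F := Algebra.TensorProduct.map φ' (AlgHom.id S C)
  have hsurj : Function.Surjective F :=
    Algebra.TensorProduct.map_surjective (f := φ') (g := AlgHom.id S C) hg Function.surjective_id
  have hker : RingHom.ker F.toRingHom = (RingHom.ker φ.toRingHom).map
      (algebraMap (K ⊗[R] S) ((K ⊗[R] S) ⊗[S] C)) :=
    Algebra.TensorProduct.rTensor_ker (C := C) φ' hg
  exact ⟨(Ideal.quotEquivOfEq hker.symm).trans (RingHom.quotientKerEquivOfSurjective hsurj)⟩

omit [IsNoetherianRing R] [IsNoetherianRing S] in
attribute [local instance] Algebra.TensorProduct.rightAlgebra in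
lemma isNoetherianRing_big {K : Type u} [Field K] [Algebra R K] (hK : IsFinPoint R K) :
    IsNoetherianRing ((K ⊗[R] S) ⊗[S] C) ∧
      Nonempty ((K ⊗[R] S) ⊗[S] C ≃+* K ⊗[R] C) := by
  let e : (K ⊗[R] S) ⊗[S] C ≃+* K ⊗[R] C :=
    ((Algebra.TensorProduct.comm S (K ⊗[R] S) C).toRingEquiv.trans
      (Algebra.TensorProduct.congr (AlgEquiv.refl : C ≃ₐ[S] C)
        (Algebra.TensorProduct.commRight R S K).symm).toRingEquiv).trans
      ((Algebra.TensorProduct.cancelBaseChange R S S C K).toRingEquiv.trans
        (Algebra.TensorProduct.comm R C K).toRingEquiv)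
  obtain ⟨B, hB, hfr⟩ := hK
  have : IsNoetherianRing (B ⊗[R] C) := by
    have h1 : IsNoetherianRing (C ⊗[R] B) := isNoetherian_of_tower C (inferInstance : IsNoetherian C (C ⊗[R] B))
    exact isNoetherianRing_of_ringEquiv _ (Algebra.TensorProduct.comm R C B).toRingEquiv
  have := Groth.Agent.Lib.Excellent.FibreNoetherian.isNoetherianRing_fractionField_tensor C B K this
  exact ⟨isNoetherianRing_of_ringEquiv _ e.symm, ⟨e⟩⟩

omit [IsNoetherianRing R] [IsNoetherianRing S] in
/-- An element of an ind-étale algebra is algebraic over the residue field below. -/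
theorem isIntegral_image (h : EtPBC.IsIndEtale R S) {L : Type u} [Field L] [Algebra S L] [Algebra R L]
    [IsScalarTower R S L] (k : Type u) [Field k] [Algebra R k] [Algebra k L] [IsScalarTower R k L] (s : S) :
    IsIntegral k (algebraMap S L s) := by
  obtain ⟨E, _, _, hE, v, hv⟩ := Groth.Agent.Lib.IndEtale.Basic.exists_lift (Groth.Agent.Lib.IndEtale.Basic.factors h) {s}
  obtain ⟨z, rfl⟩ := hv (Finset.mem_singleton_self s)
  have := hE
  have : Module.Finite k (k ⊗[R] E) := Algebra.FormallyUnramified.finite_of_free _ _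
  let w : k ⊗[R] E →ₐ[k] L := Algebra.TensorProduct.lift (Algebra.ofId k L)
    ((IsScalarTower.toAlgHom R S L).comp v) fun _ _ => .all _ _
  have : w ((1 : k) ⊗ₜ z) = algebraMap S L (v z) := by simp [w]
  rw [← this]
  exact (Algebra.IsIntegral.isIntegral _).map w

attribute [local instance] Algebra.TensorProduct.rightAlgebra in
/-- A property tested on factors holds at the finite points of `R` iff at those of an ind-étale `S`. -/
theorem forall_finPoint_iff (h : EtPBC.IsIndEtale R S) {P : ∀ (A : Type u) [CommRing A], Prop}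
    (hP : IsoInvariant P)
    (hfac : ∀ (T D : Type u) [CommRing T] [IsArtinianRing T] [IsReduced T] [CommRing D] [Algebra T D]
      [IsNoetherianRing D], P D ↔ ∀ m : Ideal T, m.IsMaximal → P (D ⧸ m.map (algebraMap T D))) :
    (∀ (K : Type u) [Field K] [Algebra R K], IsFinPoint R K → P (K ⊗[R] C)) ↔
      ∀ (L : Type u) [Field L] [Algebra S L], IsFinPoint S L → P (L ⊗[S] C) := by
  constructor
  · intro hR L _ _ hL
    let : Algebra R L := ((algebraMap S L).comp (algebraMap R S)).toAlgebra
    have : IsScalarTower R S L := IsScalarTower.of_algebraMap_eq' rfl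
    let p := RingHom.ker (algebraMap R L)
    have : p.IsPrime := RingHom.ker_isPrime _
    let : Algebra p.ResidueField L := (Ideal.ResidueField.lift p (algebraMap R L) le_rfl
      (fun x hx => Ne.isUnit (fun h0 => hx h0))).toAlgebra
    have : IsScalarTower R p.ResidueField L := .of_algebraMap_eq fun a =>
      (Ideal.ResidueField.lift_algebraMap (I := p) (algebraMap R L) le_rfl _ a).symm
    let A := algebraicClosure p.ResidueField L
    obtain ⟨B, hB, hfr⟩ := hL
    obtain ⟨t, ht⟩ := (Module.Finite.iff_fg (N := B.toSubmodule)).1 hB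
    have hSA : ∀ s : S, algebraMap S L s ∈ A := fun s =>
      mem_algebraicClosure_iff.2 (isIntegral_image h p.ResidueField s).isAlgebraic
    have hBA : ∀ b : B, (b : L) ∈ A := fun b => by
      have h1 : IsIntegral S (b : L) := (Algebra.IsIntegral.isIntegral b).map B.val
      obtain ⟨f, hf, hfb⟩ := h1
      let j : S →+* A := (algebraMap S L).codRestrict A hSA
      have h2 : IsIntegral A (b : L) := ⟨f.map j, hf.map _, by rw [Polynomial.eval₂_map]; exact hfb⟩
      exact mem_algebraicClosure_iff.2 (isIntegral_trans (R := p.ResidueField) (A := A) _ h2).isAlgebraic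
    let L₀ := IntermediateField.adjoin p.ResidueField (t : Set L)
    have : FiniteDimensional p.ResidueField L₀ := IntermediateField.finiteDimensional_adjoin fun x hx =>
      (mem_algebraicClosure_iff.1 (hBA ⟨x, show x ∈ B.toSubmodule from ht ▸ Submodule.subset_span hx⟩)).isIntegral
    have hK : IsFinPoint R L₀ := isFinPoint_of_finite p L₀
    obtain ⟨_, _⟩ := isArtinianRing_tensor h hK
    let g : L₀ →ₐ[R] L := L₀.val.restrictScalars R
    let φ := Algebra.TensorProduct.lift g (IsScalarTower.toAlgHom R S L) fun _ _ => Commute.all _ _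
    have hprime : (RingHom.ker φ.toRingHom).IsPrime := RingHom.ker_isPrime _
    have hm : (RingHom.ker φ.toRingHom).IsMaximal := IsArtinianRing.isMaximal_of_isPrime _
    have hfield : IsField φ.range := (Ideal.quotientKerEquivRange φ).symm.toMulEquiv.isField
      ((Ideal.Quotient.maximal_ideal_iff_isField_quotient _).1 hm)
    have hBφ : ∀ b : B, (b : L) ∈ φ.range := fun b => by
      have hmem : (b : L) ∈ Submodule.span S (t : Set L) := ht.symm ▸ b.2
      generalize (b : L) = x₀ at hmem ⊢
      induction hmem using Submodule.span_induction with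
      | mem x hx => exact ⟨(⟨x, IntermediateField.subset_adjoin _ _ hx⟩ : L₀) ⊗ₜ (1 : S), by simp [φ, g]⟩
      | zero => exact zero_mem _
      | add x y _ _ hx hy => exact add_mem hx hy
      | smul s x _ hx =>
        rw [Algebra.smul_def]
        exact mul_mem ⟨(1 : L₀) ⊗ₜ s, by simp [φ]⟩ hx
    have hsurj : Function.Surjective φ := fun y => by
      obtain ⟨b, w, hw, rfl⟩ := IsFractionRing.div_surjective B y
      have hw0 : (w : L) ≠ 0 := fun h0 => nonZeroDivisors.ne_zero hw (Subtype.ext h0)
      obtain ⟨⟨v, hv⟩, hwv⟩ := hfield.mul_inv_cancel (a := ⟨(w : L), hBφ w⟩) fun h0 => hw0 (congrArg Subtype.val h0)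
      have hv' : v = (w : L)⁻¹ := (inv_eq_of_mul_eq_one_right (congrArg Subtype.val hwv)).symm
      show (b : L) / (w : L) ∈ φ.range
      rw [div_eq_mul_inv, ← hv']
      exact mul_mem (hBφ b) hv
    obtain ⟨_, ⟨e⟩⟩ := isNoetherianRing_big (S := S) (C := C) hK
    have hD : P ((L₀ ⊗[R] S) ⊗[S] C) := hP _ _ e.symm (hR L₀ hK)
    obtain ⟨e'⟩ := exists_quotient_equiv (C := C) L g hsurj
    exact hP _ _ e' ((hfac (L₀ ⊗[R] S) _).1 hD _ hm)
  · intro hS K _ _ hK
    obtain ⟨_, _⟩ := isArtinianRing_tensor h hK
    obtain ⟨_, ⟨e⟩⟩ := isNoetherianRing_big (S := S) (C := C) hK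
    suffices hbig : P ((K ⊗[R] S) ⊗[S] C) by
      exact hP _ _ e hbig
    refine (hfac (K ⊗[R] S) _).2 fun m hm => ?_
    let L := (K ⊗[R] S) ⧸ m
    let : Field L := Ideal.Quotient.field m
    let π : K ⊗[R] S →ₐ[R] L := Ideal.Quotient.mkₐ R m
    have : IsScalarTower R S L := inferInstance
    let g : K →ₐ[R] L := π.comp Algebra.TensorProduct.includeLeft
    let φ := Algebra.TensorProduct.lift g (IsScalarTower.toAlgHom R S L) fun _ _ => Commute.all _ _
    have hφ : φ = π := Algebra.TensorProduct.ext' fun a s => by
      rw [Algebra.TensorProduct.lift_tmul]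
      show π (a ⊗ₜ[R] 1) * π (algebraMap S (K ⊗[R] S) s) = π (a ⊗ₜ[R] s)
      rw [← map_mul]
      simp [RingHom.algebraMap_toAlgebra]
    have hsurj : Function.Surjective φ := hφ ▸ Ideal.Quotient.mk_surjective
    have hL : IsFinPoint S L := by
      let q := RingHom.ker (algebraMap S L)
      have : q.IsPrime := RingHom.ker_isPrime _
      let : Algebra q.ResidueField L := (Ideal.ResidueField.lift q (algebraMap S L) le_rfl
        (fun x hx => Ne.isUnit (fun h0 => hx h0))).toAlgebra
      have : IsScalarTower S q.ResidueField L := .of_algebraMap_eq fun a =>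
        (Ideal.ResidueField.lift_algebraMap (I := q) (algebraMap S L) le_rfl _ a).symm
      let p := RingHom.ker (algebraMap R K)
      have : p.IsPrime := RingHom.ker_isPrime _
      let : Algebra p.ResidueField K := (Ideal.ResidueField.lift p (algebraMap R K) le_rfl
        (fun x hx => Ne.isUnit (fun h0 => hx h0))).toAlgebra
      have : IsScalarTower R p.ResidueField K := .of_algebraMap_eq fun a =>
        (Ideal.ResidueField.lift_algebraMap (I := p) (algebraMap R K) le_rfl _ a).symm
      have := finite_of_isFinPoint hK p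
      let G := Set.range fun i => g (Module.finBasis p.ResidueField K i)
      suffices htop : Submodule.span q.ResidueField G = ⊤ by
        have : Module.Finite q.ResidueField L := ⟨⟨(Set.finite_range _).toFinset, by rwa [Set.Finite.coe_toFinset]⟩⟩
        exact isFinPoint_of_finite q L
      refine Submodule.eq_top_iff'.2 fun y => ?_
      obtain ⟨z, rfl⟩ := hsurj y
      have hres : ∀ c : p.ResidueField, ∃ d : q.ResidueField, algebraMap q.ResidueField L d =
          g (algebraMap p.ResidueField K c) := by
        intro c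
        obtain ⟨a, b, -, rfl⟩ := IsFractionRing.div_surjective (R ⧸ p) c
        obtain ⟨a, rfl⟩ := Ideal.Quotient.mk_surjective a
        obtain ⟨b, rfl⟩ := Ideal.Quotient.mk_surjective b
        have hk : ∀ x : R, algebraMap q.ResidueField L (algebraMap S q.ResidueField (algebraMap R S x)) =
            g (algebraMap p.ResidueField K (algebraMap (R ⧸ p) p.ResidueField (Ideal.Quotient.mk p x))) := fun x => by
          rw [← IsScalarTower.algebraMap_apply S q.ResidueField L, ← IsScalarTower.algebraMap_apply R S L,
            ← Ideal.Quotient.algebraMap_eq, ← IsScalarTower.algebraMap_apply R (R ⧸ p) p.ResidueField,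
            ← IsScalarTower.algebraMap_apply R p.ResidueField K, AlgHom.commutes]
        refine ⟨algebraMap S q.ResidueField (algebraMap R S a) / algebraMap S q.ResidueField (algebraMap R S b), ?_⟩
        rw [map_div₀, map_div₀, map_div₀, hk, hk]
      induction z using TensorProduct.induction_on with
      | zero => rw [map_zero]; exact zero_mem _
      | tmul a s =>
        rw [Algebra.TensorProduct.lift_tmul, IsScalarTower.coe_toAlgHom', IsScalarTower.algebraMap_apply S q.ResidueField L,
          mul_comm, ← Algebra.smul_def, ← (Module.finBasis p.ResidueField K).sum_repr a, map_sum]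
        refine Submodule.smul_mem _ _ (sum_mem fun i _ => ?_)
        obtain ⟨d, hd⟩ := hres ((Module.finBasis p.ResidueField K).repr a i)
        rw [Algebra.smul_def, map_mul, ← hd, ← Algebra.smul_def]
        exact Submodule.smul_mem _ _ (Submodule.subset_span ⟨i, rfl⟩)
      | add x y hx hy => rw [map_add]; exact add_mem hx hy
    obtain ⟨e'⟩ := exists_quotient_equiv (C := C) L g hsurj
    have := hS L hL
    have hker : RingHom.ker φ.toRingHom = m := by rw [hφ]; exact Ideal.mk_ker
    have h2 := hP (L ⊗[S] C)
      (((K ⊗[R] S) ⊗[S] C) ⧸ (RingHom.ker φ.toRingHom).map (algebraMap (K ⊗[R] S) ((K ⊗[R] S) ⊗[S] C))) e'.symm this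
    rw [hker] at h2
    exact h2

/-- Regularity of a map out of a base may be tested after an ind-étale extension. -/
theorem isRegularHom_iff (h : EtPBC.IsIndEtale R S) [Module.Flat S C] :
    CAlg.IsRegularHom R C ↔ CAlg.IsRegularHom S C := by
  have hiso : IsoInvariant (fun (R : Type u) [CommRing R] => IsRegularRing R) :=
    Groth.Agent.Lib.Excellent.Transport.isoInvariant_isRegularRing
  have hnoeth : ∀ {A : Type u} [CommRing A] [IsNoetherianRing A] [Algebra A C] (p : Ideal A) [p.IsPrime],
      IsNoetherianRing (p.Fiber C) := by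
    intro A _ _ _ p _
    obtain ⟨B, hB, hfr⟩ := isFinPoint_residueField p
    have : IsNoetherianRing (B ⊗[A] C) := by
      have h1 : IsNoetherianRing (C ⊗[A] B) := isNoetherian_of_tower C (inferInstance : IsNoetherian C (C ⊗[A] B))
      exact isNoetherianRing_of_ringEquiv _ (Algebra.TensorProduct.comm A C B).toRingEquiv
    exact Groth.Agent.Lib.Excellent.FibreNoetherian.isNoetherianRing_fractionField_tensor C B _ this
  have : Module.Flat R S := Groth.Agent.Lib.IndEtale.Basic.flat (Groth.Agent.Lib.IndEtale.Basic.factors h)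
  have : Module.Flat R C := Module.Flat.trans R S C
  constructor
  · intro hR
    exact ⟨inferInstance, fun q _ => ⟨hnoeth q, (forall_fibre_iff hiso C).2
      ((forall_finPoint_iff h hiso fun T D => isRegularRing_iff_forall_quotient T D).1 ((forall_fibre_iff hiso C).1 fun p _ => (hR.2 p).2)) q⟩⟩
  · intro hS
    exact ⟨inferInstance, fun p _ => ⟨hnoeth p, (forall_fibre_iff hiso C).2
      ((forall_finPoint_iff h hiso fun T D => isRegularRing_iff_forall_quotient T D).2 ((forall_fibre_iff hiso C).1 fun q _ => (hS.2 q).2)) p⟩⟩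

end Groth.Agent.Lib.Henselian.RegularFibres
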