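import Groth.Agent.Lib.Henselian.Basic
import Mathlib.RingTheory.Unramified.Basic
import Mathlib.RingTheory.Etale.Basic
import Mathlib.RingTheory.FiniteType
import Mathlib.RingTheory.Filtration
import Mathlib.RingTheory.Nakayama

/-!
# Sections of algebras unramified outside the closed subset

* `exists_uniform`: the uniform exponent
* `exists_bound`: congruent sections are equal
-/

universe u v

open TensorProduct

set_option linter.style.haveILetI false

namespace Groth.Agent.Lib.Henselian.SectionUnique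

variable {A : Type u} [CommRing A] {B : Type u} [CommRing B] [Algebra A B]

/-- Differences of two maps are killed modulo squares by a power of `a`. -/
theorem exists_pow_mul_sub_mem (a : A)
    [Algebra.FormallyUnramified A (Localization.Away (algebraMap A B a))]
    {R : Type u} [CommRing R] [Algebra A R] (f g : B →ₐ[A] R) (E : Ideal R)
    (hE : ∀ b, f b - g b ∈ E) (b : B) :
    ∃ e : ℕ, algebraMap A R a ^ e * (f b - g b) ∈ E ^ 2 := by
  let Ba := Localization.Away (algebraMap A B a)
  let Ra := Localization.Away (algebraMap A R a)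
  let Ea := E.map (algebraMap R Ra)
  have hu : ∀ φ : B →ₐ[A] R, IsUnit (((Ideal.Quotient.mkₐ A (Ea ^ 2)).comp
      ((IsScalarTower.toAlgHom A R Ra).comp φ)) (algebraMap A B a)) := fun φ => by
    rw [AlgHom.commutes, IsScalarTower.algebraMap_apply A R (Ra ⧸ Ea ^ 2), IsScalarTower.algebraMap_apply R Ra (Ra ⧸ Ea ^ 2)]
    exact (IsLocalization.Away.algebraMap_isUnit (S := Ra) _).map _
  let F : (B →ₐ[A] R) → (Ba →ₐ[A] Ra ⧸ Ea ^ 2) := fun φ =>
    IsLocalization.Away.liftAlgHom (S := Ba) (algebraMap A B a) (f := (Ideal.Quotient.mkₐ A (Ea ^ 2)).comp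
      ((IsScalarTower.toAlgHom A R Ra).comp φ)) (hu φ)
  have hF : ∀ (φ : B →ₐ[A] R) (x : B),
      F φ (algebraMap B Ba x) = Ideal.Quotient.mk _ (algebraMap R Ra (φ x)) := fun φ x =>
    IsLocalization.lift_eq _ x
  have hnil : IsNilpotent (Ea.map (Ideal.Quotient.mk (Ea ^ 2))) :=
    ⟨2, (Ideal.map_pow (Ideal.Quotient.mk (Ea ^ 2)) Ea 2).symm.trans (Ideal.map_quotient_self (Ea ^ 2))⟩
  have h : F f = F g := by
    refine Algebra.FormallyUnramified.lift_unique (R := A) _ hnil (F f) (F g) ?_
    refine IsLocalization.algHom_ext (Submonoid.powers (algebraMap A B a)) ?_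
    refine AlgHom.ext fun x => ?_
    change Ideal.Quotient.mk _ (F f (algebraMap B Ba x)) = Ideal.Quotient.mk _ (F g (algebraMap B Ba x))
    rw [hF, hF, Ideal.Quotient.eq, ← map_sub, ← map_sub]
    exact Ideal.mem_map_of_mem _ (Ideal.mem_map_of_mem _ (hE x))
  have hb := congrArg (fun φ => φ (algebraMap B Ba b)) h
  simp only [hF] at hb
  rw [Ideal.Quotient.eq, ← map_sub, ← Ideal.map_pow,
    IsLocalization.algebraMap_mem_map_algebraMap_iff (Submonoid.powers (algebraMap A R a))] at hb
  obtain ⟨_, ⟨e, rfl⟩, he⟩ := hb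
  exact ⟨e, he⟩

/-- A uniform exponent. -/
theorem exists_uniform [Algebra.FiniteType A B] (a : A)
    [Algebra.FormallyUnramified A (Localization.Away (algebraMap A B a))] :
    ∃ c : ℕ, ∀ (R : Type u) [CommRing R] [Algebra A R] (f g : B →ₐ[A] R) (E : Ideal R),
      (∀ b, f b - g b ∈ E) → ∀ b, ∃ G : Ideal R, (∀ b, f b - g b ∈ G) ∧ G ≤ E ∧
        algebraMap A R a ^ c * (f b - g b) ∈ G ^ 2 := by
  classical
  obtain ⟨s, hs⟩ := Algebra.FiniteType.out (R := A) (A := B)
  let l : B →ₐ[A] B ⊗[A] B := Algebra.TensorProduct.includeLeft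
  let r : B →ₐ[A] B ⊗[A] B := Algebra.TensorProduct.includeRight
  let D : Ideal (B ⊗[A] B) := Ideal.span (Set.range fun b => l b - r b)
  have hD : ∀ b, l b - r b ∈ D := fun b => Ideal.subset_span ⟨b, rfl⟩
  choose e he using fun x => exists_pow_mul_sub_mem a l r D hD x
  refine ⟨s.sup e, fun R _ _ f g E hE b => ?_⟩
  let G : Ideal R := Ideal.span (Set.range fun b => f b - g b)
  have hG : ∀ b, f b - g b ∈ G := fun b => Ideal.subset_span ⟨b, rfl⟩
  refine ⟨G, hG, Ideal.span_le.2 (by rintro _ ⟨b, rfl⟩; exact hE b), ?_⟩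
  let P := Algebra.TensorProduct.productMap f g
  have hPl : ∀ x, P (l x) = f x := fun x => by simp [P, l]
  have hPr : ∀ x, P (r x) = g x := fun x => by simp [P, r]
  have hPD : D.map P.toRingHom ≤ G := Ideal.map_le_iff_le_comap.2 (Ideal.span_le.2 (by
    rintro _ ⟨x, rfl⟩
    change P (l x - r x) ∈ G
    rw [map_sub, hPl, hPr]; exact hG x))
  have hgen : ∀ x ∈ s, algebraMap A R a ^ s.sup e * (f x - g x) ∈ G ^ 2 := fun x hx => by
    have h1 := Ideal.mem_map_of_mem P.toRingHom (he x)
    rw [Ideal.map_pow] at h1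
    have h2 := Ideal.pow_right_mono hPD 2 h1
    change P (algebraMap A (B ⊗[A] B) a ^ e x * (l x - r x)) ∈ G ^ 2 at h2
    rw [map_mul, map_pow, P.commutes, map_sub, hPl, hPr] at h2
    rw [← Nat.sub_add_cancel (Finset.le_sup hx : e x ≤ s.sup e), pow_add, mul_assoc]
    exact Ideal.mul_mem_left _ _ h2
  -- the good elements form a subalgebra
  let S : Subalgebra A B :=
    { carrier := {x | algebraMap A R a ^ s.sup e * (f x - g x) ∈ G ^ 2}
      mul_mem' := fun {x y} hx hy => by
        show algebraMap A R a ^ s.sup e * (f (x * y) - g (x * y)) ∈ G ^ 2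
        have : algebraMap A R a ^ s.sup e * (f (x * y) - g (x * y)) =
            f x * (algebraMap A R a ^ s.sup e * (f y - g y)) + g y * (algebraMap A R a ^ s.sup e * (f x - g x)) := by
          rw [map_mul, map_mul]; ring
        rw [this]
        exact add_mem (Ideal.mul_mem_left _ _ hy) (Ideal.mul_mem_left _ _ hx)
      add_mem' := fun {x y} hx hy => by
        show algebraMap A R a ^ s.sup e * (f (x + y) - g (x + y)) ∈ G ^ 2
        rw [map_add, map_add, add_sub_add_comm, mul_add]
        exact add_mem hx hy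
      algebraMap_mem' := fun z => by
        show algebraMap A R a ^ s.sup e * (f (algebraMap A B z) - g (algebraMap A B z)) ∈ G ^ 2
        rw [f.commutes, g.commutes, sub_self, mul_zero]; exact zero_mem _ }
  have hS : (⊤ : Subalgebra A B) ≤ S := hs ▸ Algebra.adjoin_le hgen
  exact hS (Algebra.mem_top : b ∈ ⊤)

/-- Congruent sections are equal. -/
theorem exists_bound [Algebra.FiniteType A B] {r : ℕ} (a : Fin r → A)
    (hB : ∀ i, Algebra.FormallyUnramified A (Localization.Away (algebraMap A B (a i))))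
    (R : Type u) [CommRing R] [Algebra A R] [IsNoetherianRing R]
    (hjac : (Ideal.span (Set.range a)).map (algebraMap A R) ≤ Ideal.jacobson ⊥) :
    ∃ m : ℕ, ∀ f g : B →ₐ[A] R, (∀ b, f b - g b ∈ (Ideal.span (Set.range a)).map (algebraMap A R) ^ m) →
      f = g := by
  classical
  choose c hc using fun i => haveI := hB i; exists_uniform (B := B) (a i)
  set J := (Ideal.span (Set.range a)).map (algebraMap A R) with hJ
  let P : Ideal R := Ideal.span (Set.range fun i => algebraMap A R (a i) ^ c i)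
  have hJP : J ≤ P.radical := by
    rw [hJ, Ideal.map_span, Ideal.span_le]
    rintro _ ⟨_, ⟨i, rfl⟩, rfl⟩
    exact ⟨c i, Ideal.subset_span ⟨i, rfl⟩⟩
  obtain ⟨N, hN⟩ := Ideal.exists_pow_le_of_le_radical_of_fg hJP (IsNoetherian.noetherian J)
  let T : Ideal R := Submodule.annihilator (J ^ N)
  obtain ⟨k, hk⟩ := Ideal.exists_pow_inf_eq_pow_smul (M := R) J T
  refine ⟨N + k + 1, fun f g hfg => ?_⟩
  set m := N + k + 1
  let E : Ideal R := Ideal.span (Set.range fun b => f b - g b)
  have hEJ : E ≤ J ^ m := Ideal.span_le.2 (by rintro _ ⟨b, rfl⟩; exact hfg b)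
  have hPE : P * E ≤ J ^ m * E := by
    rw [show P * E = Ideal.span (Set.range fun i => algebraMap A R (a i) ^ c i) *
      Ideal.span (Set.range fun b => f b - g b) from rfl, Ideal.span_mul_span']
    refine Ideal.span_le.2 ?_
    rintro _ ⟨_, ⟨i, rfl⟩, _, ⟨b, rfl⟩, rfl⟩
    obtain ⟨G, -, hGE, hG⟩ := hc i R f g E (fun b => Ideal.subset_span ⟨b, rfl⟩) b
    have h1 : G ^ 2 ≤ J ^ m * E := by
      rw [pow_two]
      exact mul_le_mul' (hGE.trans hEJ) hGE
    exact h1 hG
  have h0 : J ^ N * E = ⊥ := by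
    refine Submodule.eq_bot_of_le_smul_of_le_jacobson_bot (J ^ (k + 1)) _ (IsNoetherian.noetherian _) ?_
      ((Ideal.pow_le_self (by omega)).trans hjac)
    rw [smul_eq_mul, ← mul_assoc, ← pow_add, show k + 1 + N = m by omega]
    exact (mul_le_mul' hN le_rfl).trans hPE
  have hET : E ≤ T := by
    intro x hx
    refine Submodule.mem_annihilator.2 fun y hy => ?_
    have : y * x ∈ J ^ N * E := Ideal.mul_mem_mul hy hx
    rw [h0, Ideal.mem_bot] at this
    rw [smul_eq_mul, mul_comm]; exact this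
  have hzero : E = ⊥ := by
    refine le_bot_iff.1 fun x hx => ?_
    have h1 : x ∈ (J ^ m • ⊤ : Submodule R R) ⊓ T := ⟨by simpa using hEJ hx, hET hx⟩
    rw [hk m (by omega)] at h1
    have h2 : J ^ (m - k) * T = ⊥ := by
      refine le_bot_iff.1 (Ideal.mul_le.2 fun y hy z hz => ?_)
      have := Submodule.mem_annihilator.1 hz y (Ideal.pow_le_pow_right (by omega : N ≤ m - k) hy)
      rw [Ideal.mem_bot, mul_comm]; exact this
    exact h2 ▸ Ideal.mul_mono le_rfl inf_le_right h1
  refine AlgHom.ext fun b => sub_eq_zero.1 ?_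
  have : f b - g b ∈ E := Ideal.subset_span ⟨b, rfl⟩
  rwa [hzero, Ideal.mem_bot] at this

end Groth.Agent.Lib.Henselian.SectionUnique
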