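import Groth.Prelude.Def_Hensel
import Mathlib.FieldTheory.IsSepClosed
import Mathlib.FieldTheory.PurelyInseparable.Basic
import Mathlib.RingTheory.LocalRing.ResidueField.Basic
import Mathlib.RingTheory.Localization.AtPrime.Basic

/-!
# Strict henselizations relative to an arbitrary base ring

* `Data R S`: the universal property of the strict henselization of `R` at a prime, without
  mentioning the prime
* `of_isStrictHenselization`, `of_localization`
* `bijective`: recognition of a strict henselization through a rigid comparison map
-/

universe u

open IsLocalRing Polynomial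

namespace Groth.Agent.Lib.Henselian.StrictData

variable (R S : Type u) [CommRing R] [CommRing S] [IsLocalRing S] [Algebra R S]

/-- `S` is the strict henselization of `R` at some prime. -/
structure Data : Prop where
  henselian : HenselianLocalRing S
  sepClosed : IsSepClosed (ResidueField S)
  sepGen : ∀ y : ResidueField S, ∃ P : (ResidueField S)[X], P.Separable ∧ P.eval y = 0 ∧
    ∀ n, P.coeff n ∈ Subfield.closure (Set.range fun r => residue S (algebraMap R S r))
  lift : ∀ (T : Type u) [CommRing T] [HenselianLocalRing T] (f : R →+* T)
    (τ : ResidueField S →+* ResidueField T),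
    (∀ r, τ (residue S (algebraMap R S r)) = residue T (f r)) →
    ∃! g : S →+* T, g.comp (algebraMap R S) = f ∧ ∀ x, residue T (g x) = τ (residue S x)

variable {R S}

section Base

variable {R₀ : Type u} [CommRing R₀] [IsLocalRing R₀] [Algebra R₀ S]
  [IsLocalHom (algebraMap R₀ S)] [Hensel.IsStrictHenselization R₀ S]

lemma sepGen_of_isStrictHenselization
    (h : ∀ x : R₀, residue S (algebraMap R₀ S x) ∈
      Subfield.closure (Set.range fun r => residue S (algebraMap R S r))) (y : ResidueField S) :
    ∃ P : (ResidueField S)[X], P.Separable ∧ P.eval y = 0 ∧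
      ∀ n, P.coeff n ∈ Subfield.closure (Set.range fun r => residue S (algebraMap R S r)) := by
  have := (‹Hensel.IsStrictHenselization R₀ S›).isSepClosure.separable
  refine ⟨(minpoly (ResidueField R₀) y).map (algebraMap (ResidueField R₀) (ResidueField S)),
    Polynomial.Separable.map (Algebra.IsSeparable.isSeparable (ResidueField R₀) y), ?_, fun n => ?_⟩
  · rw [eval_map, ← aeval_def]
    exact minpoly.aeval _ _
  · rw [coeff_map]
    obtain ⟨x, hx⟩ := residue_surjective (R := R₀) ((minpoly (ResidueField R₀) y).coeff n)
    rw [← hx]
    exact h x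

/-- A strict henselization of a local ring. -/
theorem of_isStrictHenselization [IsLocalRing R] [IsLocalHom (algebraMap R S)]
    [hS : Hensel.IsStrictHenselization R S] : Data R S where
  henselian := hS.henselian
  sepClosed := hS.isSepClosure.sep_closed
  sepGen := sepGen_of_isStrictHenselization (R₀ := R) fun x => Subfield.subset_closure ⟨x, rfl⟩
  lift T _ _ f τ hτ := by
    have : IsLocalHom f := ⟨fun r hr => by
      by_contra hu
      have h0 : residue S (algebraMap R S r) = 0 :=
        (residue_eq_zero_iff _).mpr fun h => hu (IsUnit.of_map (algebraMap R S) r h)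
      have := hτ r
      rw [h0, map_zero] at this
      exact (hr.map (residue T)).ne_zero this.symm⟩
    refine hS.universal T f τ (RingHom.ext fun x => ?_)
    obtain ⟨r, rfl⟩ := residue_surjective x
    exact hτ r

/-- A strict henselization of `R_p`. -/
theorem of_localization {p : Ideal R} [p.IsPrime] [Algebra (Localization.AtPrime p) S]
    [IsScalarTower R (Localization.AtPrime p) S] [IsLocalHom (algebraMap (Localization.AtPrime p) S)]
    [hS : Hensel.IsStrictHenselization (Localization.AtPrime p) S] : Data R S where
  henselian := hS.henselian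
  sepClosed := hS.isSepClosure.sep_closed
  sepGen := sepGen_of_isStrictHenselization (R₀ := Localization.AtPrime p) fun x => by
    obtain ⟨a, s, rfl⟩ := IsLocalization.exists_mk'_eq p.primeCompl x
    have hs : IsUnit (algebraMap R S s) := by
      rw [IsScalarTower.algebraMap_apply R (Localization.AtPrime p) S]
      exact (IsLocalization.map_units (Localization.AtPrime p) s).map _
    have e : residue S (algebraMap (Localization.AtPrime p) S (IsLocalization.mk' _ a s)) =
        residue S (algebraMap R S a) / residue S (algebraMap R S s) := by
      rw [eq_div_iff (hs.map (residue S)).ne_zero, ← map_mul,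
        IsScalarTower.algebraMap_apply R (Localization.AtPrime p) S (s : R), ← map_mul,
        IsLocalization.mk'_spec, ← IsScalarTower.algebraMap_apply]
    rw [e]
    exact div_mem (Subfield.subset_closure ⟨a, rfl⟩) (Subfield.subset_closure ⟨s, rfl⟩)
  lift T _ _ f τ hτ := by
    have hu : ∀ y : p.primeCompl, IsUnit (f y) := fun y => by
      refine IsUnit.of_map (residue T) _ ?_
      rw [← hτ]
      refine (IsUnit.map (residue S) ?_).map τ
      rw [IsScalarTower.algebraMap_apply R (Localization.AtPrime p) S]
      exact (IsLocalization.map_units (Localization.AtPrime p) y).map _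
    let f' : Localization.AtPrime p →+* T := IsLocalization.lift hu
    have hf' : f'.comp (algebraMap R (Localization.AtPrime p)) = f := IsLocalization.lift_comp _
    have hτ' : ∀ x, τ (residue S (algebraMap (Localization.AtPrime p) S x)) = residue T (f' x) := by
      intro x
      refine RingHom.congr_fun (IsLocalization.ringHom_ext (M := p.primeCompl) (j := (τ.comp (residue S)).comp
        (algebraMap (Localization.AtPrime p) S)) (k := (residue T).comp f') (RingHom.ext fun r => ?_)) x
      simp only [RingHom.comp_apply, f', IsLocalization.lift_eq,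
        ← IsScalarTower.algebraMap_apply R (Localization.AtPrime p) S]
      exact hτ r
    have : IsLocalHom f' := ⟨fun r hr => by
      by_contra hu'
      have h0 : residue S (algebraMap (Localization.AtPrime p) S r) = 0 :=
        (residue_eq_zero_iff _).mpr fun h => hu' (IsUnit.of_map (algebraMap _ S) r h)
      have := hτ' r
      rw [h0, map_zero] at this
      exact (hr.map (residue T)).ne_zero this.symm⟩
    obtain ⟨g, ⟨hg, hgτ⟩, hgu⟩ := hS.universal T f' τ (RingHom.ext fun x => by
      obtain ⟨r, rfl⟩ := residue_surjective x
      exact hτ' r)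
    refine ⟨g, ⟨?_, hgτ⟩, fun g' hg' => hgu g' ⟨IsLocalization.ringHom_ext p.primeCompl ?_, hg'.2⟩⟩
    · rw [IsScalarTower.algebraMap_eq R (Localization.AtPrime p) S, ← RingHom.comp_assoc, hg, hf']
    · rw [RingHom.comp_assoc, ← IsScalarTower.algebraMap_eq, hf', hg'.1]

end Base

/-- Elements fixed on `R` and on the residue field are fixed. -/
theorem eq_id (h : Data R S) (g : S →+* S) (hg : g.comp (algebraMap R S) = algebraMap R S)
    (hres : ∀ x, residue S (g x) = residue S x) : g = RingHom.id S := by
  have := h.henselian
  exact (h.lift S (algebraMap R S) (RingHom.id _) fun _ => rfl).unique ⟨hg, hres⟩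
    ⟨RingHom.id_comp _, fun _ => rfl⟩

/-- A map to the strict henselization from a henselian local ring with separably closed residue
field is bijective if the source is rigid. -/
theorem bijective {D Dsh M : Type u} [CommRing D] [CommRing Dsh] [IsLocalRing Dsh] [Algebra D Dsh]
    [CommRing M] [HenselianLocalRing M] [IsSepClosed (ResidueField M)] (hD : Data D Dsh)
    (π : M →+* Dsh) [IsLocalHom π] (θ : D →+* M) (hθ : π.comp θ = algebraMap D Dsh)
    (huniq : ∀ g : M →+* M, g.comp θ = θ → (∀ x, residue M (g x) = residue M x) → g = RingHom.id M) :
    Function.Bijective π := by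
  have := hD.henselian
  let t : ResidueField M →+* ResidueField Dsh := ResidueField.map π
  let : Algebra (ResidueField M) (ResidueField Dsh) := t.toAlgebra
  have hclosure : Subfield.closure (Set.range fun d => residue Dsh (algebraMap D Dsh d)) ≤ t.fieldRange := by
    rw [Subfield.closure_le]
    rintro _ ⟨d, rfl⟩
    exact ⟨residue M (θ d), (ResidueField.map_residue π _).trans (congrArg _ (RingHom.congr_fun hθ d))⟩
  have : Algebra.IsSeparable (ResidueField M) (ResidueField Dsh) := ⟨fun y => by
    obtain ⟨P, hP, hPy, hcoeff⟩ := hD.sepGen y
    have hlift : P ∈ Polynomial.lifts t := (Polynomial.lifts_iff_coeff_lifts P).mpr fun n => hclosure (hcoeff n)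
    obtain ⟨Q, rfl⟩ := (Polynomial.mem_lifts P).mp hlift
    refine Polynomial.Separable.of_dvd (Polynomial.separable_map t |>.mp hP) (minpoly.dvd _ y ?_)
    rw [aeval_def, ← eval_map]
    exact hPy⟩
  have : Algebra.IsAlgebraic (ResidueField M) (ResidueField Dsh) := Algebra.IsSeparable.isAlgebraic _ _
  have hbij : Function.Bijective t :=
    ⟨t.injective, IsPurelyInseparable.surjective_algebraMap_of_isSeparable (ResidueField M) (ResidueField Dsh)⟩
  let e := RingEquiv.ofBijective t hbij
  obtain ⟨g, ⟨hg, hgτ⟩, -⟩ := hD.lift M θ e.symm.toRingHom fun d => by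
    rw [RingEquiv.toRingHom_eq_coe, RingHom.coe_coe, RingEquiv.symm_apply_eq]
    exact (congrArg _ (RingHom.congr_fun hθ d).symm).trans (ResidueField.map_residue π _).symm
  have h1 : π.comp g = RingHom.id Dsh := by
    refine eq_id hD _ (by rw [RingHom.comp_assoc, hg, hθ]) fun x => ?_
    rw [RingHom.comp_apply, ← ResidueField.map_residue π, hgτ]
    exact e.apply_symm_apply _
  have h2 : g.comp π = RingHom.id M := by
    refine huniq _ (by rw [RingHom.comp_assoc, hθ, hg]) fun x => ?_
    rw [RingHom.comp_apply, hgτ, RingEquiv.toRingHom_eq_coe, RingHom.coe_coe, RingEquiv.symm_apply_eq]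
    exact (ResidueField.map_residue π x).symm
  exact Function.bijective_iff_has_inverse.mpr ⟨g, RingHom.congr_fun h2, RingHom.congr_fun h1⟩

end Groth.Agent.Lib.Henselian.StrictData
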