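import Groth.Agent.Lib.Henselian.LocalRing
import Mathlib.RingTheory.Valuation.ValuationRing
import Mathlib.RingTheory.Localization.AtPrime.Basic

/-!
# Localisations of henselian valuation rings

* `henselianLocalRing_atPrime`
-/

universe u

open IsLocalRing Polynomial

namespace Groth.Agent.Lib.Henselian.Valuation

variable {V : Type u} [CommRing V] [IsDomain V] [ValuationRing V] (p : Ideal V) [p.IsPrime]

/-- The maximal ideal of `V_p` consists of images of elements of `p`. -/
lemma exists_of_mem (x : Localization.AtPrime p) (hx : x ∈ maximalIdeal (Localization.AtPrime p)) :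
    ∃ w ∈ p, algebraMap V (Localization.AtPrime p) w = x := by
  obtain ⟨v, ⟨s, hs⟩, rfl⟩ := IsLocalization.exists_mk'_eq p.primeCompl x
  have hv : v ∈ p := (IsLocalization.AtPrime.mk'_mem_maximal_iff (Localization.AtPrime p) p v ⟨s, hs⟩).mp hx
  rcases ValuationRing.dvd_total s v with ⟨w, rfl⟩ | h
  · refine ⟨w, ((‹p.IsPrime›.mem_or_mem hv).resolve_left hs), ?_⟩
    rw [IsLocalization.eq_mk'_iff_mul_eq, ← map_mul, mul_comm]
  · exact absurd (p.mem_of_dvd h hv) hs

theorem henselianLocalRing_atPrime [HenselianLocalRing V] :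
    HenselianLocalRing (Localization.AtPrime p) where
  is_henselian f hf a₀ h₀ h₁ := by
    set c := taylor a₀ f
    have hc0 : c.coeff 0 = f.eval a₀ := taylor_coeff_zero ..
    obtain ⟨e, he⟩ : ∃ e, c.coeff 1 * e = 1 := by
      rw [taylor_coeff_one]
      exact isUnit_iff_exists_inv.mp h₁
    set n := c.natDegree + 1
    have hd : ∀ k, c.coeff (k + 2) * c.coeff 0 ^ (k + 1) * e ^ (k + 2) ∈ maximalIdeal (Localization.AtPrime p) := fun k =>
      Ideal.mul_mem_right _ _ (Ideal.mul_mem_left _ _ (Ideal.pow_mem_of_mem _ (hc0 ▸ h₀) _ (by omega)))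
    choose w hwp hw using fun k => exists_of_mem p _ (hd k)
    set h : V[X] := X ^ (n + 1) + (X ^ n + ∑ k ∈ Finset.range n, C (w k) * X ^ (n - 1 - k))
    have hm : h.Monic := by
      refine monic_X_pow_add ?_
      refine lt_of_le_of_lt ((degree_add_le _ _).trans (max_le (degree_X_pow_le n) ?_))
        (by exact_mod_cast Nat.lt_succ_self n)
      refine (degree_sum_le _ _).trans (Finset.sup_le fun k hk => ?_)
      exact (degree_C_mul_X_pow_le _ _).trans (by exact_mod_cast (by omega : n - 1 - k ≤ n))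
    have hpm : p ≤ maximalIdeal V := IsLocalRing.le_maximalIdeal (Ideal.IsPrime.ne_top ‹_›)
    have hv : h.eval (-1) ∈ maximalIdeal V := by
      simp only [h, eval_add, eval_pow, eval_X, eval_finsetSum, eval_mul, eval_C]
      rw [show ((-1 : V) ^ (n + 1) + ((-1) ^ n + ∑ k ∈ Finset.range n, w k * (-1) ^ (n - 1 - k))) =
        ∑ k ∈ Finset.range n, w k * (-1) ^ (n - 1 - k) by ring]
      exact Ideal.sum_mem _ fun k _ => Ideal.mul_mem_right _ _ (hpm (hwp k))
    have hd' : IsUnit (h.derivative.eval (-1)) := by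
      have hs : (∑ k ∈ Finset.range n, C (w k) * X ^ (n - 1 - k)).derivative.eval (-1) ∈ maximalIdeal V := by
        simp only [derivative_sum, derivative_C_mul, eval_finsetSum, eval_mul, eval_C]
        exact Ideal.sum_mem _ fun k _ => Ideal.mul_mem_right _ _ (hpm (hwp k))
      have hu : IsUnit ((-1 : V) ^ n) := isUnit_one.neg.pow n
      have hn : ((n + 1 : ℕ) : V) * (-1) ^ n + (n : V) * (-1) ^ (n - 1) = (-1) ^ n := by
        obtain ⟨m, hm⟩ : ∃ m, n = m + 1 := ⟨c.natDegree, rfl⟩
        rw [hm, Nat.add_sub_cancel]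
        push_cast
        ring
      by_contra hnu
      simp only [h, derivative_add, derivative_X_pow, eval_add, eval_mul, eval_C, eval_pow, eval_X,
        Nat.add_sub_cancel, ← add_assoc, hn] at hnu
      have h4 := sub_mem ((IsLocalRing.mem_maximalIdeal _).mpr hnu) hs
      rw [add_sub_cancel_right] at h4
      exact (IsLocalRing.mem_maximalIdeal _).mp h4 hu
    obtain ⟨z, hz, hzm⟩ := HenselianLocalRing.is_henselian h hm (-1) hv hd'
    have hzu : IsUnit z := by
      by_contra hnu
      have h4 := sub_mem ((IsLocalRing.mem_maximalIdeal _).mpr hnu) hzm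
      rw [sub_sub_cancel] at h4
      exact (IsLocalRing.mem_maximalIdeal _).mp h4 isUnit_one.neg
    obtain ⟨ζ, hζ⟩ : ∃ ζ : (Localization.AtPrime p), algebraMap V (Localization.AtPrime p) z * ζ = 1 := isUnit_iff_exists_inv.mp (hzu.map _)
    set y := c.coeff 0 * e * ζ
    have hy : c.eval y = 0 := by
      have hz' : algebraMap V (Localization.AtPrime p) z ^ (n + 1) + (algebraMap V (Localization.AtPrime p) z ^ n + ∑ k ∈ Finset.range n,
          c.coeff (k + 2) * c.coeff 0 ^ (k + 1) * e ^ (k + 2) * algebraMap V (Localization.AtPrime p) z ^ (n - 1 - k)) = 0 := by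
        have h' : h.eval z = 0 := hz
        have := congrArg (algebraMap V (Localization.AtPrime p)) h'
        simpa only [h, eval_add, eval_pow, eval_X, eval_finsetSum, eval_mul, eval_C, map_add, map_sum,
          map_mul, map_pow, hw, map_zero] using this
      rw [eval_eq_sum_range' (n := n + 2) (by omega), Finset.sum_range_succ', Finset.sum_range_succ']
      rw [show ∀ (S : (Localization.AtPrime p)), S + c.coeff (0 + 1) * y ^ (0 + 1) + c.coeff 0 * y ^ 0 =
        S + c.coeff 1 * e * (c.coeff 0 * ζ) + c.coeff 0 from fun S => by simp [y]; ring, he, one_mul]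
      have hterm : ∀ k ∈ Finset.range n, c.coeff (k + 1 + 1) * y ^ (k + 1 + 1) =
          c.coeff 0 * ζ ^ (n + 1) *
            (c.coeff (k + 2) * c.coeff 0 ^ (k + 1) * e ^ (k + 2) * algebraMap V (Localization.AtPrime p) z ^ (n - 1 - k)) := by
        intro k hk
        have hk' := Finset.mem_range.mp hk
        have h5 : ζ ^ (n + 1) * algebraMap V (Localization.AtPrime p) z ^ (n - 1 - k) = ζ ^ (k + 2) := by
          rw [show n + 1 = (k + 2) + (n - 1 - k) by omega, pow_add, mul_assoc, ← mul_pow,
            mul_comm ζ, hζ, one_pow, mul_one]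
        rw [show k + 1 + 1 = k + 2 from rfl]
        linear_combination (-(c.coeff 0 * c.coeff (k + 2) * c.coeff 0 ^ (k + 1) * e ^ (k + 2))) * h5
      rw [Finset.sum_congr rfl hterm, ← Finset.mul_sum]
      have h6 : ζ ^ (n + 1) * algebraMap V (Localization.AtPrime p) z ^ (n + 1) = 1 := by
        rw [← mul_pow, mul_comm ζ, hζ, one_pow]
      have h7 : ζ ^ (n + 1) * algebraMap V (Localization.AtPrime p) z ^ n = ζ := by
        rw [pow_succ' ζ, mul_assoc, ← mul_pow, mul_comm ζ (algebraMap V (Localization.AtPrime p) z), hζ, one_pow, mul_one]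
      linear_combination c.coeff 0 * ζ ^ (n + 1) * hz' - c.coeff 0 * h6 - c.coeff 0 * h7
    refine ⟨a₀ + y, ?_, ?_⟩
    · rw [IsRoot, add_comm, ← taylor_eval]
      exact hy
    · rw [add_sub_cancel_left]
      exact Ideal.mul_mem_right _ _ (Ideal.mul_mem_right _ _ (hc0 ▸ h₀))

end Groth.Agent.Lib.Henselian.Valuation
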