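import Groth.Agent.Lib.Henselian.Finite
import Groth.Agent.H21.WeakAss
import Mathlib

/-!
# Weakly associated primes descend along localisations of finite free and of étale algebras
-/

universe u

open IsLocalRing TensorProduct

set_option linter.style.haveILetI false

namespace Groth.Agent.Lib.Henselian.WeakAssEtale

variable (A : Type u) [CommRing A] [IsLocalRing A]

/-- If some nonzero element of `L ⊗ M` is killed by powers of every element of the maximal ideal,
so is some nonzero element of `M`. -/
def Good (L : Type u) [CommRing L] [Algebra A L] : Prop :=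
  ∀ (M : Type u) [AddCommGroup M] [Module A M] (y : L ⊗[A] M), y ≠ 0 →
    (∀ a ∈ maximalIdeal A, ∃ n : ℕ, a ^ n • y = 0) →
      ∃ x : M, x ≠ 0 ∧ ∀ a ∈ maximalIdeal A, ∃ n : ℕ, a ^ n • x = 0

variable {A}

theorem good_of_injective {L L' : Type u} [CommRing L] [Algebra A L] [CommRing L'] [Algebra A L']
    (φ : L →ₐ[A] L') (hφ : ∀ (M : Type u) [AddCommGroup M] [Module A M],
      Function.Injective (LinearMap.rTensor M φ.toLinearMap)) (h : Good A L') : Good A L := by
  intro M _ _ y hy hk
  refine h M (LinearMap.rTensor M φ.toLinearMap y) (fun h0 => hy (hφ M (h0.trans (map_zero _).symm))) ?_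
  intro a ha
  obtain ⟨n, hn⟩ := hk a ha
  exact ⟨n, by rw [← map_smul, hn, map_zero]⟩

theorem good_of_algEquiv {L L' : Type u} [CommRing L] [Algebra A L] [CommRing L'] [Algebra A L']
    (e : L ≃ₐ[A] L') (h : Good A L') : Good A L :=
  good_of_injective e.toAlgHom (fun M _ _ => (LinearEquiv.rTensor M e.toLinearEquiv).injective) h

theorem good_atPrime_finite_free (F : Type u) [CommRing F] [Algebra A F] [Module.Finite A F]
    [Module.Free A F] (q : Ideal F) [q.IsPrime] (hq : q.comap (algebraMap A F) = maximalIdeal A)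
    (L : Type u) [CommRing L] [Algebra F L] [Algebra A L] [IsScalarTower A F L]
    [IsLocalization.AtPrime L q] : Good A L := by
  classical
  intro M _ _ y hy hk
  haveI : q.IsMaximal := Ideal.isMaximal_of_isIntegral_of_isMaximal_comap (R := A) q
    (hq ▸ maximalIdeal.isMaximal A)
  let g : F ⊗[A] M →ₗ[F] L ⊗[A] M := AlgebraTensorModule.rTensor A M (Algebra.linearMap F L)
  haveI : IsLocalizedModule q.primeCompl g := inferInstance
  obtain ⟨⟨z, s⟩, hzs⟩ := IsLocalizedModule.surj q.primeCompl g y
  change (s : F) • y = g z at hzs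
  have hunit : ∀ t : q.primeCompl, ∀ w : L ⊗[A] M, (t : F) • w = 0 → w = 0 := fun t w hw =>
    ((Module.End.isUnit_iff _).mp (IsLocalizedModule.map_units g t)).1 (hw.trans (map_zero _).symm)
  let I : Ideal A := (Submodule.span A {g z}).annihilator
  have hIrad : maximalIdeal A ≤ I.radical := fun a ha => by
    obtain ⟨n, hn⟩ := hk a ha
    refine ⟨n, (Submodule.mem_annihilator_span_singleton _ _).2 ?_⟩
    rw [← hzs, smul_comm, hn, smul_zero]
  -- an element cutting out `q`
  haveI := Finite.finite_maximalSpectrum A (B := F)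
  cases nonempty_fintype (MaximalSpectrum F)
  obtain ⟨e, he1, heo⟩ : ∃ e : F, 1 - e ∈ q ∧ ∀ n : Ideal F, n.IsMaximal → n ≠ q → e ∈ n := by
    have hne : ∀ n : MaximalSpectrum F, n.asIdeal ≠ q → ∃ x ∈ n.asIdeal, x ∉ q := fun n hn =>
      SetLike.not_le_iff_exists.mp fun hle => hn (n.isMaximal.eq_of_le (Ideal.IsPrime.ne_top ‹_›) hle)
    choose x hx1 hx2 using hne
    set c := ∏ n : MaximalSpectrum F, if h : n.asIdeal = q then 1 else x n h with hc
    have hcq : c ∉ q := fun hmem => by
      obtain ⟨n, -, hn⟩ := (Ideal.IsPrime.prod_mem_iff (p := q)).mp hmem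
      split_ifs at hn with h
      · exact Ideal.IsPrime.ne_top ‹_› ((Ideal.eq_top_iff_one q).mpr hn)
      · exact hx2 n h hn
    obtain ⟨d, i, hi, hdi⟩ := Ideal.IsMaximal.exists_inv (I := q) inferInstance hcq
    refine ⟨d * c, ?_, fun n hn hnq => Ideal.mul_mem_left _ d ?_⟩
    · rw [← hdi]; simpa using hi
    · rw [hc, ← Finset.mul_prod_erase Finset.univ _ (Finset.mem_univ ⟨n, hn⟩)]
      refine Ideal.mul_mem_right _ _ ?_
      simp only [dif_neg hnq]
      exact hx1 ⟨n, hn⟩ hnq
  have heq : e ∉ q := fun h => Ideal.IsPrime.ne_top ‹_›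
    ((Ideal.eq_top_iff_one q).mpr (by simpa using q.add_mem he1 h))
  have hrad : e * (1 - e) ∈ (I.map (algebraMap A F)).radical := by
    rw [Ideal.radical_eq_sInf, Ideal.mem_sInf]
    rintro r ⟨hr, hr'⟩
    have hrm : r.comap (algebraMap A F) = maximalIdeal A := by
      refine ((maximalIdeal.isMaximal A).eq_of_le (Ideal.IsPrime.ne_top inferInstance) ?_).symm
      exact hIrad.trans ((Ideal.IsPrime.radical_le_iff inferInstance).mpr (Ideal.map_le_iff_le_comap.mp hr))
    have hrmax : r.IsMaximal := Ideal.isMaximal_of_isIntegral_of_isMaximal_comap (R := A) r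
      (hrm ▸ maximalIdeal.isMaximal A)
    by_cases h : r = q
    · exact r.mul_mem_left _ (h.symm.le he1)
    · exact r.mul_mem_right _ (heo r hrmax h)
  obtain ⟨N, hN⟩ := hrad
  -- `I F` kills `g z`
  have hkill : ∀ f ∈ I.map (algebraMap A F), f • g z = 0 := by
    intro f hf
    have hle : I.map (algebraMap A F) ≤ (Submodule.span F {g z}).annihilator :=
      Ideal.map_le_iff_le_comap.mpr fun a ha => by
        rw [Ideal.mem_comap, Submodule.mem_annihilator_span_singleton, algebraMap_smul]
        exact (Submodule.mem_annihilator_span_singleton _ _).1 ha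
    exact (Submodule.mem_annihilator_span_singleton _ _).1 (hle hf)
  obtain ⟨t, ht⟩ := (IsLocalizedModule.eq_zero_iff q.primeCompl g).mp
    (show g ((e * (1 - e)) ^ N • z) = 0 by rw [map_smul]; exact hkill _ hN)
  set z₂ := (e ^ N * (t : F)) • z with hz₂
  have hD : (1 - e) ^ N • z₂ = 0 := by
    rw [hz₂, smul_smul, ← ht, Submonoid.smul_def, smul_smul]
    congr 1
    rw [mul_pow]
    ring
  have hz₂0 : z₂ ≠ 0 := by
    intro h0
    have h1 : (e ^ N * (t : F)) • g z = 0 := by rw [← map_smul, ← hz₂, h0, map_zero]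
    have h2 := hunit ⟨_, q.primeCompl.mul_mem (q.primeCompl.pow_mem heq N) t.2⟩ _ h1
    exact hy (hunit s y (hzs.trans h2))
  have haz : ∀ a ∈ I, a • z₂ = 0 := by
    intro a ha
    obtain ⟨sa, hsa⟩ := (IsLocalizedModule.eq_zero_iff q.primeCompl g).mp
      (show g (a • z) = 0 by
        rw [← algebraMap_smul F a z, map_smul, algebraMap_smul]
        exact (Submodule.mem_annihilator_span_singleton _ _).1 ha)
    let K : Ideal F := (Submodule.span F {a • z₂}).annihilator
    have hDK : (1 - e) ^ N ∈ K := (Submodule.mem_annihilator_span_singleton _ _).2 (by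
      rw [smul_comm, hD, smul_zero])
    have hsK : (sa : F) ∈ K := (Submodule.mem_annihilator_span_singleton _ _).2 (by
      rw [hz₂, smul_comm a, smul_smul, mul_comm, ← smul_smul, ← Submonoid.smul_def, hsa, smul_zero])
    have hK : K = ⊤ := by
      by_contra hne
      obtain ⟨n, hn, hKn⟩ := Ideal.exists_le_maximal K hne
      by_cases h : n = q
      · exact sa.2 (h.le (hKn hsK))
      · exact hn.ne_top ((Ideal.eq_top_iff_one n).mpr (by
          simpa using n.add_mem (hn.isPrime.mem_of_pow_mem N (hKn hDK)) (heo n hn h)))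
    simpa using (Submodule.mem_annihilator_span_singleton _ _).1
      (show (1 : F) ∈ K from hK ▸ Submodule.mem_top)
  -- a coordinate
  let b := Module.Free.chooseBasis A F
  let co := TensorProduct.equivFinsuppOfBasisLeft b (N := M)
  obtain ⟨i, hi⟩ : ∃ i, co z₂ i ≠ 0 := by
    by_contra h
    push Not at h
    exact hz₂0 (co.injective (by rw [map_zero]; exact Finsupp.ext h))
  refine ⟨co z₂ i, hi, fun a ha => ?_⟩
  obtain ⟨n, hn⟩ := hIrad ha
  exact ⟨n, by rw [← Finsupp.smul_apply, ← map_smul, haz _ hn, map_zero]; rfl⟩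

theorem good_atPrime_etale (E : Type u) [CommRing E] [Algebra A E] [Algebra.Etale A E]
    (q : Ideal E) [q.IsPrime] (hq : q.comap (algebraMap A E) = maximalIdeal A) :
    Good A (Localization.AtPrime q) := by
  obtain ⟨g, hg, hstd⟩ := Algebra.IsEtaleAt.exists_isStandardEtale (R := A) q
  obtain ⟨P⟩ := hstd.nonempty_standardEtalePresentation
  let Eg := Localization.Away g
  let e : Eg ≃ₐ[A] Localization.Away (AdjoinRoot.mk P.P.f P.P.g) :=
    P.equivRing.trans P.P.equivAwayAdjoinRoot
  have hdisj : Disjoint (Submonoid.powers g : Set E) (q : Set E) :=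
    (Ideal.disjoint_powers_iff_notMem_of_isPrime (I := q) g).mpr hg
  let qg : Ideal Eg := q.map (algebraMap E Eg)
  haveI : qg.IsPrime := IsLocalization.isPrime_of_isPrime_disjoint (.powers g) Eg q ‹_› hdisj
  have hqg : qg.comap (algebraMap E Eg) = q :=
    IsLocalization.under_map_of_isPrime_disjoint (.powers g) Eg ‹_› hdisj
  let qh : Ideal (Localization.Away (AdjoinRoot.mk P.P.f P.P.g)) := qg.comap e.symm.toAlgHom.toRingHom
  haveI : qh.IsPrime := Ideal.comap_isPrime _ _
  haveI : Module.Finite A (AdjoinRoot P.P.f) := P.P.monic_f.finite_adjoinRoot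
  haveI : Module.Free A (AdjoinRoot P.P.f) := P.P.monic_f.free_adjoinRoot
  have hcomp : (qh.comap (algebraMap (AdjoinRoot P.P.f) _)).comap (algebraMap A (AdjoinRoot P.P.f)) =
      maximalIdeal A := by
    rw [Ideal.comap_comap, ← IsScalarTower.algebraMap_eq, Ideal.comap_comap,
      show e.symm.toAlgHom.toRingHom.comp (algebraMap A (Localization.Away (AdjoinRoot.mk P.P.f P.P.g))) =
        algebraMap A Eg from e.symm.toAlgHom.comp_algebraMap,
      IsScalarTower.algebraMap_eq A E Eg, ← Ideal.comap_comap, hqg, hq]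
  have h3 : Good A (Localization.AtPrime qh) :=
    good_atPrime_finite_free (AdjoinRoot P.P.f) (qh.comap (algebraMap (AdjoinRoot P.P.f) _)) hcomp _
  have hmap : qg.primeCompl.map e.toRingEquiv.toMonoidHom = qh.primeCompl := by
    ext x
    constructor
    · rintro ⟨z, hz, rfl⟩
      exact fun h => hz (by simpa [qh] using h)
    · intro hx
      exact ⟨e.symm x, hx, e.apply_symm_apply x⟩
  let e₂ : Localization.AtPrime qg ≃+* Localization.AtPrime qh :=
    IsLocalization.ringEquivOfRingEquiv (Localization.AtPrime qg) (Localization.AtPrime qh) e.toRingEquiv hmap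
  let e₂' : Localization.AtPrime qg ≃ₐ[A] Localization.AtPrime qh :=
    AlgEquiv.ofRingEquiv (f := e₂) fun a => by
      rw [IsScalarTower.algebraMap_apply A Eg (Localization.AtPrime qg),
        IsLocalization.ringEquivOfRingEquiv_eq, IsScalarTower.algebraMap_apply A
          (Localization.Away (AdjoinRoot.mk P.P.f P.P.g)) (Localization.AtPrime qh)]
      exact congrArg _ (e.commutes a)
  haveI : IsLocalization q.primeCompl (Localization.AtPrime qg) := by
    have h := IsLocalization.isLocalization_isLocalization_atPrime_isLocalization (.powers g)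
      (Localization.AtPrime qg) qg
    simpa only [hqg] using h
  let e₁ : Localization.AtPrime q ≃ₐ[A] Localization.AtPrime qg :=
    (IsLocalization.algEquiv q.primeCompl (Localization.AtPrime q) (Localization.AtPrime qg)).restrictScalars A
  exact good_of_algEquiv (e₁.trans e₂') h3

end Groth.Agent.Lib.Henselian.WeakAssEtale
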